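import Mathlib
import Cfsg.Prelude.Def_BlockRank
import Cfsg.Agent.Lib.helper20.BlockOrth
import Cfsg.Agent.Lib.helper84.BlockOrth
import Cfsg.Agent.Lib.helper83.CharBasic2
import Cfsg.Agent.Lib.helper80.IrrBasic

/-!
# Brauer's count `k(B) = ∑ l(b)` over subsections (helper78)

`blockRank p b` (the surrogate for the number `l(b)` of irreducible Brauer characters) is the
dimension of `regSpan p b`, the span of the `p`-regular parts of the members of `b`.

* `bpL b` : convolution with the idempotent of `b`; it is the identity on `regSpan p b` and kills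
  `regSpan p b'` for a different block `b'` (`bpL_regSpan`).
* `sum_blockRank_le` : `∑_b l(b) ≤` number of `p`-regular classes.
* `sum_card_pRegClasses_le` : `∑_x #(p-regular classes of C_G(x)) ≤ #classes of G`.
* `classFun_eq_zero_of_sections` : a class function vanishing on all `x * y` is zero.
* `card_block_le_sum_blockRank` : `k(B) ≤ ∑_x ∑_{b^G = B} l(b)` (second main theorem).
* `card_block_eq_sum_blockRank` : Brauer's formula.
-/

set_option autoImplicit false
set_option linter.style.haveILetI false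
set_option linter.unusedSectionVars false

namespace Cfsg.Agent.Lib.helper78

open Cfsg
open scoped ComplexConjugate

universe u

section RegSpan

variable {H : Type u} [Group H]

/-- The span of the `p`-regular parts of the members of `B`; its dimension is `blockRank p B`. -/
noncomputable def regSpan (p : ℕ) (B : Set (IrrCharacter H)) : Submodule ℂ (H → ℂ) :=
  Submodule.span ℂ ((fun χ : IrrCharacter H => pRegularPart p (χ : H → ℂ)) '' B)

theorem blockRank_eq_finrank_regSpan (p : ℕ) (B : Set (IrrCharacter H)) :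
    blockRank p B = Module.finrank ℂ (regSpan p B) := rfl

theorem pRegularPart_mem_regSpan (p : ℕ) {B : Set (IrrCharacter H)} {θ : IrrCharacter H}
    (hθ : θ ∈ B) : pRegularPart p (θ : H → ℂ) ∈ regSpan p B :=
  Submodule.subset_span ⟨θ, hθ, rfl⟩

theorem pRegularPart_apply_of_reg (p : ℕ) (f : H → ℂ) {h : H} (hh : ¬ p ∣ orderOf h) :
    pRegularPart p f h = f h := by
  unfold pRegularPart IsPRegular
  rw [if_pos hh]

theorem pRegularPart_apply_of_sing (p : ℕ) (f : H → ℂ) {h : H} (hh : p ∣ orderOf h) :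
    pRegularPart p f h = 0 := by
  unfold pRegularPart IsPRegular
  rw [if_neg (not_not.mpr hh)]

/-- The class functions vanishing on the `p`-singular elements. -/
def regCl (p : ℕ) (H : Type u) [Group H] : Submodule ℂ (H → ℂ) where
  carrier := {f | IsClassFunction H f ∧ ∀ h : H, p ∣ orderOf h → f h = 0}
  add_mem' := by
    rintro f g ⟨hf, hf0⟩ ⟨hg, hg0⟩
    refine ⟨fun a b => ?_, fun h hh => ?_⟩
    · show f (b * a * b⁻¹) + g (b * a * b⁻¹) = f a + g a
      rw [hf a b, hg a b]
    · show f h + g h = 0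
      rw [hf0 h hh, hg0 h hh, add_zero]
  zero_mem' := ⟨fun _ _ => rfl, fun _ _ => rfl⟩
  smul_mem' := by
    rintro c f ⟨hf, hf0⟩
    refine ⟨fun a b => ?_, fun h hh => ?_⟩
    · show c * f (b * a * b⁻¹) = c * f a
      rw [hf a b]
    · show c * f h = 0
      rw [hf0 h hh, mul_zero]

theorem mem_regCl {p : ℕ} {f : H → ℂ} :
    f ∈ regCl p H ↔ IsClassFunction H f ∧ ∀ h : H, p ∣ orderOf h → f h = 0 := Iff.rfl

theorem pRegularPart_mem_regCl (p : ℕ) {f : H → ℂ} (hf : IsClassFunction H f) :
    pRegularPart p f ∈ regCl p H := by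
  refine ⟨fun a b => ?_, fun h hh => pRegularPart_apply_of_sing p f hh⟩
  have ho : orderOf (b * a * b⁻¹) = orderOf a :=
    orderOf_injective (MulAut.conj b).toMonoidHom (MulAut.conj b).injective a
  by_cases ha : p ∣ orderOf a
  · rw [pRegularPart_apply_of_sing p f ha, pRegularPart_apply_of_sing p f (by rw [ho]; exact ha)]
  · rw [pRegularPart_apply_of_reg p f ha, pRegularPart_apply_of_reg p f (by rw [ho]; exact ha),
      hf a b]

theorem regSpan_le_regCl (p : ℕ) (B : Set (IrrCharacter H)) : regSpan p B ≤ regCl p H := by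
  unfold regSpan
  rw [Submodule.span_le]
  rintro _ ⟨θ, -, rfl⟩
  exact pRegularPart_mem_regCl p (Cfsg.Agent.Lib.helper81.irr_classFun θ)

/-- Convolution with the idempotent of `b`, as a linear map. -/
noncomputable def bpL [Fintype H] (b : Set (IrrCharacter H)) : (H → ℂ) →ₗ[ℂ] (H → ℂ) where
  toFun f := fun h => ∑ k : H, blockCoeff b k * f (k * h)
  map_add' f g := by
    funext h
    show ∑ k : H, blockCoeff b k * (f (k * h) + g (k * h))
      = ∑ k : H, blockCoeff b k * f (k * h) + ∑ k : H, blockCoeff b k * g (k * h)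
    rw [← Finset.sum_add_distrib]
    exact Finset.sum_congr rfl (fun k _ => by ring)
  map_smul' c f := by
    funext h
    show ∑ k : H, blockCoeff b k * (c * f (k * h)) = c * ∑ k : H, blockCoeff b k * f (k * h)
    rw [Finset.mul_sum]
    exact Finset.sum_congr rfl (fun k _ => by ring)

theorem bpL_apply [Fintype H] (b : Set (IrrCharacter H)) (f : H → ℂ) (h : H) :
    bpL b f h = ∑ k : H, blockCoeff b k * f (k * h) := rfl

/-- Summing the block projections over all blocks gives the identity. -/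
theorem sum_blocks_bpL [Fintype H] {M : Ideal AlgInt} (hM : M.IsPrime) (f : H → ℂ) (h : H) :
    ∑ b ∈ Cfsg.Agent.Lib.helper80.blocks M H, bpL b f h = f h := by
  have := Cfsg.Agent.Lib.helper20.sum_blocks_sum_blockCoeff_mul (G := H) hM (fun k => f (k * h))
  simpa [bpL_apply] using this

/-- The projection of a `p`-regular part onto a block not containing the character is zero. -/
theorem bpL_pRegularPart_of_not_mem [Fintype H] {p : ℕ} {M : Ideal AlgInt}
    (hM : IsPModular p M) {b : Set (IrrCharacter H)} (hb : IsPBlock M b) (θ : IrrCharacter H)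
    (hθ : θ ∉ b) : bpL b (pRegularPart p (θ : H → ℂ)) = 0 := by
  classical
  have hMp := Cfsg.Agent.Lib.helper20.isPrime_of_isPModular hM
  funext h
  rw [bpL_apply]
  have hcf : IsClassFunction H (pRegularPart p (θ : H → ℂ)) :=
    (pRegularPart_mem_regCl p (Cfsg.Agent.Lib.helper81.irr_classFun θ)).1
  rw [← Cfsg.Agent.Lib.helper20.finsum_classInner_eq_sum b _ hcf h]
  show ∑ᶠ χ ∈ b, classInner (pRegularPart p (θ : H → ℂ)) (χ : H → ℂ) * (χ : H → ℂ) h = (0 : ℂ)
  apply finsum_mem_eq_zero_of_forall_eq_zero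
  intro χ hχ
  have hns : ¬ SameBlock M (θ : H → ℂ) (χ : H → ℂ) := by
    intro hs
    apply hθ
    rw [Cfsg.Agent.Lib.helper81.isPBlock_eq_blockOf hMp hb hχ]
    exact Cfsg.Agent.Lib.helper81.sameBlock_symm hs
  haveI : Fact p.Prime := ⟨hM.1⟩
  have h1 := Cfsg.Agent.Lib.helper84.sum_pRegular_irr_mul_conj hM θ χ hns
  have h2 : classInner (pRegularPart p (θ : H → ℂ)) (χ : H → ℂ) = 0 := by
    unfold classInner
    have h3 : ∑ g : H, pRegularPart p (θ : H → ℂ) g * conj ((χ : H → ℂ) g)
        = ∑ x : H, (if ¬ p ∣ orderOf x then (θ : H → ℂ) x * conj ((χ : H → ℂ) x) else 0) := by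
      refine Finset.sum_congr rfl (fun g _ => ?_)
      by_cases hg : p ∣ orderOf g
      · rw [pRegularPart_apply_of_sing p _ hg, if_neg (not_not.mpr hg), zero_mul]
      · rw [pRegularPart_apply_of_reg p _ hg, if_pos hg]
    rw [h3, h1, mul_zero]
  rw [h2, zero_mul]

/-- The projection of a `p`-regular part onto the block of the character is the identity. -/
theorem bpL_pRegularPart_of_mem [Fintype H] {p : ℕ} {M : Ideal AlgInt}
    (hM : IsPModular p M) {b : Set (IrrCharacter H)} (hb : IsPBlock M b) (θ : IrrCharacter H)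
    (hθ : θ ∈ b) : bpL b (pRegularPart p (θ : H → ℂ)) = pRegularPart p (θ : H → ℂ) := by
  classical
  have hMp := Cfsg.Agent.Lib.helper20.isPrime_of_isPModular hM
  funext h
  have h1 := sum_blocks_bpL hMp (pRegularPart p (θ : H → ℂ)) h
  rw [← h1]
  symm
  apply Finset.sum_eq_single_of_mem b (Cfsg.Agent.Lib.helper80.mem_blocks.mpr hb)
  intro b' hb' hne
  have hb'' : IsPBlock M b' := Cfsg.Agent.Lib.helper80.mem_blocks.mp hb'
  have hθ' : θ ∉ b' := fun h' =>
    hne (Cfsg.Agent.Lib.helper81.isPBlock_eq_of_mem hMp hb'' hb h' hθ)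
  rw [bpL_pRegularPart_of_not_mem hM hb'' θ hθ']
  rfl

/-- The block projection is the identity on `regSpan p b` and zero on `regSpan p b'` for a
different block `b'`. -/
theorem bpL_regSpan [Fintype H] {p : ℕ} {M : Ideal AlgInt}
    (hM : IsPModular p M) {b b' : Set (IrrCharacter H)} (hb : IsPBlock M b) (hb' : IsPBlock M b')
    {v : H → ℂ} (hv : v ∈ regSpan p b') : bpL b v = if b' = b then v else 0 := by
  classical
  have hMp := Cfsg.Agent.Lib.helper20.isPrime_of_isPModular hM
  by_cases hbb : b' = b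
  · rw [if_pos hbb]
    subst hbb
    have : regSpan p b' ≤ LinearMap.ker (bpL b' - LinearMap.id) := by
      unfold regSpan
      rw [Submodule.span_le]
      rintro _ ⟨θ, hθ, rfl⟩
      rw [SetLike.mem_coe, LinearMap.mem_ker, LinearMap.sub_apply, LinearMap.id_apply,
        bpL_pRegularPart_of_mem hM hb θ hθ, sub_self]
    have h1 := this hv
    rw [LinearMap.mem_ker, LinearMap.sub_apply, LinearMap.id_apply, sub_eq_zero] at h1
    exact h1
  · rw [if_neg hbb]
    have : regSpan p b' ≤ LinearMap.ker (bpL b) := by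
      unfold regSpan
      rw [Submodule.span_le]
      rintro _ ⟨θ, hθ, rfl⟩
      rw [SetLike.mem_coe, LinearMap.mem_ker]
      apply bpL_pRegularPart_of_not_mem hM hb θ
      intro h'
      exact hbb (Cfsg.Agent.Lib.helper81.isPBlock_eq_of_mem hMp hb' hb hθ h')
    exact this hv

end RegSpan

section Count

variable {H : Type u} [Group H]

/-- The `p`-regular conjugacy classes (those whose chosen representative is `p`-regular). -/
abbrev PRegClass (p : ℕ) (H : Type u) [Group H] : Type u :=
  {c : ConjClasses H // ¬ p ∣ orderOf (Quotient.out c)}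

theorem isConj_out_mk (h : H) : IsConj (Quotient.out (ConjClasses.mk h)) h := by
  rw [← ConjClasses.mk_eq_mk_iff_isConj]
  exact Quotient.out_eq _

theorem orderOf_conj_kl (t a : H) : orderOf (t * a * t⁻¹) = orderOf a :=
  orderOf_injective (MulAut.conj t).toMonoidHom (MulAut.conj t).injective a

/-- The sum of the `p`-regular ranks of the blocks is at most the number of `p`-regular
classes. -/
theorem sum_blockRank_le [Finite H] {p : ℕ} {M : Ideal AlgInt} (hM : IsPModular p M) :
    ∑ b ∈ Cfsg.Agent.Lib.helper80.blocks M H, blockRank p b ≤ Nat.card (PRegClass p H) := by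
  classical
  haveI : Fintype H := Fintype.ofFinite H
  have hMp := Cfsg.Agent.Lib.helper20.isPrime_of_isPModular hM
  let ι := {b // b ∈ Cfsg.Agent.Lib.helper80.blocks M H}
  let Φ : ((b : ι) → regSpan p b.1) →ₗ[ℂ] (PRegClass p H → ℂ) :=
    { toFun := fun w c => ∑ b : ι, (w b : H → ℂ) (Quotient.out c.1)
      map_add' := fun w w' => by
        funext c
        simp [Finset.sum_add_distrib]
      map_smul' := fun a w => by
        funext c
        simp [Finset.mul_sum] }
  have hinj : Function.Injective Φ := by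
    rw [← LinearMap.ker_eq_bot, LinearMap.ker_eq_bot']
    intro w hw
    have hf : (∑ b : ι, (w b : H → ℂ)) ∈ regCl p H :=
      Submodule.sum_mem _ (fun b _ => regSpan_le_regCl p b.1 (w b).2)
    have hf0 : (∑ b : ι, (w b : H → ℂ)) = 0 := by
      funext h
      by_cases hh : p ∣ orderOf h
      · exact hf.2 h hh
      · have hc := isConj_out_mk h
        obtain ⟨t, ht⟩ := isConj_iff.mp hc
        have ho : orderOf (Quotient.out (ConjClasses.mk h)) = orderOf h := by
          have h5 := orderOf_conj_kl t (Quotient.out (ConjClasses.mk h))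
          rw [ht] at h5
          exact h5.symm
        have hc' : ¬ p ∣ orderOf (Quotient.out (ConjClasses.mk h)) := by rw [ho]; exact hh
        have h1 := congrFun hw ⟨ConjClasses.mk h, hc'⟩
        have hval : (∑ b : ι, (w b : H → ℂ)) (Quotient.out (ConjClasses.mk h)) = 0 := by
          simpa [Φ, Finset.sum_apply] using h1
        have h6 := hf.1 (Quotient.out (ConjClasses.mk h)) t
        rw [ht] at h6
        rw [h6, hval]
        rfl
    funext b
    apply Subtype.ext
    have h3 : bpL b.1 (∑ b' : ι, (w b' : H → ℂ)) = (w b : H → ℂ) := by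
      rw [map_sum]
      rw [Finset.sum_eq_single b]
      · rw [bpL_regSpan hM (Cfsg.Agent.Lib.helper80.mem_blocks.mp b.2)
          (Cfsg.Agent.Lib.helper80.mem_blocks.mp b.2) (w b).2, if_pos rfl]
      · intro b' _ hne
        rw [bpL_regSpan hM (Cfsg.Agent.Lib.helper80.mem_blocks.mp b.2)
          (Cfsg.Agent.Lib.helper80.mem_blocks.mp b'.2) (w b').2, if_neg]
        intro h
        exact hne (Subtype.ext h)
      · intro h
        exact absurd (Finset.mem_univ _) h
    rw [hf0, map_zero] at h3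
    exact h3.symm
  have h1 := LinearMap.finrank_le_finrank_of_injective hinj
  rw [Module.finrank_pi_fintype, Module.finrank_fintype_fun_eq_card] at h1
  rw [Nat.card_eq_fintype_card]
  calc ∑ b ∈ Cfsg.Agent.Lib.helper80.blocks M H, blockRank p b
      = ∑ b : ι, Module.finrank ℂ (regSpan p b.1) := by
        rw [← Finset.sum_coe_sort]
        rfl
    _ ≤ _ := h1

variable {G : Type u} [Group G]

/-- The classes of `G` are at least as many as the `p`-regular classes of the centralizers of
representatives of the classes of `p`-elements. -/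
theorem sum_card_pRegClass_le [Finite G] {p : ℕ} (hp : p.Prime) (X : Finset G)
    (hX : ∀ x ∈ X, ∃ k : ℕ, orderOf x = p ^ k)
    (hXu : ∀ x ∈ X, ∀ x' ∈ X, IsConj x x' → x = x') :
    ∑ x ∈ X, Nat.card (PRegClass p (Subgroup.centralizer ({x} : Set G)))
      ≤ Nat.card (ConjClasses G) := by
  classical
  rw [← Finset.sum_coe_sort X
    (fun x => Nat.card (PRegClass p (Subgroup.centralizer ({x} : Set G))))]
  rw [← Nat.card_sigma]
  apply Nat.card_le_card_of_injective
    (fun s : (Σ x : X, PRegClass p (Subgroup.centralizer ({(x : G)} : Set G))) =>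
      ConjClasses.mk ((s.1 : G) *
        ((Quotient.out s.2.1 : Subgroup.centralizer ({(s.1 : G)} : Set G)) : G)))
  rintro ⟨x, c⟩ ⟨x', c'⟩ h
  simp only at h
  rw [ConjClasses.mk_eq_mk_iff_isConj, isConj_iff] at h
  obtain ⟨t, ht⟩ := h
  obtain ⟨y, hy⟩ : ∃ y, y = Quotient.out c.1 := ⟨_, rfl⟩
  obtain ⟨y', hy'⟩ : ∃ y', y' = Quotient.out c'.1 := ⟨_, rfl⟩
  rw [← hy, ← hy'] at ht
  have hyx : (x : G) * (y : G) = (y : G) * (x : G) :=
    (Subgroup.mem_centralizer_singleton_iff.mp y.2).symm
  have hy'x : (x' : G) * (y' : G) = (y' : G) * (x' : G) :=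
    (Subgroup.mem_centralizer_singleton_iff.mp y'.2).symm
  have hpp1 : IsPPart p ((x : G) * (y : G)) x :=
    Cfsg.Agent.Lib.helper20.isPPart_mul hyx (hX x x.2)
      (by rw [Subgroup.orderOf_coe, hy]; exact c.2)
  have hpp2 : IsPPart p ((x' : G) * (y' : G)) x' :=
    Cfsg.Agent.Lib.helper20.isPPart_mul hy'x (hX x' x'.2)
      (by rw [Subgroup.orderOf_coe, hy']; exact c'.2)
  have hpp3 := Cfsg.Agent.Lib.helper20.isPPart_conj hpp1 t
  rw [ht] at hpp3
  have hxx : t * x * t⁻¹ = x' := Cfsg.Agent.Lib.helper20.isPPart_unique hp hpp3 hpp2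
  have hxeq : x = x' := Subtype.ext (hXu x x.2 x' x'.2 (isConj_iff.mpr ⟨t, hxx⟩))
  subst hxeq
  have htC : t ∈ Subgroup.centralizer ({(x : G)} : Set G) := by
    rw [Subgroup.mem_centralizer_singleton_iff]
    calc t * (x : G) = t * x * t⁻¹ * t := by group
      _ = x * t := by rw [hxx]
  have hyy : (⟨t, htC⟩ : Subgroup.centralizer ({(x : G)} : Set G)) * y
      * (⟨t, htC⟩ : Subgroup.centralizer ({(x : G)} : Set G))⁻¹ = y' := by
    apply Subtype.ext
    have h1 : (x : G) * (t * (y : G) * t⁻¹) = x * (y' : G) := by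
      rw [← ht]
      calc (x : G) * (t * (y : G) * t⁻¹) = (t * x * t⁻¹) * (t * (y : G) * t⁻¹) := by rw [hxx]
        _ = t * ((x : G) * (y : G)) * t⁻¹ := by group
    exact mul_left_cancel h1
  have hcc : c.1 = c'.1 := by
    rw [← Quotient.out_eq c.1, ← Quotient.out_eq c'.1, ← hy, ← hy']
    exact ConjClasses.mk_eq_mk_iff_isConj.mpr (isConj_iff.mpr ⟨_, hyy⟩)
  have hc : c = c' := Subtype.ext hcc
  rw [hc]

/-- A class function vanishing at all `x * y` (`x` a representative of a class of `p`-elements,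
`y` a `p`-regular element centralizing `x`) is zero. -/
theorem classFun_eq_zero_of_sections [Finite G] {p : ℕ} (hp : p.Prime) (X : Finset G)
    (hXrep : ∀ g : G, (∃ k : ℕ, orderOf g = p ^ k) → ∃ x ∈ X, IsConj g x)
    (f : G → ℂ) (hf : IsClassFunction G f)
    (h0 : ∀ x ∈ X, ∀ y : G, y * x = x * y → ¬ p ∣ orderOf y → f (x * y) = 0) : f = 0 := by
  funext g
  obtain ⟨a, b, k, n, hsplit, hzk, hyn, hn, hcop⟩ :=
    Cfsg.Agent.Lib.helper20.exists_zpow_split hp g
  have hzy : g ^ a * g ^ b = g ^ b * g ^ a := zpow_mul_comm g a b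
  obtain ⟨z, hz⟩ : ∃ z, z = g ^ a := ⟨_, rfl⟩
  obtain ⟨y, hy⟩ : ∃ y, y = g ^ b := ⟨_, rfl⟩
  rw [← hz, ← hy] at hsplit hzy
  rw [← hz] at hzk
  rw [← hy] at hyn
  have hzp : ∃ j : ℕ, orderOf z = p ^ j := by
    obtain ⟨j, -, hj⟩ := (Nat.dvd_prime_pow hp).mp (orderOf_dvd_of_pow_eq_one hzk)
    exact ⟨j, hj⟩
  obtain ⟨x, hxX, hconj⟩ := hXrep z hzp
  obtain ⟨t, ht⟩ := isConj_iff.mp hconj
  have hyreg : ¬ p ∣ orderOf (t * y * t⁻¹) := by
    rw [orderOf_conj_kl]
    intro hd
    have h1 : p ∣ n := hd.trans (orderOf_dvd_of_pow_eq_one hyn)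
    exact (Nat.Prime.coprime_iff_not_dvd hp).mp hcop.symm h1
  have hcomm : (t * y * t⁻¹) * x = x * (t * y * t⁻¹) := by
    rw [← ht]
    calc t * y * t⁻¹ * (t * z * t⁻¹) = t * (y * z) * t⁻¹ := by group
      _ = t * (z * y) * t⁻¹ := by rw [hzy]
      _ = t * z * t⁻¹ * (t * y * t⁻¹) := by group
  have h1 := h0 x hxX (t * y * t⁻¹) hcomm hyreg
  have e : x * (t * y * t⁻¹) = t * g * t⁻¹ := by
    rw [← ht]
    calc t * z * t⁻¹ * (t * y * t⁻¹) = t * (z * y) * t⁻¹ := by group
      _ = t * g * t⁻¹ := by rw [← hsplit]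
  rw [e, hf] at h1
  exact h1

end Count

section Decomp

variable {G : Type u} [Group G]

/-- A central element acts on an irreducible character by a scalar. -/
theorem irr_central_mul {H : Type u} [Group H] [Fintype H] (θ : IrrCharacter H) (z : H)
    (hz : ∀ h : H, h * z = z * h) (u : H) :
    (θ : H → ℂ) (z * u) = (θ : H → ℂ) z / (θ : H → ℂ) 1 * (θ : H → ℂ) u := by
  classical
  have hF : IsClassFunction H (fun g => if g = z then (1 : ℂ) else 0) := by
    intro g h
    have hiff : h * g * h⁻¹ = z ↔ g = z := by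
      constructor
      · intro e
        have h1 : g = h⁻¹ * z * h := by rw [← e]; group
        rw [h1, mul_assoc, ← hz h]
        group
      · rintro rfl
        rw [hz h]
        group
    simp only [hiff]
  have h2 := Cfsg.Agent.Lib.helper81.irr_sum_shift θ hF u
  simpa [Finset.sum_ite_eq'] using h2

/-- The `b`-component of the generalized decomposition map at `x`: for a function `f` on `G`,
the function `y ↦ (e_b f)(x y)` on the `p`-regular elements `y` of `C_G(x)`. -/
noncomputable def uconv (p : ℕ) (x : G) [Fintype (Subgroup.centralizer ({x} : Set G))]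
    (b : Set (IrrCharacter (Subgroup.centralizer ({x} : Set G)))) :
    (G → ℂ) →ₗ[ℂ] (Subgroup.centralizer ({x} : Set G) → ℂ) where
  toFun f := fun y => if ¬ p ∣ orderOf y then
    ∑ k : Subgroup.centralizer ({x} : Set G), blockCoeff b k * f ((k : G) * (x * (y : G))) else 0
  map_add' f g := by
    funext y
    by_cases hy : p ∣ orderOf y
    · simp [hy]
    · simp only [Pi.add_apply, if_pos hy]
      rw [← Finset.sum_add_distrib]
      exact Finset.sum_congr rfl (fun k _ => by ring)
  map_smul' c f := by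
    funext y
    by_cases hy : p ∣ orderOf y
    · simp [hy]
    · simp only [Pi.smul_apply, smul_eq_mul, if_pos hy, RingHom.id_apply]
      rw [Finset.mul_sum]
      exact Finset.sum_congr rfl (fun k _ => by ring)

theorem uconv_apply (p : ℕ) (x : G) [Fintype (Subgroup.centralizer ({x} : Set G))]
    (b : Set (IrrCharacter (Subgroup.centralizer ({x} : Set G)))) (f : G → ℂ)
    (y : Subgroup.centralizer ({x} : Set G)) :
    uconv p x b f y = if ¬ p ∣ orderOf y then
      ∑ k : Subgroup.centralizer ({x} : Set G), blockCoeff b k * f ((k : G) * (x * (y : G)))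
      else 0 := rfl

/-- For a class function `f`, the `b`-component lies in the span of the `p`-regular parts of
the members of `b`. -/
theorem uconv_mem_regSpan [Finite G] (p : ℕ) (x : G)
    [Fintype (Subgroup.centralizer ({x} : Set G))]
    (b : Set (IrrCharacter (Subgroup.centralizer ({x} : Set G)))) (f : G → ℂ)
    (hf : IsClassFunction G f) : uconv p x b f ∈ regSpan p b := by
  classical
  have hxH : x ∈ Subgroup.centralizer ({x} : Set G) :=
    Subgroup.mem_centralizer_singleton_iff.mpr rfl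
  haveI : Finite (IrrCharacter (Subgroup.centralizer ({x} : Set G))) :=
    Cfsg.Agent.Lib.helper80.irr_finite _
  haveI : Fintype (IrrCharacter (Subgroup.centralizer ({x} : Set G))) := Fintype.ofFinite _
  have hcf : IsClassFunction (Subgroup.centralizer ({x} : Set G))
      (fun c : Subgroup.centralizer ({x} : Set G) => f (c : G)) := by
    intro g h
    show f ((h * g * h⁻¹ : Subgroup.centralizer ({x} : Set G)) : G) = f (g : G)
    push_cast
    exact hf _ _
  have hcen : ∀ h : Subgroup.centralizer ({x} : Set G),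
      h * (⟨x, hxH⟩ : Subgroup.centralizer ({x} : Set G)) = ⟨x, hxH⟩ * h := by
    intro h
    apply Subtype.ext
    exact Subgroup.mem_centralizer_singleton_iff.mp h.2
  have key : uconv p x b f = ∑ θ : IrrCharacter (Subgroup.centralizer ({x} : Set G)),
      if θ ∈ b then
        (classInner (fun c : Subgroup.centralizer ({x} : Set G) => f (c : G))
            (θ : Subgroup.centralizer ({x} : Set G) → ℂ)
          * ((θ : Subgroup.centralizer ({x} : Set G) → ℂ) ⟨x, hxH⟩
              / (θ : Subgroup.centralizer ({x} : Set G) → ℂ) 1))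
          • pRegularPart p (θ : Subgroup.centralizer ({x} : Set G) → ℂ)
      else 0 := by
    funext y
    rw [Finset.sum_apply, uconv_apply]
    by_cases hy : p ∣ orderOf y
    · rw [if_neg (not_not.mpr hy)]
      symm
      apply Finset.sum_eq_zero
      intro θ _
      split_ifs with hθ
      · rw [Pi.smul_apply, pRegularPart_apply_of_sing p _ hy, smul_zero]
      · rfl
    · rw [if_pos hy]
      have h1 := Cfsg.Agent.Lib.helper20.finsum_classInner_eq_sum b
        (fun c : Subgroup.centralizer ({x} : Set G) => f (c : G)) hcf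
        ((⟨x, hxH⟩ : Subgroup.centralizer ({x} : Set G)) * y)
      have h2 : ∑ k : Subgroup.centralizer ({x} : Set G), blockCoeff b k * f ((k : G) * (x * (y : G)))
          = ∑ k : Subgroup.centralizer ({x} : Set G), blockCoeff b k *
            (fun c : Subgroup.centralizer ({x} : Set G) => f (c : G))
              (k * ((⟨x, hxH⟩ : Subgroup.centralizer ({x} : Set G)) * y)) := rfl
      rw [h2, ← h1, finsum_mem_def, finsum_eq_sum_of_fintype]
      refine Finset.sum_congr rfl (fun θ _ => ?_)
      rw [Set.indicator_apply]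
      split_ifs with hθ
      · rw [Pi.smul_apply, pRegularPart_apply_of_reg p _ hy, irr_central_mul θ ⟨x, hxH⟩ hcen y,
          smul_eq_mul]
        ring
      · rfl
  rw [key]
  refine Submodule.sum_mem _ (fun θ _ => ?_)
  split_ifs with hθ
  · exact Submodule.smul_mem _ _ (pRegularPart_mem_regSpan p hθ)
  · exact Submodule.zero_mem _

/-- The components over all blocks of `C_G(x)` add up to `y ↦ f (x y)`. -/
theorem sum_blocks_uconv {p : ℕ} {M : Ideal AlgInt} (hMp : M.IsPrime) (x : G)
    [Finite (Subgroup.centralizer ({x} : Set G))]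
    [Fintype (Subgroup.centralizer ({x} : Set G))] (f : G → ℂ)
    (y : Subgroup.centralizer ({x} : Set G)) (hy : ¬ p ∣ orderOf y) :
    ∑ b ∈ Cfsg.Agent.Lib.helper80.blocks M (Subgroup.centralizer ({x} : Set G)),
      uconv p x b f y = f (x * (y : G)) := by
  have h1 := Cfsg.Agent.Lib.helper20.sum_blocks_sum_blockCoeff_mul
    (G := Subgroup.centralizer ({x} : Set G)) hMp (fun k => f ((k : G) * (x * (y : G))))
  simp only [uconv_apply, if_pos hy]
  simpa using h1

/-- Every block of the centralizer of a `p`-element induces a block of `G`. -/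
theorem exists_induced_centralizer [Finite G] {p : ℕ} {M : Ideal AlgInt} (hM : IsPModular p M)
    (x : G) (hx : ∃ k : ℕ, orderOf x = p ^ k)
    (b : Set (IrrCharacter (Subgroup.centralizer ({x} : Set G)))) (hb : IsPBlock M b) :
    ∃ B' : Set (IrrCharacter G), IsInducedBlock M (Subgroup.centralizer ({x} : Set G)) b B' := by
  haveI : Fact p.Prime := ⟨hM.1⟩
  have hCeq : Subgroup.centralizer ((Subgroup.zpowers x : Subgroup G) : Set G)
      = Subgroup.centralizer ({x} : Set G) := by
    rw [Subgroup.zpowers_eq_closure, Subgroup.centralizer_closure]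
  have hxC : x ∈ Subgroup.centralizer ({x} : Set G) :=
    Subgroup.mem_centralizer_singleton_iff.mpr rfl
  have hP : IsPGroup p (Subgroup.zpowers x) := by
    obtain ⟨k, hk⟩ := hx
    exact IsPGroup.of_card (by rw [Nat.card_zpowers, hk])
  exact Cfsg.Agent.S0919.result p M hM (Subgroup.zpowers x)
    (Subgroup.centralizer ({x} : Set G)) hP (Subgroup.zpowers_le.mpr hxC) hCeq.le
    (by rw [← hCeq]; exact Subgroup.centralizer_le_normalizer _) b hb

/-- A block of a subgroup induces at most one block. -/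
theorem isInducedBlock_unique {M : Ideal AlgInt} (hMp : M.IsPrime) (K : Subgroup G)
    {b : Set (IrrCharacter K)} {B₁ B₂ : Set (IrrCharacter G)}
    (h₁ : IsInducedBlock M K b B₁) (h₂ : IsInducedBlock M K b B₂) : B₁ = B₂ := by
  obtain ⟨ξ, hξ⟩ := Cfsg.Agent.Lib.helper81.isPBlock_nonempty hMp h₁.1
  obtain ⟨χ₁, hχ₁⟩ := Cfsg.Agent.Lib.helper81.isPBlock_nonempty hMp h₁.2.1
  obtain ⟨χ₂, hχ₂⟩ := Cfsg.Agent.Lib.helper81.isPBlock_nonempty hMp h₂.2.1
  have hs : SameBlock M (χ₁ : G → ℂ) (χ₂ : G → ℂ) := by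
    intro g
    have e1 := h₁.2.2 ξ hξ χ₁ hχ₁ g
    have e2 := h₂.2.2 ξ hξ χ₂ hχ₂ g
    have e3 := Cfsg.Agent.Lib.helper20.memLocalIdeal_sub hMp e2 e1
    have e4 : inducedCentralChar K (ξ : K → ℂ) g - centralChar (χ₂ : G → ℂ) g
        - (inducedCentralChar K (ξ : K → ℂ) g - centralChar (χ₁ : G → ℂ) g)
        = centralChar (χ₁ : G → ℂ) g - centralChar (χ₂ : G → ℂ) g := by ring
    rw [e4] at e3
    exact e3
  have h3 : χ₂ ∈ B₁ := by
    rw [Cfsg.Agent.Lib.helper81.isPBlock_eq_blockOf hMp h₁.2.1 hχ₁]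
    exact hs
  exact Cfsg.Agent.Lib.helper81.isPBlock_eq_of_mem hMp h₁.2.1 h₂.2.1 h3 hχ₂

/-- **Second main theorem**, in the form used here: the `b`-component of a character of `B`
vanishes unless `b` induces `B`. -/
theorem uconv_eq_zero_of_not_induced [Finite G] {p : ℕ} {M : Ideal AlgInt}
    (hM : IsPModular p M) (x : G) (hx : ∃ k : ℕ, orderOf x = p ^ k)
    [Fintype (Subgroup.centralizer ({x} : Set G))]
    (b : Set (IrrCharacter (Subgroup.centralizer ({x} : Set G)))) (hb : IsPBlock M b)
    (B : Set (IrrCharacter G)) (hB : IsPBlock M B)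
    (hnot : ¬ IsInducedBlock M (Subgroup.centralizer ({x} : Set G)) b B)
    (χ : IrrCharacter G) (hχ : χ ∈ B) : uconv p x b (χ : G → ℂ) = 0 := by
  classical
  haveI : Fintype G := Fintype.ofFinite G
  haveI : Fact p.Prime := ⟨hM.1⟩
  have hMp := Cfsg.Agent.Lib.helper20.isPrime_of_isPModular hM
  have hxH : x ∈ Subgroup.centralizer ({x} : Set G) :=
    Subgroup.mem_centralizer_singleton_iff.mpr rfl
  obtain ⟨B', hind⟩ := exists_induced_centralizer hM x hx b hb
  have hχ' : χ ∉ B' := by
    intro h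
    apply hnot
    rw [Cfsg.Agent.Lib.helper81.isPBlock_eq_of_mem hMp hB hind.2.1 hχ h]
    exact hind
  funext y
  rw [uconv_apply]
  by_cases hy : p ∣ orderOf y
  · rw [if_neg (not_not.mpr hy)]
    rfl
  · rw [if_pos hy]
    have hyx : x * (y : G) = (y : G) * x :=
      (Subgroup.mem_centralizer_singleton_iff.mp y.2).symm
    have hPP : IsPPart p (x * (y : G)) x :=
      Cfsg.Agent.Lib.helper20.isPPart_mul hyx hx (by rw [Subgroup.orderOf_coe]; exact hy)
    have hC : ∀ z : G, IsPPart p
        (((⟨x, hxH⟩ : Subgroup.centralizer ({x} : Set G)) * y : Subgroup.centralizer ({x} : Set G)) : G) z →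
        Subgroup.centralizer ({z} : Set G) ≤ Subgroup.centralizer ({x} : Set G) := by
      intro z hz
      have hz' : IsPPart p (x * (y : G)) z := hz
      rw [Cfsg.Agent.Lib.helper20.isPPart_unique hM.1 hz' hPP]
    exact Cfsg.Agent.Lib.helper20.sum_blockCoeff_mul_eq_zero hM
      (Subgroup.centralizer ({x} : Set G)) b B' hind
      ((⟨x, hxH⟩ : Subgroup.centralizer ({x} : Set G)) * y) hC χ hχ'

open scoped Classical in
/-- The upper bound `k(B) ≤ ∑_x ∑_{b^G = B} l(b)`. -/
theorem card_block_le_sum_blockRank [Finite G] {p : ℕ} {M : Ideal AlgInt}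
    (hM : IsPModular p M) (B : Set (IrrCharacter G)) (hB : IsPBlock M B) (X : Finset G)
    (hX : ∀ x ∈ X, ∃ k : ℕ, orderOf x = p ^ k)
    (hXrep : ∀ g : G, (∃ k : ℕ, orderOf g = p ^ k) → ∃ x ∈ X, IsConj g x) :
    Nat.card B ≤ ∑ x ∈ X,
      ∑ b ∈ (Cfsg.Agent.Lib.helper80.blocks M (Subgroup.centralizer ({x} : Set G))).filter
        (fun b => IsInducedBlock M (Subgroup.centralizer ({x} : Set G)) b B), blockRank p b := by
  haveI : Fintype G := Fintype.ofFinite G
  haveI : Fact p.Prime := ⟨hM.1⟩
  have hMp := Cfsg.Agent.Lib.helper20.isPrime_of_isPModular hM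
  haveI : Finite (IrrCharacter G) := Cfsg.Agent.Lib.helper80.irr_finite G
  haveI : Fintype B := Fintype.ofFinite B
  haveI hfinC : ∀ x : G, Fintype (Subgroup.centralizer ({x} : Set G)) :=
    fun x => Fintype.ofFinite _
  obtain ⟨V, hVdef⟩ : ∃ V : Submodule ℂ (G → ℂ), V = Submodule.span ℂ
      (Set.range (fun χ : B => ((χ : IrrCharacter G) : G → ℂ))) := ⟨_, rfl⟩
  have hVdim : Module.finrank ℂ V = Nat.card B := by
    rw [Nat.card_eq_fintype_card, hVdef]
    exact finrank_span_eq_card
      (Cfsg.Agent.Lib.helper80.irr_linearIndependent.comp Subtype.val Subtype.val_injective)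
  have hVcl : ∀ v ∈ V, IsClassFunction G v := by
    intro v hv
    have hle : V ≤ regCl 0 G := by
      rw [hVdef, Submodule.span_le]
      rintro _ ⟨χ, rfl⟩
      refine ⟨Cfsg.Agent.Lib.helper81.irr_classFun χ.1, fun h hh => ?_⟩
      exact absurd (zero_dvd_iff.mp hh) (orderOf_pos h).ne'
    exact (hle hv).1
  let ι : X → Type u := fun x =>
    {b // b ∈ (Cfsg.Agent.Lib.helper80.blocks M (Subgroup.centralizer ({(x : G)} : Set G))).filter
      (fun b => IsInducedBlock M (Subgroup.centralizer ({(x : G)} : Set G)) b B)}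
  let Ψ : V →ₗ[ℂ] ((x : X) → (b : ι x) → regSpan p b.1) :=
    LinearMap.pi (fun x => LinearMap.pi (fun b =>
      LinearMap.codRestrict (regSpan p b.1) ((uconv p (x : G) b.1).comp V.subtype)
        (fun v => uconv_mem_regSpan p (x : G) b.1 v (hVcl v v.2))))
  have hinj : Function.Injective Ψ := by
    rw [← LinearMap.ker_eq_bot, LinearMap.ker_eq_bot']
    intro v hv
    apply Subtype.ext
    show (v : G → ℂ) = 0
    apply classFun_eq_zero_of_sections hM.1 X hXrep v (hVcl v v.2)
    intro x hxX y hyx hy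
    have hyC : y ∈ Subgroup.centralizer ({x} : Set G) :=
      Subgroup.mem_centralizer_singleton_iff.mpr hyx
    have h2 := sum_blocks_uconv (p := p) (M := M) hMp x (v : G → ℂ) ⟨y, hyC⟩
      (by rw [Subgroup.orderOf_mk]; exact hy)
    rw [← h2]
    apply Finset.sum_eq_zero
    intro b hb
    by_cases hind : IsInducedBlock M (Subgroup.centralizer ({x} : Set G)) b B
    · have h3 := congrFun (congrFun hv ⟨x, hxX⟩) ⟨b, Finset.mem_filter.mpr ⟨hb, hind⟩⟩
      have h4 : uconv p x b (v : G → ℂ) = 0 := congrArg Subtype.val h3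
      rw [h4]
      rfl
    · have hker : V ≤ LinearMap.ker (uconv p x b) := by
        rw [hVdef, Submodule.span_le]
        rintro _ ⟨χ, rfl⟩
        exact uconv_eq_zero_of_not_induced hM x (hX x hxX) b
          (Cfsg.Agent.Lib.helper80.mem_blocks.mp hb) B hB hind χ.1 χ.2
      have h3 := hker v.2
      rw [LinearMap.mem_ker] at h3
      rw [h3]
      rfl
  have h1 := LinearMap.finrank_le_finrank_of_injective hinj
  rw [hVdim, Module.finrank_pi_fintype] at h1
  simp_rw [Module.finrank_pi_fintype] at h1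
  refine le_trans h1 (le_of_eq ?_)
  rw [← Finset.sum_coe_sort X]
  refine Finset.sum_congr rfl (fun x _ => ?_)
  exact Finset.sum_coe_sort _ (fun b => blockRank p b)

open scoped Classical in
/-- The blocks partition the irreducible characters: `∑_B k(B) = k(G)`. -/
theorem sum_card_blocks [Finite G] {M : Ideal AlgInt} (hMp : M.IsPrime) :
    ∑ B ∈ Cfsg.Agent.Lib.helper80.blocks M G, Nat.card B = Nat.card (IrrCharacter G) := by
  haveI : Finite (IrrCharacter G) := Cfsg.Agent.Lib.helper80.irr_finite G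
  haveI : Fintype (IrrCharacter G) := Fintype.ofFinite _
  rw [Nat.card_eq_fintype_card, ← Finset.card_univ]
  have h1 : (Finset.univ : Finset (IrrCharacter G))
      = (Cfsg.Agent.Lib.helper80.blocks M G).biUnion (fun B => Finset.univ.filter (· ∈ B)) := by
    ext χ
    simp only [Finset.mem_univ, Finset.mem_biUnion, Finset.mem_filter, true_and, true_iff]
    exact ⟨blockOf M (χ : G → ℂ),
      Cfsg.Agent.Lib.helper80.mem_blocks.mpr (Cfsg.Agent.Lib.helper81.isPBlock_blockOf χ),
      Cfsg.Agent.Lib.helper81.mem_blockOf_self hMp χ⟩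
  rw [h1, Finset.card_biUnion]
  · refine Finset.sum_congr rfl (fun B _ => ?_)
    exact Nat.subtype_card (Finset.univ.filter (· ∈ B)) (by simp)
  · intro B hB B' hB' hne
    show Disjoint (Finset.univ.filter (· ∈ B)) (Finset.univ.filter (· ∈ B'))
    rw [Finset.disjoint_left]
    intro χ h1 h2
    exact hne (Cfsg.Agent.Lib.helper81.isPBlock_eq_of_mem hMp
      (Cfsg.Agent.Lib.helper80.mem_blocks.mp hB) (Cfsg.Agent.Lib.helper80.mem_blocks.mp hB')
      (Finset.mem_filter.mp h1).2 (Finset.mem_filter.mp h2).2)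

open scoped Classical in
/-- **Brauer's formula** `k(B) = ∑_x ∑_{b^G = B} l(b)`: `x` over representatives of the classes
of `p`-elements, `b` over the blocks of `C_G(x)` inducing `B`. -/
theorem card_block_eq_sum_blockRank [Finite G] {p : ℕ} {M : Ideal AlgInt}
    (hM : IsPModular p M) (B : Set (IrrCharacter G)) (hB : IsPBlock M B) (X : Finset G)
    (hX : ∀ x ∈ X, ∃ k : ℕ, orderOf x = p ^ k)
    (hXrep : ∀ g : G, (∃ k : ℕ, orderOf g = p ^ k) → ∃! x, x ∈ X ∧ IsConj g x) :
    Nat.card B = ∑ x ∈ X,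
      ∑ᶠ b ∈ {b : Set (IrrCharacter (Subgroup.centralizer ({x} : Set G))) |
        IsInducedBlock M (Subgroup.centralizer ({x} : Set G)) b B}, blockRank p b := by
  have hMp := Cfsg.Agent.Lib.helper20.isPrime_of_isPModular hM
  have hXrep' : ∀ g : G, (∃ k : ℕ, orderOf g = p ^ k) → ∃ x ∈ X, IsConj g x := by
    intro g hg
    obtain ⟨x, ⟨hx, hc⟩, -⟩ := hXrep g hg
    exact ⟨x, hx, hc⟩
  have hXu : ∀ x ∈ X, ∀ x' ∈ X, IsConj x x' → x = x' := by
    intro x hx x' hx' hc
    obtain ⟨x₀, -, huniq⟩ := hXrep x (hX x hx)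
    rw [huniq x ⟨hx, IsConj.refl x⟩, huniq x' ⟨hx', hc⟩]
  obtain ⟨R, hR⟩ : ∃ R : Set (IrrCharacter G) → ℕ, R = fun B' => ∑ x ∈ X,
      ∑ b ∈ (Cfsg.Agent.Lib.helper80.blocks M (Subgroup.centralizer ({x} : Set G))).filter
        (fun b => IsInducedBlock M (Subgroup.centralizer ({x} : Set G)) b B'), blockRank p b :=
    ⟨_, rfl⟩
  have hle : ∀ B' ∈ Cfsg.Agent.Lib.helper80.blocks M G, Nat.card B' ≤ R B' := by
    intro B' hB'
    rw [hR]
    exact card_block_le_sum_blockRank hM B' (Cfsg.Agent.Lib.helper80.mem_blocks.mp hB') X hX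
      hXrep'
  have htot : ∑ B' ∈ Cfsg.Agent.Lib.helper80.blocks M G, R B'
      ≤ ∑ B' ∈ Cfsg.Agent.Lib.helper80.blocks M G, Nat.card B' := by
    rw [sum_card_blocks hMp, Cfsg.Agent.Lib.helper83.card_irr_eq_card_conjClasses]
    refine le_trans ?_ (sum_card_pRegClass_le hM.1 X hX hXu)
    rw [hR]
    beta_reduce
    rw [Finset.sum_comm]
    refine Finset.sum_le_sum (fun x hx => ?_)
    refine le_trans (le_of_eq ?_)
      (sum_blockRank_le (H := Subgroup.centralizer ({x} : Set G)) hM)
    simp_rw [Finset.sum_filter]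
    rw [Finset.sum_comm]
    refine Finset.sum_congr rfl (fun b hb => ?_)
    obtain ⟨B₀, hind⟩ := exists_induced_centralizer hM x (hX x hx) b
      (Cfsg.Agent.Lib.helper80.mem_blocks.mp hb)
    rw [Finset.sum_eq_single_of_mem B₀ (Cfsg.Agent.Lib.helper80.mem_blocks.mpr hind.2.1)]
    · rw [if_pos hind]
    · intro B' _ hne
      rw [if_neg]
      intro h
      exact hne (isInducedBlock_unique hMp _ h hind)
  have heq : ∑ B' ∈ Cfsg.Agent.Lib.helper80.blocks M G, Nat.card B'
      = ∑ B' ∈ Cfsg.Agent.Lib.helper80.blocks M G, R B' :=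
    le_antisymm (Finset.sum_le_sum hle) htot
  have h1 := (Finset.sum_eq_sum_iff_of_le hle).mp heq B
    (Cfsg.Agent.Lib.helper80.mem_blocks.mpr hB)
  rw [h1, hR]
  beta_reduce
  refine Finset.sum_congr rfl (fun x _ => ?_)
  rw [← finsum_mem_coe_finset]
  apply finsum_mem_congr
  · ext b
    simp only [Finset.coe_filter, Set.mem_ofPred_eq, Cfsg.Agent.Lib.helper80.mem_blocks]
    exact ⟨fun h => h.2, fun h => ⟨h.1, h⟩⟩
  · intro b _
    rfl

end Decomp

end Cfsg.Agent.Lib.helper78
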