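import Mathlib
import Cfsg.Prelude.Def_Blocks
import Cfsg.Agent.Lib.helper83.CharBasic
import Cfsg.Agent.Lib.helper83.CharBasic2

/-!
# Frobenius–Schur indicator via invariant bilinear forms (helper78)

For a representation `ρ` of a finite group on `Fin n → ℂ` with matrices `X g = repMat ρ g`:
* `fsForms ρ`: the space of matrices `M` with `(X g)ᵀ * M * X g = M` for all `g`;
* `fsP ρ`: the averaging projection onto `fsForms ρ`, `fsT ρ = fsP ρ ∘ transpose`;
* `trace (fsP ρ) = |G|⁻¹ ∑ χ(g)²`, `trace (fsT ρ) = |G|⁻¹ ∑ χ(g²)`.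
-/

set_option autoImplicit false

namespace Cfsg.Agent.Lib.helper78

open scoped ComplexConjugate Matrix
open Cfsg.Agent.Lib.helper83

universe u

/-- The trace of an endomorphism of the space of square matrices. -/
theorem trace_matrix_end {n : ℕ}
    (f : Matrix (Fin n) (Fin n) ℂ →ₗ[ℂ] Matrix (Fin n) (Fin n) ℂ) :
    LinearMap.trace ℂ _ f = ∑ i, ∑ j, f (Matrix.single i j 1) i j := by
  rw [LinearMap.trace_eq_matrix_trace ℂ (Matrix.stdBasis ℂ (Fin n) (Fin n))]
  simp only [Matrix.trace, Matrix.diag_apply, LinearMap.toMatrix_apply, Fintype.sum_prod_type]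
  refine Finset.sum_congr rfl fun i _ => Finset.sum_congr rfl fun j _ => ?_
  rw [Matrix.stdBasis_eq_single]
  simp [Matrix.stdBasis]

/-- The linear map `A ↦ B * A * C` on square matrices. -/
noncomputable def mulLR {n : ℕ} (B C : Matrix (Fin n) (Fin n) ℂ) :
    Matrix (Fin n) (Fin n) ℂ →ₗ[ℂ] Matrix (Fin n) (Fin n) ℂ where
  toFun A := B * A * C
  map_add' A A' := by rw [Matrix.mul_add, Matrix.add_mul]
  map_smul' c A := by simp

/-- The linear map `A ↦ B * Aᵀ * C` on square matrices. -/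
noncomputable def mulLRt {n : ℕ} (B C : Matrix (Fin n) (Fin n) ℂ) :
    Matrix (Fin n) (Fin n) ℂ →ₗ[ℂ] Matrix (Fin n) (Fin n) ℂ where
  toFun A := B * Aᵀ * C
  map_add' A A' := by rw [Matrix.transpose_add, Matrix.mul_add, Matrix.add_mul]
  map_smul' c A := by simp

theorem mulLR_apply {n : ℕ} (B C A : Matrix (Fin n) (Fin n) ℂ) : mulLR B C A = B * A * C := rfl

theorem mulLRt_apply {n : ℕ} (B C A : Matrix (Fin n) (Fin n) ℂ) :
    mulLRt B C A = B * Aᵀ * C := rfl

theorem trace_mulLR {n : ℕ} (B C : Matrix (Fin n) (Fin n) ℂ) :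
    LinearMap.trace ℂ _ (mulLR B C) = B.trace * C.trace := by
  rw [trace_matrix_end]
  simp only [mulLR_apply, Matrix.trace, Matrix.diag_apply, Finset.sum_mul_sum]
  refine Finset.sum_congr rfl fun i _ => Finset.sum_congr rfl fun j _ => ?_
  rw [Matrix.mul_apply]
  rw [Finset.sum_eq_single j]
  · rw [Matrix.mul_single_apply_same, mul_one]
  · intro k _ hk
    rw [Matrix.mul_single_apply_of_ne _ _ _ _ _ hk, zero_mul]
  · intro h; exact absurd (Finset.mem_univ j) h

theorem trace_mulLRt {n : ℕ} (B C : Matrix (Fin n) (Fin n) ℂ) :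
    LinearMap.trace ℂ _ (mulLRt B C) = (B * Cᵀ).trace := by
  rw [trace_matrix_end]
  simp only [mulLRt_apply, Matrix.trace, Matrix.diag_apply, Matrix.transpose_single]
  refine Finset.sum_congr rfl fun i _ => ?_
  rw [Matrix.mul_apply]
  refine Finset.sum_congr rfl fun j _ => ?_
  rw [Matrix.mul_apply]
  rw [Finset.sum_eq_single i]
  · rw [Matrix.mul_single_apply_same, mul_one, Matrix.transpose_apply]
  · intro k _ hk
    rw [Matrix.mul_single_apply_of_ne _ _ _ _ _ hk, zero_mul]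
  · intro h; exact absurd (Finset.mem_univ i) h

section Forms

variable {G : Type u} [Group G] {n : ℕ} (ρ : Representation ℂ G (Fin n → ℂ))

/-- The space of `ρ`-invariant bilinear forms, as matrices: `(X g)ᵀ * M * X g = M`. -/
def fsForms : Submodule ℂ (Matrix (Fin n) (Fin n) ℂ) where
  carrier := {M | ∀ g, (repMat ρ g)ᵀ * M * repMat ρ g = M}
  add_mem' := by
    intro a b ha hb g
    rw [Matrix.mul_add, Matrix.add_mul, ha g, hb g]
  zero_mem' := by
    intro g
    simp
  smul_mem' := by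
    intro c a ha g
    rw [Matrix.mul_smul, Matrix.smul_mul, ha g]

theorem mem_fsForms {M : Matrix (Fin n) (Fin n) ℂ} :
    M ∈ fsForms ρ ↔ ∀ g, (repMat ρ g)ᵀ * M * repMat ρ g = M := Iff.rfl

theorem transpose_mem_fsForms {M : Matrix (Fin n) (Fin n) ℂ} (hM : M ∈ fsForms ρ) :
    Mᵀ ∈ fsForms ρ := by
  intro g
  have := congrArg Matrix.transpose (hM g)
  rw [Matrix.transpose_mul, Matrix.transpose_mul, Matrix.transpose_transpose] at this
  rw [Matrix.mul_assoc]
  exact this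

/-- An invariant form intertwines `X g` and the inverse transpose. -/
theorem fsForms_mul_repMat {M : Matrix (Fin n) (Fin n) ℂ} (hM : M ∈ fsForms ρ) (g : G) :
    M * repMat ρ g = (repMat ρ g⁻¹)ᵀ * M := by
  have h1 : (repMat ρ g⁻¹)ᵀ * (repMat ρ g)ᵀ = 1 := by
    rw [← Matrix.transpose_mul, repMat_mul_inv, Matrix.transpose_one]
  calc M * repMat ρ g = ((repMat ρ g⁻¹)ᵀ * (repMat ρ g)ᵀ) * M * repMat ρ g := by
        rw [h1, Matrix.one_mul]
    _ = (repMat ρ g⁻¹)ᵀ * ((repMat ρ g)ᵀ * M * repMat ρ g) := by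
        simp only [Matrix.mul_assoc]
    _ = (repMat ρ g⁻¹)ᵀ * M := by rw [hM g]

variable [Fintype G]

/-- The averaging operator `A ↦ |G|⁻¹ ∑ (X g)ᵀ A (X g)`. -/
noncomputable def fsP : Matrix (Fin n) (Fin n) ℂ →ₗ[ℂ] Matrix (Fin n) (Fin n) ℂ :=
  (Nat.card G : ℂ)⁻¹ • ∑ g : G, mulLR (repMat ρ g)ᵀ (repMat ρ g)

/-- The twisted averaging operator `A ↦ |G|⁻¹ ∑ (X g)ᵀ Aᵀ (X g)`. -/
noncomputable def fsT : Matrix (Fin n) (Fin n) ℂ →ₗ[ℂ] Matrix (Fin n) (Fin n) ℂ :=
  (Nat.card G : ℂ)⁻¹ • ∑ g : G, mulLRt (repMat ρ g)ᵀ (repMat ρ g)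

theorem fsP_apply (A : Matrix (Fin n) (Fin n) ℂ) :
    fsP ρ A = (Nat.card G : ℂ)⁻¹ • ∑ g : G, (repMat ρ g)ᵀ * A * repMat ρ g := by
  simp [fsP, mulLR_apply, LinearMap.sum_apply]

theorem fsT_apply (A : Matrix (Fin n) (Fin n) ℂ) :
    fsT ρ A = (Nat.card G : ℂ)⁻¹ • ∑ g : G, (repMat ρ g)ᵀ * Aᵀ * repMat ρ g := by
  simp [fsT, mulLRt_apply, LinearMap.sum_apply]

theorem fsT_eq_fsP_transpose (A : Matrix (Fin n) (Fin n) ℂ) : fsT ρ A = fsP ρ Aᵀ := by
  rw [fsT_apply, fsP_apply]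

theorem fsP_transpose (A : Matrix (Fin n) (Fin n) ℂ) : fsP ρ Aᵀ = (fsP ρ A)ᵀ := by
  rw [fsP_apply, fsP_apply, Matrix.transpose_smul, Matrix.transpose_sum]
  refine congrArg (fun x => (Nat.card G : ℂ)⁻¹ • x) ?_
  refine Finset.sum_congr rfl fun g _ => ?_
  rw [Matrix.transpose_mul, Matrix.transpose_mul, Matrix.transpose_transpose, Matrix.mul_assoc]

theorem fsP_mem (A : Matrix (Fin n) (Fin n) ℂ) : fsP ρ A ∈ fsForms ρ := by
  intro h
  rw [fsP_apply, Matrix.mul_smul, Matrix.smul_mul, Finset.mul_sum, Finset.sum_mul]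
  refine congrArg (fun x => (Nat.card G : ℂ)⁻¹ • x) ?_
  refine Fintype.sum_bijective (· * h) (Group.mulRight_bijective h) _ _ fun g => ?_
  simp only [repMat_mul, Matrix.transpose_mul, Matrix.mul_assoc]

theorem card_ne_zero' : (Nat.card G : ℂ) ≠ 0 := by
  exact_mod_cast Nat.card_pos.ne'

theorem fsP_of_mem {M : Matrix (Fin n) (Fin n) ℂ} (hM : M ∈ fsForms ρ) : fsP ρ M = M := by
  rw [fsP_apply]
  have : ∑ g : G, (repMat ρ g)ᵀ * M * repMat ρ g = (Nat.card G : ℂ) • M := by
    rw [Finset.sum_congr rfl (fun g _ => hM g), Finset.sum_const, Finset.card_univ,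
      Nat.card_eq_fintype_card, Nat.cast_smul_eq_nsmul]
  rw [this, smul_smul, inv_mul_cancel₀ card_ne_zero', one_smul]

theorem fsP_isProj : LinearMap.IsProj (fsForms ρ) (fsP ρ) :=
  ⟨fsP_mem ρ, fun _ hM => fsP_of_mem ρ hM⟩

theorem trace_fsP :
    LinearMap.trace ℂ _ (fsP ρ) = (Nat.card G : ℂ)⁻¹ * ∑ g : G, ρ.character g * ρ.character g := by
  rw [fsP, map_smul, map_sum, smul_eq_mul]
  refine congrArg (fun x => (Nat.card G : ℂ)⁻¹ * x) ?_
  refine Finset.sum_congr rfl fun g _ => ?_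
  rw [trace_mulLR, Matrix.trace_transpose, character_eq_trace]

theorem trace_fsT :
    LinearMap.trace ℂ _ (fsT ρ) = (Nat.card G : ℂ)⁻¹ * ∑ g : G, ρ.character (g * g) := by
  rw [fsT, map_smul, map_sum, smul_eq_mul]
  refine congrArg (fun x => (Nat.card G : ℂ)⁻¹ * x) ?_
  refine Finset.sum_congr rfl fun g _ => ?_
  rw [trace_mulLRt, ← Matrix.transpose_mul, Matrix.trace_transpose, ← repMat_mul,
    character_eq_trace]

theorem finrank_fsForms :
    (Module.finrank ℂ (fsForms ρ) : ℂ) =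
      (Nat.card G : ℂ)⁻¹ * ∑ g : G, ρ.character g * ρ.character g := by
  rw [← trace_fsP, (fsP_isProj ρ).trace]

/-- If the space of invariant forms is one-dimensional, transposition acts on it by a sign
`c`, which is the Frobenius–Schur indicator. -/
theorem fs_of_finrank_eq_one (h1 : Module.finrank ℂ (fsForms ρ) = 1) :
    (∃ M₀ : Matrix (Fin n) (Fin n) ℂ, M₀ ≠ 0 ∧ M₀ ∈ fsForms ρ) ∧
    ∃ c : ℂ, (c = 1 ∨ c = -1) ∧ (∀ M ∈ fsForms ρ, Mᵀ = c • M) ∧
      (Nat.card G : ℂ)⁻¹ * ∑ g : G, ρ.character (g * g) = c := by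
  obtain ⟨v, hv, hspan⟩ := finrank_eq_one_iff'.mp h1
  have hv0 : (v : Matrix (Fin n) (Fin n) ℂ) ≠ 0 := fun h => hv (Subtype.ext h)
  refine ⟨⟨v, hv0, v.2⟩, ?_⟩
  obtain ⟨c, hc⟩ := hspan ⟨(v : Matrix (Fin n) (Fin n) ℂ)ᵀ, transpose_mem_fsForms ρ v.2⟩
  have hc' : (v : Matrix (Fin n) (Fin n) ℂ)ᵀ = c • (v : Matrix (Fin n) (Fin n) ℂ) := by
    have := congrArg Subtype.val hc
    simpa using this.symm
  have hall : ∀ M ∈ fsForms ρ, Mᵀ = c • M := by
    intro M hM
    obtain ⟨a, ha⟩ := hspan ⟨M, hM⟩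
    have ha' : M = a • (v : Matrix (Fin n) (Fin n) ℂ) := by
      have := congrArg Subtype.val ha
      simpa using this.symm
    rw [ha', Matrix.transpose_smul, hc', smul_comm]
  have hcc : c * c = 1 := by
    have h2 : (v : Matrix (Fin n) (Fin n) ℂ) = (c * c) • (v : Matrix (Fin n) (Fin n) ℂ) := by
      conv_lhs => rw [← Matrix.transpose_transpose (v : Matrix (Fin n) (Fin n) ℂ), hc',
        Matrix.transpose_smul, hc', smul_smul]
    by_contra hne
    apply hv0
    have h3 : (c * c - 1) • (v : Matrix (Fin n) (Fin n) ℂ) = 0 := by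
      rw [sub_smul, one_smul, ← h2, sub_self]
    rcases smul_eq_zero.mp h3 with h4 | h4
    · exact absurd (sub_eq_zero.mp h4) hne
    · exact h4
  refine ⟨c, ?_, hall, ?_⟩
  · have : (c - 1) * (c + 1) = 0 := by ring_nf; rw [pow_two, hcc]; ring
    rcases mul_eq_zero.mp this with h | h
    · left; exact sub_eq_zero.mp h
    · right; exact eq_neg_of_add_eq_zero_left h
  · have hT : fsT ρ = c • fsP ρ := by
      apply LinearMap.ext
      intro A
      rw [fsT_eq_fsP_transpose, fsP_transpose, LinearMap.smul_apply]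
      exact hall _ (fsP_mem ρ A)
    rw [← trace_fsT, hT, map_smul, (fsP_isProj ρ).trace, h1]
    simp

/-- If there are no invariant forms, the Frobenius–Schur indicator vanishes. -/
theorem fs_of_fsForms_eq_bot (h0 : fsForms ρ = ⊥) :
    (Nat.card G : ℂ)⁻¹ * ∑ g : G, ρ.character (g * g) = 0 := by
  rw [← trace_fsT]
  have hT : fsT ρ = 0 := by
    apply LinearMap.ext
    intro A
    have := fsP_mem ρ Aᵀ
    rw [h0, Submodule.mem_bot] at this
    rw [fsT_eq_fsP_transpose, this]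
    rfl
  rw [hT, map_zero]

end Forms

section Irr

variable {G : Type u} [Group G] {n : ℕ} (ρ : Representation ℂ G (Fin n → ℂ))

/-- A nonzero invariant bilinear form of an irreducible representation is nondegenerate. -/
theorem isUnit_of_mem_fsForms (hρ : ρ.IsIrreducible) {M : Matrix (Fin n) (Fin n) ℂ}
    (hM : M ∈ fsForms ρ) (hM0 : M ≠ 0) : IsUnit M := by
  let K : Subrepresentation ρ :=
    { toSubmodule := LinearMap.ker (Matrix.toLin' M)
      apply_mem_toSubmodule := by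
        intro g v hv
        rw [LinearMap.mem_ker] at hv ⊢
        rw [← toLin'_repMat, ← LinearMap.comp_apply, ← Matrix.toLin'_mul,
          fsForms_mul_repMat ρ hM g, Matrix.toLin'_mul, LinearMap.comp_apply, hv, map_zero] }
  have := hρ
  rcases eq_bot_or_eq_top K with h | h
  · have hker : LinearMap.ker (Matrix.toLin' M) = ⊥ :=
      congrArg Subrepresentation.toSubmodule h
    rw [← Matrix.mulVec_injective_iff_isUnit]
    have hinj : Function.Injective (Matrix.toLin' M) := LinearMap.ker_eq_bot.mp hker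
    intro v w hvw
    exact hinj (by simpa [Matrix.toLin'_apply] using hvw)
  · exfalso
    apply hM0
    have hker : LinearMap.ker (Matrix.toLin' M) = ⊤ :=
      congrArg Subrepresentation.toSubmodule h
    have h0 : Matrix.toLin' M = 0 := LinearMap.ker_eq_top.mp hker
    exact Matrix.toLin'.injective (by rw [h0, map_zero])

/-- If an irreducible representation has a nonzero invariant bilinear form, its character
satisfies `χ(g⁻¹) = χ(g)`. -/
theorem char_inv_of_mem_fsForms (hρ : ρ.IsIrreducible) {M : Matrix (Fin n) (Fin n) ℂ}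
    (hM : M ∈ fsForms ρ) (hM0 : M ≠ 0) (g : G) : ρ.character g⁻¹ = ρ.character g := by
  obtain ⟨u, hu⟩ := isUnit_of_mem_fsForms ρ hρ hM hM0
  have h1 := fsForms_mul_repMat ρ hM g
  -- `(X g⁻¹)ᵀ = M * X g * M⁻¹`
  have h2 : (repMat ρ g⁻¹)ᵀ = M * repMat ρ g * (↑u⁻¹ : Matrix (Fin n) (Fin n) ℂ) := by
    rw [h1, Matrix.mul_assoc, ← hu]
    simp
  rw [character_eq_trace, character_eq_trace, ← Matrix.trace_transpose, h2,
    Matrix.trace_mul_cycle, ← hu]
  simp

variable [Fintype G]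

/-- For an irreducible representation with real-valued character the space of invariant
bilinear forms is one-dimensional. -/
theorem finrank_fsForms_of_real (hρ : ρ.IsIrreducible)
    (hreal : ∀ g : G, conj (ρ.character g) = ρ.character g) :
    Module.finrank ℂ (fsForms ρ) = 1 := by
  have h1 := finrank_fsForms ρ
  have h2 := irr_orthogonality' (⟨ρ.character, n, ρ, hρ, rfl⟩ : IrrCharacter G)
    ⟨ρ.character, n, ρ, hρ, rfl⟩
  simp only [if_true] at h2
  have h3 : ∑ g : G, ρ.character g * ρ.character g = (Nat.card G : ℂ) := by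
    rw [← h2]
    refine Finset.sum_congr rfl fun g _ => ?_
    rw [hreal g]
  rw [h3, inv_mul_cancel₀ card_ne_zero'] at h1
  exact_mod_cast h1

/-- **Frobenius–Schur**: for an irreducible representation, either there is no nonzero
invariant bilinear form and the indicator is `0`, or the character is real-valued, the
invariant forms are a line on which transposition acts by the indicator `c = ±1`. -/
theorem fs_trichotomy (hρ : ρ.IsIrreducible) :
    (fsForms ρ = ⊥ ∧ (Nat.card G : ℂ)⁻¹ * ∑ g : G, ρ.character (g * g) = 0) ∨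
    ((∀ g : G, conj (ρ.character g) = ρ.character g) ∧
      (∃ M₀ : Matrix (Fin n) (Fin n) ℂ, M₀ ≠ 0 ∧ M₀ ∈ fsForms ρ) ∧
      ∃ c : ℂ, (c = 1 ∨ c = -1) ∧ (∀ M ∈ fsForms ρ, Mᵀ = c • M) ∧
        (Nat.card G : ℂ)⁻¹ * ∑ g : G, ρ.character (g * g) = c) := by
  by_cases h0 : fsForms ρ = ⊥
  · exact Or.inl ⟨h0, fs_of_fsForms_eq_bot ρ h0⟩
  · right
    obtain ⟨M, hM, hM0⟩ := (Submodule.ne_bot_iff _).mp h0
    have hreal : ∀ g : G, conj (ρ.character g) = ρ.character g := by
      intro g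
      rw [← character_inv ρ g]
      exact char_inv_of_mem_fsForms ρ hρ hM hM0 g
    exact ⟨hreal, fs_of_finrank_eq_one ρ (finrank_fsForms_of_real ρ hρ hreal)⟩

/-- The Frobenius–Schur indicator of an irreducible representation is `0`, `1` or `-1`. -/
theorem fs_indicator_values (hρ : ρ.IsIrreducible) :
    (Nat.card G : ℂ)⁻¹ * ∑ g : G, ρ.character (g * g) = 0 ∨
    (Nat.card G : ℂ)⁻¹ * ∑ g : G, ρ.character (g * g) = 1 ∨
    (Nat.card G : ℂ)⁻¹ * ∑ g : G, ρ.character (g * g) = -1 := by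
  rcases fs_trichotomy ρ hρ with ⟨-, h⟩ | ⟨-, -, c, hc, -, h⟩
  · exact Or.inl h
  · rcases hc with rfl | rfl
    · exact Or.inr (Or.inl h)
    · exact Or.inr (Or.inr h)

/-- A nonzero Frobenius–Schur indicator forces a real-valued character. -/
theorem fs_real_of_indicator_ne_zero (hρ : ρ.IsIrreducible)
    (h : (Nat.card G : ℂ)⁻¹ * ∑ g : G, ρ.character (g * g) ≠ 0) :
    ∀ g : G, conj (ρ.character g) = ρ.character g := by
  rcases fs_trichotomy ρ hρ with ⟨-, h0⟩ | ⟨hreal, -⟩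
  · exact absurd h0 h
  · exact hreal

/-- A real-valued irreducible character has indicator `±1`, and every invariant bilinear form
`M` satisfies `Mᵀ = ν • M`. -/
theorem fs_of_real (hρ : ρ.IsIrreducible)
    (hreal : ∀ g : G, conj (ρ.character g) = ρ.character g) :
    (∃ M₀ : Matrix (Fin n) (Fin n) ℂ, M₀ ≠ 0 ∧ M₀ ∈ fsForms ρ) ∧
    ((Nat.card G : ℂ)⁻¹ * ∑ g : G, ρ.character (g * g) = 1 ∨
      (Nat.card G : ℂ)⁻¹ * ∑ g : G, ρ.character (g * g) = -1) ∧
    ∀ M ∈ fsForms ρ, Mᵀ = ((Nat.card G : ℂ)⁻¹ * ∑ g : G, ρ.character (g * g)) • M := by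
  obtain ⟨hex, c, hc, hall, hν⟩ := fs_of_finrank_eq_one ρ (finrank_fsForms_of_real ρ hρ hreal)
  rw [hν]
  exact ⟨hex, hc, hall⟩

/-- If the indicator of an irreducible representation is `-1`, its degree is even. -/
theorem fs_even_of_indicator_neg_one (hρ : ρ.IsIrreducible)
    (h : (Nat.card G : ℂ)⁻¹ * ∑ g : G, ρ.character (g * g) = -1) : Even n := by
  have hreal := fs_real_of_indicator_ne_zero ρ hρ (by rw [h]; norm_num)
  obtain ⟨⟨M₀, hM0, hM⟩, -, hall⟩ := fs_of_real ρ hρ hreal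
  have hT : M₀ᵀ = -M₀ := by
    rw [hall M₀ hM, h]
    simp
  have hu := isUnit_of_mem_fsForms ρ hρ hM hM0
  have hdet : M₀.det ≠ 0 := by
    rw [Matrix.isUnit_iff_isUnit_det] at hu
    exact hu.ne_zero
  have h1 : M₀.det = (-1) ^ n * M₀.det := by
    conv_lhs => rw [← Matrix.det_transpose, hT, Matrix.det_neg, Fintype.card_fin]
  have h2 : ((-1 : ℂ)) ^ n = 1 := by
    have : (1 - (-1 : ℂ) ^ n) * M₀.det = 0 := by rw [sub_mul, one_mul, ← h1, sub_self]
    rcases mul_eq_zero.mp this with h3 | h3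
    · exact (sub_eq_zero.mp h3).symm
    · exact absurd h3 hdet
  by_contra hodd
  rw [Nat.not_even_iff_odd] at hodd
  rw [hodd.neg_one_pow] at h2
  norm_num at h2

end Irr

end Cfsg.Agent.Lib.helper78
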