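import Mathlib
import Cfsg.Prelude.Def_Blocks
import Cfsg.Agent.Lib.helper83.CharBasic
import Cfsg.Agent.Lib.helper83.CharBasic2
import Cfsg.Agent.Lib.helper78.FrobSchur

/-!
# Frobenius–Schur count of square roots (helper78)
-/

set_option autoImplicit false

namespace Cfsg.Agent.Lib.helper78

open scoped ComplexConjugate Matrix
open Cfsg.Agent.Lib.helper83

universe u

section Count

variable {G : Type u} [Group G] [Fintype G]

/-- The number of square roots of `h`, as a complex number. -/
noncomputable def sqrtCount (h : G) : ℂ := by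
  classical exact ∑ s : G, if s * s = h then (1 : ℂ) else 0

theorem sqrtCount_eq_card (h : G) : sqrtCount h = (Nat.card {s : G // s * s = h} : ℂ) := by
  classical
  unfold sqrtCount
  rw [Finset.sum_boole, Nat.card_eq_fintype_card, Fintype.card_subtype]

theorem sqrtCount_isClassFunction : IsClassFunction G (sqrtCount (G := G)) := by
  classical
  intro h y
  unfold sqrtCount
  refine Fintype.sum_bijective (fun s => y⁻¹ * s * y) ?_ _ _ fun s => ?_
  · exact ⟨fun a b hab => by simpa using hab, fun b => ⟨y * b * y⁻¹, by group⟩⟩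
  · have : s * s = y * h * y⁻¹ ↔ y⁻¹ * s * y * (y⁻¹ * s * y) = h := by
      constructor
      · intro hs
        have : y⁻¹ * s * y * (y⁻¹ * s * y) = y⁻¹ * (s * s) * y := by group
        rw [this, hs]; group
      · intro hs
        have : s * s = y * (y⁻¹ * s * y * (y⁻¹ * s * y)) * y⁻¹ := by group
        rw [this, hs]
    rw [if_congr this rfl rfl]

theorem sum_sqrtCount_mul (c : G → ℂ) : ∑ x : G, sqrtCount x * c x = ∑ s : G, c (s * s) := by
  classical
  unfold sqrtCount
  simp_rw [Finset.sum_mul]
  rw [Finset.sum_comm]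
  refine Finset.sum_congr rfl fun s _ => ?_
  simp

/-- **Frobenius–Schur count**: the number of solutions of `s * s = 1` is the sum of
indicator times degree over the irreducible characters. -/
theorem fs_count [Fintype (IrrCharacter G)] :
    (Nat.card {s : G // s * s = 1} : ℂ) =
      ∑ χ : IrrCharacter G, ((Nat.card G : ℂ)⁻¹ * ∑ s : G, (χ : G → ℂ) (s * s)) * (χ : G → ℂ) 1 := by
  rw [← sqrtCount_eq_card, classFunction_expansion sqrtCount sqrtCount_isClassFunction 1]
  refine Finset.sum_congr rfl fun χ _ => ?_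
  rw [sum_sqrtCount_mul (fun x => conj ((χ : G → ℂ) x))]
  have : ∑ s : G, conj ((χ : G → ℂ) (s * s)) = ∑ s : G, (χ : G → ℂ) (s * s) := by
    simp_rw [← irr_inv]
    refine Fintype.sum_bijective (fun s => s⁻¹) (Equiv.inv G).bijective _ _ fun s => ?_
    simp
  rw [this]

/-- The Frobenius–Schur indicator of an irreducible character is an integer `0`, `1` or `-1`,
and if it is nonzero the character is real-valued. -/
theorem irr_fs_indicator (χ : IrrCharacter G) :
    ∃ e : ℤ, (e = 0 ∨ e = 1 ∨ e = -1) ∧
      (Nat.card G : ℂ)⁻¹ * ∑ s : G, (χ : G → ℂ) (s * s) = (e : ℂ) ∧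
      (e ≠ 0 → ∀ g : G, ((χ : G → ℂ) g).im = 0) := by
  obtain ⟨n, ρ, hρ, h⟩ := χ.2
  rw [← h]
  rcases fs_trichotomy ρ hρ with ⟨-, h0⟩ | ⟨hreal, -, c, hc, -, hν⟩
  · exact ⟨0, Or.inl rfl, by rw [h0]; simp, fun h => absurd rfl h⟩
  · have hreal' : ∀ g : G, (ρ.character g).im = 0 := fun g =>
      Complex.conj_eq_iff_im.mp (hreal g)
    rcases hc with rfl | rfl
    · exact ⟨1, Or.inr (Or.inl rfl), by rw [hν]; simp, fun _ => hreal'⟩
    · exact ⟨-1, Or.inr (Or.inr rfl), by rw [hν]; simp, fun _ => hreal'⟩

/-- The solutions of `s * s = 1` are the identity and the involutions. -/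
theorem card_sq_eq_one :
    Nat.card {s : G // s * s = 1} = 1 + Nat.card {x : G // orderOf x = 2} := by
  classical
  rw [Nat.card_eq_fintype_card, Nat.card_eq_fintype_card, Fintype.card_subtype,
    Fintype.card_subtype]
  have h1 : (Finset.univ.filter fun s : G => s * s = 1) =
      insert 1 (Finset.univ.filter fun x : G => orderOf x = 2) := by
    ext s
    simp only [Finset.mem_filter, Finset.mem_univ, true_and, Finset.mem_insert]
    rw [orderOf_eq_prime_iff (p := 2), pow_two]
    constructor
    · intro hs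
      by_cases h : s = 1
      · exact Or.inl h
      · exact Or.inr ⟨hs, h⟩
    · rintro (rfl | ⟨hs, -⟩)
      · simp
      · exact hs
  rw [h1, Finset.card_insert_of_notMem, add_comm]
  simp

end Count

end Cfsg.Agent.Lib.helper78
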