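import Mathlib

set_option autoImplicit false

namespace Cfsg.Agent.Lib.helper78

open Subgroup
open scoped commutatorElement

section SelfCent

variable {G : Type*} [Group G] [Finite G] {p : ℕ} {x : G}

/-- If `x` has prime order `p` and `C_G(x) = ⟨x⟩`, then every `p`-subgroup containing `x`
is `⟨x⟩`. -/
theorem sc_pgroup_le (hp : p.Prime) (hx : orderOf x = p)
    (hC : centralizer ({x} : Set G) = zpowers x) (P : Subgroup G) (hP : IsPGroup p P)
    (hxP : x ∈ P) : P = zpowers x := by
  have : Fact p.Prime := ⟨hp⟩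
  have hx1 : x ≠ 1 := by
    rintro rfl
    rw [orderOf_one] at hx
    exact hp.one_lt.ne' hx.symm
  have : Nontrivial P := ⟨⟨⟨x, hxP⟩, 1, fun h => hx1 (by simpa using congrArg Subtype.val h)⟩⟩
  have := hP.center_nontrivial
  obtain ⟨z, hz⟩ := exists_ne (1 : center P)
  have hzc : ∀ y : P, y * (z : P) = (z : P) * y := fun y => (mem_center_iff.mp z.2 y)
  -- z commutes with x so z ∈ zpowers x
  have hzx : ((z : P) : G) ∈ zpowers x := by
    rw [← hC, mem_centralizer_singleton_iff]
    have := hzc ⟨x, hxP⟩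
    have h2 := congrArg Subtype.val this
    simpa using h2.symm
  have hz1 : ((z : P) : G) ≠ 1 := by
    intro h
    apply hz
    ext
    simpa using h
  -- zpowers z = zpowers x since zpowers x has prime order
  have hzz : zpowers ((z : P) : G) = zpowers x := by
    have hle : zpowers ((z : P) : G) ≤ zpowers x := by
      rw [zpowers_le]; exact hzx
    have hcard : Nat.card (zpowers x) = p := by rw [Nat.card_zpowers, hx]
    have hdvd := Subgroup.card_dvd_of_le hle
    rw [hcard] at hdvd
    rcases (Nat.dvd_prime hp).mp hdvd with h1 | h1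
    · exfalso
      rw [Nat.card_zpowers, orderOf_eq_one_iff] at h1
      exact hz1 h1
    · exact Subgroup.eq_of_le_of_card_ge hle (by rw [h1, hcard])
  have hxz : x ∈ zpowers ((z : P) : G) := by rw [hzz]; exact mem_zpowers x
  obtain ⟨k, hk⟩ := mem_zpowers_iff.mp hxz
  apply le_antisymm
  · intro y hy
    rw [← hC, mem_centralizer_singleton_iff, ← hk]
    have h1 := hzc ⟨y, hy⟩
    have h2 : y * ((z : P) : G) = ((z : P) : G) * y := by
      have := congrArg Subtype.val h1
      simpa using this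
    exact ((Commute.zpow_right (show Commute y ((z : P) : G) from h2) k)).eq
  · rw [zpowers_le]; exact hxP

theorem sc_ne_one (hp : p.Prime) (hx : orderOf x = p) : x ≠ 1 := by
  rintro rfl
  rw [orderOf_one] at hx
  exact hp.one_lt.ne' hx.symm

theorem sc_card_zpowers (hx : orderOf x = p) : Nat.card (zpowers x) = p := by
  rw [Nat.card_zpowers, hx]

theorem sc_isPGroup_zpowers (hx : orderOf x = p) : IsPGroup p (zpowers x) :=
  IsPGroup.of_card (n := 1) (by rw [sc_card_zpowers hx, pow_one])

/-- `⟨x⟩` is a Sylow `p`-subgroup. -/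
theorem sc_exists_sylow (hp : p.Prime) (hx : orderOf x = p)
    (hC : centralizer ({x} : Set G) = zpowers x) :
    ∃ P : Sylow p G, (P : Subgroup G) = zpowers x := by
  obtain ⟨Q, hQ⟩ := (sc_isPGroup_zpowers hx).exists_le_sylow
  exact ⟨Q, sc_pgroup_le hp hx hC Q Q.isPGroup' (hQ (mem_zpowers x))⟩

/-- Every Sylow `p`-subgroup has order `p`. -/
theorem sc_card_sylow (hp : p.Prime) (hx : orderOf x = p)
    (hC : centralizer ({x} : Set G) = zpowers x) (Q : Sylow p G) :
    Nat.card (Q : Subgroup G) = p := by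
  have : Fact p.Prime := ⟨hp⟩
  obtain ⟨P, hP⟩ := sc_exists_sylow hp hx hC
  rw [Sylow.card_eq_multiplicity, ← Sylow.card_eq_multiplicity P, hP, sc_card_zpowers hx]

/-- The subgroups of order `p` are exactly the Sylow `p`-subgroups. -/
theorem sc_card_subgroups (hp : p.Prime) (hx : orderOf x = p)
    (hC : centralizer ({x} : Set G) = zpowers x) :
    Nat.card {H : Subgroup G // Nat.card H = p} = Nat.card (Sylow p G) := by
  have : Fact p.Prime := ⟨hp⟩
  refine Nat.card_congr (Equiv.ofBijective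
    (fun Q : Sylow p G => (⟨(Q : Subgroup G), sc_card_sylow hp hx hC Q⟩ :
      {H : Subgroup G // Nat.card H = p})) ⟨?_, ?_⟩).symm
  · intro Q₁ Q₂ h
    exact Sylow.ext (by simpa using congrArg Subtype.val h)
  · rintro ⟨H, hH⟩
    have hHp : IsPGroup p H := IsPGroup.of_card (n := 1) (by rw [hH, pow_one])
    obtain ⟨Q, hQ⟩ := hHp.exists_le_sylow
    refine ⟨Q, Subtype.ext ?_⟩
    exact (Subgroup.eq_of_le_of_card_ge hQ (by rw [hH, sc_card_sylow hp hx hC Q])).symm

theorem sc_card_subgroups_eq_index (hp : p.Prime) (hx : orderOf x = p)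
    (hC : centralizer ({x} : Set G) = zpowers x) :
    Nat.card {H : Subgroup G // Nat.card H = p} = (normalizer ((zpowers x : Subgroup G) : Set G)).index := by
  have : Fact p.Prime := ⟨hp⟩
  obtain ⟨P, hP⟩ := sc_exists_sylow hp hx hC
  rw [sc_card_subgroups hp hx hC, Sylow.card_eq_index_normalizer P]
  show (normalizer ((P : Subgroup G) : Set G)).index = _
  rw [hP]

/-- A subgroup of order prime to `p` meets `⟨x⟩` trivially. -/
theorem sc_inf_zpowers (hp : p.Prime) (hx : orderOf x = p) (S : Subgroup G)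
    (hS : ¬ p ∣ Nat.card S) : S ⊓ zpowers x = ⊥ := by
  have h1 : Nat.card (S ⊓ zpowers x : Subgroup G) ∣ Nat.card S := Subgroup.card_dvd_of_le inf_le_left
  have h2 : Nat.card (S ⊓ zpowers x : Subgroup G) ∣ p := by
    have := Subgroup.card_dvd_of_le (inf_le_right : S ⊓ zpowers x ≤ zpowers x)
    rwa [sc_card_zpowers hx] at this
  rcases (Nat.dvd_prime hp).mp h2 with h | h
  · exact Subgroup.card_eq_one.mp h
  · exact absurd (h ▸ h1) hS

/-- A normal subgroup of order prime to `p` meets the normalizer of `⟨x⟩` trivially. -/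
theorem sc_inf_normalizer (hp : p.Prime) (hx : orderOf x = p)
    (hC : centralizer ({x} : Set G) = zpowers x) (S : Subgroup G) [S.Normal]
    (hS : ¬ p ∣ Nat.card S) : S ⊓ normalizer ((zpowers x : Subgroup G) : Set G) = ⊥ := by
  have hbot := sc_inf_zpowers hp hx S hS
  rw [eq_bot_iff]
  rintro s ⟨hsS, hsN⟩
  have hsS : s ∈ S := hsS
  have hsN : s ∈ normalizer ((zpowers x : Subgroup G) : Set G) := hsN
  have hsN' : s * x * s⁻¹ ∈ zpowers x := by
    have := (mem_normalizer_iff.mp hsN x).mp (mem_zpowers x)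
    exact this
  have h1 : s * x * s⁻¹ * x⁻¹ ∈ S ⊓ zpowers x := by
    refine ⟨?_, (zpowers x).mul_mem hsN' ((zpowers x).inv_mem (mem_zpowers x))⟩
    have : s * x * s⁻¹ * x⁻¹ = s * (x * s⁻¹ * x⁻¹) := by group
    rw [this]
    exact S.mul_mem hsS (Normal.conj_mem inferInstance _ (S.inv_mem hsS) x)
  rw [hbot, mem_bot] at h1
  have h2 : s ∈ S ⊓ zpowers x := by
    refine ⟨hsS, ?_⟩
    show s ∈ zpowers x
    rw [← hC, mem_centralizer_singleton_iff]
    have : s * x * s⁻¹ = x := by
      have := congrArg (· * x) h1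
      simpa using this
    calc s * x = s * x * s⁻¹ * s := by group
      _ = x * s := by rw [this]
  rw [hbot] at h2
  exact h2

/-- The order of a normal `p'`-subgroup divides the number of subgroups of order `p`. -/
theorem sc_card_dvd_index (hp : p.Prime) (hx : orderOf x = p)
    (hC : centralizer ({x} : Set G) = zpowers x) (S : Subgroup G) [S.Normal]
    (hS : ¬ p ∣ Nat.card S) :
    Nat.card S ∣ (normalizer ((zpowers x : Subgroup G) : Set G)).index := by
  set N := normalizer ((zpowers x : Subgroup G) : Set G) with hN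
  have hbot : S ⊓ N = ⊥ := sc_inf_normalizer hp hx hC S hS
  have h1 : S.relIndex (S ⊔ N) * (S ⊔ N).index = S.index := relIndex_mul_index le_sup_left
  have h2 : S.relIndex (S ⊔ N) = Nat.card N := by
    rw [relIndex_sup_left, ← inf_relIndex_right, hbot, relIndex_bot_left]
  rw [h2] at h1
  have h3 : Nat.card S * S.index = Nat.card G := S.card_mul_index
  have h4 : Nat.card N * N.index = Nat.card G := N.card_mul_index
  have hNpos : 0 < Nat.card N := Nat.card_pos
  refine ⟨(S ⊔ N).index, ?_⟩
  apply Nat.eq_of_mul_eq_mul_left hNpos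
  rw [h4, ← h3, ← h1]
  ring

/-- Every element of a normal `p'`-subgroup `S` is a commutator `x⁻¹ u x u⁻¹` with `u ∈ S`. -/
theorem sc_exists_comm (hp : p.Prime) (hx : orderOf x = p)
    (hC : centralizer ({x} : Set G) = zpowers x) (S : Subgroup G) [hSn : S.Normal]
    (hS : ¬ p ∣ Nat.card S) (s : G) (hs : s ∈ S) : ∃ u ∈ S, x⁻¹ * u * x * u⁻¹ = s := by
  have hbot := sc_inf_zpowers hp hx S hS
  let f : S → S := fun u => ⟨x⁻¹ * u * x * (u : G)⁻¹,
    S.mul_mem (by have := hSn.conj_mem u u.2 x⁻¹; simpa using this) (S.inv_mem u.2)⟩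
  have hinj : Function.Injective f := by
    intro u v h
    have h1 : x⁻¹ * u * x * (u : G)⁻¹ = x⁻¹ * v * x * (v : G)⁻¹ := congrArg Subtype.val h
    have h2 : (v : G)⁻¹ * u ∈ S ⊓ zpowers x := by
      refine ⟨S.mul_mem (S.inv_mem v.2) u.2, ?_⟩
      show (v : G)⁻¹ * u ∈ zpowers x
      rw [← hC, mem_centralizer_singleton_iff]
      have h3 : (u : G) * x * (u : G)⁻¹ = v * x * (v : G)⁻¹ := by
        have := congrArg (x * ·) h1
        simpa [mul_assoc] using this
      calc (v : G)⁻¹ * u * x = (v : G)⁻¹ * (u * x * (u : G)⁻¹) * u := by group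
        _ = (v : G)⁻¹ * (v * x * (v : G)⁻¹) * u := by rw [h3]
        _ = x * ((v : G)⁻¹ * u) := by group
    rw [hbot, mem_bot] at h2
    ext
    exact (inv_mul_eq_one.mp h2).symm
  have hsurj := Finite.surjective_of_injective hinj
  obtain ⟨u, hu⟩ := hsurj ⟨s, hs⟩
  exact ⟨u, u.2, congrArg Subtype.val hu⟩

/-- A normal `p'`-subgroup lies in the commutator subgroup. -/
theorem sc_le_commutator (hp : p.Prime) (hx : orderOf x = p)
    (hC : centralizer ({x} : Set G) = zpowers x) (S : Subgroup G) [hSn : S.Normal]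
    (hS : ¬ p ∣ Nat.card S) : S ≤ commutator G := by
  intro s hs
  obtain ⟨u, -, hu⟩ := sc_exists_comm hp hx hC S hS s hs
  rw [← hu, commutator_def]
  have : x⁻¹ * u * x * u⁻¹ = ⁅x⁻¹, u⁆ := by rw [commutatorElement_def]; group
  rw [this]
  exact Subgroup.commutator_mem_commutator (mem_top _) (mem_top _)

/-- The order of a normal `p'`-subgroup is congruent to `1` modulo `p`. -/
theorem sc_card_mod (hp : p.Prime) (hx : orderOf x = p)
    (hC : centralizer ({x} : Set G) = zpowers x) (S : Subgroup G) [hSn : S.Normal]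
    (hS : ¬ p ∣ Nat.card S) : Nat.card S % p = 1 := by
  have : Fact p.Prime := ⟨hp⟩
  have hbot := sc_inf_zpowers hp hx S hS
  let _ : MulAction (zpowers x) S :=
    MulAction.compHom S ((MulAut.conjNormal (H := S)).comp (zpowers x).subtype)
  have hsmul : ∀ (g : zpowers x) (s : S), ((g • s : S) : G) = g * s * (g : G)⁻¹ := fun g s => rfl
  have h := (sc_isPGroup_zpowers hx).card_modEq_card_fixedPoints S
  have hfix : MulAction.fixedPoints (zpowers x) S = {1} := by
    ext s
    simp only [MulAction.mem_fixedPoints, Set.mem_singleton_iff]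
    constructor
    · intro h
      have h1 := congrArg Subtype.val (h ⟨x, mem_zpowers x⟩)
      rw [hsmul] at h1
      have h2 : (s : G) ∈ S ⊓ zpowers x := by
        refine ⟨s.2, ?_⟩
        show (s : G) ∈ zpowers x
        rw [← hC, mem_centralizer_singleton_iff]
        calc (s : G) * x = (x * s * x⁻¹) * x := by rw [h1]
          _ = x * s := by group
      rw [hbot, mem_bot] at h2
      ext
      exact h2
    · rintro rfl g
      ext
      rw [hsmul]
      simp
  rw [hfix] at h
  have h' : Nat.card S % p = 1 % p := by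
    have := h
    simpa [Nat.ModEq, Nat.card_eq_fintype_card] using this
  rwa [Nat.mod_eq_of_lt hp.one_lt] at h'

/-- The image of `x` in the quotient by a normal `p'`-subgroup still has order `p`. -/
theorem sc_orderOf_mk (hp : p.Prime) (hx : orderOf x = p) (S : Subgroup G) [S.Normal]
    (hS : ¬ p ∣ Nat.card S) : orderOf (QuotientGroup.mk x : G ⧸ S) = p := by
  have h1 : orderOf (QuotientGroup.mk x : G ⧸ S) ∣ p := by
    rw [← hx]
    apply orderOf_dvd_of_pow_eq_one
    rw [← QuotientGroup.mk_pow, pow_orderOf_eq_one]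
    rfl
  rcases (Nat.dvd_prime hp).mp h1 with h | h
  · exfalso
    rw [orderOf_eq_one_iff, QuotientGroup.eq_one_iff] at h
    apply hS
    have h2 : orderOf (⟨x, h⟩ : S) ∣ Nat.card S := orderOf_dvd_natCard _
    rwa [← Subgroup.orderOf_coe, hx] at h2
  · exact h

/-- The image of `x` in the quotient by a normal `p'`-subgroup is still self-centralizing. -/
theorem sc_centralizer_mk (hp : p.Prime) (hx : orderOf x = p)
    (hC : centralizer ({x} : Set G) = zpowers x) (S : Subgroup G) [S.Normal]
    (hS : ¬ p ∣ Nat.card S) :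
    centralizer ({(QuotientGroup.mk x : G ⧸ S)} : Set (G ⧸ S)) =
      zpowers (QuotientGroup.mk x : G ⧸ S) := by
  apply le_antisymm
  · intro gbar hg
    obtain ⟨g, rfl⟩ := QuotientGroup.mk_surjective gbar
    rw [mem_centralizer_singleton_iff] at hg
    have hs : x⁻¹ * g * x * g⁻¹ ∈ S := by
      rw [← QuotientGroup.eq_one_iff]
      simp only [QuotientGroup.mk_mul, QuotientGroup.mk_inv]
      have hg' : ((x : G ⧸ S))⁻¹ * (g : G ⧸ S) * (x : G ⧸ S) * ((g : G ⧸ S))⁻¹ =
          ((x : G ⧸ S))⁻¹ * ((g : G ⧸ S) * (x : G ⧸ S)) * ((g : G ⧸ S))⁻¹ := by group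
      rw [hg', hg]
      group
    obtain ⟨u, huS, hu⟩ := sc_exists_comm hp hx hC S hS _ hs
    have h3 : u⁻¹ * g ∈ zpowers x := by
      rw [← hC, mem_centralizer_singleton_iff]
      have h4 : u * x * u⁻¹ = g * x * g⁻¹ := by
        have := congrArg (x * ·) hu
        simpa [mul_assoc] using this
      calc u⁻¹ * g * x = u⁻¹ * (g * x * g⁻¹) * g := by group
        _ = u⁻¹ * (u * x * u⁻¹) * g := by rw [h4]
        _ = x * (u⁻¹ * g) := by group
    obtain ⟨k, hk⟩ := mem_zpowers_iff.mp h3
    rw [mem_zpowers_iff]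
    refine ⟨k, ?_⟩
    rw [← QuotientGroup.mk_zpow, hk, QuotientGroup.mk_mul, QuotientGroup.mk_inv,
      (QuotientGroup.eq_one_iff u).mpr huS]
    simp
  · rw [zpowers_le, mem_centralizer_singleton_iff]

/-- Commutators of elements normalizing `⟨x⟩` lie in `C_G(x) = ⟨x⟩`. -/
theorem sc_comm_normalizer (hC : centralizer ({x} : Set G) = zpowers x) (n n' : G)
    (hn : n ∈ normalizer ((zpowers x : Subgroup G) : Set G))
    (hn' : n' ∈ normalizer ((zpowers x : Subgroup G) : Set G)) :
    ⁅n, n'⁆ ∈ zpowers x := by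
  have hH : IsCyclic (zpowers x) := inferInstance
  let _ := (hH.mulAutMulEquiv _).toMonoidHom.commGroupOfInjective (hH.mulAutMulEquiv _).injective
  have h := Abelianization.commutator_subset_ker (zpowers x).normalizerMonoidHom
  rw [Subgroup.normalizerMonoidHom_ker] at h
  have h1 : ⁅(⟨n, hn⟩ : normalizer ((zpowers x : Subgroup G) : Set G)), ⟨n', hn'⟩⁆ ∈
      commutator (normalizer ((zpowers x : Subgroup G) : Set G)) := by
    rw [commutator_def]
    exact Subgroup.commutator_mem_commutator (mem_top _) (mem_top _)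
  have h2 := h h1
  rw [mem_subgroupOf] at h2
  have h3 : centralizer ((zpowers x : Subgroup G) : Set G) ≤ centralizer ({x} : Set G) :=
    centralizer_le (by simp)
  rw [← hC]
  exact h3 h2

/-- Any subgroup of order `p` is conjugate to `⟨x⟩`; in particular a normal subgroup of order
divisible by `p` contains `x`. -/
theorem sc_mem_of_dvd (hp : p.Prime) (hx : orderOf x = p)
    (hC : centralizer ({x} : Set G) = zpowers x) (S : Subgroup G) [hSn : S.Normal]
    (hS : p ∣ Nat.card S) : x ∈ S := by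
  have : Fact p.Prime := ⟨hp⟩
  obtain ⟨P, hP⟩ := sc_exists_sylow hp hx hC
  obtain ⟨y, hy⟩ := exists_prime_orderOf_dvd_card' p hS
  have hy' : orderOf (y : G) = p := by rw [Subgroup.orderOf_coe]; exact hy
  obtain ⟨R, hR⟩ := (sc_isPGroup_zpowers hy').exists_le_sylow
  have hRe : (R : Subgroup G) = zpowers (y : G) :=
    (Subgroup.eq_of_le_of_card_ge hR (by rw [sc_card_sylow hp hx hC R, sc_card_zpowers hy'])).symm
  obtain ⟨g, hg⟩ := MulAction.exists_smul_eq G P R
  have h1 : g * x * g⁻¹ ∈ (R : Subgroup G) := by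
    rw [← hg, Sylow.coe_subgroup_smul, Subgroup.mem_pointwise_smul_iff_inv_smul_mem]
    simp only [MulAut.smul_def, MulAut.inv_apply, MulAut.conj_symm_apply]
    rw [hP]
    simp [mul_assoc]
  rw [hRe] at h1
  have h2 : g * x * g⁻¹ ∈ S := (zpowers_le.mpr y.2) h1
  have := hSn.conj_mem _ h2 g⁻¹
  simpa [mul_assoc] using this

/-- A normal subgroup of order divisible by `p` contains the commutator subgroup. -/
theorem sc_commutator_le (hp : p.Prime) (hx : orderOf x = p)
    (hC : centralizer ({x} : Set G) = zpowers x) (S : Subgroup G) [hSn : S.Normal]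
    (hS : p ∣ Nat.card S) : commutator G ≤ S := by
  have : Fact p.Prime := ⟨hp⟩
  obtain ⟨P, hP⟩ := sc_exists_sylow hp hx hC
  have hxS : x ∈ S := sc_mem_of_dvd hp hx hC S hS
  have hPS : (P : Subgroup G) ≤ S := by rw [hP, zpowers_le]; exact hxS
  have hfr := Sylow.normalizer_sup_eq_top (P.subtype hPS)
  rw [Sylow.coe_subtype, Subgroup.map_subgroupOf_eq_of_le hPS, hP] at hfr
  have key : ∀ g : G, ∃ n ∈ normalizer ((zpowers x : Subgroup G) : Set G), ∃ s ∈ S, g = n * s := by
    intro g
    have hg : g ∈ ((normalizer ((zpowers x : Subgroup G) : Set G) ⊔ S : Subgroup G) : Set G) := by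
      rw [hfr]; trivial
    rw [Subgroup.mul_normal] at hg
    obtain ⟨n, hn, s, hs, rfl⟩ := Set.mem_mul.mp hg
    exact ⟨n, hn, s, hs, rfl⟩
  rw [commutator_def, Subgroup.commutator_le]
  intro g _ h _
  obtain ⟨n, hn, s, hs, rfl⟩ := key g
  obtain ⟨n', hn', s', hs', rfl⟩ := key h
  rw [← QuotientGroup.eq_one_iff]
  have e1 : ((n * s : G) : G ⧸ S) = (n : G ⧸ S) := by
    rw [QuotientGroup.mk_mul, (QuotientGroup.eq_one_iff s).mpr hs, mul_one]
  have e2 : ((n' * s' : G) : G ⧸ S) = (n' : G ⧸ S) := by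
    rw [QuotientGroup.mk_mul, (QuotientGroup.eq_one_iff s').mpr hs', mul_one]
  have e3 : ((⁅n * s, n' * s'⁆ : G) : G ⧸ S) = ((⁅n, n'⁆ : G) : G ⧸ S) := by
    rw [commutatorElement_def, commutatorElement_def]
    simp only [QuotientGroup.mk_mul, QuotientGroup.mk_inv, (QuotientGroup.eq_one_iff s).mpr hs,
      (QuotientGroup.eq_one_iff s').mpr hs', mul_one]
  rw [e3, QuotientGroup.eq_one_iff]
  exact (zpowers_le.mpr hxS) (sc_comm_normalizer hC n n' hn hn')

theorem sc_zpowers_eq (hp : p.Prime) (hx : orderOf x = p) {y : G} (hy : y ∈ zpowers x)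
    (hy1 : y ≠ 1) : zpowers y = zpowers x := by
  have hle : zpowers y ≤ zpowers x := by rw [zpowers_le]; exact hy
  have hcard : Nat.card (zpowers x) = p := sc_card_zpowers hx
  have hdvd := Subgroup.card_dvd_of_le hle
  rw [hcard] at hdvd
  rcases (Nat.dvd_prime hp).mp hdvd with h1 | h1
  · exfalso
    rw [Nat.card_zpowers, orderOf_eq_one_iff] at h1
    exact hy1 h1
  · exact Subgroup.eq_of_le_of_card_ge hle (by rw [h1, hcard])

theorem sc_orderOf_of_mem (hp : p.Prime) (hx : orderOf x = p) {y : G} (hy : y ∈ zpowers x)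
    (hy1 : y ≠ 1) : orderOf y = p := by
  rw [← Nat.card_zpowers, sc_zpowers_eq hp hx hy hy1, sc_card_zpowers hx]

theorem sc_centralizer_of_mem (hp : p.Prime) (hx : orderOf x = p)
    (hC : centralizer ({x} : Set G) = zpowers x) {y : G} (hy : y ∈ zpowers x)
    (hy1 : y ≠ 1) : centralizer ({y} : Set G) = zpowers y := by
  have hz := sc_zpowers_eq hp hx hy hy1
  rw [hz, ← hC]
  obtain ⟨k, hk⟩ := mem_zpowers_iff.mp hy
  have hx' : x ∈ zpowers y := by rw [hz]; exact mem_zpowers x
  obtain ⟨m, hm⟩ := mem_zpowers_iff.mp hx'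
  ext g
  simp only [mem_centralizer_singleton_iff]
  constructor
  · intro h
    rw [← hm]
    exact (Commute.zpow_right (show Commute g y from h) m).eq
  · intro h
    rw [← hk]
    exact (Commute.zpow_right (show Commute g x from h) k).eq

/-- Every element of order `p` is conjugate into `⟨x⟩`. -/
theorem sc_conj_mem (hp : p.Prime) (hx : orderOf x = p)
    (hC : centralizer ({x} : Set G) = zpowers x) {g : G} (hg : orderOf g = p) :
    ∃ h : G, h * g * h⁻¹ ∈ zpowers x := by
  have : Fact p.Prime := ⟨hp⟩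
  obtain ⟨P, hP⟩ := sc_exists_sylow hp hx hC
  obtain ⟨R, hR⟩ := (sc_isPGroup_zpowers hg).exists_le_sylow
  obtain ⟨h, hh⟩ := MulAction.exists_smul_eq G R P
  refine ⟨h, ?_⟩
  rw [← hP, ← hh, Sylow.coe_subgroup_smul, Subgroup.mem_pointwise_smul_iff_inv_smul_mem]
  simp only [MulAut.smul_def, MulAut.inv_apply, MulAut.conj_symm_apply]
  have : h⁻¹ * (h * g * h⁻¹) * h = g := by group
  rw [this]
  exact hR (mem_zpowers g)

/-- An element conjugating a nontrivial element of `⟨x⟩` into `⟨x⟩` normalizes `⟨x⟩`. -/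
theorem sc_mem_normalizer_of_conj (hp : p.Prime) (hx : orderOf x = p) {y c : G}
    (hy : y ∈ zpowers x) (hy1 : y ≠ 1) (hc : c * y * c⁻¹ ∈ zpowers x) :
    c ∈ normalizer ((zpowers x : Subgroup G) : Set G) := by
  have hz1 : c * y * c⁻¹ ≠ 1 := by
    intro h
    apply hy1
    have := congrArg (fun w => c⁻¹ * w * c) h
    simpa [mul_assoc] using this
  have e1 := sc_zpowers_eq hp hx hy hy1
  have e2 := sc_zpowers_eq hp hx hc hz1
  rw [mem_normalizer_iff]
  intro h
  constructor
  · intro hh
    rw [← e1] at hh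
    obtain ⟨k, rfl⟩ := mem_zpowers_iff.mp hh
    rw [← conj_zpow]
    exact zpow_mem hc k
  · intro hh
    rw [← e2] at hh
    obtain ⟨k, hk⟩ := mem_zpowers_iff.mp hh
    rw [conj_zpow] at hk
    have : h = y ^ k := by
      have := congrArg (fun w => c⁻¹ * w * c) hk
      simpa [mul_assoc] using this.symm
    rw [this]
    exact zpow_mem hy k

/-- The number `t` of classes of elements of order `p` satisfies `t * |N_G(⟨x⟩) : ⟨x⟩| = p - 1`. -/
theorem sc_card_classes (hp : p.Prime) (hx : orderOf x = p)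
    (hC : centralizer ({x} : Set G) = zpowers x) :
    Nat.card {C : ConjClasses G // ∃ g ∈ C.carrier, orderOf g = p} *
      (zpowers x).relIndex (normalizer ((zpowers x : Subgroup G) : Set G)) = p - 1 := by
  classical
  set N := normalizer ((zpowers x : Subgroup G) : Set G) with hN
  let Y := {y : G // y ∈ zpowers x ∧ y ≠ 1}
  have hYcard : Nat.card Y = p - 1 := by
    have h1 : Nat.card Y = Nat.card ↥(((zpowers x : Subgroup G) : Set G) \ {1}) :=
      Nat.card_congr (Equiv.subtypeEquivRight (by intro a; simp))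
    rw [h1, Nat.card_coe_set_eq, Set.ncard_sdiff_singleton_of_mem (by simp),
      ← Nat.card_coe_set_eq]
    have h2 : Nat.card ↥((zpowers x : Subgroup G) : Set G) = Nat.card (zpowers x) := rfl
    rw [h2, sc_card_zpowers hx]
  let φ : Y → {C : ConjClasses G // ∃ g ∈ C.carrier, orderOf g = p} := fun y =>
    ⟨ConjClasses.mk y.1, y.1, ConjClasses.mem_carrier_mk, sc_orderOf_of_mem hp hx y.2.1 y.2.2⟩
  have hφsurj : Function.Surjective φ := by
    rintro ⟨C, g, hg, hgo⟩
    obtain ⟨h, hh⟩ := sc_conj_mem hp hx hC hgo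
    refine ⟨⟨h * g * h⁻¹, hh, ?_⟩, ?_⟩
    · intro h1
      have : g = 1 := by
        have := congrArg (fun w => h⁻¹ * w * h) h1
        simpa [mul_assoc] using this
      rw [this, orderOf_one] at hgo
      exact hp.one_lt.ne hgo
    · apply Subtype.ext
      show ConjClasses.mk (h * g * h⁻¹) = C
      rw [← ConjClasses.mem_carrier_iff_mk_eq.mp hg, ConjClasses.mk_eq_mk_iff_isConj, isConj_iff]
      exact ⟨h⁻¹, by group⟩
  have hfib : ∀ C : {C : ConjClasses G // ∃ g ∈ C.carrier, orderOf g = p},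
      Nat.card {y : Y // φ y = C} = (zpowers x).relIndex N := by
    intro C
    obtain ⟨y₀, rfl⟩ := hφsurj C
    let _ : MulAction N G := MulAction.compHom G (MulAut.conj.comp N.subtype)
    have hsmul : ∀ (n : N) (g : G), n • g = (n : G) * g * (n : G)⁻¹ := fun n g => rfl
    have hstab : MulAction.stabilizer N y₀.1 = (zpowers x).subgroupOf N := by
      ext n
      have hcz : centralizer ({y₀.1} : Set G) = zpowers x := by
        rw [sc_centralizer_of_mem hp hx hC y₀.2.1 y₀.2.2, sc_zpowers_eq hp hx y₀.2.1 y₀.2.2]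
      rw [MulAction.mem_stabilizer_iff, hsmul, mem_subgroupOf]
      have hiff : (n : G) ∈ zpowers x ↔ (n : G) ∈ centralizer ({y₀.1} : Set G) := by rw [hcz]
      rw [hiff, mem_centralizer_singleton_iff]
      exact mul_inv_eq_iff_eq_mul
    have hidx := MulAction.index_stabilizer N y₀.1
    rw [hstab] at hidx
    show _ = ((zpowers x).subgroupOf N).index
    rw [hidx, ← Nat.card_coe_set_eq]
    have h1 : ∀ y : {y : Y // φ y = φ y₀}, y.1.1 ∈ MulAction.orbit N y₀.1 := by
      intro y
      have h1 : ConjClasses.mk y.1.1 = ConjClasses.mk y₀.1 := congrArg Subtype.val y.2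
      rw [ConjClasses.mk_eq_mk_iff_isConj, isConj_comm, isConj_iff] at h1
      obtain ⟨c, hc⟩ := h1
      have hcN : c ∈ N :=
        sc_mem_normalizer_of_conj hp hx y₀.2.1 y₀.2.2 (by rw [hc]; exact y.1.2.1)
      exact ⟨⟨c, hcN⟩, hc⟩
    have h2 : ∀ z : MulAction.orbit N y₀.1, z.1 ∈ zpowers x ∧ z.1 ≠ 1 := by
      rintro ⟨z, n, rfl⟩
      refine ⟨(mem_normalizer_iff.mp n.2 y₀.1).mp y₀.2.1, ?_⟩
      intro h
      apply y₀.2.2
      have h' : (n : G) * y₀.1 * (n : G)⁻¹ = 1 := h
      have := congrArg (fun w => (n : G)⁻¹ * w * (n : G)) h'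
      simpa [mul_assoc] using this
    have h3 : ∀ z : MulAction.orbit N y₀.1, φ ⟨z.1, h2 z⟩ = φ y₀ := by
      rintro ⟨z, n, rfl⟩
      apply Subtype.ext
      show ConjClasses.mk ((n : G) * y₀.1 * (n : G)⁻¹) = ConjClasses.mk y₀.1
      rw [ConjClasses.mk_eq_mk_iff_isConj, isConj_comm, isConj_iff]
      exact ⟨n, rfl⟩
    exact Nat.card_congr ⟨fun y => ⟨y.1.1, h1 y⟩, fun z => ⟨⟨z.1, h2 z⟩, h3 z⟩,
      fun y => rfl, fun z => rfl⟩
  have key := Nat.card_congr (Equiv.sigmaFiberEquiv φ)
  have : Fintype {C : ConjClasses G // ∃ g ∈ C.carrier, orderOf g = p} := Fintype.ofFinite _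
  rw [Nat.card_sigma] at key
  simp only [hfib] at key
  rw [Finset.sum_const, Finset.card_univ, smul_eq_mul, ← Nat.card_eq_fintype_card] at key
  rw [key, hYcard]

/-- Frattini argument: a normal subgroup containing `x` supplements the normalizer of `⟨x⟩`. -/
theorem sc_frattini (hp : p.Prime) (hx : orderOf x = p)
    (hC : centralizer ({x} : Set G) = zpowers x) (S : Subgroup G) [hSn : S.Normal]
    (hxS : x ∈ S) : normalizer ((zpowers x : Subgroup G) : Set G) ⊔ S = ⊤ := by
  have : Fact p.Prime := ⟨hp⟩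
  obtain ⟨P, hP⟩ := sc_exists_sylow hp hx hC
  have hPS : (P : Subgroup G) ≤ S := by rw [hP, zpowers_le]; exact hxS
  have hfr := Sylow.normalizer_sup_eq_top (P.subtype hPS)
  rwa [Sylow.coe_subtype, Subgroup.map_subgroupOf_eq_of_le hPS, hP] at hfr

/-- The index of a normal subgroup containing `x` divides `|N_G(⟨x⟩) : ⟨x⟩|`. -/
theorem sc_index_dvd (hp : p.Prime) (hx : orderOf x = p)
    (hC : centralizer ({x} : Set G) = zpowers x) (S : Subgroup G) [hSn : S.Normal]
    (hxS : x ∈ S) :
    S.index ∣ (zpowers x).relIndex (normalizer ((zpowers x : Subgroup G) : Set G)) := by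
  have h1 := sc_frattini hp hx hC S hxS
  have h2 : S.index = S.relIndex (normalizer ((zpowers x : Subgroup G) : Set G)) := by
    rw [← relIndex_top_right, ← h1, relIndex_sup_right]
  rw [h2]
  exact relIndex_dvd_of_le_left _ (by rw [zpowers_le]; exact hxS)

/-- If the normalizer of `⟨x⟩` is bigger than `⟨x⟩`, then `x` is in the commutator subgroup. -/
theorem sc_mem_commutator (hp : p.Prime) (hx : orderOf x = p)
    (hC : centralizer ({x} : Set G) = zpowers x)
    (he : (zpowers x).relIndex (normalizer ((zpowers x : Subgroup G) : Set G)) ≠ 1) :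
    x ∈ commutator G := by
  rw [Ne, relIndex_eq_one, SetLike.not_le_iff_exists] at he
  obtain ⟨n, hnN, hnx⟩ := he
  have hc : ⁅n, x⁆ ∈ zpowers x := by
    rw [commutatorElement_def]
    exact (zpowers x).mul_mem ((mem_normalizer_iff.mp hnN x).mp (mem_zpowers x))
      ((zpowers x).inv_mem (mem_zpowers x))
  have hc1 : ⁅n, x⁆ ≠ 1 := by
    intro h
    apply hnx
    rw [← hC, mem_centralizer_singleton_iff]
    rw [commutatorElement_eq_one_iff_mul_comm] at h
    exact h
  have hz := sc_zpowers_eq hp hx hc hc1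
  have hmem : ⁅n, x⁆ ∈ commutator G := by
    rw [commutator_def]
    exact Subgroup.commutator_mem_commutator (mem_top _) (mem_top _)
  have : zpowers ⁅n, x⁆ ≤ commutator G := by rw [zpowers_le]; exact hmem
  exact this (hz ▸ mem_zpowers x)

/-- If `N_G(⟨x⟩) = ⟨x⟩` then the commutator subgroup has index `p` and order prime to `p`
(Burnside's transfer theorem). -/
theorem sc_commutator_of_relIndex_eq_one (hp : p.Prime) (hx : orderOf x = p)
    (hC : centralizer ({x} : Set G) = zpowers x)
    (he : (zpowers x).relIndex (normalizer ((zpowers x : Subgroup G) : Set G)) = 1) :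
    (commutator G).index = p ∧ ¬ p ∣ Nat.card (commutator G) := by
  have : Fact p.Prime := ⟨hp⟩
  obtain ⟨P, hP⟩ := sc_exists_sylow hp hx hC
  rw [relIndex_eq_one] at he
  have hcomm : ∀ a b : (P : Subgroup G), a * b = b * a := by
    intro a b
    have ha : (a : G) ∈ zpowers x := hP ▸ a.2
    have hb : (b : G) ∈ zpowers x := hP ▸ b.2
    obtain ⟨k, hk⟩ := mem_zpowers_iff.mp ha
    obtain ⟨m, hm⟩ := mem_zpowers_iff.mp hb
    apply Subtype.ext
    show (a : G) * b = b * a
    rw [← hk, ← hm]
    exact (Commute.zpow_zpow_self x k m).eq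
  have hNC : normalizer ((P : Subgroup G) : Set G) ≤ centralizer ((P : Subgroup G) : Set G) := by
    rw [hP]
    refine he.trans ?_
    rw [zpowers_le, mem_centralizer_iff]
    intro h hh
    obtain ⟨k, rfl⟩ := mem_zpowers_iff.mp hh
    exact ((Commute.refl x).zpow_left k).eq
  have hcompl := MonoidHom.ker_transferSylow_isComplement' P hNC
  set K := (MonoidHom.transferSylow P hNC).ker with hK
  have hKidx : K.index = p := by
    rw [hcompl.symm.index_eq_card, hP, sc_card_zpowers hx]
  have hKp : ¬ p ∣ Nat.card K := by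
    intro hdiv
    have hxK : x ∈ K := sc_mem_of_dvd hp hx hC K hdiv
    have hdisj := hcompl.disjoint
    have hx1 : x ∈ K ⊓ (P : Subgroup G) := ⟨hxK, hP ▸ mem_zpowers x⟩
    rw [disjoint_iff.mp hdisj, mem_bot] at hx1
    exact sc_ne_one hp hx hx1
  have h1 : K ≤ commutator G := sc_le_commutator hp hx hC K hKp
  have h2 : commutator G ≤ K := by
    let _ : CommGroup (P : Subgroup G) := { (inferInstance : Group (P : Subgroup G)) with
      mul_comm := hcomm }
    exact Abelianization.commutator_subset_ker (MonoidHom.transferSylow P hNC)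
  have h3 : commutator G = K := le_antisymm h2 h1
  rw [h3]
  exact ⟨hKidx, hKp⟩

end SelfCent

end Cfsg.Agent.Lib.helper78
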