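import Mathlib
import Cfsg.Prelude.Def_Solvable
import Cfsg.Agent.Lib.helper40.Cores
import Cfsg.Agent.Lib.helper78.SelfCent

set_option autoImplicit false

namespace Cfsg.Agent.Lib.helper78

open Subgroup
open scoped commutatorElement

/-- `O_{p'}(G)` is a characteristic subgroup of a finite group. -/
theorem pPrimeCore_characteristic (p : ℕ) (G : Type*) [Group G] [Finite G] :
    (Cfsg.pPrimeCore p G).Characteristic := by
  rw [Subgroup.characteristic_iff_map_le]
  intro φ
  apply Cfsg.Agent.Lib.helper40.le_pPrimeCore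
  · exact (Cfsg.Agent.Lib.helper40.pPrimeCore_normal' p G).map φ.toMonoidHom φ.surjective
  · rw [Subgroup.card_map_of_injective φ.injective]
    exact Cfsg.Agent.Lib.helper40.pPrimeCore_card_coprime p G

/-- A normal `p'`-subgroup of a normal subgroup `D` of `G` lies in `O_{p'}(G)`. -/
theorem map_le_pPrimeCore (p : ℕ) {G : Type*} [Group G] [Finite G] (D : Subgroup G) [D.Normal]
    (H : Subgroup D) [hH : H.Normal] (hc : (Nat.card H).Coprime p) :
    H.map D.subtype ≤ Cfsg.pPrimeCore p G := by
  have h1 : H ≤ Cfsg.pPrimeCore p D := Cfsg.Agent.Lib.helper40.le_pPrimeCore H hH hc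
  have := pPrimeCore_characteristic p D
  have hn : ((Cfsg.pPrimeCore p D).map D.subtype).Normal := inferInstance
  have h2 : (Cfsg.pPrimeCore p D).map D.subtype ≤ Cfsg.pPrimeCore p G :=
    Cfsg.Agent.Lib.helper40.le_pPrimeCore _ hn (by
      rw [Subgroup.card_map_of_injective D.subtype_injective]
      exact Cfsg.Agent.Lib.helper40.pPrimeCore_card_coprime p D)
  exact (Subgroup.map_mono h1).trans h2

section SelfCent2

variable {G : Type*} [Group G] [Finite G] {p : ℕ} {x : G}

theorem sc_pPrimeCore_not_dvd (hp : p.Prime) : ¬ p ∣ Nat.card (Cfsg.pPrimeCore p G) := by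
  have h := Cfsg.Agent.Lib.helper40.pPrimeCore_card_coprime p G
  rw [Nat.coprime_comm, Nat.Prime.coprime_iff_not_dvd hp] at h
  exact h

theorem sc_le_pPrimeCore (hp : p.Prime) (S : Subgroup G) [hS : S.Normal]
    (h : ¬ p ∣ Nat.card S) : S ≤ Cfsg.pPrimeCore p G :=
  Cfsg.Agent.Lib.helper40.le_pPrimeCore S hS (by
    rw [Nat.coprime_comm, Nat.Prime.coprime_iff_not_dvd hp]; exact h)

/-- `O_{p'}(G) ≤ G'`. -/
theorem sc_pPrimeCore_le_commutator (hp : p.Prime) (hx : orderOf x = p)
    (hC : centralizer ({x} : Set G) = zpowers x) : Cfsg.pPrimeCore p G ≤ commutator G := by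
  have := Cfsg.Agent.Lib.helper40.pPrimeCore_normal' p G
  exact sc_le_commutator hp hx hC _ (sc_pPrimeCore_not_dvd hp)

/-- If `N_G(⟨x⟩) = ⟨x⟩` then `G' = O_{p'}(G)`. -/
theorem sc_commutator_eq_pPrimeCore (hp : p.Prime) (hx : orderOf x = p)
    (hC : centralizer ({x} : Set G) = zpowers x)
    (he : (zpowers x).relIndex (normalizer ((zpowers x : Subgroup G) : Set G)) = 1) :
    commutator G = Cfsg.pPrimeCore p G :=
  le_antisymm (sc_le_pPrimeCore hp _ (sc_commutator_of_relIndex_eq_one hp hx hC he).2)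
    (sc_pPrimeCore_le_commutator hp hx hC)

/-- The self-centralizing hypothesis passes to subgroups containing `x`. -/
theorem sc_subgroup (hC : centralizer ({x} : Set G) = zpowers x) (D : Subgroup G) (hxD : x ∈ D) :
    centralizer ({(⟨x, hxD⟩ : D)} : Set D) = zpowers (⟨x, hxD⟩ : D) := by
  ext d
  rw [mem_centralizer_singleton_iff]
  have h1 : d * (⟨x, hxD⟩ : D) = ⟨x, hxD⟩ * d ↔ (d : G) * x = x * d := by
    rw [Subtype.ext_iff]; rfl
  have h2 : (d : G) * x = x * d ↔ (d : G) ∈ zpowers x := by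
    rw [← hC, mem_centralizer_singleton_iff]
  rw [h1, h2, mem_zpowers_iff, mem_zpowers_iff]
  constructor
  · rintro ⟨k, hk⟩
    exact ⟨k, Subtype.ext (by simpa using hk)⟩
  · rintro ⟨k, hk⟩
    exact ⟨k, by simpa using congrArg Subtype.val hk⟩

/-- Either `G'' = G'` or `G''` has order prime to `p`. -/
theorem sc_derived_dichotomy (hp : p.Prime) (hx : orderOf x = p)
    (hC : centralizer ({x} : Set G) = zpowers x) :
    ⁅commutator G, commutator G⁆ = commutator G ∨
      ¬ p ∣ Nat.card (⁅commutator G, commutator G⁆ : Subgroup G) := by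
  by_cases h : p ∣ Nat.card (⁅commutator G, commutator G⁆ : Subgroup G)
  · left
    exact le_antisymm (Subgroup.commutator_le_left _ _)
      (sc_commutator_le hp hx hC _ h)
  · right; exact h

theorem sc_card_subgroupOf_not_dvd (hp : p.Prime) (hx : orderOf x = p)
    (hC : centralizer ({x} : Set G) = zpowers x) :
    ¬ p ∣ Nat.card ((Cfsg.pPrimeCore p G).subgroupOf (commutator G)) := by
  have h1 : Nat.card ((Cfsg.pPrimeCore p G).subgroupOf (commutator G)) =
      Nat.card (Cfsg.pPrimeCore p G) :=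
    Nat.card_congr (subgroupOfEquivOfLe (sc_pPrimeCore_le_commutator hp hx hC)).toEquiv
  rw [h1]
  exact sc_pPrimeCore_not_dvd hp

/-- If `x ∈ G'` and `G''` has order prime to `p`, then `G' / O_{p'}(G)` has order `p`. -/
theorem sc_card_quotient (hp : p.Prime) (hx : orderOf x = p)
    (hC : centralizer ({x} : Set G) = zpowers x) (hxD : x ∈ commutator G)
    (hD2 : ¬ p ∣ Nat.card (⁅commutator G, commutator G⁆ : Subgroup G))
    [h : ((Cfsg.pPrimeCore p G).subgroupOf (commutator G)).Normal] :
    Nat.card (↥(commutator G) ⧸ (Cfsg.pPrimeCore p G).subgroupOf (commutator G)) = p := by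
  have hx' : orderOf (⟨x, hxD⟩ : commutator G) = p := by
    rw [← Subgroup.orderOf_coe]; exact hx
  have hC' := sc_subgroup hC (commutator G) hxD
  have hOb := sc_card_subgroupOf_not_dvd hp hx hC
  have h1 := sc_orderOf_mk hp hx' ((Cfsg.pPrimeCore p G).subgroupOf (commutator G)) hOb
  have h2 := sc_centralizer_mk hp hx' hC' ((Cfsg.pPrimeCore p G).subgroupOf (commutator G)) hOb
  have hcomm : commutator (commutator G) ≤ (Cfsg.pPrimeCore p G).subgroupOf (commutator G) := by
    rw [← Subgroup.map_subtype_le_map_subtype, Subgroup.map_subtype_commutator,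
      Subgroup.map_subgroupOf_eq_of_le (sc_pPrimeCore_le_commutator hp hx hC)]
    exact sc_le_pPrimeCore hp _ hD2
  have hQ : IsMulCommutative
      (↥(commutator G) ⧸ (Cfsg.pPrimeCore p G).subgroupOf (commutator G)) :=
    Subgroup.Normal.quotient_commutative_iff_commutator_le.mpr hcomm
  have htop : zpowers (QuotientGroup.mk (⟨x, hxD⟩ : commutator G) :
      ↥(commutator G) ⧸ (Cfsg.pPrimeCore p G).subgroupOf (commutator G)) = ⊤ := by
    rw [← h2, eq_top_iff]
    intro g _
    rw [mem_centralizer_singleton_iff]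
    exact mul_comm' _ _
  have h3 : Nat.card (zpowers (QuotientGroup.mk (⟨x, hxD⟩ : commutator G) :
      ↥(commutator G) ⧸ (Cfsg.pPrimeCore p G).subgroupOf (commutator G))) = p := by
    rw [Nat.card_zpowers, h1]
  rw [htop] at h3
  simpa using h3

/-- If `x ∈ G'` and `G'' = G'`, then `G' / O_{p'}(G)` is simple. -/
theorem sc_simple_of_perfect (hp : p.Prime) (hx : orderOf x = p)
    (hC : centralizer ({x} : Set G) = zpowers x) (hxD : x ∈ commutator G)
    (hperf : ⁅commutator G, commutator G⁆ = commutator G)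
    [h : ((Cfsg.pPrimeCore p G).subgroupOf (commutator G)).Normal] :
    IsSimpleGroup (↥(commutator G) ⧸ (Cfsg.pPrimeCore p G).subgroupOf (commutator G)) := by
  have hx' : orderOf (⟨x, hxD⟩ : commutator G) = p := by
    rw [← Subgroup.orderOf_coe]; exact hx
  have hC' := sc_subgroup hC (commutator G) hxD
  have hOb := sc_card_subgroupOf_not_dvd hp hx hC
  have h1 := sc_orderOf_mk hp hx' ((Cfsg.pPrimeCore p G).subgroupOf (commutator G)) hOb
  have hnt : Nontrivial (↥(commutator G) ⧸ (Cfsg.pPrimeCore p G).subgroupOf (commutator G)) := by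
    refine ⟨⟨QuotientGroup.mk (⟨x, hxD⟩ : commutator G), 1, ?_⟩⟩
    intro h
    rw [h, orderOf_one] at h1
    exact hp.one_lt.ne h1
  refine { toNontrivial := hnt, eq_bot_or_eq_top_of_normal := ?_ }
  intro Hbar hHbar
  have hHn : (Hbar.comap (QuotientGroup.mk'
      ((Cfsg.pPrimeCore p G).subgroupOf (commutator G)))).Normal := hHbar.comap _
  have hHbar_eq : Hbar = (Hbar.comap (QuotientGroup.mk'
      ((Cfsg.pPrimeCore p G).subgroupOf (commutator G)))).map (QuotientGroup.mk'
      ((Cfsg.pPrimeCore p G).subgroupOf (commutator G))) :=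
    (Subgroup.map_comap_eq_self_of_surjective (QuotientGroup.mk'_surjective _) Hbar).symm
  by_cases hdiv : p ∣ Nat.card (Hbar.comap (QuotientGroup.mk'
      ((Cfsg.pPrimeCore p G).subgroupOf (commutator G))))
  · right
    have hcl := sc_commutator_le hp hx' hC' _ hdiv
    have htop : commutator (commutator G) = ⊤ := by
      apply Subgroup.map_injective (commutator G).subtype_injective
      rw [Subgroup.map_subtype_commutator, hperf, ← MonoidHom.range_eq_map, Subgroup.range_subtype]
    rw [htop, top_le_iff] at hcl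
    rw [hHbar_eq, hcl]
    exact Subgroup.map_top_of_surjective _ (QuotientGroup.mk'_surjective _)
  · left
    have hle := map_le_pPrimeCore p (commutator G) (Hbar.comap (QuotientGroup.mk'
      ((Cfsg.pPrimeCore p G).subgroupOf (commutator G))))
      (by rw [Nat.coprime_comm, Nat.Prime.coprime_iff_not_dvd hp]; exact hdiv)
    rw [hHbar_eq, eq_bot_iff]
    rintro _ ⟨d, hd, rfl⟩
    rw [mem_bot]
    refine (QuotientGroup.eq_one_iff d).mpr ?_
    rw [mem_subgroupOf]
    exact hle (mem_map_of_mem _ hd)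

/-- If `x ∈ G'`, then `G' / O_{p'}(G)` is simple. -/
theorem sc_simple_quotient (hp : p.Prime) (hx : orderOf x = p)
    (hC : centralizer ({x} : Set G) = zpowers x) (hxD : x ∈ commutator G)
    [h : ((Cfsg.pPrimeCore p G).subgroupOf (commutator G)).Normal] :
    IsSimpleGroup (↥(commutator G) ⧸ (Cfsg.pPrimeCore p G).subgroupOf (commutator G)) := by
  rcases sc_derived_dichotomy hp hx hC with h1 | h1
  · exact sc_simple_of_perfect hp hx hC hxD h1
  · have : Fact p.Prime := ⟨hp⟩
    exact isSimpleGroup_of_prime_card (sc_card_quotient hp hx hC hxD h1)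

theorem sc_card_mul_index_sup (hp : p.Prime) (hx : orderOf x = p)
    (hC : centralizer ({x} : Set G) = zpowers x) (S : Subgroup G) [S.Normal]
    (hS : ¬ p ∣ Nat.card S) :
    Nat.card S * (S ⊔ normalizer ((zpowers x : Subgroup G) : Set G)).index =
      (normalizer ((zpowers x : Subgroup G) : Set G)).index := by
  set N := normalizer ((zpowers x : Subgroup G) : Set G) with hN
  have hbot : S ⊓ N = ⊥ := sc_inf_normalizer hp hx hC S hS
  have h1 : S.relIndex (S ⊔ N) * (S ⊔ N).index = S.index := relIndex_mul_index le_sup_left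
  have h2 : S.relIndex (S ⊔ N) = Nat.card N := by
    rw [relIndex_sup_left, ← inf_relIndex_right, hbot, relIndex_bot_left]
  rw [h2] at h1
  have h3 : Nat.card S * S.index = Nat.card G := S.card_mul_index
  have h4 : Nat.card N * N.index = Nat.card G := N.card_mul_index
  have hNpos : 0 < Nat.card N := Nat.card_pos
  apply Nat.eq_of_mul_eq_mul_left hNpos
  rw [h4, ← h3, ← h1]
  ring

/-- If `N_G(⟨x⟩) = ⟨x⟩` then `|G'|` is the number of Sylow `p`-subgroups. -/
theorem sc_card_commutator_of_relIndex_eq_one (hp : p.Prime) (hx : orderOf x = p)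
    (hC : centralizer ({x} : Set G) = zpowers x)
    (he : (zpowers x).relIndex (normalizer ((zpowers x : Subgroup G) : Set G)) = 1) :
    Nat.card (commutator G) = (normalizer ((zpowers x : Subgroup G) : Set G)).index := by
  have h1 := (sc_commutator_of_relIndex_eq_one hp hx hC he).1
  rw [relIndex_eq_one] at he
  have hN : normalizer ((zpowers x : Subgroup G) : Set G) = zpowers x :=
    le_antisymm he le_normalizer
  have h2 : Nat.card (commutator G) * (commutator G).index = Nat.card G :=
    (commutator G).card_mul_index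
  have h3 := (normalizer ((zpowers x : Subgroup G) : Set G)).card_mul_index
  rw [hN, sc_card_zpowers hx] at h3
  rw [hN]
  rw [h1, ← h3, mul_comm] at h2
  exact Nat.eq_of_mul_eq_mul_left hp.pos h2

/-- If `x ∈ G'` and `G''` has order prime to `p`, then `G'' = O_{p'}(G)`. -/
theorem sc_derived_eq_pPrimeCore (hp : p.Prime) (hx : orderOf x = p)
    (hC : centralizer ({x} : Set G) = zpowers x) (hxD : x ∈ commutator G)
    (hD2 : ¬ p ∣ Nat.card (⁅commutator G, commutator G⁆ : Subgroup G)) :
    ⁅commutator G, commutator G⁆ = Cfsg.pPrimeCore p G := by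
  apply le_antisymm (sc_le_pPrimeCore hp _ hD2)
  intro s hs
  have := Cfsg.Agent.Lib.helper40.pPrimeCore_normal' p G
  obtain ⟨u, hu, hus⟩ := sc_exists_comm hp hx hC (Cfsg.pPrimeCore p G)
    (sc_pPrimeCore_not_dvd hp) s hs
  have h1 : x⁻¹ * u * x * u⁻¹ = ⁅x⁻¹, u⁆ := by rw [commutatorElement_def]; group
  rw [← hus, h1]
  exact Subgroup.commutator_mem_commutator (inv_mem hxD)
    (sc_pPrimeCore_le_commutator hp hx hC hu)

/-- If `x ∈ G'` and `G''` has order prime to `p`, then `|G'| = p |O_{p'}(G)|`. -/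
theorem sc_card_commutator (hp : p.Prime) (hx : orderOf x = p)
    (hC : centralizer ({x} : Set G) = zpowers x) (hxD : x ∈ commutator G)
    (hD2 : ¬ p ∣ Nat.card (⁅commutator G, commutator G⁆ : Subgroup G)) :
    Nat.card (commutator G) = p * Nat.card (Cfsg.pPrimeCore p G) := by
  have := Cfsg.Agent.Lib.helper40.pPrimeCore_normal' p G
  have hn : ((Cfsg.pPrimeCore p G).subgroupOf (commutator G)).Normal := inferInstance
  have h1 := sc_card_quotient hp hx hC hxD hD2
  have h2 := Subgroup.card_eq_card_quotient_mul_card_subgroup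
    ((Cfsg.pPrimeCore p G).subgroupOf (commutator G))
  have h3 : Nat.card ((Cfsg.pPrimeCore p G).subgroupOf (commutator G)) =
      Nat.card (Cfsg.pPrimeCore p G) :=
    Nat.card_congr (subgroupOfEquivOfLe (sc_pPrimeCore_le_commutator hp hx hC)).toEquiv
  rw [h1, h3] at h2
  exact h2

/-- If `x ∈ G'` and `G''` has order prime to `p`, then `|O_{p'}(G)|` is the number of Sylow
`p`-subgroups. -/
theorem sc_card_pPrimeCore (hp : p.Prime) (hx : orderOf x = p)
    (hC : centralizer ({x} : Set G) = zpowers x) (hxD : x ∈ commutator G)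
    (hD2 : ¬ p ∣ Nat.card (⁅commutator G, commutator G⁆ : Subgroup G)) :
    Nat.card (Cfsg.pPrimeCore p G) = (normalizer ((zpowers x : Subgroup G) : Set G)).index := by
  have hOn := Cfsg.Agent.Lib.helper40.pPrimeCore_normal' p G
  have hOp : ¬ p ∣ Nat.card (Cfsg.pPrimeCore p G) := sc_pPrimeCore_not_dvd hp
  have hOD := sc_pPrimeCore_le_commutator hp hx hC
  -- `G' = O ⊔ ⟨x⟩`
  have hle : Cfsg.pPrimeCore p G ⊔ zpowers x ≤ commutator G :=
    sup_le hOD (by rw [zpowers_le]; exact hxD)
  have hcard : Nat.card (Cfsg.pPrimeCore p G ⊔ zpowers x : Subgroup G) =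
      p * Nat.card (Cfsg.pPrimeCore p G) := by
    have h1 : (Cfsg.pPrimeCore p G).relIndex (Cfsg.pPrimeCore p G ⊔ zpowers x) *
        Nat.card (Cfsg.pPrimeCore p G) = Nat.card (Cfsg.pPrimeCore p G ⊔ zpowers x : Subgroup G) := by
      have := Subgroup.relIndex_mul_relIndex (⊥ : Subgroup G) (Cfsg.pPrimeCore p G)
        (Cfsg.pPrimeCore p G ⊔ zpowers x) bot_le le_sup_left
      rw [Subgroup.relIndex_bot_left, Subgroup.relIndex_bot_left] at this
      rw [mul_comm]; exact this
    rw [← h1, relIndex_sup_left, ← inf_relIndex_right, sc_inf_zpowers hp hx _ hOp,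
      relIndex_bot_left, sc_card_zpowers hx]
  have heq : Cfsg.pPrimeCore p G ⊔ zpowers x = commutator G :=
    Subgroup.eq_of_le_of_card_ge hle (by rw [hcard, sc_card_commutator hp hx hC hxD hD2])
  have hfr := sc_frattini hp hx hC (commutator G) hxD
  have htop : Cfsg.pPrimeCore p G ⊔ normalizer ((zpowers x : Subgroup G) : Set G) = ⊤ := by
    rw [← heq] at hfr
    rw [eq_top_iff, ← hfr]
    refine sup_le le_sup_right (sup_le le_sup_left (le_sup_of_le_right le_normalizer))
  have := sc_card_mul_index_sup hp hx hC (Cfsg.pPrimeCore p G) hOp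
  rw [htop, index_top, mul_one] at this
  exact this

/-- If a normal subgroup `S` supplements `N_G(⟨x⟩)`, then `G'' ≤ S`. -/
theorem sc_derived_le (hC : centralizer ({x} : Set G) = zpowers x) (S : Subgroup G)
    [hSn : S.Normal] (hsup : normalizer ((zpowers x : Subgroup G) : Set G) ⊔ S = ⊤) :
    ⁅commutator G, commutator G⁆ ≤ S := by
  have key : ∀ g : G, ∃ n ∈ normalizer ((zpowers x : Subgroup G) : Set G), ∃ s ∈ S, g = n * s := by
    intro g
    have hg : g ∈ ((normalizer ((zpowers x : Subgroup G) : Set G) ⊔ S : Subgroup G) : Set G) := by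
      rw [hsup]; trivial
    rw [Subgroup.mul_normal] at hg
    obtain ⟨n, hn, s, hs, rfl⟩ := Set.mem_mul.mp hg
    exact ⟨n, hn, s, hs, rfl⟩
  have h1 : commutator G ≤ (zpowers (QuotientGroup.mk x : G ⧸ S)).comap (QuotientGroup.mk' S) := by
    rw [commutator_def, Subgroup.commutator_le]
    intro g _ h _
    obtain ⟨n, hn, s, hs, rfl⟩ := key g
    obtain ⟨n', hn', s', hs', rfl⟩ := key h
    rw [mem_comap]
    have e3 : ((⁅n * s, n' * s'⁆ : G) : G ⧸ S) = ((⁅n, n'⁆ : G) : G ⧸ S) := by
      rw [commutatorElement_def, commutatorElement_def]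
      simp only [QuotientGroup.mk_mul, QuotientGroup.mk_inv, (QuotientGroup.eq_one_iff s).mpr hs,
        (QuotientGroup.eq_one_iff s').mpr hs', mul_one]
    show ((⁅n * s, n' * s'⁆ : G) : G ⧸ S) ∈ zpowers (QuotientGroup.mk x : G ⧸ S)
    rw [e3]
    obtain ⟨k, hk⟩ := mem_zpowers_iff.mp (sc_comm_normalizer hC n n' hn hn')
    rw [← hk, QuotientGroup.mk_zpow]
    exact zpow_mem (mem_zpowers _) k
  rw [Subgroup.commutator_le]
  intro a ha b hb
  have ha' := h1 ha
  have hb' := h1 hb
  rw [mem_comap] at ha' hb'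
  obtain ⟨i, hi⟩ := mem_zpowers_iff.mp ha'
  obtain ⟨j, hj⟩ := mem_zpowers_iff.mp hb'
  rw [← QuotientGroup.eq_one_iff]
  have hi' : (a : G ⧸ S) = (QuotientGroup.mk x : G ⧸ S) ^ i := hi.symm
  have hj' : (b : G ⧸ S) = (QuotientGroup.mk x : G ⧸ S) ^ j := hj.symm
  rw [commutatorElement_def]
  simp only [QuotientGroup.mk_mul, QuotientGroup.mk_inv]
  rw [hi', hj']
  have hcomm : Commute ((QuotientGroup.mk x : G ⧸ S) ^ i) ((QuotientGroup.mk x : G ⧸ S) ^ j) :=
    Commute.zpow_zpow_self _ i j
  rw [hcomm.eq]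
  group

end SelfCent2

end Cfsg.Agent.Lib.helper78
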