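import Mathlib
import Cfsg.Prelude.Def_Solvable
import Cfsg.Agent.Lib.lead.PNil
import Cfsg.Agent.Lib.helper78.SelfCent2

/-!
Group theory for a normal Sylow `p`-subgroup `P` of a finite group `H`:
every `p`-element lies in `P`, the centralizer `C_H(P)` has a normal `p`-complement (Burnside
transfer, the Sylow subgroup of `C_H(P)` being central), and the `p'`-elements of `C_H(P)` lie in
`O_{p'}(H)`.
-/

set_option autoImplicit false

namespace Cfsg.Agent.Lib.helper78

open Cfsg

/-- A `p`-element lies in a normal Sylow `p`-subgroup. -/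
theorem mem_normal_sylow_of_pow {H : Type*} [Group H] [Finite H] {p : ℕ} [Fact p.Prime]
    (P : Sylow p H) (hn : (P : Subgroup H).Normal) (x : H) (k : ℕ) (hx : x ^ p ^ k = 1) :
    x ∈ (P : Subgroup H) := by
  have hpg : IsPGroup p (Subgroup.zpowers x) := by
    rintro ⟨y, hy⟩
    obtain ⟨j, rfl⟩ := Subgroup.mem_zpowers_iff.mp hy
    refine ⟨k, Subtype.ext ?_⟩
    show (x ^ j) ^ p ^ k = 1
    rw [← zpow_natCast, ← zpow_mul, mul_comm, zpow_mul, zpow_natCast, hx, one_zpow]
  obtain ⟨Q, hQ⟩ := hpg.exists_le_sylow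
  have : Subsingleton (Sylow p H) := (Sylow.unique_of_normal P hn).instSubsingleton
  have hQP : Q = P := Subsingleton.elim Q P
  rw [← hQP]
  exact hQ (Subgroup.mem_zpowers x)

/-- Burnside: a finite group with a central Sylow `p`-subgroup has a normal `p`-complement. -/
theorem hasNormalPComplement_of_central_sylow {X : Type*} [Group X] [Finite X] {p : ℕ}
    [Fact p.Prime] (Q : Sylow p X) (hQc : ∀ q ∈ (Q : Subgroup X), ∀ c : X, c * q = q * c) :
    Cfsg.HasNormalPComplement p X := by
  have hQ : Subgroup.normalizer ((Q : Subgroup X) : Set X)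
      ≤ Subgroup.centralizer ((Q : Subgroup X) : Set X) := by
    intro c _
    rw [Subgroup.mem_centralizer_iff]
    intro q hq
    exact (hQc q hq c).symm
  exact ⟨Q, (MonoidHom.transferSylow Q hQ).ker, inferInstance,
    MonoidHom.ker_transferSylow_isComplement' Q hQ⟩

/-- The centralizer of a normal Sylow `p`-subgroup has a normal `p`-complement. -/
theorem pn_centralizer_normal_sylow {H : Type*} [Group H] [Finite H] {p : ℕ} [Fact p.Prime]
    (P : Sylow p H) (hn : (P : Subgroup H).Normal) :
    Cfsg.Agent.Lib.lead.PN p (Subgroup.centralizer ((P : Subgroup H) : Set H)) := by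
  rw [← Cfsg.Agent.Lib.lead.hasNormalPComplement_subgroup_iff]
  obtain ⟨Q⟩ : Nonempty (Sylow p (Subgroup.centralizer ((P : Subgroup H) : Set H))) := inferInstance
  apply hasNormalPComplement_of_central_sylow Q
  intro q hq c
  obtain ⟨k, hk⟩ := Q.isPGroup' ⟨q, hq⟩
  have hk' : (q : H) ^ p ^ k = 1 := by
    have := congrArg (fun z : (Q : Subgroup (Subgroup.centralizer ((P : Subgroup H) : Set H)))
      => ((z : Subgroup.centralizer ((P : Subgroup H) : Set H)) : H)) hk
    simpa using this
  have hqP : (q : H) ∈ (P : Subgroup H) := mem_normal_sylow_of_pow P hn _ k hk'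
  have hc := c.2
  rw [Subgroup.mem_centralizer_iff] at hc
  apply Subtype.ext
  exact (hc _ hqP).symm

/-- The `p'`-elements of the centralizer of a normal Sylow `p`-subgroup lie in `O_{p'}`. -/
theorem mem_pPrimeCore_of_centralizer_normal_sylow {H : Type*} [Group H] [Finite H] {p : ℕ}
    [Fact p.Prime] (P : Sylow p H) (hn : (P : Subgroup H).Normal) (x : H)
    (hx : x ∈ Subgroup.centralizer ((P : Subgroup H) : Set H)) (hxo : (orderOf x).Coprime p) :
    x ∈ Cfsg.pPrimeCore p H := by
  have hp : p.Prime := Fact.out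
  have hPN := pn_centralizer_normal_sylow P hn
  have hCn : (Subgroup.centralizer ((P : Subgroup H) : Set H)).Normal := by
    constructor
    intro c hc g
    rw [Subgroup.mem_centralizer_iff] at hc ⊢
    intro u hu
    have h1 : g⁻¹ * u * g ∈ (P : Subgroup H) := by
      have := hn.conj_mem u hu g⁻¹
      simpa using this
    have h2 := hc _ h1
    calc u * (g * c * g⁻¹) = g * ((g⁻¹ * u * g) * c) * g⁻¹ := by group
      _ = g * (c * (g⁻¹ * u * g)) * g⁻¹ := by rw [h2]
      _ = g * c * g⁻¹ * u := by group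
  let N' : Subgroup H :=
    { carrier := {y | y ∈ Subgroup.centralizer ((P : Subgroup H) : Set H) ∧ (orderOf y).Coprime p}
      mul_mem' := fun {a b} ha hb =>
        ⟨Subgroup.mul_mem _ ha.1 hb.1, hPN a ha.1 b hb.1 ha.2 hb.2⟩
      one_mem' := ⟨Subgroup.one_mem _, by simp⟩
      inv_mem' := fun {a} ha => ⟨Subgroup.inv_mem _ ha.1, by simpa using ha.2⟩ }
  have hN'n : N'.Normal := by
    constructor
    intro y hy g
    refine ⟨hCn.conj_mem y hy.1 g, ?_⟩
    have : orderOf (g * y * g⁻¹) = orderOf y := by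
      have := MulEquiv.orderOf_eq (MulAut.conj g) y
      simpa [MulAut.conj_apply] using this
    rw [this]
    exact hy.2
  have hcard : ¬ p ∣ Nat.card N' := by
    intro hdvd
    obtain ⟨y, hy⟩ := exists_prime_orderOf_dvd_card' p hdvd
    have h1 : orderOf (y : H) = p := by rw [Subgroup.orderOf_coe]; exact hy
    have h2 : (orderOf (y : H)).Coprime p := y.2.2
    rw [h1] at h2
    exact hp.one_lt.ne' ((Nat.coprime_self p).mp h2)
  have hle : N' ≤ Cfsg.pPrimeCore p H := sc_le_pPrimeCore hp N' hcard
  exact hle ⟨hx, hxo⟩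

end Cfsg.Agent.Lib.helper78
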