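import Mathlib
import Cfsg.Prelude.Def_Blocks
import Cfsg.Prelude.Def_Solvable
import Cfsg.Agent.Lib.helper78.OddCent
import Cfsg.Agent.Lib.helper78.FrobSchur2
import Cfsg.Agent.Lib.helper79.GaloisChar
import Cfsg.Agent.Lib.helper82.Clifford
import Cfsg.Agent.Lib.helper82.Ito
import Cfsg.Agent.Lib.helper80.FMT2
import Cfsg.Agent.Lib.helper20.Osima
import Cfsg.Agent.S0921
import Cfsg.Agent.S4653

/-!
Real (more generally: stable under a Galois automorphism inverting the roots of unity of odd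
order) `2`-blocks of full defect are principal.

* `irr_eq_one_of_real_of_odd`: a real-valued irreducible character of a group of odd order is
  trivial.
* `block_principal_of_normal_sylow`: in a group with a normal Sylow `2`-subgroup, a `2`-block
  stable under `χ ↦ χ ∘ (· ^ k)` (with `g ^ k = g⁻¹` on elements of odd order) is principal.
* `block_principal_of_sylow_defect`: the same in any finite group for blocks whose defect groups
  are Sylow `2`-subgroups (via the First Main Theorem of helper80).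
-/

set_option autoImplicit false
set_option linter.style.haveILetI false
set_option linter.unusedSectionVars false

namespace Cfsg.Agent.Lib.helper78

open Cfsg
open scoped ComplexConjugate

universe u

/-- A real-valued irreducible character of a group of odd order is the trivial character. -/
theorem irr_eq_one_of_real_of_odd {N : Type u} [Group N] [Fintype N]
    (hodd : (Nat.card N).Coprime 2) (φ : IrrCharacter N)
    (hreal : ∀ n : N, conj ((φ : N → ℂ) n) = (φ : N → ℂ) n) :
    φ = Cfsg.Agent.Lib.helper83.trivIrr N := by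
  by_contra hne
  obtain ⟨d, ρ, hρ, h⟩ := φ.2
  have hreal' : ∀ g : N, conj (ρ.character g) = ρ.character g := by
    intro g; rw [h]; exact hreal g
  obtain ⟨-, c, hc, -, hν⟩ := fs_of_finrank_eq_one ρ (finrank_fsForms_of_real ρ hρ hreal')
  have hsum : ∑ g : N, ρ.character (g * g) = ∑ g : N, ρ.character g := by
    refine Fintype.sum_equiv (powCoprime hodd) _ _ (fun g => ?_)
    show ρ.character (g * g) = ρ.character (g ^ 2)
    rw [pow_two]
  rw [hsum, h, Cfsg.Agent.Lib.helper83.irr_sum_eq_zero φ hne, mul_zero] at hν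
  rcases hc with hc | hc
  · rw [hc] at hν; exact zero_ne_one hν
  · rw [hc] at hν
    have : (1 : ℂ) = 0 := by
      have h2 := congrArg (fun z : ℂ => -z) hν
      simpa using h2.symm
    exact one_ne_zero this

/-- In a group with a normal Sylow `2`-subgroup, a `2`-block stable under the Galois action
`χ ↦ χ ∘ (· ^ k)`, where `g ^ k = g⁻¹` for elements of odd order, is the principal block. -/
theorem block_principal_of_normal_sylow {H : Type u} [Group H] [Fintype H] {M : Ideal AlgInt}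
    (hM : IsPModular 2 M) (P : Sylow 2 H) (hn : (P : Subgroup H).Normal) (k : ℕ)
    (hk₂ : ∀ g : H, Odd (orderOf g) → g ^ k = g⁻¹)
    (c : Set (IrrCharacter H)) (hc : IsPBlock M c)
    (hstab : ∀ θ ∈ c, ∃ θ' ∈ c, ∀ h : H, (θ' : H → ℂ) h = (θ : H → ℂ) (h ^ k)) :
    c = principalBlock M H := by
  classical
  have hp2 : Fact (Nat.Prime 2) := ⟨Nat.prime_two⟩
  have hMp := Cfsg.Agent.Lib.helper20.isPrime_of_isPModular hM
  have hNn : (pPrimeCore 2 H).Normal := Cfsg.Agent.Lib.helper40.pPrimeCore_normal' 2 H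
  have : Fintype (pPrimeCore 2 H) := Fintype.ofFinite _
  have : Fintype (IrrCharacter (pPrimeCore 2 H)) := Fintype.ofFinite _
  have hNodd : (Nat.card (pPrimeCore 2 H)).Coprime 2 :=
    Cfsg.Agent.Lib.helper40.pPrimeCore_card_coprime 2 H
  -- `P` centralizes `O_{2'}(H)`
  have hPN : ∀ u ∈ (P : Subgroup H), ∀ n ∈ pPrimeCore 2 H, u * n * u⁻¹ = n := by
    intro u hu n hn'
    have h1 : u * n * u⁻¹ * n⁻¹ ∈ (P : Subgroup H) := by
      have := hn.conj_mem u⁻¹ (Subgroup.inv_mem _ hu) n
      have h2 : u * n * u⁻¹ * n⁻¹ = u * (n * u⁻¹ * n⁻¹) := by group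
      rw [h2]
      exact Subgroup.mul_mem _ hu this
    have h2 : u * n * u⁻¹ * n⁻¹ ∈ pPrimeCore 2 H :=
      Subgroup.mul_mem _ (hNn.conj_mem n hn' u) (Subgroup.inv_mem _ hn')
    have h3 := Cfsg.Agent.Lib.lead.eq_one_of_mem_of_coprime P.isPGroup' h1
      (Cfsg.Agent.Lib.helper40.orderOf_coprime_of_mem_pPrimeCore h2)
    calc u * n * u⁻¹ = (u * n * u⁻¹ * n⁻¹) * n := by group
      _ = n := by rw [h3, one_mul]
  -- Step 1: every member of `c` is trivial on `O_{2'}(H)`
  have key : ∀ θ ∈ c, ∀ n : pPrimeCore 2 H, (θ : H → ℂ) n = (θ : H → ℂ) 1 := by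
    intro θ hθ
    obtain ⟨φ, hφ, e, he, he0⟩ :=
      Cfsg.Agent.Lib.helper82.exists_constituent_restrict (pPrimeCore 2 H) θ.2
    obtain ⟨θ', hθ', hθ'k⟩ := hstab θ hθ
    have hS := Cfsg.Agent.S0921.result 2 M hM θ θ'
      (Cfsg.Agent.Lib.helper81.sameBlock_of_mem hMp hc hθ hθ') ⟨φ, hφ⟩
    have h1 : classInner (fun n : pPrimeCore 2 H => (θ : H → ℂ) n) φ ≠ 0 := by
      rw [he]; exact_mod_cast he0
    have h2 := hS.mp h1
    have hθ'N : ∀ n : pPrimeCore 2 H, (θ' : H → ℂ) n = conj ((θ : H → ℂ) n) := by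
      intro n
      have hnk : (n : H) ^ k = (n : H)⁻¹ := hk₂ _ (Nat.coprime_two_right.mp
        (Cfsg.Agent.Lib.helper40.orderOf_coprime_of_mem_pPrimeCore n.2))
      rw [hθ'k, hnk, Cfsg.Agent.Lib.helper81.irr_inv θ]
    have h3 : classInner (fun n : pPrimeCore 2 H => (θ : H → ℂ) n) (fun n => conj (φ n)) ≠ 0 := by
      intro h0
      apply h2
      have h4 : classInner (fun n : pPrimeCore 2 H => (θ' : H → ℂ) n) φ
          = conj (classInner (fun n : pPrimeCore 2 H => (θ : H → ℂ) n) (fun n => conj (φ n))) := by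
        unfold classInner
        rw [map_mul, map_sum]
        congr 1
        · simp
        · refine Finset.sum_congr rfl (fun n _ => ?_)
          beta_reduce
          rw [hθ'N n, map_mul, Complex.conj_conj]
      rw [h4, h0, map_zero]
    have hφ' : IsIrrCharacter (pPrimeCore 2 H) (fun n => conj (φ n)) :=
      Cfsg.Agent.Lib.helper79.isIrrCharacter_ringHom_comp (starRingEnd ℂ) hφ
    obtain ⟨x, hx⟩ := Cfsg.Agent.Lib.helper82.clifford_conj (pPrimeCore 2 H) θ.2 hφ hφ' h1 h3
    have hxx : x * x ∈ Cfsg.Agent.Lib.helper82.inertia (pPrimeCore 2 H) φ := by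
      rw [Cfsg.Agent.Lib.helper82.mem_inertia, Cfsg.Agent.Lib.helper82.cconj_mul, ← hx]
      have h4 : Cfsg.Agent.Lib.helper82.cconj (pPrimeCore 2 H) x (fun n => conj (φ n))
          = fun n => conj (Cfsg.Agent.Lib.helper82.cconj (pPrimeCore 2 H) x φ n) := rfl
      rw [h4, ← hx]
      funext n
      exact Complex.conj_conj _
    have hPT : ∀ u ∈ (P : Subgroup H),
        u ∈ Cfsg.Agent.Lib.helper82.inertia (pPrimeCore 2 H) φ := by
      intro u hu
      rw [Cfsg.Agent.Lib.helper82.mem_inertia_iff]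
      intro n
      congr 1
      exact Subtype.ext (hPN u hu n n.2)
    obtain ⟨s, m, hm, hsm⟩ := Nat.exists_eq_two_pow_mul_odd (orderOf_pos x).ne'
    have hxm : x ^ m ∈ (P : Subgroup H) := by
      apply mem_normal_sylow_of_pow P hn _ s
      rw [← pow_mul, mul_comm, ← hsm, pow_orderOf_eq_one]
    have hxT : x ∈ Cfsg.Agent.Lib.helper82.inertia (pPrimeCore 2 H) φ := by
      have hcop : Nat.Coprime m 2 := Nat.coprime_two_right.mpr hm
      have hb := Nat.gcd_eq_gcd_ab m 2
      rw [hcop] at hb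
      have hxe : x = (x ^ m) ^ (Nat.gcdA m 2) * (x * x) ^ (Nat.gcdB m 2) := by
        rw [← zpow_natCast x m, ← zpow_mul, ← pow_two, ← zpow_natCast x 2, ← zpow_mul,
          ← zpow_add]
        have h5 : (m : ℤ) * Nat.gcdA m 2 + ((2 : ℕ) : ℤ) * Nat.gcdB m 2 = 1 := by
          rw [← hb]; rfl
        rw [h5, zpow_one]
      rw [hxe]
      exact Subgroup.mul_mem _ (Subgroup.zpow_mem _ (hPT _ hxm) _) (Subgroup.zpow_mem _ hxx _)
    have hreal : ∀ n, conj (φ n) = φ n := by
      intro n
      have h4 := congrFun hx n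
      rw [(Cfsg.Agent.Lib.helper82.mem_inertia _ _ _).mp hxT] at h4
      exact h4
    have hφ1 := irr_eq_one_of_real_of_odd hNodd ⟨φ, hφ⟩ hreal
    have hφ1' : φ = fun _ => 1 := congrArg Subtype.val hφ1
    have hinv : ∀ g : H, Cfsg.Agent.Lib.helper82.cconj (pPrimeCore 2 H) g φ = φ := by
      intro g; rw [hφ1']; rfl
    intro n
    have e1 := Cfsg.Agent.Lib.helper82.clifford_invariant (pPrimeCore 2 H) θ.2 hφ hinv e he he0 n
    have e2 := Cfsg.Agent.Lib.helper82.clifford_invariant (pPrimeCore 2 H) θ.2 hφ hinv e he he0 1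
    rw [hφ1'] at e1 e2
    rw [e1]
    simpa using e2.symm
  -- Step 2: the trivial character lies in `c`
  obtain ⟨θ₀, hθ₀⟩ := Cfsg.Agent.Lib.helper81.isPBlock_nonempty hMp hc
  have hsupp : ∀ g : H, g ∉ pPrimeCore 2 H → blockCoeff c g = 0 := by
    intro g hg
    by_cases hgC : g ∈ Subgroup.centralizer ((P : Subgroup H) : Set H)
    · by_cases h2 : 2 ∣ orderOf g
      · exact Cfsg.Agent.Lib.helper20.blockCoeff_eq_zero_of_singular hM hc g h2
      · exfalso
        apply hg
        apply mem_pPrimeCore_of_centralizer_normal_sylow P hn g hgC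
        exact ((Nat.Prime.coprime_iff_not_dvd Nat.prime_two).mpr h2).symm
    · haveI := hn
      exact Cfsg.Agent.S4653.result 2 M hM (P : Subgroup H) P.isPGroup' c hc g hgC
  have hsum1 : ∑ g : H, blockCoeff c g = 1 := by
    have h1 := Cfsg.Agent.Lib.helper80.sum_blockCoeff_mul_irr c θ₀
    rw [if_pos hθ₀] at h1
    have h2 : ∀ g : H, blockCoeff c g * (θ₀ : H → ℂ) g = blockCoeff c g * (θ₀ : H → ℂ) 1 := by
      intro g
      by_cases hg : g ∈ pPrimeCore 2 H
      · rw [show (θ₀ : H → ℂ) g = (θ₀ : H → ℂ) 1 from key θ₀ hθ₀ ⟨g, hg⟩]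
      · rw [hsupp g hg, zero_mul, zero_mul]
    rw [Finset.sum_congr rfl (fun g _ => h2 g), ← Finset.sum_mul] at h1
    have hd0 : (θ₀ : H → ℂ) 1 ≠ 0 :=
      Cfsg.Agent.Lib.helper20.isIrrCharacter_one_ne_zero _ θ₀.2
    exact mul_right_cancel₀ hd0 (by rw [h1, one_mul])
  have htriv : Cfsg.Agent.Lib.helper83.trivIrr H ∈ c := by
    have h1 := Cfsg.Agent.Lib.helper80.sum_blockCoeff_mul_irr c (Cfsg.Agent.Lib.helper83.trivIrr H)
    by_contra hcon
    rw [if_neg hcon] at h1
    simp only [Cfsg.Agent.Lib.helper83.trivIrr_apply, mul_one] at h1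
    rw [hsum1] at h1
    exact one_ne_zero h1
  exact Cfsg.Agent.Lib.helper81.isPBlock_eq_blockOf hMp hc htriv

/-- The Brauer correspondence is compatible with the Galois action `χ ↦ χ ∘ (· ^ k)`. -/
theorem brInd_pow {G : Type u} [Group G] [Fintype G] {M : Ideal AlgInt} (P H : Subgroup G)
    [Fintype H] (k : ℕ) (hk : k.Coprime (Nat.card G)) {θ : H → ℂ} {χ : G → ℂ}
    (h : Cfsg.Agent.Lib.helper80.BrInd M P H θ χ) :
    Cfsg.Agent.Lib.helper80.BrInd M P H (fun x => θ (x ^ k)) (fun g => χ (g ^ k)) := by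
  intro z hz
  let eG : G ≃ G := powCoprime hk.symm
  have hkH : (Nat.card H).Coprime k :=
    Nat.Coprime.coprime_dvd_left (Subgroup.card_subgroup_dvd_card H) hk.symm
  let eH : H ≃ H := powCoprime hkH
  have heG : ∀ g : G, eG g = g ^ k := fun g => rfl
  have heH : ∀ x : H, eH x = x ^ k := fun x => rfl
  let z' : G → ℂ := fun g => z (eG.symm g)
  have hz' : Cfsg.Agent.Lib.helper80.classAlg M z' := by
    refine ⟨fun g x => ?_, fun g => hz.2 _⟩
    show z (eG.symm (x * g * x⁻¹)) = z (eG.symm g)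
    have h1 : eG.symm (x * g * x⁻¹) = x * eG.symm g * x⁻¹ := by
      apply eG.injective
      rw [Equiv.apply_symm_apply, heG, conj_pow, ← heG, Equiv.apply_symm_apply]
    rw [h1]
    exact hz.1 _ x
  have h1 := h z' hz'
  have e1 : Cfsg.Agent.Lib.helper80.om (fun g => χ (g ^ k)) z
      = Cfsg.Agent.Lib.helper80.om χ z' := by
    show (∑ g : G, z g * χ (g ^ k)) / χ (1 ^ k) = (∑ g : G, z' g * χ g) / χ 1
    rw [one_pow]
    congr 1
    refine Fintype.sum_equiv eG _ _ (fun g => ?_)
    show z g * χ (g ^ k) = z (eG.symm (eG g)) * χ (eG g)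
    rw [Equiv.symm_apply_apply, heG]
  have e2 : Cfsg.Agent.Lib.helper80.om (fun x => θ (x ^ k)) (Cfsg.Agent.Lib.helper80.brH P H z)
      = Cfsg.Agent.Lib.helper80.om θ (Cfsg.Agent.Lib.helper80.brH P H z') := by
    show (∑ x : H, Cfsg.Agent.Lib.helper80.brH P H z x * θ (x ^ k)) / θ (1 ^ k)
      = (∑ x : H, Cfsg.Agent.Lib.helper80.brH P H z' x * θ x) / θ 1
    rw [one_pow]
    congr 1
    refine Fintype.sum_equiv eH _ _ (fun x => ?_)
    have hcoe : ((eH x : H) : G) = (x : G) ^ k := by rw [heH]; rfl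
    have h2 : Cfsg.Agent.Lib.helper80.brH P H z' (eH x) = Cfsg.Agent.Lib.helper80.brH P H z x := by
      by_cases hx : (x : G) ∈ Subgroup.centralizer (P : Set G)
      · have hx' : ((eH x : H) : G) ∈ Subgroup.centralizer (P : Set G) := by
          rw [hcoe]; exact Subgroup.pow_mem _ hx k
        rw [Cfsg.Agent.Lib.helper80.brH_of_mem P H z hx,
          Cfsg.Agent.Lib.helper80.brH_of_mem P H z' hx']
        show z (eG.symm ((eH x : H) : G)) = z x
        rw [hcoe, ← heG, Equiv.symm_apply_apply]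
      · have hx' : ((eH x : H) : G) ∉ Subgroup.centralizer (P : Set G) := by
          intro hc
          apply hx
          rw [hcoe] at hc
          have h3 : (x : G) = ((x : G) ^ k) ^ ((Nat.card G).gcdB k) :=
            (eG.symm_apply_apply (x : G)).symm
          rw [h3]
          exact Subgroup.zpow_mem _ hc _
        rw [Cfsg.Agent.Lib.helper80.brH_of_not_mem P H z hx,
          Cfsg.Agent.Lib.helper80.brH_of_not_mem P H z' hx']
    rw [h2, heH]
  rw [e1, e2]
  exact h1

/-- The principal block of a subgroup `H ≥ C_G(P)` corresponds to the principal block of `G`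
under the Brauer map at the `p`-subgroup `P`. -/
theorem brInd_one {G : Type u} [Group G] [Fintype G] {p : ℕ} [Fact p.Prime] {M : Ideal AlgInt}
    (hM : IsPModular p M) (P H : Subgroup G) [Fintype H] (hP : IsPGroup p P)
    (hCH : Subgroup.centralizer (P : Set G) ≤ H) :
    Cfsg.Agent.Lib.helper80.BrInd M P H (fun _ : H => (1 : ℂ)) (fun _ : G => (1 : ℂ)) := by
  classical
  have hMp := Cfsg.Agent.Lib.helper20.isPrime_of_isPModular hM
  intro z hz
  show MemLocalIdeal M ((∑ x : H, Cfsg.Agent.Lib.helper80.brH P H z x * 1) / 1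
    - (∑ g : G, z g * 1) / 1)
  simp only [mul_one, div_one]
  have h1 : ∑ x : H, Cfsg.Agent.Lib.helper80.brH P H z x
      = ∑ g ∈ Finset.univ.filter (fun g : G => g ∈ Subgroup.centralizer (P : Set G)), z g := by
    rw [Finset.sum_filter]
    rw [← Cfsg.Agent.Lib.helper20.sum_subgroup_eq_sum H
      (fun g : G => if g ∈ Subgroup.centralizer (P : Set G) then z g else 0)
      (fun x hx => if_neg (fun hc => hx (hCH hc)))]
    refine Finset.sum_congr rfl (fun x _ => ?_)
    by_cases hx : (x : G) ∈ Subgroup.centralizer (P : Set G)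
    · rw [Cfsg.Agent.Lib.helper80.brH_of_mem P H z hx, if_pos hx]
    · rw [Cfsg.Agent.Lib.helper80.brH_of_not_mem P H z hx, if_neg hx]
  rw [h1, ← Finset.sum_filter_add_sum_filter_not Finset.univ
    (fun g : G => g ∈ Subgroup.centralizer (P : Set G)) z, sub_add_cancel_left]
  apply Cfsg.Agent.Lib.helper20.memLocalIdeal_neg
  exact Cfsg.Agent.Lib.helper80.sum_not_centralizer_memLocalIdeal hM P hP z
    (fun u _ x => hz.1 x u) hz.2

/-- A `2`-block whose defect groups are Sylow `2`-subgroups and which is stable under the Galois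
action `χ ↦ χ ∘ (· ^ k)`, where `k` is prime to the group order and `g ^ k = g⁻¹` for the elements
of odd order, is the principal block. -/
theorem block_principal_of_sylow_defect {G : Type u} [Group G] [Fintype G] {M : Ideal AlgInt}
    (hM : IsPModular 2 M) (k : ℕ) (hk : k.Coprime (Nat.card G))
    (hk₂ : ∀ g : G, Odd (orderOf g) → g ^ k = g⁻¹)
    (B : Set (IrrCharacter G)) (hB : IsPBlock M B) (P : Sylow 2 G)
    (hD : IsDefectGroup 2 M B (P : Subgroup G))
    (hstab : ∀ χ ∈ B, ∃ ψ ∈ B, ∀ g : G, (ψ : G → ℂ) g = (χ : G → ℂ) (g ^ k)) :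
    B = principalBlock M G := by
  classical
  have hp2 : Fact (Nat.Prime 2) := ⟨Nat.prime_two⟩
  have hMp := Cfsg.Agent.Lib.helper20.isPrime_of_isPModular hM
  obtain ⟨H, hH⟩ : ∃ H : Subgroup G, H = Subgroup.normalizer ((P : Subgroup G) : Set G) :=
    ⟨_, rfl⟩
  have : Fintype H := Fintype.ofFinite _
  have hP : IsPGroup 2 (P : Subgroup G) := P.isPGroup'
  obtain ⟨c, hc, hDc, -, hBr, -⟩ := Cfsg.Agent.Lib.helper80.fmt_down hM (P : Subgroup G) H hP
    hH.le hH.ge hB hD
  obtain ⟨χ₀, hχ₀⟩ := Cfsg.Agent.Lib.helper81.isPBlock_nonempty hMp hB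
  obtain ⟨ψ₀, hψ₀, hψ₀k⟩ := hstab χ₀ hχ₀
  have hkH : k.Coprime (Nat.card H) :=
    Nat.Coprime.coprime_dvd_right (Subgroup.card_subgroup_dvd_card H) hk
  have hcstab : ∀ θ ∈ c, ∃ θ' ∈ c, ∀ h : H, (θ' : H → ℂ) h = (θ : H → ℂ) (h ^ k) := by
    intro θ hθ
    let θ' : IrrCharacter H := ⟨fun h => (θ : H → ℂ) (h ^ k),
      Cfsg.Agent.Lib.helper79.isIrrCharacter_pow_coprime k hkH θ.2⟩
    refine ⟨θ', ?_, fun h => rfl⟩
    have h1 : Cfsg.Agent.Lib.helper80.BrInd M (P : Subgroup G) H (θ : H → ℂ) (χ₀ : G → ℂ) :=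
      hBr θ hθ χ₀ hχ₀
    have h2 : Cfsg.Agent.Lib.helper80.BrInd M (P : Subgroup G) H (θ' : H → ℂ) (ψ₀ : G → ℂ) := by
      have h4 := brInd_pow (P : Subgroup G) H k hk h1
      have e : (fun g => (χ₀ : G → ℂ) (g ^ k)) = (ψ₀ : G → ℂ) :=
        funext (fun g => (hψ₀k g).symm)
      rw [e] at h4
      exact h4
    have h3 : Cfsg.Agent.Lib.helper80.BrInd M (P : Subgroup G) H (θ : H → ℂ) (ψ₀ : G → ℂ) :=
      hBr θ hθ ψ₀ hψ₀
    exact Cfsg.Agent.Lib.helper80.BrInd.mem_of_defect hM (P : Subgroup G) H hP hH.le hH.ge hc hDc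
      hθ h3 h2
  have hPH : (P : Subgroup G) ≤ H := by rw [hH]; exact Subgroup.le_normalizer
  have hPHn : ((P.subtype hPH : Sylow 2 H) : Subgroup H).Normal := by
    rw [Sylow.coe_subtype]
    subst hH
    exact Subgroup.normal_in_normalizer
  have hk₂H : ∀ h : H, Odd (orderOf h) → h ^ k = h⁻¹ := by
    intro h hh
    apply Subtype.ext
    rw [← Subgroup.orderOf_coe] at hh
    simpa using hk₂ (h : G) hh
  have hcp := block_principal_of_normal_sylow hM (P.subtype hPH) hPHn k hk₂H c hc hcstab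
  have htH : Cfsg.Agent.Lib.helper83.trivIrr H ∈ c := by
    rw [hcp]
    exact Cfsg.Agent.Lib.helper81.sameBlock_refl hMp _
  have hb1 : Cfsg.Agent.Lib.helper80.BrInd M (P : Subgroup G) H
      (Cfsg.Agent.Lib.helper83.trivIrr H : H → ℂ) (χ₀ : G → ℂ) := hBr _ htH χ₀ hχ₀
  have hb2 : Cfsg.Agent.Lib.helper80.BrInd M (P : Subgroup G) H
      (Cfsg.Agent.Lib.helper83.trivIrr H : H → ℂ) (Cfsg.Agent.Lib.helper83.trivIrr G : G → ℂ) :=
    brInd_one hM (P : Subgroup G) H hP (by rw [hH]; exact Subgroup.centralizer_le_normalizer _)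
  have hs : SameBlock M (χ₀ : G → ℂ) (Cfsg.Agent.Lib.helper83.trivIrr G : G → ℂ) :=
    Cfsg.Agent.Lib.helper80.BrInd.sameBlock hMp hb1 hb2
  have htG : Cfsg.Agent.Lib.helper83.trivIrr G ∈ B := by
    rw [Cfsg.Agent.Lib.helper81.isPBlock_eq_blockOf hMp hB hχ₀]
    exact hs
  exact Cfsg.Agent.Lib.helper81.isPBlock_eq_blockOf hMp hB htG

/-- A block of full defect (in the sense of degrees) has a Sylow `p`-subgroup as a defect
group. -/
theorem exists_sylow_defect_of_blockDefect {G : Type u} [Group G] [Fintype G] {p : ℕ}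
    [Fact p.Prime] {M : Ideal AlgInt} (hM : IsPModular p M) {B : Set (IrrCharacter G)}
    (hB : IsPBlock M B) (hdef : blockDefect p B = (Nat.card G).factorization p) :
    ∃ P : Sylow p G, IsDefectGroup p M B (P : Subgroup G) := by
  classical
  have hp : p.Prime := Fact.out
  have hMp := Cfsg.Agent.Lib.helper20.isPrime_of_isPModular hM
  obtain ⟨D, hD⟩ := Cfsg.Agent.Lib.helper80.exists_isDefectGroup p hMp hB
  obtain ⟨g, hg, hs⟩ := (Cfsg.Agent.Lib.helper80.isDefectGroup_iff p M B D).mp hD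
  -- a character of degree prime to `p` in `B`
  have hex : ∃ χ ∈ B, ¬ p ∣ charDegree (χ : G → ℂ) := by
    obtain ⟨χ₁, hχ₁⟩ := Cfsg.Agent.Lib.helper81.isPBlock_nonempty hMp hB
    have hne : ((fun χ : IrrCharacter G => (charDegree (χ : G → ℂ)).factorization p) '' B).Nonempty :=
      ⟨_, χ₁, hχ₁, rfl⟩
    have hzero : ∃ χ ∈ B, (charDegree (χ : G → ℂ)).factorization p = 0 := by
      by_cases ha : (Nat.card G).factorization p = 0
      · refine ⟨χ₁, hχ₁, ?_⟩
        have h1 := Cfsg.Agent.Lib.helper81.irr_degree_dvd_card χ₁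
        have h2 := (Nat.factorization_le_iff_dvd
          (Cfsg.Agent.Lib.helper81.irr_charDegree_pos χ₁).ne' Nat.card_pos.ne').mpr h1 p
        omega
      · have h0 : sInf ((fun χ : IrrCharacter G => (charDegree (χ : G → ℂ)).factorization p) '' B)
            = 0 := by
          unfold blockDefect at hdef
          omega
        have h1 := Nat.sInf_mem hne
        rw [h0] at h1
        obtain ⟨χ, hχ, hχ0⟩ := h1
        exact ⟨χ, hχ, hχ0⟩
    obtain ⟨χ, hχ, hχ0⟩ := hzero
    refine ⟨χ, hχ, ?_⟩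
    rcases (Nat.factorization_eq_zero_iff _ _).mp hχ0 with h | h | h
    · exact absurd hp h
    · exact h
    · exact absurd h (Cfsg.Agent.Lib.helper81.irr_charDegree_pos χ).ne'
  obtain ⟨χ, hχ, hχp⟩ := hex
  have hind : ¬ p ∣ (Subgroup.centralizer ({g} : Set G)).index := by
    intro hdvd
    apply hg.2.2 χ hχ
    unfold centralChar
    rw [mul_div_assoc]
    apply Cfsg.Agent.Lib.helper20.memLocalIdeal_mul_right hMp
      (Cfsg.Agent.Lib.helper80.memLocalIdeal_natCast hM hdvd)
    rw [Cfsg.Agent.Lib.helper81.irr_one_eq_charDegree χ]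
    exact Cfsg.Agent.Lib.helper80.memLocalRing_div_natCast hM
      (⟨_, Cfsg.Agent.Lib.helper81.irr_isIntegral χ g⟩ : AlgInt) hχp
  have hcard : (Nat.card (Subgroup.centralizer ({g} : Set G))).factorization p
      = (Nat.card G).factorization p := by
    have h1 := Subgroup.card_mul_index (Subgroup.centralizer ({g} : Set G))
    have h2 : (Subgroup.centralizer ({g} : Set G)).index ≠ 0 := Subgroup.index_ne_zero_of_finite
    rw [← h1, Nat.factorization_mul Nat.card_pos.ne' h2]
    have h3 : ((Subgroup.centralizer ({g} : Set G)).index).factorization p = 0 :=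
      Nat.factorization_eq_zero_of_not_dvd hind
    simp [h3]
  have hDcard : Nat.card D = p ^ (Nat.card G).factorization p := by
    rw [← hcard]
    exact Cfsg.Agent.Lib.helper80.IsSylowCent.card hs
  exact ⟨Sylow.ofCard D hDcard, hD⟩

/-- A `2`-block of full defect stable under the Galois action `χ ↦ χ ∘ (· ^ k)`, where `k` is
prime to the group order and `g ^ k = g⁻¹` for elements of odd order, is the principal block. -/
theorem block_principal_of_full_defect {G : Type u} [Group G] [Fintype G] {M : Ideal AlgInt}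
    (hM : IsPModular 2 M) (k : ℕ) (hk : k.Coprime (Nat.card G))
    (hk₂ : ∀ g : G, Odd (orderOf g) → g ^ k = g⁻¹)
    (B : Set (IrrCharacter G)) (hB : IsPBlock M B)
    (hdef : blockDefect 2 B = (Nat.card G).factorization 2)
    (hstab : ∀ χ ∈ B, ∃ ψ ∈ B, ∀ g : G, (ψ : G → ℂ) g = (χ : G → ℂ) (g ^ k)) :
    B = principalBlock M G := by
  have hp2 : Fact (Nat.Prime 2) := ⟨Nat.prime_two⟩
  obtain ⟨P, hP⟩ := exists_sylow_defect_of_blockDefect hM hB hdef
  exact block_principal_of_sylow_defect hM k hk hk₂ B hB P hP hstab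

/-- The exponent `|G| - 1` is prime to `|G|` and inverts every element. -/
theorem card_sub_one_coprime (G : Type u) [Group G] [Finite G] :
    (Nat.card G - 1).Coprime (Nat.card G) := by
  obtain ⟨m, hm⟩ : ∃ m, Nat.card G = m + 1 := ⟨Nat.card G - 1, by
    have : 0 < Nat.card G := Nat.card_pos
    omega⟩
  rw [hm]
  simp

theorem pow_card_sub_one {G : Type u} [Group G] [Finite G] (g : G) :
    g ^ (Nat.card G - 1) = g⁻¹ := by
  apply eq_inv_of_mul_eq_one_left
  rw [← pow_succ]
  have : Nat.card G - 1 + 1 = Nat.card G := by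
    have : 0 < Nat.card G := Nat.card_pos
    omega
  rw [this, pow_card_eq_one']

/-- The complex conjugate of an irreducible character, as an irreducible character. -/
noncomputable def conjIrr {G : Type u} [Group G] [Finite G] (χ : IrrCharacter G) :
    IrrCharacter G :=
  ⟨fun g => conj ((χ : G → ℂ) g),
    Cfsg.Agent.Lib.helper79.isIrrCharacter_ringHom_comp (starRingEnd ℂ) χ.2⟩

theorem conjIrr_apply {G : Type u} [Group G] [Finite G] (χ : IrrCharacter G) (g : G) :
    (conjIrr χ : G → ℂ) g = conj ((χ : G → ℂ) g) := rfl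

theorem conjIrr_eq_pow {G : Type u} [Group G] [Fintype G] (χ : IrrCharacter G) (g : G) :
    (conjIrr χ : G → ℂ) g = (χ : G → ℂ) (g ^ (Nat.card G - 1)) := by
  rw [pow_card_sub_one, Cfsg.Agent.Lib.helper81.irr_inv χ]
  rfl

/-- A `2`-block whose defect groups are Sylow `2`-subgroups and which is closed under complex
conjugation is the principal block. -/
theorem block_principal_of_real {G : Type u} [Group G] [Fintype G] {M : Ideal AlgInt}
    (hM : IsPModular 2 M) (B : Set (IrrCharacter G)) (hB : IsPBlock M B) (P : Sylow 2 G)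
    (hD : IsDefectGroup 2 M B (P : Subgroup G)) (hstab : ∀ χ ∈ B, conjIrr χ ∈ B) :
    B = principalBlock M G :=
  block_principal_of_sylow_defect hM (Nat.card G - 1) (card_sub_one_coprime G)
    (fun g _ => pow_card_sub_one g) B hB P hD
    (fun χ hχ => ⟨conjIrr χ, hstab χ hχ, fun g => conjIrr_eq_pow χ g⟩)

end Cfsg.Agent.Lib.helper78
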