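import Mathlib
import Cfsg.Prelude.Def_Blocks
import Cfsg.Agent.Lib.helper78.RealBlock
import Cfsg.Agent.Lib.helper4.BrauerInd
import Cfsg.Agent.Lib.helper4.CharDecomp

/-!
The principal `2`-block of a finite group with Sylow `2`-subgroups of order `2 ^ a` has at most
`4 ^ a` irreducible characters (Brauer's bound `k(B) ≤ p ^ (2 d)` for the principal `2`-block).

The class function `oddFun a` (`2 ^ a` on the elements of odd order, zero elsewhere) is a
generalized character by Brauer's characterization of characters; its multiplicity in every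
character of the principal block is a nonzero integer, and its norm is at most `4 ^ a`.
-/

set_option autoImplicit false
set_option linter.style.haveILetI false
set_option linter.unusedSectionVars false

namespace Cfsg.Agent.Lib.helper78

open Cfsg
open scoped ComplexConjugate

universe u

/-- An element whose order is prime to the index of a normal subgroup lies in it. -/
theorem mem_of_coprime_index {E : Type*} [Group E] (N : Subgroup E) [N.Normal] (y : E)
    (h : (orderOf y).Coprime N.index) : y ∈ N := by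
  have h1 : y ^ N.index ∈ N := Subgroup.pow_index_mem N y
  obtain ⟨m, hm⟩ := exists_pow_eq_self_of_coprime h.symm
  rw [← hm]
  exact Subgroup.pow_mem _ h1 m

/-- In an elementary group the elements of odd order are closed under multiplication. -/
theorem pn_two_of_isElementary {E : Type u} [Group E] [Finite E] {r : ℕ} (hr : r.Prime)
    (hE : IsElementary r E) : Cfsg.Agent.Lib.lead.PN 2 (⊤ : Subgroup E) := by
  have hp2 : Fact (Nat.Prime 2) := ⟨Nat.prime_two⟩
  obtain ⟨x, hxc, hxo, k, hk⟩ := hE
  have hcx : ∀ g : E, Commute g x := fun g => Subgroup.mem_center_iff.mp hxc g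
  have hZn : (Subgroup.zpowers x).Normal := by
    constructor
    intro n hn g
    obtain ⟨j, rfl⟩ := Subgroup.mem_zpowers_iff.mp hn
    have h1 : g * x ^ j * g⁻¹ = x ^ j := by
      rw [((hcx g).zpow_right j).eq, mul_inv_cancel_right]
    rw [h1]
    exact hn
  by_cases h2 : r = 2
  · subst h2
    intro a _ b _ ha hb
    have ha' : a ∈ Subgroup.zpowers x :=
      mem_of_coprime_index _ a (by rw [hk]; exact Nat.Coprime.pow_right k ha)
    have hb' : b ∈ Subgroup.zpowers x :=
      mem_of_coprime_index _ b (by rw [hk]; exact Nat.Coprime.pow_right k hb)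
    exact Nat.Coprime.coprime_dvd_left
      (orderOf_dvd_of_mem_zpowers (Subgroup.mul_mem _ ha' hb')) hxo
  · rw [Cfsg.Agent.Lib.lead.PN_top_iff]
    obtain ⟨Q⟩ : Nonempty (Sylow 2 E) := inferInstance
    apply hasNormalPComplement_of_central_sylow Q
    intro q hq c
    obtain ⟨s, hs⟩ := Q.isPGroup' ⟨q, hq⟩
    have hs' : q ^ 2 ^ s = 1 := by simpa using congrArg Subtype.val hs
    have hq' : q ∈ Subgroup.zpowers x := by
      apply mem_of_coprime_index
      rw [hk]
      have h3 : orderOf q ∣ 2 ^ s := orderOf_dvd_of_pow_eq_one hs'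
      exact Nat.Coprime.coprime_dvd_left h3
        (Nat.Coprime.pow _ _ ((Nat.coprime_primes Nat.prime_two hr).mpr (Ne.symm h2)))
    obtain ⟨j, rfl⟩ := Subgroup.mem_zpowers_iff.mp hq'
    exact ((hcx c).zpow_right j).eq

section OddFun

variable {G : Type u} [Group G]

/-- The function `2 ^ a` on the elements of odd order, zero elsewhere. -/
noncomputable def oddFun (a : ℕ) (g : G) : ℂ := by
  classical exact if Odd (orderOf g) then (2 : ℂ) ^ a else 0

theorem oddFun_of_odd (a : ℕ) {g : G} (h : Odd (orderOf g)) : oddFun a g = (2 : ℂ) ^ a := by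
  unfold oddFun
  rw [if_pos h]

theorem oddFun_of_not_odd (a : ℕ) {g : G} (h : ¬ Odd (orderOf g)) : oddFun a g = 0 := by
  unfold oddFun
  rw [if_neg h]

theorem orderOf_conj' (g x : G) : orderOf (x * g * x⁻¹) = orderOf g := by
  have := MulEquiv.orderOf_eq (MulAut.conj x) g
  simpa [MulAut.conj_apply] using this

theorem oddFun_classFun (a : ℕ) : IsClassFunction G (oddFun (G := G) a) := by
  intro g x
  unfold oddFun
  rw [orderOf_conj']

theorem oddFun_inv (a : ℕ) (g : G) : oddFun a g⁻¹ = oddFun a g := by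
  unfold oddFun
  rw [orderOf_inv]

theorem oddFun_eq_mul (a : ℕ) (g : G) : oddFun a g = (2 : ℂ) ^ a * oddFun 0 g := by
  by_cases h : Odd (orderOf g)
  · rw [oddFun_of_odd a h, oddFun_of_odd 0 h, pow_zero, mul_one]
  · rw [oddFun_of_not_odd a h, oddFun_of_not_odd 0 h, mul_zero]

/-- `2 ^ a` times the indicator function of the elements of odd order is a generalized character,
where `2 ^ a` is the `2`-part of the group order. -/
theorem isGeneralizedCharacter_oddFun [Fintype G] :
    IsGeneralizedCharacter G (oddFun (G := G) ((Nat.card G).factorization 2)) := by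
  classical
  have hp2 : Fact (Nat.Prime 2) := ⟨Nat.prime_two⟩
  apply Cfsg.Agent.Lib.helper4.brauer_characterization _ (oddFun_classFun _)
  intro E r hr hE
  have : Fintype E := Fintype.ofFinite _
  have hPN := pn_two_of_isElementary hr hE
  obtain ⟨L, hL⟩ : ∃ L : Subgroup E, L = Cfsg.Agent.Lib.lead.ppSub 2 hPN := ⟨_, rfl⟩
  have hLn : L.Normal := by rw [hL]; infer_instance
  have hmemL : ∀ y : E, y ∈ L ↔ (orderOf y).Coprime 2 := by
    intro y; rw [hL]; exact Cfsg.Agent.Lib.lead.mem_ppSub hPN y
  have : Fintype L := Fintype.ofFinite _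
  -- the index of `L` is a power of two dividing `2 ^ a`
  have hpg : IsPGroup 2 (E ⧸ L) := by
    intro y
    induction y using QuotientGroup.induction_on with
    | H y =>
      obtain ⟨k, hk⟩ := Cfsg.Agent.Lib.lead.exists_pow_coprime 2 y
      refine ⟨k, ?_⟩
      rw [← QuotientGroup.mk_pow]
      exact (QuotientGroup.eq_one_iff _).mpr ((hmemL _).mpr hk)
  obtain ⟨j, hj⟩ := IsPGroup.iff_card.mp hpg
  have hidx : L.index = 2 ^ j := by rw [Subgroup.index_eq_card, hj]
  have hja : j ≤ (Nat.card G).factorization 2 := by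
    rw [← Nat.Prime.pow_dvd_iff_le_factorization Nat.prime_two Nat.card_pos.ne', ← hidx]
    exact (Subgroup.index_dvd_card L).trans (Subgroup.card_subgroup_dvd_card E)
  have hfun : (fun e : E => oddFun ((Nat.card G).factorization 2) (e : G))
      = (2 ^ ((Nat.card G).factorization 2 - j)) • Cfsg.indFun L (fun _ => (1 : ℂ)) := by
    funext e
    rw [Pi.smul_apply, nsmul_eq_mul]
    by_cases he : e ∈ L
    · have h1 : Odd (orderOf (e : G)) := by
        rw [Subgroup.orderOf_coe]
        exact Nat.coprime_two_right.mp ((hmemL e).mp he)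
      rw [oddFun_of_odd _ h1]
      have h2 := Cfsg.Agent.Lib.helper82.indFun_apply_mem L (fun _ => (1 : ℂ)) ⟨e, he⟩
      have h3 : ∑ x : E, Cfsg.Agent.Lib.helper82.cconj L x (fun _ => (1 : ℂ)) ⟨e, he⟩
          = (Nat.card E : ℂ) := by
        have h4 : ∀ x : E, Cfsg.Agent.Lib.helper82.cconj L x (fun _ => (1 : ℂ)) ⟨e, he⟩ = 1 :=
          fun x => rfl
        rw [Finset.sum_congr rfl (fun x _ => h4 x), Finset.sum_const, Finset.card_univ,
          Nat.card_eq_fintype_card]
        simp
      rw [h3] at h2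
      have h5 : (Nat.card E : ℂ) = (Nat.card L : ℂ) * (2 : ℂ) ^ j := by
        rw [← Subgroup.card_mul_index L, hidx]
        push_cast
        ring
      have hL0 : (Nat.card L : ℂ) ≠ 0 := by exact_mod_cast Nat.card_pos.ne'
      have h6 : Cfsg.indFun L (fun _ => (1 : ℂ)) e = (2 : ℂ) ^ j := by
        have h7 : ((⟨e, he⟩ : L) : E) = e := rfl
        rw [h7] at h2
        rw [h2, h5, ← mul_assoc, inv_mul_cancel₀ hL0, one_mul]
      rw [h6]
      push_cast
      rw [← pow_add, Nat.sub_add_cancel hja]
    · have h1 : ¬ Odd (orderOf (e : G)) := by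
        rw [Subgroup.orderOf_coe]
        intro h
        exact he ((hmemL e).mpr (Nat.coprime_two_right.mpr h))
      rw [oddFun_of_not_odd _ h1, Cfsg.Agent.Lib.helper82.indFun_apply_not_mem L _ he, mul_zero]
  rw [hfun]
  exact Cfsg.Agent.Lib.helper4.isGeneralizedCharacter_nsmul _
    (Cfsg.Agent.Lib.helper4.isGeneralizedCharacter_of_isCharacter
      (Cfsg.Agent.Lib.helper4.isCharacter_indFun L Cfsg.Agent.Lib.helper4.isCharacter_one))

end OddFun

section Count

variable {G : Type u} [Group G] [Fintype G]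

open scoped Classical in
/-- The number of elements of odd order of a finite group is odd. -/
theorem odd_card_filter_odd_order :
    Odd (Finset.univ.filter (fun g : G => Odd (orderOf g))).card := by
  classical
  obtain ⟨S, hS⟩ : ∃ S : Finset G, S = Finset.univ.filter (fun g : G => Odd (orderOf g)) :=
    ⟨_, rfl⟩
  rw [← hS]
  have hmem : ∀ g : G, g ∈ S ↔ Odd (orderOf g) := by
    intro g; rw [hS]; simp
  have h1 : (1 : G) ∈ S := by rw [hmem]; simp
  have hsum : ∑ x ∈ S.erase 1, (1 : ZMod 2) = 0 := by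
    refine Finset.sum_involution (fun a _ => a⁻¹) (fun a _ => by decide) ?_ ?_
      (fun a _ => inv_inv a)
    · intro a ha _ hinv
      rw [Finset.mem_erase, hmem] at ha
      apply ha.1
      have h2 : a ^ 2 = 1 := by
        rw [pow_two]
        nth_rewrite 1 [← hinv]
        exact inv_mul_cancel a
      have h3 : orderOf a ∣ 2 := orderOf_dvd_of_pow_eq_one h2
      have h4 : orderOf a = 1 := by
        rcases (Nat.dvd_prime Nat.prime_two).mp h3 with h | h
        · exact h
        · exfalso
          have h5 := ha.2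
          rw [h] at h5
          exact (by decide : ¬ Odd 2) h5
      exact orderOf_eq_one_iff.mp h4
    · intro a ha
      rw [Finset.mem_erase, hmem] at ha ⊢
      exact ⟨inv_ne_one.mpr ha.1, by rw [orderOf_inv]; exact ha.2⟩
  rw [Finset.sum_const, nsmul_eq_mul, mul_one] at hsum
  have heven : Even (S.erase 1).card := ZMod.natCast_eq_zero_iff_even.mp hsum
  have hcard : S.card = (S.erase 1).card + 1 := (Finset.card_erase_add_one h1).symm
  rw [hcard]
  exact heven.add_one

/-- Brauer's bound for the principal `2`-block: it has at most `4 ^ a` irreducible characters,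
where `2 ^ a` is the order of a Sylow `2`-subgroup. -/
theorem card_principalBlock_le {M : Ideal AlgInt} (hM : IsPModular 2 M) :
    Nat.card {ψ : IrrCharacter G // ψ ∈ principalBlock M G}
      ≤ 2 ^ (2 * (Nat.card G).factorization 2) := by
  classical
  have hp2 : Fact (Nat.Prime 2) := ⟨Nat.prime_two⟩
  have hMp := Cfsg.Agent.Lib.helper20.isPrime_of_isPModular hM
  have : Fintype (IrrCharacter G) := Fintype.ofFinite _
  obtain ⟨a, ha⟩ : ∃ a : ℕ, a = (Nat.card G).factorization 2 := ⟨_, rfl⟩
  rw [← ha]
  have hγ : IsGeneralizedCharacter G (oddFun (G := G) a) := by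
    rw [ha]; exact isGeneralizedCharacter_oddFun
  have hγc : IsClassFunction G (oddFun (G := G) a) := oddFun_classFun a
  choose z hz using fun ψ : IrrCharacter G =>
    Cfsg.Agent.Lib.helper4.exists_int_classInner_irr hγ ψ.2
  have hG0 : (Nat.card G : ℂ) ≠ 0 := by exact_mod_cast Nat.card_pos.ne'
  -- Parseval
  have hpars : classInner (oddFun (G := G) a) (oddFun a) = ((∑ ψ, (z ψ) ^ 2 : ℤ) : ℂ) := by
    have e := Cfsg.Agent.Lib.helper4.classFunction_eq_sum_irr hγc
    have h1 := Cfsg.Agent.Lib.helper4.classInner_sum_irr_smul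
      (fun ψ : IrrCharacter G => classInner (oddFun a) (ψ : G → ℂ))
      (fun ψ : IrrCharacter G => classInner (oddFun a) (ψ : G → ℂ))
    rw [← e] at h1
    rw [h1]
    push_cast
    refine Finset.sum_congr rfl (fun ψ _ => ?_)
    rw [hz ψ, map_intCast, pow_two]
  obtain ⟨n, hn⟩ : ∃ n : ℕ, n = (Finset.univ.filter (fun g : G => Odd (orderOf g))).card :=
    ⟨_, rfl⟩
  have hdirect : classInner (oddFun (G := G) a) (oddFun a)
      = (Nat.card G : ℂ)⁻¹ * ((4 : ℂ) ^ a * n) := by
    unfold classInner
    congr 1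
    have h1 : ∀ g : G, oddFun a g * conj (oddFun a g)
        = if Odd (orderOf g) then (4 : ℂ) ^ a else 0 := by
      intro g
      by_cases h : Odd (orderOf g)
      · rw [oddFun_of_odd a h, if_pos h, map_pow, ← mul_pow]
        have : (2 : ℂ) * conj (2 : ℂ) = 4 := by
          rw [show (2 : ℂ) = ((2 : ℕ) : ℂ) by norm_num, Complex.conj_natCast]; norm_num
        rw [this]
      · rw [oddFun_of_not_odd a h, if_neg h, zero_mul]
    rw [Finset.sum_congr rfl (fun g _ => h1 g), ← Finset.sum_filter, Finset.sum_const,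
      nsmul_eq_mul, mul_comm, hn]
  have hS : (∑ ψ, (z ψ) ^ 2 : ℤ) ≤ 4 ^ a := by
    have h1 : (Nat.card G : ℂ) * ((∑ ψ, (z ψ) ^ 2 : ℤ) : ℂ) = (4 : ℂ) ^ a * n := by
      rw [← hpars, hdirect, ← mul_assoc, mul_inv_cancel₀ hG0, one_mul]
    have h2 : (Nat.card G : ℤ) * (∑ ψ, (z ψ) ^ 2) = 4 ^ a * n := by exact_mod_cast h1
    have h3 : (n : ℤ) ≤ Nat.card G := by
      have h4 : n ≤ Fintype.card G := by rw [hn]; exact Finset.card_le_univ _
      rw [Nat.card_eq_fintype_card]
      exact_mod_cast h4
    have hGpos : (0 : ℤ) < Nat.card G := by exact_mod_cast Nat.card_pos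
    by_contra hcon
    push Not at hcon
    have h5 : (Nat.card G : ℤ) * 4 ^ a < (Nat.card G : ℤ) * (∑ ψ, (z ψ) ^ 2) :=
      mul_lt_mul_of_pos_left hcon hGpos
    have h6 : (4 : ℤ) ^ a * n ≤ 4 ^ a * Nat.card G :=
      mul_le_mul_of_nonneg_left h3 (by positivity)
    rw [h2] at h5
    linarith
  -- nonvanishing on the principal block
  have hnz : ∀ ψ : IrrCharacter G, ψ ∈ principalBlock M G → z ψ ≠ 0 := by
    intro ψ hψ h0
    have h1 := hz ψ
    rw [h0, Int.cast_zero] at h1
    have h2 : ∑ g : G, oddFun 0 g * (ψ : G → ℂ) g = 0 := by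
      unfold classInner at h1
      have h3 : ∑ g : G, oddFun a g * conj ((ψ : G → ℂ) g) = 0 := by
        rcases mul_eq_zero.mp h1 with h | h
        · exact absurd (inv_eq_zero.mp h) hG0
        · exact h
      have h4 : ∑ g : G, oddFun a g * conj ((ψ : G → ℂ) g)
          = (2 : ℂ) ^ a * ∑ g : G, oddFun 0 g * (ψ : G → ℂ) g := by
        rw [Finset.mul_sum, ← Equiv.sum_comp (Equiv.inv G)]
        refine Finset.sum_congr rfl (fun g _ => ?_)
        rw [Equiv.inv_apply, oddFun_inv, Cfsg.Agent.Lib.helper81.irr_inv ψ g, Complex.conj_conj,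
          oddFun_eq_mul a g, mul_assoc]
      rw [h4] at h3
      exact (mul_eq_zero.mp h3).resolve_left (pow_ne_zero _ two_ne_zero)
    have hcl : IsClassFunction G (oddFun (G := G) 0) := oddFun_classFun 0
    have hR : ∀ g : G, MemLocalRing M (oddFun 0 g) := by
      intro g
      by_cases h : Odd (orderOf g)
      · rw [oddFun_of_odd 0 h, pow_zero]
        exact Cfsg.Agent.Lib.helper20.memLocalRing_one hMp
      · rw [oddFun_of_not_odd 0 h]
        exact Cfsg.Agent.Lib.helper20.memLocalRing_zero hMp
    have h5 := Cfsg.Agent.Lib.helper80.memLocalIdeal_om_sub hMp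
      (Cfsg.Agent.Lib.helper83.trivIrr G) ψ hψ (oddFun 0) hcl hR
    have h6 : Cfsg.Agent.Lib.helper80.om (ψ : G → ℂ) (oddFun 0) = 0 := by
      unfold Cfsg.Agent.Lib.helper80.om
      rw [h2, zero_div]
    have h7 : Cfsg.Agent.Lib.helper80.om (Cfsg.Agent.Lib.helper83.trivIrr G : G → ℂ) (oddFun 0)
        = (n : ℂ) := by
      unfold Cfsg.Agent.Lib.helper80.om
      simp only [Cfsg.Agent.Lib.helper83.trivIrr_apply, mul_one, div_one]
      have h8 : ∀ g : G, oddFun 0 g = if Odd (orderOf g) then (1 : ℂ) else 0 := by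
        intro g
        by_cases h : Odd (orderOf g)
        · rw [oddFun_of_odd 0 h, pow_zero, if_pos h]
        · rw [oddFun_of_not_odd 0 h, if_neg h]
      rw [Finset.sum_congr rfl (fun g _ => h8 g), Finset.sum_boole, hn]
    rw [h6, h7, sub_zero] at h5
    have hodd : Odd n := by rw [hn]; exact odd_card_filter_odd_order
    exact Cfsg.Agent.Lib.helper80.not_memLocalIdeal_natCast hM
      (fun hdvd => (Nat.not_even_iff_odd.mpr hodd) (even_iff_two_dvd.mpr hdvd)) h5
  have hcount : (Nat.card {ψ : IrrCharacter G // ψ ∈ principalBlock M G} : ℤ)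
      ≤ ∑ ψ, (z ψ) ^ 2 := by
    rw [Nat.card_eq_fintype_card, Fintype.card_subtype]
    calc ((Finset.univ.filter (fun ψ : IrrCharacter G => ψ ∈ principalBlock M G)).card : ℤ)
        = ∑ ψ ∈ Finset.univ.filter (fun ψ : IrrCharacter G => ψ ∈ principalBlock M G),
            (1 : ℤ) := by simp
      _ ≤ ∑ ψ ∈ Finset.univ.filter (fun ψ : IrrCharacter G => ψ ∈ principalBlock M G),
            (z ψ) ^ 2 := by
          apply Finset.sum_le_sum
          intro ψ hψ
          rw [Finset.mem_filter] at hψ
          have h1 := hnz ψ hψ.2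
          have h2 := sq_nonneg (z ψ)
          have h3 : (z ψ) ^ 2 ≠ 0 := pow_ne_zero 2 h1
          omega
      _ ≤ ∑ ψ, (z ψ) ^ 2 :=
          Finset.sum_le_sum_of_subset_of_nonneg (Finset.filter_subset _ _)
            (fun _ _ _ => sq_nonneg _)
  have hfin : (Nat.card {ψ : IrrCharacter G // ψ ∈ principalBlock M G} : ℤ) ≤ 4 ^ a :=
    hcount.trans hS
  rw [pow_mul]
  have h4 : (2 : ℕ) ^ 2 = 4 := by norm_num
  rw [h4]
  exact_mod_cast hfin

end Count

end Cfsg.Agent.Lib.helper78

namespace Cfsg.Agent.Lib.helper78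

open Cfsg
open scoped ComplexConjugate

universe u

section RealOdd

variable {G : Type u} [Group G] [Fintype G]

theorem centralizer_singleton_inv (g : G) :
    Subgroup.centralizer ({g⁻¹} : Set G) = Subgroup.centralizer ({g} : Set G) := by
  ext y
  rw [Cfsg.Agent.Lib.helper80.mem_centralizer_singleton,
    Cfsg.Agent.Lib.helper80.mem_centralizer_singleton]
  constructor
  · intro h
    calc g * y = g * (y * g⁻¹) * g := by group
      _ = g * (g⁻¹ * y) * g := by rw [h]
      _ = y * g := by group
  · intro h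
    calc g⁻¹ * y = g⁻¹ * (y * g) * g⁻¹ := by group
      _ = g⁻¹ * (g * y) * g⁻¹ := by rw [h]
      _ = y * g⁻¹ := by group

/-- The central character of the complex conjugate character. -/
theorem centralChar_conjIrr (ψ : IrrCharacter G) (g : G) :
    centralChar (conjIrr ψ : G → ℂ) g = centralChar (ψ : G → ℂ) g⁻¹ := by
  unfold centralChar
  rw [centralizer_singleton_inv, conjIrr_apply, conjIrr_apply,
    ← Cfsg.Agent.Lib.helper81.irr_inv ψ g, ← Cfsg.Agent.Lib.helper81.irr_inv ψ 1, inv_one]

/-- The complex conjugates of the members of a block form a block: conjugation preserves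
`SameBlock`. -/
theorem sameBlock_conjIrr {M : Ideal AlgInt} {χ ψ : IrrCharacter G}
    (h : SameBlock M (χ : G → ℂ) (ψ : G → ℂ)) :
    SameBlock M (conjIrr χ : G → ℂ) (conjIrr ψ : G → ℂ) := by
  intro g
  rw [centralChar_conjIrr, centralChar_conjIrr]
  exact h g⁻¹

/-- A real-valued irreducible character of odd degree lies in the principal `2`-block. -/
theorem mem_principalBlock_of_real_odd {M : Ideal AlgInt} (hM : IsPModular 2 M)
    (χ : IrrCharacter G) (hreal : ∀ g : G, ((χ : G → ℂ) g).im = 0)
    (hodd : Odd (charDegree (χ : G → ℂ))) : χ ∈ principalBlock M G := by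
  classical
  have hMp := Cfsg.Agent.Lib.helper20.isPrime_of_isPModular hM
  have hχc : conjIrr χ = χ := by
    apply Subtype.ext
    funext g
    rw [conjIrr_apply]
    exact Complex.conj_eq_iff_im.mpr (hreal g)
  have hχB : χ ∈ blockOf M (χ : G → ℂ) := Cfsg.Agent.Lib.helper81.mem_blockOf_self hMp χ
  have hdef : blockDefect 2 (blockOf M (χ : G → ℂ)) = (Nat.card G).factorization 2 := by
    unfold blockDefect
    have h0 : sInf ((fun ψ : IrrCharacter G => (charDegree (ψ : G → ℂ)).factorization 2) ''
        blockOf M (χ : G → ℂ)) = 0 := by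
      apply Nat.sInf_eq_zero.mpr
      left
      refine ⟨χ, hχB, ?_⟩
      apply Nat.factorization_eq_zero_of_not_dvd
      intro h2
      exact (Nat.not_even_iff_odd.mpr hodd) (even_iff_two_dvd.mpr h2)
    rw [h0, Nat.sub_zero]
  have hB := block_principal_of_full_defect hM (Nat.card G - 1) (card_sub_one_coprime G)
    (fun g _ => pow_card_sub_one g) (blockOf M (χ : G → ℂ)) ⟨χ, rfl⟩ hdef
    (fun ψ hψ => ⟨conjIrr ψ, by
      have h1 := sameBlock_conjIrr (M := M) (χ := χ) (ψ := ψ) hψ
      rw [hχc] at h1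
      exact h1, fun g => conjIrr_eq_pow ψ g⟩)
  rw [← hB]
  exact hχB

end RealOdd

end Cfsg.Agent.Lib.helper78
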