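import Mathlib
import Cfsg.Prelude.Def_Blocks
import Cfsg.Agent.Lib.helper20.NilCentral

/-!
# Central characters on classes inside a normal `p`-subgroup (helper78)

For a normal `p`-subgroup `P`, an irreducible character `χ` and `g ∈ P`, the central character
`ω_χ(g)` is congruent to the class size `|G : C_G(g)|` modulo the local ideal at `M`.
Builds on helper20's nilpotency of the augmentation ideal.
-/

set_option autoImplicit false

namespace Cfsg.Agent.Lib.helper78

open Cfsg Cfsg.Agent.Lib.helper20

universe u

variable {G : Type u} [Group G]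

/-- For `g` in a normal `p`-subgroup, `classSum g - |class| • 1` is nilpotent modulo `p`. -/
theorem isNilpotent_classSumF_sub_card [Fintype G] (p : ℕ) [Fact p.Prime] (P : Subgroup G)
    [P.Normal] (hP : IsPGroup p P) (g : G) (hg : g ∈ P) :
    IsNilpotent (classSumF (ZMod p) g -
      ((Subgroup.centralizer ({g} : Set G)).index : ZMod p) • (1 : MonoidAlgebra (ZMod p) G)) := by
  classical
  have hsum : classSumF (ZMod p) g -
      ((Subgroup.centralizer ({g} : Set G)).index : ZMod p) • (1 : MonoidAlgebra (ZMod p) G)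
      = ∑ x ∈ Finset.univ.filter (fun x : G => IsConj g x),
          (MonoidAlgebra.of (ZMod p) G x - 1) := by
    rw [Finset.sum_sub_distrib, Finset.sum_const, card_conj_class, Nat.cast_smul_eq_nsmul]
    rfl
  apply isNilpotent_of_central_of_mem_augLeft (ZMod p) p P hP
  · intro b
    exact (classSumF_central (ZMod p) g b).sub_left ((Commute.one_left b).smul_left _)
  · rw [hsum]
    refine Ideal.sum_mem _ fun x hx => ?_
    apply of_sub_one_mem_augLeft
    rw [Finset.mem_filter] at hx
    obtain ⟨c, rfl⟩ := isConj_iff.mp hx.2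
    exact (inferInstance : P.Normal).conj_mem g hg c

/-- For `g` in a normal `p`-subgroup `P`, the central character of every irreducible character
at `g` is congruent to the class size of `g` modulo the local ideal at `M`. -/
theorem memLocalIdeal_centralChar_sub_index_of_mem [Fintype G] {p : ℕ} [Fact p.Prime]
    {M : Ideal AlgInt} (hM : IsPModular p M) (P : Subgroup G) [P.Normal] (hP : IsPGroup p P)
    (χ : G → ℂ) (hχ : IsIrrCharacter G χ) (g : G) (hg : g ∈ P) :
    MemLocalIdeal M (centralChar χ g - ((Subgroup.centralizer ({g} : Set G)).index : ℂ)) := by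
  classical
  have hMp := isPrime_of_isPModular hM
  have hconj := isIrrCharacter_conj hχ
  obtain ⟨c, hc⟩ := exists_algInt_centralChar χ hχ g
  obtain ⟨n, ρ, hρ, rfl⟩ := hχ
  have h1 := asAlgebraHom_eq_omega_smul ρ hρ (classSum g) (isCentralElt_classSum g)
  rw [omega_classSum _ hconj, asAlgebraHom_classSum, ← lift_classSumF, ← hc] at h1
  obtain ⟨k, hk⟩ : ∃ k : ℕ, k = (Subgroup.centralizer ({g} : Set G)).index := ⟨_, rfl⟩
  have hmem := mem_of_nilpotent_mod hMp hM.2.2 (Fact.out : p.Prime).ne_zero
    (irreducible_dim_ne_zero ρ hρ) ρ (classSumF ℤ g - (k : ℤ) • (1 : MonoidAlgebra ℤ G))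
    (by
      rw [map_sub, mapRingHom_classSumF, map_zsmul, map_one, hk]
      have := isNilpotent_classSumF_sub_card p P hP g hg
      rwa [← Int.cast_smul_eq_zsmul (ZMod p), Int.cast_natCast])
    (c - (k : AlgInt))
    (by
      have e : ((c - (k : AlgInt) : AlgInt) : ℂ) = (c : ℂ) - ((k : ℤ) : ℂ) := by
        push_cast; rfl
      rw [map_sub, h1, map_zsmul, map_one, ← Int.cast_smul_eq_zsmul ℂ, e]
      exact (sub_smul _ _ _).symm)
  have := memLocalIdeal_of_mem hMp hmem
  rw [← hc, ← hk]
  simpa using this

/-- If `C_G(P) ≤ P` for a normal `p`-subgroup `P`, all irreducible characters lie in one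
`p`-block. -/
theorem sameBlock_of_centralizer_le [Fintype G] {p : ℕ} [Fact p.Prime]
    {M : Ideal AlgInt} (hM : IsPModular p M) (P : Subgroup G) [P.Normal] (hP : IsPGroup p P)
    (hC : Subgroup.centralizer (P : Set G) ≤ P)
    (χ ψ : G → ℂ) (hχ : IsIrrCharacter G χ) (hψ : IsIrrCharacter G ψ) :
    SameBlock M χ ψ := by
  have hMp := isPrime_of_isPModular hM
  intro g
  by_cases hg : g ∈ Subgroup.centralizer (P : Set G)
  · have h1 := memLocalIdeal_centralChar_sub_index_of_mem hM P hP χ hχ g (hC hg)
    have h2 := memLocalIdeal_centralChar_sub_index_of_mem hM P hP ψ hψ g (hC hg)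
    have := memLocalIdeal_sub hMp h1 h2
    rwa [sub_sub_sub_cancel_right] at this
  · exact memLocalIdeal_sub hMp
      (memLocalIdeal_centralChar_of_not_mem_centralizer hM P hP χ hχ g hg)
      (memLocalIdeal_centralChar_of_not_mem_centralizer hM P hP ψ hψ g hg)

end Cfsg.Agent.Lib.helper78
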