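import Mathlib
import Cfsg.Agent.Lib.helper78.KLCount
import Cfsg.Agent.Lib.helper78.OddCount
import Cfsg.Agent.Lib.helper81.PrincipalQuot
import Cfsg.Agent.S0936
import Cfsg.Agent.Lib.helper79.FiniteOrderTrace

/-!
# The principal `2`-block of a group with Klein four Sylow `2`-subgroups and one class of
involutions (helper78)

`k(B₀) = 4` and `l(B₀) = 3` (Brauer).
-/

set_option autoImplicit false
set_option linter.style.haveILetI false
set_option linter.unusedSectionVars false

namespace Cfsg.Agent.Lib.helper78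

open Cfsg
open scoped ComplexConjugate

universe u

section GroupTheory

/-- In a group whose Sylow `2`-subgroups have exponent `2`, every `2`-element squares to `1`. -/
theorem sq_eq_one_of_two_elt {G : Type u} [Group G] [Finite G] (P : Sylow 2 G)
    (hexp : ∀ x : P, x * x = 1) (g : G) (k : ℕ) (hg : orderOf g = 2 ^ k) : g * g = 1 := by
  haveI : Fact (Nat.Prime 2) := ⟨Nat.prime_two⟩
  have hpg : IsPGroup 2 (Subgroup.zpowers g) :=
    IsPGroup.of_card (n := k) (by rw [Nat.card_zpowers, hg])
  obtain ⟨Q, hQ⟩ := hpg.exists_le_sylow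
  obtain ⟨t, ht⟩ := MulAction.exists_smul_eq G Q P
  have hmem : t * g * t⁻¹ ∈ (P : Subgroup G) := by
    rw [← ht, Sylow.coe_subgroup_smul, Subgroup.mem_pointwise_smul_iff_inv_smul_mem]
    simp only [MulAut.smul_def, MulAut.inv_apply, MulAut.conj_symm_apply]
    have : t⁻¹ * (t * g * t⁻¹) * t = g := by group
    rw [this]
    exact hQ (Subgroup.mem_zpowers g)
  have h1 := congrArg Subtype.val (hexp ⟨_, hmem⟩)
  have h2 : t * g * t⁻¹ * (t * g * t⁻¹) = 1 := h1
  have h3 : t * (g * g) * t⁻¹ = 1 := by
    rw [← h2]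
    group
  have h4 : g * g = t⁻¹ * (t * (g * g) * t⁻¹) * t := by group
  rw [h4, h3]
  group

/-- A group with a Klein four Sylow `2`-subgroup and a central involution has a normal
`2`-complement (Burnside). -/
theorem exists_normal_two_complement {X : Type u} [Group X] [Finite X] (Q : Sylow 2 X)
    (hQ4 : Nat.card Q = 4) (hexp : ∀ x : Q, x * x = 1)
    (z : X) (hz : orderOf z = 2) (hzc : ∀ c : X, c * z = z * c) :
    ∃ K : Subgroup X, K.Normal ∧ Nat.card K * 4 = Nat.card X ∧ K.index = 4 ∧
      (Nat.card K).Coprime 2 ∧ (∀ y : X, ¬ 2 ∣ orderOf y → y ∈ K) := by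
  classical
  haveI : Fact (Nat.Prime 2) := ⟨Nat.prime_two⟩
  have hexp' : ∀ q ∈ (Q : Subgroup X), q * q = 1 := fun q hq =>
    congrArg Subtype.val (hexp ⟨q, hq⟩)
  have hz1 : z ≠ 1 := by
    intro h
    rw [h, orderOf_one] at hz
    omega
  have hzz : z * z = 1 := by
    have := pow_orderOf_eq_one z
    rw [hz, pow_two] at this
    exact this
  -- `z ∈ Q`
  have hzQ : z ∈ (Q : Subgroup X) := by
    have hpg : IsPGroup 2 (Subgroup.zpowers z) :=
      IsPGroup.of_card (n := 1) (by rw [Nat.card_zpowers, hz, pow_one])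
    obtain ⟨Q', hQ'⟩ := hpg.exists_le_sylow
    obtain ⟨t, ht⟩ := MulAction.exists_smul_eq X Q' Q
    have hmem : t * z * t⁻¹ ∈ (Q : Subgroup X) := by
      rw [← ht, Sylow.coe_subgroup_smul, Subgroup.mem_pointwise_smul_iff_inv_smul_mem]
      simp only [MulAut.smul_def, MulAut.inv_apply, MulAut.conj_symm_apply]
      have : t⁻¹ * (t * z * t⁻¹) * t = z := by group
      rw [this]
      exact hQ' (Subgroup.mem_zpowers z)
    have : t * z * t⁻¹ = z := by
      rw [hzc t]
      group
    rwa [this] at hmem
  -- `Q` is abelian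
  have hab : ∀ a ∈ (Q : Subgroup X), ∀ b ∈ (Q : Subgroup X), a * b = b * a := by
    intro a ha b hb
    have h1 := hexp' a ha
    have h2 := hexp' b hb
    have h3 := hexp' (a * b) (mul_mem ha hb)
    have ha' : a⁻¹ = a := inv_eq_of_mul_eq_one_left h1
    have hb' : b⁻¹ = b := inv_eq_of_mul_eq_one_left h2
    have h4 : (a * b)⁻¹ = a * b := inv_eq_of_mul_eq_one_left h3
    rw [mul_inv_rev, ha', hb'] at h4
    exact h4.symm
  -- conjugation by a normalizing element moves `q` to `q` or `q z`
  have hstepA : ∀ n ∈ Subgroup.normalizer ((Q : Subgroup X) : Set X),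
      n * n ∈ Subgroup.centralizer ((Q : Subgroup X) : Set X) := by
    intro n hn
    have hconj : ∀ q ∈ (Q : Subgroup X), n * q * n⁻¹ ∈ (Q : Subgroup X) := fun q hq =>
      (Subgroup.mem_normalizer_iff.mp hn q).mp hq
    have hdich : ∀ q ∈ (Q : Subgroup X), n * q * n⁻¹ = q ∨ n * q * n⁻¹ = q * z := by
      intro q hq
      by_cases hq1 : q = 1
      · left
        rw [hq1]
        group
      by_cases hqz : q = z
      · left
        rw [hqz, hzc n]
        group
      -- the four elements `1, z, q, q z` exhaust `Q`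
      let e1 : Q := ⟨1, one_mem _⟩
      let e2 : Q := ⟨z, hzQ⟩
      let e3 : Q := ⟨q, hq⟩
      let e4 : Q := ⟨q * z, mul_mem hq hzQ⟩
      have h12 : e1 ≠ e2 := fun h => hz1 (congrArg Subtype.val h).symm
      have h13 : e1 ≠ e3 := fun h => hq1 (congrArg Subtype.val h).symm
      have h14 : e1 ≠ e4 := by
        intro h
        have h' : (1 : X) = q * z := congrArg Subtype.val h
        apply hqz
        have : q = q * z * z := by rw [mul_assoc, hzz, mul_one]
        rw [this, ← h', one_mul]
      have h23 : e2 ≠ e3 := fun h => hqz (congrArg Subtype.val h).symm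
      have h24 : e2 ≠ e4 := by
        intro h
        have h' : z = q * z := congrArg Subtype.val h
        apply hq1
        have : q * z = 1 * z := by rw [one_mul]; exact h'.symm
        exact mul_right_cancel this
      have h34 : e3 ≠ e4 := by
        intro h
        have h' : q = q * z := congrArg Subtype.val h
        apply hz1
        have : q * z = q * 1 := by rw [mul_one]; exact h'.symm
        exact mul_left_cancel this
      haveI : Fintype Q := Fintype.ofFinite Q
      have hcard : ({e1, e2, e3, e4} : Finset Q).card = Fintype.card Q := by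
        rw [← Nat.card_eq_fintype_card, hQ4]
        rw [Finset.card_insert_of_notMem, Finset.card_insert_of_notMem,
          Finset.card_insert_of_notMem, Finset.card_singleton]
        · simpa using h34
        · simp [h23, h24]
        · simp [h12, h13, h14]
      have huniv := Finset.eq_univ_of_card _ hcard
      have hmem : (⟨n * q * n⁻¹, hconj q hq⟩ : Q) ∈ ({e1, e2, e3, e4} : Finset Q) := by
        rw [huniv]
        exact Finset.mem_univ _
      simp only [Finset.mem_insert, Finset.mem_singleton] at hmem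
      rcases hmem with h | h | h | h
      · exfalso
        have h' : n * q * n⁻¹ = 1 := congrArg Subtype.val h
        apply hq1
        have : q = n⁻¹ * (n * q * n⁻¹) * n := by group
        rw [this, h']
        group
      · exfalso
        have h' : n * q * n⁻¹ = z := congrArg Subtype.val h
        apply hqz
        have : q = n⁻¹ * (n * q * n⁻¹) * n := by group
        rw [this, h', mul_assoc, ← hzc n]
        group
      · left
        exact congrArg Subtype.val h
      · right
        exact congrArg Subtype.val h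
    rw [Subgroup.mem_centralizer_iff]
    intro q hq
    have key : n * n * q * (n * n)⁻¹ = q := by
      have e : n * n * q * (n * n)⁻¹ = n * (n * q * n⁻¹) * n⁻¹ := by group
      rw [e]
      rcases hdich q hq with h | h
      · rw [h, h]
      · rw [h]
        have e2 : n * (q * z) * n⁻¹ = (n * q * n⁻¹) * (n * z * n⁻¹) := by group
        rw [e2, h]
        have e3 : n * z * n⁻¹ = z := by
          rw [hzc n]
          group
        rw [e3, mul_assoc, hzz, mul_one]
    calc q * (n * n) = (n * n * q * (n * n)⁻¹) * (n * n) := by rw [key]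
      _ = n * n * q := by group
  -- normalizer ≤ centralizer
  have hNC : Subgroup.normalizer ((Q : Subgroup X) : Set X)
      ≤ Subgroup.centralizer ((Q : Subgroup X) : Set X) := by
    intro n hn
    obtain ⟨a, b, k, m, hsplit, hak, hbm, hm, hcop⟩ :=
      Cfsg.Agent.Lib.helper20.exists_zpow_split Nat.prime_two n
    have hna : n ^ a ∈ Subgroup.normalizer ((Q : Subgroup X) : Set X) := Subgroup.zpow_mem _ hn a
    have hnb : n ^ b ∈ Subgroup.normalizer ((Q : Subgroup X) : Set X) := Subgroup.zpow_mem _ hn b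
    have h1 : n ^ a ∈ Subgroup.centralizer ((Q : Subgroup X) : Set X) := by
      obtain ⟨j, -, hj⟩ := (Nat.dvd_prime_pow Nat.prime_two).mp (orderOf_dvd_of_pow_eq_one hak)
      have hpg : IsPGroup 2 (Subgroup.zpowers (n ^ a)) :=
        IsPGroup.of_card (n := j) (by rw [Nat.card_zpowers, hj])
      have h2 := hpg.inf_normalizer_sylow Q
      have h3 : n ^ a ∈ Subgroup.zpowers (n ^ a) ⊓ Subgroup.normalizer ((Q : Subgroup X) : Set X) :=
        ⟨Subgroup.mem_zpowers _, hna⟩
      have h3' : n ^ a ∈ Subgroup.zpowers (n ^ a) ⊓ (Q : Subgroup X) := by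
        rw [← h2]
        exact h3
      rw [Subgroup.mem_centralizer_iff]
      intro q hq
      exact hab q hq _ h3'.2
    have h2 : n ^ b ∈ Subgroup.centralizer ((Q : Subgroup X) : Set X) := by
      have hodd : Odd m := Nat.coprime_two_right.mp hcop
      obtain ⟨s, hs⟩ := hodd
      have h3 : n ^ b = (n ^ b * n ^ b) ^ (s + 1) := by
        rw [← pow_two, ← pow_mul]
        have : 2 * (s + 1) = m + 1 := by omega
        rw [this, pow_succ, hbm, one_mul]
      rw [h3]
      exact Subgroup.pow_mem _ (hstepA _ hnb) _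
    rw [hsplit]
    exact mul_mem h1 h2
  have hcompl := MonoidHom.ker_transferSylow_isComplement' Q hNC
  refine ⟨(MonoidHom.transferSylow Q hNC).ker, inferInstance, ?_, ?_, ?_, ?_⟩
  · have := hcompl.card_mul_card
    rw [hQ4] at this
    exact this
  · have := hcompl.symm.index_eq_card
    rw [this, hQ4]
  · have h1 := hcompl.index_eq_card
    rw [← h1]
    exact (Nat.Prime.coprime_iff_not_dvd Nat.prime_two).mpr (Sylow.not_dvd_index Q) |>.symm
  · intro y hy
    apply mem_of_coprime_index
    have h1 := hcompl.symm.index_eq_card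
    rw [h1, hQ4]
    have : (orderOf y).Coprime 2 := ((Nat.Prime.coprime_iff_not_dvd Nat.prime_two).mpr hy).symm
    exact Nat.Coprime.pow_right 2 this

end GroupTheory

section NormalComplement

variable {X : Type u} [Group X]

/-- A group with a normal `p'`-subgroup of `p`-power index is `p`-solvable. -/
theorem isPSolvable_of_normal_complement (p : ℕ) (K : Subgroup X) [hKn : K.Normal]
    (hK : (Nat.card K).Coprime p) (m : ℕ) (hidx : K.index = p ^ m) : IsPSolvable p X := by
  refine ⟨2, ![⊥, K, ⊤], rfl, rfl, ?_, ?_, ?_⟩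
  · intro i j hij
    fin_cases i <;> fin_cases j
    · exact le_rfl
    · exact bot_le
    · exact bot_le
    · exact absurd hij (by decide)
    · exact le_rfl
    · exact le_top
    · exact absurd hij (by decide)
    · exact absurd hij (by decide)
    · exact le_rfl
  · intro i
    fin_cases i
    · show (⊥ : Subgroup X).Normal
      infer_instance
    · exact hKn
    · show (⊤ : Subgroup X).Normal
      infer_instance
  · intro i
    fin_cases i
    · right
      show ((⊥ : Subgroup X).relIndex K).Coprime p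
      rw [Subgroup.relIndex_bot_left]
      exact hK
    · left
      refine ⟨m, ?_⟩
      show K.relIndex ⊤ = p ^ m
      rw [Subgroup.relIndex_top_right]
      exact hidx

/-- The `p'`-core of a group with a normal `p`-complement `K` is `K`. -/
theorem pPrimeCore_eq_of_normal_complement [Finite X] (p : ℕ) (hp : p.Prime) (K : Subgroup X)
    [hKn : K.Normal] (hK : (Nat.card K).Coprime p)
    (hreg : ∀ y : X, ¬ p ∣ orderOf y → y ∈ K) : pPrimeCore p X = K := by
  apply le_antisymm
  · intro n hn
    apply hreg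
    have := Cfsg.Agent.Lib.helper40.orderOf_coprime_of_mem_pPrimeCore hn
    exact (Nat.Prime.coprime_iff_not_dvd hp).mp this.symm
  · exact Cfsg.Agent.Lib.helper40.le_pPrimeCore K hKn hK

/-- The principal block of a group with a normal `p`-complement `K`: the characters with `K` in
their kernel. -/
theorem mem_principalBlock_iff_of_normal_complement [Finite X] {p : ℕ} {M : Ideal AlgInt}
    (hM : IsPModular p M) (K : Subgroup X) [hKn : K.Normal] (hK : (Nat.card K).Coprime p)
    (m : ℕ) (hidx : K.index = p ^ m) (hreg : ∀ y : X, ¬ p ∣ orderOf y → y ∈ K)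
    (θ : IrrCharacter X) :
    θ ∈ principalBlock M X ↔ ∀ n ∈ K, (θ : X → ℂ) n = (θ : X → ℂ) 1 := by
  haveI : Fact p.Prime := ⟨hM.1⟩
  have h1 := Cfsg.Agent.Lib.helper81.mem_principalBlock_iff_of_isPSolvable hM
    (isPSolvable_of_normal_complement p K hK m hidx) θ
  rw [pPrimeCore_eq_of_normal_complement p hM.1 K hK hreg] at h1
  exact h1

open scoped Classical in
/-- The idempotent of the principal block of a group with a normal `p`-complement `K` is
`|K|⁻¹ ∑_{k ∈ K} k`. -/
theorem blockCoeff_principal_of_normal_complement [Fintype X] {p : ℕ} {M : Ideal AlgInt}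
    (hM : IsPModular p M) (K : Subgroup X) [hKn : K.Normal] (hK : (Nat.card K).Coprime p)
    (m : ℕ) (hidx : K.index = p ^ m) (hreg : ∀ y : X, ¬ p ∣ orderOf y → y ∈ K) (k : X) :
    blockCoeff (principalBlock M X) k = if k ∈ K then (Nat.card K : ℂ)⁻¹ else 0 := by
  have hmem := mem_principalBlock_iff_of_normal_complement hM K hK m hidx hreg
  have hK0 : (Nat.card K : ℂ) ≠ 0 := by
    have : 0 < Nat.card K := Nat.card_pos
    exact_mod_cast this.ne'
  have hX0 : (Nat.card X : ℂ) ≠ 0 := by
    have : 0 < Nat.card X := Nat.card_pos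
    exact_mod_cast this.ne'
  -- the sum of an irreducible character over `K`
  have hsum : ∀ θ : IrrCharacter X,
      ∑ g ∈ Finset.univ.filter (fun g : X => g ∈ K), (θ : X → ℂ) g
        = if θ ∈ principalBlock M X then (Nat.card K : ℂ) * (θ : X → ℂ) 1 else 0 := by
    intro θ
    have h10 := Cfsg.Agent.Lib.helper81.irr_one_ne_zero θ
    by_cases hθ : θ ∈ principalBlock M X
    · rw [if_pos hθ]
      have h2 := (hmem θ).mp hθ
      rw [← Cfsg.Agent.Lib.helper20.card_filter_mem_subgroup, ← nsmul_eq_mul, ← Finset.sum_const]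
      apply Finset.sum_congr rfl
      intro g hg
      exact h2 g (by simpa using hg)
    · rw [if_neg hθ]
      rcases Cfsg.Agent.Lib.helper20.omega_normIdem_eq_zero_or_one K (θ : X → ℂ) θ.2 with h0 | h1
      · rw [Cfsg.Agent.Lib.helper20.omega_normIdem, div_eq_zero_iff] at h0
        rcases h0 with h0 | h0
        · rcases mul_eq_zero.mp h0 with h0 | h0
          · exact absurd (inv_eq_zero.mp h0) hK0
          · exact h0
        · exact absurd h0 h10
      · exact absurd ((hmem θ).mpr (Cfsg.Agent.Lib.helper20.eq_one_of_omega_normIdem K θ h1)) hθ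
  -- the indicator function of `K`
  obtain ⟨φ, hφ⟩ : ∃ φ : X → ℂ, φ = fun g => if g ∈ K then (1 : ℂ) else 0 := ⟨_, rfl⟩
  have hφcf : IsClassFunction X φ := by
    intro g h
    rw [hφ]
    beta_reduce
    have : h * g * h⁻¹ ∈ K ↔ g ∈ K := by
      constructor
      · intro h1
        have := hKn.conj_mem _ h1 h⁻¹
        simpa [mul_assoc] using this
      · intro h1
        exact hKn.conj_mem _ h1 h
    simp only [this]
  have hreal : ∀ θ : IrrCharacter X, conj ((θ : X → ℂ) 1) = (θ : X → ℂ) 1 := by
    intro θ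
    rw [Cfsg.Agent.Lib.helper81.irr_one_eq_charDegree θ]
    exact Complex.conj_natCast _
  have hinner : ∀ θ : IrrCharacter X, classInner φ (θ : X → ℂ)
      = if θ ∈ principalBlock M X then (Nat.card X : ℂ)⁻¹ * ((Nat.card K : ℂ) * (θ : X → ℂ) 1)
        else 0 := by
    intro θ
    unfold classInner
    have h1 : ∑ g : X, φ g * conj ((θ : X → ℂ) g)
        = conj (∑ g ∈ Finset.univ.filter (fun g : X => g ∈ K), (θ : X → ℂ) g) := by
      rw [map_sum, Finset.sum_filter]
      refine Finset.sum_congr rfl (fun g _ => ?_)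
      rw [hφ]
      beta_reduce
      split_ifs <;> simp
    rw [h1, hsum θ]
    split_ifs with hθ
    · rw [map_mul, hreal θ, Complex.conj_natCast]
    · rw [map_zero, mul_zero]
  have hexp : ∀ g : X, φ g = ∑ θ : IrrCharacter X,
      (if θ ∈ principalBlock M X then (Nat.card X : ℂ)⁻¹ * ((Nat.card K : ℂ) * (θ : X → ℂ) 1)
        * (θ : X → ℂ) g else 0) := by
    intro g
    rw [Cfsg.Agent.Lib.helper83.classFunction_expansion' φ hφcf g]
    refine Finset.sum_congr rfl (fun θ _ => ?_)
    rw [hinner θ]
    split_ifs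
    · rfl
    · rw [zero_mul]
  rw [Cfsg.Agent.Lib.helper80.blockCoeff_eq_sum]
  have h2 : ∑ χ : IrrCharacter X,
      (if χ ∈ principalBlock M X then (χ : X → ℂ) 1 * conj ((χ : X → ℂ) k) else 0)
      = (Nat.card X : ℂ) * (Nat.card K : ℂ)⁻¹ * φ k⁻¹ := by
    rw [hexp k⁻¹, Finset.mul_sum]
    refine Finset.sum_congr rfl (fun θ _ => ?_)
    split_ifs
    · rw [Cfsg.Agent.Lib.helper81.irr_inv θ k]
      field_simp
    · rw [mul_zero]
  rw [h2, hφ]
  beta_reduce
  have : k⁻¹ ∈ K ↔ k ∈ K := inv_mem_iff
  simp only [this]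
  split_ifs
  · field_simp
  · simp

end NormalComplement

section Main

variable {G : Type u} [Group G]

/-- **Second main theorem**: the `b`-component of a character outside `b^G` vanishes. -/
theorem uconv_eq_zero_of_induced [Finite G] {p : ℕ} {M : Ideal AlgInt}
    (hM : IsPModular p M) (x : G) (hx : ∃ k : ℕ, orderOf x = p ^ k)
    [Fintype (Subgroup.centralizer ({x} : Set G))]
    (b : Set (IrrCharacter (Subgroup.centralizer ({x} : Set G))))
    (B : Set (IrrCharacter G))
    (hind : IsInducedBlock M (Subgroup.centralizer ({x} : Set G)) b B)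
    (χ : IrrCharacter G) (hχ : χ ∉ B) : uconv p x b (χ : G → ℂ) = 0 := by
  classical
  haveI : Fintype G := Fintype.ofFinite G
  haveI : Fact p.Prime := ⟨hM.1⟩
  have hxH : x ∈ Subgroup.centralizer ({x} : Set G) :=
    Subgroup.mem_centralizer_singleton_iff.mpr rfl
  funext y
  rw [uconv_apply]
  by_cases hy : p ∣ orderOf y
  · rw [if_neg (not_not.mpr hy)]
    rfl
  · rw [if_pos hy]
    have hyx : x * (y : G) = (y : G) * x :=
      (Subgroup.mem_centralizer_singleton_iff.mp y.2).symm
    have hPP : IsPPart p (x * (y : G)) x :=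
      Cfsg.Agent.Lib.helper20.isPPart_mul hyx hx (by rw [Subgroup.orderOf_coe]; exact hy)
    have hC : ∀ z : G, IsPPart p
        (((⟨x, hxH⟩ : Subgroup.centralizer ({x} : Set G)) * y :
          Subgroup.centralizer ({x} : Set G)) : G) z →
        Subgroup.centralizer ({z} : Set G) ≤ Subgroup.centralizer ({x} : Set G) := by
      intro z hz
      have hz' : IsPPart p (x * (y : G)) z := hz
      rw [Cfsg.Agent.Lib.helper20.isPPart_unique hM.1 hz' hPP]
    exact Cfsg.Agent.Lib.helper20.sum_blockCoeff_mul_eq_zero hM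
      (Subgroup.centralizer ({x} : Set G)) b B hind
      ((⟨x, hxH⟩ : Subgroup.centralizer ({x} : Set G)) * y) hC χ hχ

open scoped Classical in
/-- The component at the principal block of the centralizer of a `p`-element `x`: it is
`y ↦ χ (x y)` for `χ` in the principal block of `G` and zero otherwise (second and third main
theorems). -/
theorem uconv_principal [Finite G] {p : ℕ} {M : Ideal AlgInt} (hM : IsPModular p M) (x : G)
    (hx : ∃ k : ℕ, orderOf x = p ^ k) [Fintype (Subgroup.centralizer ({x} : Set G))]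
    (χ : IrrCharacter G) (y : Subgroup.centralizer ({x} : Set G)) (hy : ¬ p ∣ orderOf y) :
    uconv p x (principalBlock M (Subgroup.centralizer ({x} : Set G))) (χ : G → ℂ) y
      = if χ ∈ principalBlock M G then (χ : G → ℂ) (x * (y : G)) else 0 := by
  haveI : Fact p.Prime := ⟨hM.1⟩
  have hMp := Cfsg.Agent.Lib.helper20.isPrime_of_isPModular hM
  have hb0 : IsPBlock M (principalBlock M (Subgroup.centralizer ({x} : Set G))) :=
    Cfsg.Agent.Lib.helper81.isPBlock_principalBlock
  have hB0 : IsPBlock M (principalBlock M G) := Cfsg.Agent.Lib.helper81.isPBlock_principalBlock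
  have hdef : InducedBlockDefined M (Subgroup.centralizer ({x} : Set G))
      (principalBlock M (Subgroup.centralizer ({x} : Set G))) :=
    exists_induced_centralizer hM x hx _ hb0
  have hind : IsInducedBlock M (Subgroup.centralizer ({x} : Set G))
      (principalBlock M (Subgroup.centralizer ({x} : Set G))) (principalBlock M G) :=
    (Cfsg.Agent.S0936.result p M hM _ _ hdef).mpr rfl
  by_cases hχ : χ ∈ principalBlock M G
  · rw [if_pos hχ]
    have h1 := sum_blocks_uconv (p := p) (M := M) hMp x (χ : G → ℂ) y hy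
    rw [← h1]
    symm
    apply Finset.sum_eq_single_of_mem _ (Cfsg.Agent.Lib.helper80.mem_blocks.mpr hb0)
    intro b hb hne
    have hnot : ¬ IsInducedBlock M (Subgroup.centralizer ({x} : Set G)) b (principalBlock M G) := by
      intro h
      exact hne ((Cfsg.Agent.S0936.result p M hM _ b ⟨_, h⟩).mp h)
    rw [uconv_eq_zero_of_not_induced hM x hx b (Cfsg.Agent.Lib.helper80.mem_blocks.mp hb)
      (principalBlock M G) hB0 hnot χ hχ]
    rfl
  · rw [if_neg hχ, uconv_eq_zero_of_induced hM x hx _ _ hind χ hχ]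
    rfl

open scoped Classical in
/-- If the centralizer of the `p`-element `x` has a normal `p`-complement `K`, then the average
of `χ (x o)` over `o ∈ K` is `χ (x y)` for every `y ∈ K` when `χ` lies in the principal block,
and zero otherwise. -/
theorem avg_eq_of_normal_complement [Finite G] {p : ℕ} {M : Ideal AlgInt} (hM : IsPModular p M)
    (x : G) (hx : ∃ k : ℕ, orderOf x = p ^ k) [Fintype (Subgroup.centralizer ({x} : Set G))]
    (K : Subgroup (Subgroup.centralizer ({x} : Set G))) [hKn : K.Normal]
    (hK : (Nat.card K).Coprime p) (m : ℕ) (hidx : K.index = p ^ m)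
    (hreg : ∀ y : Subgroup.centralizer ({x} : Set G), ¬ p ∣ orderOf y → y ∈ K)
    (χ : IrrCharacter G) (y : Subgroup.centralizer ({x} : Set G)) (hy : y ∈ K) :
    (Nat.card K : ℂ)⁻¹ * ∑ o : Subgroup.centralizer ({x} : Set G),
        (if o ∈ K then (χ : G → ℂ) (x * (o : G)) else 0)
      = if χ ∈ principalBlock M G then (χ : G → ℂ) (x * (y : G)) else 0 := by
  have hyo : ¬ p ∣ orderOf y := by
    have h1 : orderOf y ∣ Nat.card K := by
      have := orderOf_dvd_natCard (⟨y, hy⟩ : K)
      rwa [Subgroup.orderOf_mk] at this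
    intro h2
    exact (Nat.Prime.coprime_iff_not_dvd hM.1).mp hK.symm (h2.trans h1)
  rw [← uconv_principal hM x hx χ y hyo, uconv_apply, if_pos hyo, Finset.mul_sum]
  symm
  refine Fintype.sum_equiv (Equiv.mulRight y) _ _ (fun k => ?_)
  rw [blockCoeff_principal_of_normal_complement hM K hK m hidx hreg k]
  have hkm : k * y ∈ K ↔ k ∈ K := K.mul_mem_cancel_right hy
  have hcomm : (k : G) * x = x * (k : G) := Subgroup.mem_centralizer_singleton_iff.mp k.2
  show _ = (Nat.card K : ℂ)⁻¹ * (if k * y ∈ K then
    (χ : G → ℂ) (x * ((k * y : Subgroup.centralizer ({x} : Set G)) : G)) else 0)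
  simp only [hkm]
  split_ifs with hk
  · congr 2
    push_cast
    rw [← mul_assoc, hcomm, mul_assoc]
  · rw [zero_mul, mul_zero]

open scoped Classical in
/-- `∑_{χ ∈ B₀} |χ(J)|² = 4` when `C_G(J)` has a normal `2`-complement of index `4`. -/
theorem sum_principal_mul_conj [Finite G] {M : Ideal AlgInt} (hM : IsPModular 2 M) (J : G)
    (hJ : orderOf J = 2) [Fintype (Subgroup.centralizer ({J} : Set G))]
    (K : Subgroup (Subgroup.centralizer ({J} : Set G))) [hKn : K.Normal]
    (hK : (Nat.card K).Coprime 2) (hidx : K.index = 4)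
    (hcard : Nat.card K * 4 = Nat.card (Subgroup.centralizer ({J} : Set G)))
    (hreg : ∀ y : Subgroup.centralizer ({J} : Set G), ¬ 2 ∣ orderOf y → y ∈ K) :
    ∑ χ : IrrCharacter G,
      (if χ ∈ principalBlock M G then (χ : G → ℂ) J * conj ((χ : G → ℂ) J) else 0) = 4 := by
  haveI : Fintype G := Fintype.ofFinite G
  have hx : ∃ k : ℕ, orderOf J = 2 ^ k := ⟨1, by rw [hJ, pow_one]⟩
  have hidx' : K.index = 2 ^ 2 := by rw [hidx]; norm_num
  have hJJ : J * J = 1 := by
    have := pow_orderOf_eq_one J
    rw [hJ, pow_two] at this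
    exact this
  have hK0 : (Nat.card K : ℂ) ≠ 0 := by
    have : 0 < Nat.card K := Nat.card_pos
    exact_mod_cast this.ne'
  have hA : ∀ χ : IrrCharacter G, (if χ ∈ principalBlock M G then (χ : G → ℂ) J else 0)
      = (Nat.card K : ℂ)⁻¹ * ∑ o : Subgroup.centralizer ({J} : Set G),
          (if o ∈ K then (χ : G → ℂ) (J * (o : G)) else 0) := by
    intro χ
    rw [avg_eq_of_normal_complement hM J hx K hK 2 hidx' hreg χ 1 (one_mem K)]
    simp
  have h1 : ∀ χ : IrrCharacter G,
      (if χ ∈ principalBlock M G then (χ : G → ℂ) J * conj ((χ : G → ℂ) J) else 0)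
      = (Nat.card K : ℂ)⁻¹ * ∑ o : Subgroup.centralizer ({J} : Set G),
          (if o ∈ K then (χ : G → ℂ) (J * (o : G)) * conj ((χ : G → ℂ) J) else 0) := by
    intro χ
    have e : (if χ ∈ principalBlock M G then (χ : G → ℂ) J * conj ((χ : G → ℂ) J) else 0)
        = (if χ ∈ principalBlock M G then (χ : G → ℂ) J else 0) * conj ((χ : G → ℂ) J) := by
      split_ifs <;> simp
    rw [e, hA χ, mul_assoc, Finset.sum_mul]
    congr 1
    refine Finset.sum_congr rfl (fun o _ => ?_)
    split_ifs <;> simp
  simp_rw [h1]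
  rw [← Finset.mul_sum, Finset.sum_comm]
  have h2 : ∀ o : Subgroup.centralizer ({J} : Set G), ∑ χ : IrrCharacter G,
      (if o ∈ K then (χ : G → ℂ) (J * (o : G)) * conj ((χ : G → ℂ) J) else 0)
      = if o = 1 then (Nat.card (Subgroup.centralizer ({J} : Set G)) : ℂ) else 0 := by
    intro o
    by_cases ho : o ∈ K
    · simp only [if_pos ho]
      rw [Cfsg.Agent.Lib.helper81.irr_col_orth (J * (o : G)) J]
      by_cases ho1 : o = 1
      · rw [if_pos ho1, ho1]
        have e : J * ((1 : Subgroup.centralizer ({J} : Set G)) : G) = J := by simp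
        rw [e, if_pos (IsConj.refl J)]
      · rw [if_neg ho1, if_neg]
        intro hconj
        apply ho1
        obtain ⟨t, ht⟩ := isConj_iff.mp hconj
        have hord : orderOf (J * (o : G)) = 2 := by
          have := orderOf_conj_kl t (J * (o : G))
          rw [ht, hJ] at this
          exact this.symm
        have hsq : (J * (o : G)) * (J * (o : G)) = 1 := by
          have := pow_orderOf_eq_one (J * (o : G))
          rw [hord, pow_two] at this
          exact this
        have hcomm : (o : G) * J = J * (o : G) := Subgroup.mem_centralizer_singleton_iff.mp o.2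
        have hoo : (o : G) * (o : G) = 1 := by
          have e : (J * (o : G)) * (J * (o : G)) = (J * J) * ((o : G) * (o : G)) := by
            calc (J * (o : G)) * (J * (o : G)) = J * ((o : G) * J) * (o : G) := by group
              _ = J * (J * (o : G)) * (o : G) := by rw [hcomm]
              _ = (J * J) * ((o : G) * (o : G)) := by group
          rw [e, hJJ, one_mul] at hsq
          exact hsq
        have hoo' : o ^ 2 = 1 := by
          apply Subtype.ext
          rw [pow_two]
          exact hoo
        have hd2 : orderOf o ∣ 2 := orderOf_dvd_of_pow_eq_one hoo'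
        have hdK : orderOf o ∣ Nat.card K := by
          have := orderOf_dvd_natCard (⟨o, ho⟩ : K)
          rwa [Subgroup.orderOf_mk] at this
        have h1' : orderOf o ∣ Nat.gcd (Nat.card K) 2 := Nat.dvd_gcd hdK hd2
        rw [hK] at h1'
        exact orderOf_eq_one_iff.mp (Nat.dvd_one.mp h1')
    · simp only [if_neg ho, Finset.sum_const_zero]
      rw [if_neg]
      rintro rfl
      exact ho (one_mem K)
  simp_rw [h2]
  rw [Finset.sum_ite_eq' Finset.univ (1 : Subgroup.centralizer ({J} : Set G)),
    if_pos (Finset.mem_univ _), ← hcard]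
  push_cast
  field_simp

/-- The value of a character at an involution is a rational integer. -/
theorem irr_involution_int (χ : IrrCharacter G) (J : G) (hJ : J * J = 1) :
    ∃ z : ℤ, (χ : G → ℂ) J = z := by
  obtain ⟨n, ρ, hρ, hχ⟩ := χ.2
  obtain ⟨S, m, hS, hm, hval, -⟩ := Cfsg.Agent.Lib.helper79.character_pow_eq_sum ρ J 2
    (by norm_num) (by rw [pow_two]; exact hJ)
  have h1 := hval 1
  rw [pow_one] at h1
  rw [← hχ, h1]
  apply Finset.sum_induction _ (fun x : ℂ => ∃ z : ℤ, x = z)
  · rintro a b ⟨za, rfl⟩ ⟨zb, rfl⟩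
    exact ⟨za + zb, by push_cast; ring⟩
  · exact ⟨0, by simp⟩
  · intro μ hμ
    have h2 := hS μ hμ
    have h3 : μ = 1 ∨ μ = -1 := by
      have h4 : (μ - 1) * (μ + 1) = 0 := by
        have : (μ - 1) * (μ + 1) = μ ^ 2 - 1 := by ring
        rw [this, h2, sub_self]
      rcases mul_eq_zero.mp h4 with h | h
      · left
        exact sub_eq_zero.mp h
      · right
        exact eq_neg_of_add_eq_zero_left h
    rcases h3 with h | h
    · exact ⟨m μ, by rw [h]; simp⟩
    · exact ⟨-(m μ), by rw [h]; simp⟩

/-- A character of the principal block does not vanish at an element whose class has size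
prime to `p`. -/
theorem principal_ne_zero_of_index [Finite G] {p : ℕ} {M : Ideal AlgInt} (hM : IsPModular p M)
    (J : G) (hodd : ¬ p ∣ (Subgroup.centralizer ({J} : Set G)).index) (χ : IrrCharacter G)
    (hχ : χ ∈ principalBlock M G) : (χ : G → ℂ) J ≠ 0 := by
  intro h0
  have h1 : SameBlock M (fun _ : G => (1 : ℂ)) (χ : G → ℂ) := hχ
  have h2 := h1 J
  rw [Cfsg.Agent.Lib.helper81.centralChar_const_one] at h2
  unfold centralChar at h2
  rw [h0, mul_zero, zero_div, sub_zero] at h2
  exact Cfsg.Agent.Lib.helper80.not_memLocalIdeal_natCast hM hodd h2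

/-- Nonzero integers with squares adding up to `4`, one of them equal to `1`: there are four
of them and all squares are `1`. -/
theorem card_eq_four_of_sum_sq {ι : Type*} (F : Finset ι) (z : ι → ℤ) (h0 : ∀ i ∈ F, z i ≠ 0)
    (i₀ : ι) (hi₀ : i₀ ∈ F) (hz₀ : z i₀ = 1) (hsum : ∑ i ∈ F, z i ^ 2 = 4) :
    F.card = 4 ∧ ∀ i ∈ F, z i ^ 2 = 1 := by
  classical
  have hall : ∀ i ∈ F, z i ^ 2 = 1 := by
    intro i hi
    by_contra hne
    have h4 : 4 ≤ z i ^ 2 := by
      have h00 := h0 i hi
      have h1 : z i ≤ -2 ∨ z i = -1 ∨ z i = 1 ∨ 2 ≤ z i := by omega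
      rcases h1 with h | h | h | h
      · nlinarith
      · rw [h] at hne
        norm_num at hne
      · rw [h] at hne
        norm_num at hne
      · nlinarith
    have hii : i ≠ i₀ := by
      rintro rfl
      rw [hz₀] at hne
      norm_num at hne
    have hsub : ({i, i₀} : Finset ι) ⊆ F := by
      intro j hj
      rw [Finset.mem_insert, Finset.mem_singleton] at hj
      rcases hj with rfl | rfl <;> assumption
    have h5 := Finset.sum_le_sum_of_subset_of_nonneg hsub (f := fun j => z j ^ 2)
      (fun j _ _ => sq_nonneg _)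
    rw [Finset.sum_pair hii, hsum, hz₀] at h5
    norm_num at h5
    omega
  refine ⟨?_, hall⟩
  have h6 : ∑ i ∈ F, z i ^ 2 = ∑ i ∈ F, (1 : ℤ) := Finset.sum_congr rfl hall
  rw [hsum, Finset.sum_const, nsmul_eq_mul, mul_one] at h6
  exact_mod_cast h6.symm

open scoped Classical in
/-- **Brauer**: a finite group with Klein four Sylow `2`-subgroups and one class of involutions
has `l(B₀) = 3` for the principal `2`-block (and `k(B₀) = 4`). -/
theorem blockRank_principal_klein [Finite G] {M : Ideal AlgInt} (hM : IsPModular 2 M)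
    (P : Sylow 2 G) (hP : Nat.card P = 4) (hexp : ∀ x : P, x * x = 1)
    (hone : ∀ s t : G, orderOf s = 2 → orderOf t = 2 → IsConj s t) :
    blockRank 2 (principalBlock M G) = 3 ∧ Nat.card (principalBlock M G) = 4 := by
  haveI : Fintype G := Fintype.ofFinite G
  haveI : Fact (Nat.Prime 2) := ⟨Nat.prime_two⟩
  have hMp := Cfsg.Agent.Lib.helper20.isPrime_of_isPModular hM
  -- an involution `J ∈ P`
  haveI : Nontrivial P := by
    rw [← Finite.one_lt_card_iff_nontrivial, hP]
    norm_num
  obtain ⟨x₀, hx₀⟩ := exists_ne (1 : P)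
  obtain ⟨J, hJdef⟩ : ∃ J : G, J = (x₀ : G) := ⟨_, rfl⟩
  have hJP : J ∈ (P : Subgroup G) := by rw [hJdef]; exact x₀.2
  have hJJ : J * J = 1 := by
    rw [hJdef]
    exact congrArg Subtype.val (hexp x₀)
  have hJ1 : J ≠ 1 := by
    rw [hJdef]
    intro h
    exact hx₀ (Subtype.ext h)
  have hJ : orderOf J = 2 := orderOf_eq_prime (by rw [pow_two]; exact hJJ) hJ1
  have hJinv : J⁻¹ = J := inv_eq_of_mul_eq_one_left hJJ
  -- `P ≤ C_G(J)`
  have hPle : (P : Subgroup G) ≤ Subgroup.centralizer ({J} : Set G) := by
    intro q hq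
    rw [Subgroup.mem_centralizer_singleton_iff]
    have h1 : q * q = 1 := congrArg Subtype.val (hexp ⟨q, hq⟩)
    have h3 : (q * J) * (q * J) = 1 := congrArg Subtype.val (hexp ⟨q * J, mul_mem hq hJP⟩)
    have hq' : q⁻¹ = q := inv_eq_of_mul_eq_one_left h1
    have h4 : (q * J)⁻¹ = q * J := inv_eq_of_mul_eq_one_left h3
    rw [mul_inv_rev, hJinv, hq'] at h4
    exact h4.symm
  have hodd : ¬ 2 ∣ (Subgroup.centralizer ({J} : Set G)).index := fun h =>
    Sylow.not_dvd_index P (h.trans (Subgroup.index_dvd_of_le hPle))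
  have hJC : J ∈ Subgroup.centralizer ({J} : Set G) :=
    Subgroup.mem_centralizer_singleton_iff.mpr rfl
  -- a Sylow `2`-subgroup of the centralizer
  obtain ⟨Q⟩ : Nonempty (Sylow 2 (Subgroup.centralizer ({J} : Set G))) := inferInstance
  have hfG : (Nat.card G).factorization 2 = 2 := by
    have h1 := Sylow.card_eq_multiplicity P
    rw [hP] at h1
    have h2 : (2 : ℕ) ^ 2 = 2 ^ (Nat.card G).factorization 2 := by
      rw [← h1]
      norm_num
    exact (Nat.pow_right_injective (le_refl 2) h2).symm
  have hfC : (Nat.card (Subgroup.centralizer ({J} : Set G))).factorization 2 = 2 := by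
    apply le_antisymm
    · have h1 := (Nat.factorization_le_iff_dvd Nat.card_pos.ne' Nat.card_pos.ne').mpr
        (Subgroup.card_subgroup_dvd_card (Subgroup.centralizer ({J} : Set G))) 2
      rw [hfG] at h1
      exact h1
    · have h1 : 2 ^ 2 ∣ Nat.card (Subgroup.centralizer ({J} : Set G)) := by
        have := Subgroup.card_dvd_of_le hPle
        rw [hP] at this
        exact this
      exact (Nat.Prime.pow_dvd_iff_le_factorization Nat.prime_two Nat.card_pos.ne').mp h1
  have hQ4 : Nat.card Q = 4 := by
    rw [Sylow.card_eq_multiplicity Q, hfC]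
    norm_num
  have hQexp : ∀ x : Q, x * x = 1 := by
    intro x
    obtain ⟨k, hk⟩ := Q.isPGroup' x
    obtain ⟨j, -, hj⟩ := (Nat.dvd_prime_pow Nat.prime_two).mp (orderOf_dvd_of_pow_eq_one hk)
    have hj' : orderOf (((x : Subgroup.centralizer ({J} : Set G)) : G)) = 2 ^ j := by
      rw [Subgroup.orderOf_coe, Subgroup.orderOf_coe, hj]
    have h1 := sq_eq_one_of_two_elt P hexp _ j hj'
    apply Subtype.ext
    apply Subtype.ext
    exact h1
  obtain ⟨K, hKn, hcard, hidx, hK, hreg⟩ := exists_normal_two_complement Q hQ4 hQexp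
    (⟨J, hJC⟩ : Subgroup.centralizer ({J} : Set G)) (by rw [Subgroup.orderOf_mk]; exact hJ)
    (fun c => Subtype.ext (Subgroup.mem_centralizer_singleton_iff.mp c.2))
  have hidx' : K.index = 2 ^ 2 := by rw [hidx]; norm_num
  have hx2 : ∃ k : ℕ, orderOf J = 2 ^ k := ⟨1, by rw [hJ, pow_one]⟩
  -- the integers `χ(J)`
  have hS := sum_principal_mul_conj hM J hJ K hK hidx hcard hreg
  choose z hz using fun χ : IrrCharacter G => irr_involution_int χ J hJJ
  obtain ⟨F, hF⟩ : ∃ F : Finset (IrrCharacter G),
      F = Finset.univ.filter (fun χ => χ ∈ principalBlock M G) := ⟨_, rfl⟩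
  have hmemF : ∀ χ : IrrCharacter G, χ ∈ F ↔ χ ∈ principalBlock M G := by
    intro χ
    rw [hF]
    simp
  have hsumF : ∑ χ ∈ F, z χ ^ 2 = 4 := by
    have h1 : ∑ χ : IrrCharacter G,
        (if χ ∈ principalBlock M G then (χ : G → ℂ) J * conj ((χ : G → ℂ) J) else 0)
        = ((∑ χ ∈ F, z χ ^ 2 : ℤ) : ℂ) := by
      rw [hF, Finset.sum_filter]
      push_cast
      refine Finset.sum_congr rfl (fun χ _ => ?_)
      split_ifs
      · rw [hz χ, map_intCast]
        ring
      · rfl
    rw [h1] at hS
    exact_mod_cast hS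
  have htrivF : Cfsg.Agent.Lib.helper81.trivChar G ∈ F :=
    (hmemF _).mpr (Cfsg.Agent.Lib.helper81.trivChar_mem_principalBlock hMp)
  have hztriv : z (Cfsg.Agent.Lib.helper81.trivChar G) = 1 := by
    have := hz (Cfsg.Agent.Lib.helper81.trivChar G)
    rw [Cfsg.Agent.Lib.helper81.trivChar_apply] at this
    exact_mod_cast this.symm
  have hz0 : ∀ χ ∈ F, z χ ≠ 0 := by
    intro χ hχ h0
    have := principal_ne_zero_of_index hM J hodd χ ((hmemF χ).mp hχ)
    rw [hz χ, h0] at this
    exact this (by simp)
  obtain ⟨hFcard, hzsq⟩ := card_eq_four_of_sum_sq F z hz0 _ htrivF hztriv hsumF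
  have hcardB : Nat.card (principalBlock M G) = 4 := by
    rw [← hFcard]
    exact Nat.subtype_card F hmemF
  refine ⟨?_, hcardB⟩
  -- linear algebra
  obtain ⟨v, hv⟩ : ∃ v : F → (G → ℂ), v = fun i : F => pRegularPart 2 ((i : IrrCharacter G) : G → ℂ) :=
    ⟨_, rfl⟩
  obtain ⟨ε, hε⟩ : ∃ ε : F → ℂ, ε = fun i : F => (z (i : IrrCharacter G) : ℂ) := ⟨_, rfl⟩
  have hεapp : ∀ i : F, ε i = (z (i : IrrCharacter G) : ℂ) := fun i => by rw [hε]
  have hεJ : ∀ i : F, ((i : IrrCharacter G) : G → ℂ) J = ε i := fun i => by rw [hεapp, hz]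
  have hε2 : ∑ i : F, ε i * ε i = 4 := by
    have h1 : ∑ i : F, ε i * ε i = ((∑ χ ∈ F, z χ ^ 2 : ℤ) : ℂ) := by
      rw [← Finset.sum_coe_sort F]
      push_cast
      refine Finset.sum_congr rfl (fun i _ => ?_)
      rw [hεapp]
      ring
    rw [h1, hsumF]
    norm_num
  obtain ⟨L, hL⟩ : ∃ L : (F → ℂ) →ₗ[ℂ] (G → ℂ), L = Fintype.linearCombination ℂ v := ⟨_, rfl⟩
  have hLapp : ∀ (a : F → ℂ) (g : G), L a g
      = ∑ i : F, a i * pRegularPart 2 ((i : IrrCharacter G) : G → ℂ) g := by
    intro a g
    rw [hL, Fintype.linearCombination_apply, Finset.sum_apply, hv]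
    rfl
  -- block orthogonality: `ε` is in the kernel
  have hBset : principalBlock M G = (F : Set (IrrCharacter G)) := by
    ext χ
    exact (hmemF χ).symm
  have horth : ∀ g : G, ¬ 2 ∣ orderOf g →
      ∑ i : F, ε i * ((i : IrrCharacter G) : G → ℂ) g = 0 := by
    intro g hg
    have hx : IsPPart 2 g 1 := ⟨g, one_mul g, Commute.one_left g, ⟨0, by simp⟩, hg⟩
    have hy : IsPPart 2 J J := ⟨1, mul_one J, Commute.one_right J, hx2, by simp⟩
    have hne : ¬ IsConj (1 : G) J := by
      rw [isConj_one_right]
      exact hJ1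
    have h1 := Cfsg.Agent.Lib.helper20.sum_block_mul_inv_eq_zero hM g J 1 J hx hy hne
      (principalBlock M G) Cfsg.Agent.Lib.helper81.isPBlock_principalBlock
    rw [hBset, finsum_mem_coe_finset, ← Finset.sum_coe_sort F] at h1
    rw [← h1]
    refine Finset.sum_congr rfl (fun i _ => ?_)
    rw [hJinv, hεJ]
    ring
  have hLε : L ε = 0 := by
    funext g
    rw [hLapp]
    by_cases hg : 2 ∣ orderOf g
    · apply Finset.sum_eq_zero
      intro i _
      rw [pRegularPart_apply_of_sing 2 _ hg, mul_zero]
    · rw [Pi.zero_apply, ← horth g hg]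
      refine Finset.sum_congr rfl (fun i _ => ?_)
      rw [pRegularPart_apply_of_reg 2 _ hg]
  -- representatives of the classes of `2`-elements
  have hXrep : ∀ g : G, (∃ k : ℕ, orderOf g = 2 ^ k) → ∃ x ∈ ({1, J} : Finset G), IsConj g x := by
    rintro g ⟨k, hk⟩
    have hgg := sq_eq_one_of_two_elt P hexp g k hk
    by_cases hg1 : g = 1
    · exact ⟨1, by simp, by rw [hg1]⟩
    · have hg2 : orderOf g = 2 := orderOf_eq_prime (by rw [pow_two]; exact hgg) hg1
      exact ⟨J, by simp, hone g J hg2 hJ⟩
  have hli : LinearIndependent ℂ (fun i : F => ((i : IrrCharacter G) : G → ℂ)) :=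
    Cfsg.Agent.Lib.helper80.irr_linearIndependent.comp Subtype.val Subtype.val_injective
  -- the kernel is spanned by `ε`
  have hker : ∀ a : F → ℂ, L a = 0 → ∃ c : ℂ, c • ε = a := by
    intro a ha
    obtain ⟨c, hc⟩ : ∃ c : ℂ, c = ∑ i : F, a i * ε i := ⟨_, rfl⟩
    refine ⟨c / 4, ?_⟩
    obtain ⟨h, hh⟩ : ∃ h : G → ℂ,
        h = ∑ i : F, (4 * a i - c * ε i) • ((i : IrrCharacter G) : G → ℂ) := ⟨_, rfl⟩
    have hhapp : ∀ g, h g = ∑ i : F, (4 * a i - c * ε i) * ((i : IrrCharacter G) : G → ℂ) g := by
      intro g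
      rw [hh, Finset.sum_apply]
      rfl
    have hhcf : IsClassFunction G h := by
      intro g t
      rw [hhapp, hhapp]
      refine Finset.sum_congr rfl (fun i _ => ?_)
      rw [Cfsg.Agent.Lib.helper81.irr_classFun (i : IrrCharacter G) g t]
    have hLa : ∀ g, ¬ 2 ∣ orderOf g → ∑ i : F, a i * ((i : IrrCharacter G) : G → ℂ) g = 0 := by
      intro g hg
      have h1 := congrFun ha g
      rw [hLapp, Pi.zero_apply] at h1
      rw [← h1]
      refine Finset.sum_congr rfl (fun i _ => ?_)
      rw [pRegularPart_apply_of_reg 2 _ hg]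
    have hsplit : ∀ w : F → ℂ, ∑ i : F, (4 * a i - c * ε i) * w i
        = 4 * ∑ i : F, a i * w i - c * ∑ i : F, ε i * w i := by
      intro w
      rw [Finset.mul_sum, Finset.mul_sum, ← Finset.sum_sub_distrib]
      exact Finset.sum_congr rfl (fun i _ => by ring)
    have hzero : h = 0 := by
      apply classFun_eq_zero_of_sections Nat.prime_two ({1, J} : Finset G) hXrep h hhcf
      intro x hx y hyx hy
      rw [Finset.mem_insert, Finset.mem_singleton] at hx
      rcases hx with hx1 | hxJ
      · rw [hx1, one_mul, hhapp, hsplit (fun i => ((i : IrrCharacter G) : G → ℂ) y), hLa y hy,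
          horth y hy]
        ring
      · rw [hxJ] at hyx ⊢
        rw [hhapp]
        have hyC : y ∈ Subgroup.centralizer ({J} : Set G) :=
          Subgroup.mem_centralizer_singleton_iff.mpr hyx
        have hyK : (⟨y, hyC⟩ : Subgroup.centralizer ({J} : Set G)) ∈ K :=
          hreg _ (by rw [Subgroup.orderOf_mk]; exact hy)
        have hval : ∀ i : F, ((i : IrrCharacter G) : G → ℂ) (J * y) = ε i := by
          intro i
          have hi : (i : IrrCharacter G) ∈ principalBlock M G := (hmemF _).mp i.2
          have e1 := avg_eq_of_normal_complement hM J hx2 K hK 2 hidx' hreg (i : IrrCharacter G)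
            ⟨y, hyC⟩ hyK
          have e2 := avg_eq_of_normal_complement hM J hx2 K hK 2 hidx' hreg (i : IrrCharacter G)
            1 (one_mem K)
          rw [if_pos hi] at e1 e2
          have e3 : ((i : IrrCharacter G) : G → ℂ) (J * y)
              = ((i : IrrCharacter G) : G → ℂ)
                (J * ((1 : Subgroup.centralizer ({J} : Set G)) : G)) := by
            rw [← e2]
            exact e1.symm
          rw [e3, ← hεJ i]
          simp
        have e4 : ∑ i : F, (4 * a i - c * ε i) * ((i : IrrCharacter G) : G → ℂ) (J * y)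
            = ∑ i : F, (4 * a i - c * ε i) * ε i :=
          Finset.sum_congr rfl (fun i _ => by rw [hval i])
        rw [e4, hsplit ε, ← hc, hε2]
        ring
    have hcoef := (Fintype.linearIndependent_iff.mp hli) (fun i => 4 * a i - c * ε i)
      (by rw [← hh]; exact hzero)
    funext i
    have h5 := hcoef i
    show c / 4 * ε i = a i
    linear_combination (-1 / 4 : ℂ) * h5
  have hkerL : LinearMap.ker L = Submodule.span ℂ {ε} := by
    ext a
    rw [LinearMap.mem_ker, Submodule.mem_span_singleton]
    constructor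
    · exact hker a
    · rintro ⟨c, rfl⟩
      rw [map_smul, hLε, smul_zero]
  have hε0 : ε ≠ 0 := by
    intro h
    have h1 := congrFun h ⟨_, htrivF⟩
    rw [hεapp] at h1
    simp only [hztriv] at h1
    norm_num at h1
  have hrn := LinearMap.finrank_range_add_finrank_ker L
  rw [hkerL, finrank_span_singleton hε0, Module.finrank_fintype_fun_eq_card, Fintype.card_coe,
    hFcard] at hrn
  have hrange : LinearMap.range L = Submodule.span ℂ
      ((fun χ : IrrCharacter G => pRegularPart 2 (χ : G → ℂ)) '' principalBlock M G) := by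
    rw [hL, Fintype.range_linearCombination]
    congr 1
    ext f
    constructor
    · rintro ⟨i, rfl⟩
      exact ⟨(i : IrrCharacter G), (hmemF _).mp i.2, by rw [hv]⟩
    · rintro ⟨χ, hχ, rfl⟩
      exact ⟨⟨χ, (hmemF χ).mpr hχ⟩, by rw [hv]⟩
  unfold blockRank
  rw [← hrange]
  omega

end Main

end Cfsg.Agent.Lib.helper78
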