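import Mathlib

/-!
# S0999 piece GT2 (helper78): `e = |N(P) : C(P)|` satisfies `2 ≤ e` and `e ∣ p - 1`
(Burnside transfer).
-/

set_option autoImplicit false

namespace Cfsg.Agent.Lib.helper21.BR

/-- GT2 -/
theorem relIndex_facts {G : Type*} [Group G] [Finite G] [IsSimpleGroup G] (hG : ¬ IsCyclic G)
    (p : ℕ) [Fact p.Prime] (P : Sylow p G) (hP : Nat.card P = p) :
    2 ≤ (Subgroup.centralizer ((P : Subgroup G) : Set G)).relIndex
        (Subgroup.normalizer ((P : Subgroup G) : Set G)) ∧
      (Subgroup.centralizer ((P : Subgroup G) : Set G)).relIndex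
        (Subgroup.normalizer ((P : Subgroup G) : Set G)) ∣ p - 1 := by
  have hp : p.Prime := Fact.out
  have hcyc : IsCyclic (P : Subgroup G) := isCyclic_of_prime_card hP
  have key := Subgroup.card_dvd_of_injective _
    (QuotientGroup.kerLift_injective (P : Subgroup G).normalizerMonoidHom)
  rw [Subgroup.normalizerMonoidHom_ker, ← Subgroup.index, ← Subgroup.relIndex] at key
  have hAut : Nat.card (MulAut (P : Subgroup G)) = p - 1 := by
    rw [IsCyclic.card_mulAut, hP, Nat.totient_prime hp]
  rw [hAut] at key
  refine ⟨?_, key⟩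
  by_contra hlt
  push Not at hlt
  have hpos : (Subgroup.centralizer ((P : Subgroup G) : Set G)).relIndex
      (Subgroup.normalizer ((P : Subgroup G) : Set G)) ≠ 0 :=
    ne_zero_of_dvd_ne_zero (by have := hp.two_le; omega) key
  have h1 : (Subgroup.centralizer ((P : Subgroup G) : Set G)).relIndex
      (Subgroup.normalizer ((P : Subgroup G) : Set G)) = 1 := by omega
  have hle : Subgroup.normalizer ((P : Subgroup G) : Set G) ≤
      Subgroup.centralizer ((P : Subgroup G) : Set G) := Subgroup.relIndex_eq_one.mp h1
  have hcompl := MonoidHom.ker_transferSylow_isComplement' P hle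
  have hcard := hcompl.card_mul_card
  rcases (MonoidHom.normal_ker (MonoidHom.transferSylow P hle)).eq_bot_or_eq_top with h0 | h0
  · rw [h0, Subgroup.card_bot, one_mul] at hcard
    exact hG (isCyclic_of_prime_card (hcard.symm.trans hP))
  · rw [h0, Subgroup.card_top] at hcard
    have hGpos : 0 < Nat.card G := Nat.card_pos
    have hP1 : Nat.card (P : Subgroup G) = 1 := by
      have h : Nat.card G * Nat.card (P : Subgroup G) = Nat.card G * 1 := by rw [hcard, mul_one]
      exact Nat.eq_of_mul_eq_mul_left hGpos h
    rw [hP] at hP1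
    exact hp.one_lt.ne' hP1

end Cfsg.Agent.Lib.helper21.BR
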