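import Mathlib
import Cfsg.Prelude.Def_Characters
import Cfsg.Agent.Lib.helper4.CharDecomp
import Cfsg.Agent.Lib.helper81.CharTools
import Cfsg.Agent.Lib.helper79.CycloNorm
import Cfsg.Agent.Lib.helper82.CharInt

/-!
# Schur's bound for the order of a `p`-group with a faithful rational-valued character (helper78)

* `char_pow_eq_of_mem_adjoin`: a character value at a `p`-element that lies in `ℚ(ζ_r)`, `p ∤ r`,
  is unchanged under `x ↦ x ^ k` for `p ∤ k` (Galois invariance without Galois theory);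
* `exists_int_char_of_pow_invariant`: such values are rational integers in `[-n/(p-1), n]`;
* `card_dvd_factorial_of_int_values`: Schur's polynomial argument: `|P|` divides `(n + K)!`.
-/

set_option autoImplicit false

namespace Cfsg.Agent.Lib.helper78

open Polynomial

universe u

/-- Galois invariance of `p`-rational character values at `p`-elements. -/
theorem char_pow_eq_of_mem_adjoin {G : Type u} [Group G] {d : ℕ}
    (ρ : Representation ℂ G (Fin d → ℂ)) (p : ℕ) (hp : p.Prime) (r : ℕ) (hr : 0 < r)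
    (hpr : ¬ p ∣ r) (x : G) (b : ℕ) (hx : x ^ (p ^ b) = 1)
    (hmem : ρ.character x ∈
      IntermediateField.adjoin ℚ ({Complex.exp (2 * Real.pi * Complex.I / r)} : Set ℂ))
    (k : ℕ) (hk : ¬ p ∣ k) : ρ.character (x ^ k) = ρ.character x := by
  classical
  have hq : 0 < p ^ b := pow_pos hp.pos b
  obtain ⟨q, hqdef⟩ : ∃ q : ℕ, q = p ^ b := ⟨_, rfl⟩
  rw [← hqdef] at hq hx
  have hN : 0 < r * q := Nat.mul_pos hr hq
  obtain ⟨ζ, hζdef⟩ : ∃ ζ : ℂ, ζ = Complex.exp (2 * Real.pi * Complex.I / ((r * q : ℕ) : ℂ)) :=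
    ⟨_, rfl⟩
  have hζ : IsPrimitiveRoot ζ (r * q) := hζdef ▸ Complex.isPrimitiveRoot_exp (r * q) hN.ne'
  have hζq : ζ ^ q = Complex.exp (2 * Real.pi * Complex.I / r) := by
    rw [hζdef, ← Complex.exp_nat_mul]
    congr 1
    have h1 : (r : ℂ) ≠ 0 := by exact_mod_cast hr.ne'
    have h2 : (q : ℂ) ≠ 0 := by exact_mod_cast hq.ne'
    push_cast
    field_simp
  have hζr : IsPrimitiveRoot (ζ ^ q) r := hζ.pow hN (by ring)
  have hξ : IsPrimitiveRoot (ζ ^ r) q := hζ.pow hN rfl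
  obtain ⟨F, hF⟩ := Cfsg.Agent.Lib.helper79.character_pow_eq_aeval ρ x q hq hx (ζ ^ r) hξ
  -- the value as a rational polynomial in `ζ ^ q`
  obtain ⟨B, hB⟩ : ∃ B : ℚ[X], aeval (ζ ^ q) B = ρ.character x := by
    rw [← hζq] at hmem
    have halg : IsAlgebraic ℚ (ζ ^ q) :=
      ((hζr.isIntegral hr).tower_top (A := ℚ)).isAlgebraic
    have h1 : ρ.character x ∈ (IntermediateField.adjoin ℚ ({ζ ^ q} : Set ℂ)).toSubalgebra := hmem
    rw [IntermediateField.adjoin_simple_toSubalgebra_of_isAlgebraic halg,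
      Algebra.adjoin_singleton_eq_range_aeval] at h1
    exact h1
  -- clear denominators
  obtain ⟨c, hcM, hcB⟩ := IsLocalization.integerNormalization_spec (nonZeroDivisors ℤ) B
  have hc0 : (c : ℂ) ≠ 0 := by
    have : c ≠ 0 := nonZeroDivisors.ne_zero hcM
    exact_mod_cast this
  obtain ⟨B', hB'def⟩ : ∃ B' : ℤ[X], B' = IsLocalization.integerNormalization (nonZeroDivisors ℤ) B :=
    ⟨_, rfl⟩
  rw [← hB'def] at hcB
  have hB' : aeval (ζ ^ q) B' = (c : ℂ) * ρ.character x := by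
    rw [← aeval_map_algebraMap ℚ (ζ ^ q) B', hcB, map_zsmul, hB, zsmul_eq_mul]
  -- the integer polynomial relation
  have hE : ∀ ξ₂ : ℂ, IsPrimitiveRoot ξ₂ (r * q) →
      (c : ℂ) * aeval (ξ₂ ^ r) F = aeval (ξ₂ ^ q) B' := by
    intro ξ₂ h₂
    have h0 : aeval ζ (C c * F.comp (X ^ r) - B'.comp (X ^ q)) = 0 := by
      rw [map_sub, map_mul, aeval_C, aeval_comp, aeval_comp, map_pow, map_pow, aeval_X, hB',
        ← pow_one (ζ ^ r), ← hF 1, pow_one]
      simp
    have h1 := Cfsg.Agent.Lib.helper79.aeval_primitiveRoot_eq_zero hN hζ h₂ _ h0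
    rw [map_sub, map_mul, aeval_C, aeval_comp, aeval_comp, map_pow, map_pow, aeval_X] at h1
    have h2 := sub_eq_zero.mp h1
    simpa using h2
  -- the Chinese remainder exponent
  have hcop : Nat.Coprime q r := by
    rw [hqdef]
    exact Nat.Coprime.pow_left b ((Nat.Prime.coprime_iff_not_dvd hp).mpr hpr)
  obtain ⟨m, hm1, hm2⟩ := Nat.chineseRemainder hcop k 1
  -- `m ≡ k [MOD q]`, `m ≡ 1 [MOD r]`
  have hmN : Nat.Coprime m (r * q) := by
    apply Nat.Coprime.mul_right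
    · have := hm2.gcd_eq
      rw [Nat.gcd_one_left] at this
      exact this
    · have h3 := hm1.gcd_eq
      have h4 : Nat.Coprime k q := by
        rw [hqdef]
        exact Nat.Coprime.pow_right b ((Nat.Prime.coprime_iff_not_dvd hp).mpr hk).symm
      rw [Nat.Coprime, h3]
      exact h4
  have h5 := hE (ζ ^ m) (hζ.pow_of_coprime m hmN)
  have h6 : (ζ ^ m) ^ q = ζ ^ q := by
    rw [← pow_mul, mul_comm, pow_mul]
    conv_rhs => rw [← pow_one (ζ ^ q)]
    rw [pow_eq_pow_mod m hζr.pow_eq_one, pow_eq_pow_mod 1 hζr.pow_eq_one]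
    exact congrArg (fun j => (ζ ^ q) ^ j) hm2
  have h7 : (ζ ^ m) ^ r = (ζ ^ r) ^ k := by
    rw [← pow_mul, mul_comm, pow_mul, pow_eq_pow_mod m hξ.pow_eq_one,
      pow_eq_pow_mod k hξ.pow_eq_one]
    exact congrArg (fun j => (ζ ^ r) ^ j) hm1
  rw [h6, h7, hB', ← hF k] at h5
  exact mul_left_cancel₀ hc0 h5

/-- For a character of a finite group and `x` of order `p ^ (b + 1)` whose character value is
unchanged under `x ↦ x ^ k`, `p ∤ k`: `(p - 1) χ(x) = p m₀ - m₁` with naturals `m₀`, `m₁ ≤ χ(1)`. -/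
theorem sub_one_mul_char_eq {G : Type u} [Group G] [Fintype G] {d : ℕ}
    (ρ : Representation ℂ G (Fin d → ℂ)) (p : ℕ) (hp : p.Prime) (x : G) (b : ℕ)
    (hx : orderOf x = p ^ (b + 1))
    (hinv : ∀ k : ℕ, ¬ p ∣ k → ρ.character (x ^ k) = ρ.character x) :
    ∃ m₀ m₁ : ℕ, m₁ ≤ d ∧ ((p : ℂ) - 1) * ρ.character x = (p : ℂ) * m₀ - m₁ := by
  classical
  have hχ : Cfsg.IsCharacter G ρ.character := ⟨d, ρ, rfl⟩
  obtain ⟨m₀, h₀⟩ := Cfsg.Agent.Lib.helper81.sum_subgroup_char hχ (Subgroup.zpowers x)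
  obtain ⟨m₁, h₁⟩ := Cfsg.Agent.Lib.helper81.sum_subgroup_char hχ (Subgroup.zpowers (x ^ p))
  have hA : Nat.card (Subgroup.zpowers x) = p ^ (b + 1) := by rw [Nat.card_zpowers, hx]
  have hA' : Nat.card (Subgroup.zpowers (x ^ p)) = p ^ b := by
    rw [Nat.card_zpowers, orderOf_pow' x hp.ne_zero, hx,
      Nat.gcd_eq_right (dvd_pow_self p (Nat.succ_ne_zero b)), pow_succ,
      Nat.mul_div_cancel _ hp.pos]
  rw [hA] at h₀
  rw [hA'] at h₁
  obtain ⟨SA, hSA⟩ : ∃ SA : Finset G, SA = Finset.univ.filter (fun g : G => g ∈ Subgroup.zpowers x) :=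
    ⟨_, rfl⟩
  obtain ⟨SA', hSA'⟩ : ∃ SA' : Finset G,
      SA' = Finset.univ.filter (fun g : G => g ∈ Subgroup.zpowers (x ^ p)) := ⟨_, rfl⟩
  have e₀ : ∑ g ∈ SA, ρ.character g = ∑ u : Subgroup.zpowers x, ρ.character (u : G) :=
    Finset.sum_subtype SA (by intro g; simp [hSA]) _
  have e₁ : ∑ g ∈ SA', ρ.character g = ∑ u : Subgroup.zpowers (x ^ p), ρ.character (u : G) :=
    Finset.sum_subtype SA' (by intro g; simp [hSA']) _
  have hle : Subgroup.zpowers (x ^ p) ≤ Subgroup.zpowers x :=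
    Subgroup.zpowers_le.mpr (Subgroup.pow_mem _ (Subgroup.mem_zpowers x) p)
  have hsub : SA' ⊆ SA := by
    intro g hg
    rw [hSA'] at hg
    rw [hSA]
    simp only [Finset.mem_filter, Finset.mem_univ, true_and] at hg ⊢
    exact hle hg
  have hcA : SA.card = p ^ (b + 1) := by
    rw [← hA, Nat.card_eq_fintype_card, Fintype.card_subtype, hSA]
  have hcA' : SA'.card = p ^ b := by
    rw [← hA', Nat.card_eq_fintype_card, Fintype.card_subtype, hSA']
  have hdiff : ∑ g ∈ SA \ SA', ρ.character g = ((p ^ (b + 1) - p ^ b : ℕ) : ℂ) * ρ.character x := by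
    have h2 : ∀ g ∈ SA \ SA', ρ.character g = ρ.character x := by
      intro g hg
      rw [Finset.mem_sdiff, hSA, hSA'] at hg
      simp only [Finset.mem_filter, Finset.mem_univ, true_and] at hg
      obtain ⟨k, hk⟩ := (Submonoid.mem_powers_iff _ _).mp
        ((mem_powers_iff_mem_zpowers (x := x)).mpr hg.1)
      rw [← hk]
      apply hinv
      intro hpk
      apply hg.2
      obtain ⟨j, rfl⟩ := hpk
      rw [← hk, pow_mul]
      exact Subgroup.pow_mem _ (Subgroup.mem_zpowers _) j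
    rw [Finset.sum_congr rfl h2, Finset.sum_const, Finset.card_sdiff_of_subset hsub, hcA, hcA',
      nsmul_eq_mul]
  have hsum := Finset.sum_sdiff (f := fun g => ρ.character g) hsub
  rw [hdiff, e₀, e₁, h₀, h₁] at hsum
  refine ⟨m₀, m₁, ?_, ?_⟩
  · -- `m₁ ≤ d`
    have h3 : ‖∑ u : Subgroup.zpowers (x ^ p), ρ.character (u : G)‖ ≤ (p ^ b : ℕ) * (d : ℝ) := by
      refine (norm_sum_le _ _).trans ?_
      have h4 : ∀ u ∈ (Finset.univ : Finset (Subgroup.zpowers (x ^ p))),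
          ‖ρ.character (u : G)‖ ≤ (d : ℝ) := by
        intro u _
        have := Cfsg.Agent.Lib.helper82.norm_char_le ρ (u : G)
        simpa using this
      refine (Finset.sum_le_sum h4).trans ?_
      rw [Finset.sum_const, Finset.card_univ, ← Nat.card_eq_fintype_card, hA', nsmul_eq_mul]
    rw [h₁] at h3
    have h5 : ‖((p ^ b : ℕ) : ℂ) * (m₁ : ℂ)‖ = ((p ^ b : ℕ) : ℝ) * (m₁ : ℝ) := by
      rw [← Nat.cast_mul, Complex.norm_natCast, Nat.cast_mul]
    rw [h5] at h3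
    have hpos : (0 : ℝ) < ((p ^ b : ℕ) : ℝ) := by exact_mod_cast pow_pos hp.pos b
    have h6 : (m₁ : ℝ) ≤ (d : ℝ) := le_of_mul_le_mul_left h3 hpos
    exact_mod_cast h6
  · have hpb : ((p ^ b : ℕ) : ℂ) ≠ 0 := by exact_mod_cast (pow_pos hp.pos b).ne'
    have h7 : ((p ^ (b + 1) - p ^ b : ℕ) : ℂ) = ((p ^ b : ℕ) : ℂ) * ((p : ℂ) - 1) := by
      rw [Nat.cast_sub (Nat.pow_le_pow_right hp.pos (Nat.le_succ b))]
      push_cast
      rw [pow_succ]
      ring
    have h8 : ((p ^ (b + 1) : ℕ) : ℂ) = ((p ^ b : ℕ) : ℂ) * (p : ℂ) := by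
      push_cast; rw [pow_succ]
    rw [h7, h8] at hsum
    have h9 : ((p ^ b : ℕ) : ℂ) * (((p : ℂ) - 1) * ρ.character x) =
        ((p ^ b : ℕ) : ℂ) * ((p : ℂ) * m₀ - m₁) := by
      linear_combination hsum
    exact mul_left_cancel₀ hpb h9

/-- Under the hypotheses of `sub_one_mul_char_eq` the character value is a rational integer
`z` with `-⌊d / (p - 1)⌋ ≤ z ≤ d`. -/
theorem exists_int_char_of_pow_invariant {G : Type u} [Group G] [Fintype G] {d : ℕ}
    (ρ : Representation ℂ G (Fin d → ℂ)) (p : ℕ) (hp : p.Prime) (x : G) (b : ℕ)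
    (hx : orderOf x = p ^ (b + 1))
    (hinv : ∀ k : ℕ, ¬ p ∣ k → ρ.character (x ^ k) = ρ.character x) :
    ∃ z : ℤ, ρ.character x = z ∧ z ≤ d ∧ -((d / (p - 1) : ℕ) : ℤ) ≤ z := by
  obtain ⟨m₀, m₁, hm₁, hm⟩ := sub_one_mul_char_eq ρ p hp x b hx hinv
  have hp2 : 2 ≤ p := hp.two_le
  have hp1 : p - 1 ≠ 0 := by omega
  -- the natural number `a = (p - 1) (χ(x) + d)`
  obtain ⟨a, ha⟩ : ∃ a : ℕ, a = p * m₀ + (d - m₁) + (p - 2) * d := ⟨_, rfl⟩
  have hac : (a : ℂ) = ((p - 1 : ℕ) : ℂ) * (ρ.character x + d) := by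
    rw [ha, Nat.cast_sub (by omega : 1 ≤ p)]
    push_cast
    rw [Nat.cast_sub hm₁, Nat.cast_sub hp2]
    push_cast
    linear_combination -hm
  have hint : IsIntegral ℤ ((a : ℂ) / ((p - 1 : ℕ) : ℂ)) := by
    have hne : ((p - 1 : ℕ) : ℂ) ≠ 0 := by exact_mod_cast hp1
    rw [hac, mul_div_cancel_left₀ _ hne]
    exact (Cfsg.Agent.Lib.helper82.isIntegral_char ρ x).add (isIntegral_natCast d)
  obtain ⟨a', ha'⟩ := Cfsg.Agent.Lib.helper81.dvd_of_isIntegral_div hp1 hint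
  have hz : ρ.character x = (((a' : ℤ) - d : ℤ) : ℂ) := by
    have hne : ((p - 1 : ℕ) : ℂ) ≠ 0 := by exact_mod_cast hp1
    have h1 : ((p - 1 : ℕ) : ℂ) * (ρ.character x + d) = ((p - 1 : ℕ) : ℂ) * (a' : ℂ) := by
      rw [← hac, ha']; push_cast; ring
    have h2 := mul_left_cancel₀ hne h1
    push_cast
    linear_combination h2
  refine ⟨(a' : ℤ) - d, hz, ?_, ?_⟩
  · -- upper bound from `‖χ(x)‖ ≤ d`
    have h3 := Cfsg.Agent.Lib.helper82.norm_char_le ρ x
    rw [hz, Module.finrank_fin_fun] at h3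
    have h4 : (((a' : ℤ) - d : ℤ) : ℝ) ≤ ‖((((a' : ℤ) - d : ℤ) : ℂ))‖ := by
      rw [Complex.norm_intCast]
      exact le_abs_self _
    have h5 : (((a' : ℤ) - d : ℤ) : ℝ) ≤ (d : ℝ) := h4.trans h3
    exact_mod_cast h5
  · -- lower bound from `(p - 1) z = p m₀ - m₁ ≥ -d`
    have h6 : ((p : ℤ) - 1) * ((a' : ℤ) - d) = (p : ℤ) * m₀ - m₁ := by
      have : (((p : ℤ) - 1) * ((a' : ℤ) - d) : ℂ) = (((p : ℤ) * m₀ - m₁ : ℤ) : ℂ) := by
        push_cast
        rw [← hm, hz]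
        push_cast
        ring
      exact_mod_cast this
    have h7 : d < (d / (p - 1) + 1) * (p - 1) := by
      have := Nat.lt_succ_self (d / (p - 1))
      exact (Nat.div_lt_iff_lt_mul (by omega : 0 < p - 1)).mp this
    have h8 : ((p - 1 : ℕ) : ℤ) = (p : ℤ) - 1 := by
      rw [Nat.cast_sub (by omega : 1 ≤ p)]; simp
    have h9 : ((d : ℤ)) < ((d / (p - 1) : ℕ) + 1) * ((p : ℤ) - 1) := by
      rw [← h8]; exact_mod_cast h7
    have h10 : (m₁ : ℤ) ≤ d := by exact_mod_cast hm₁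
    have h11 : (0 : ℤ) ≤ (p : ℤ) * m₀ := by positivity
    have h12 : (0 : ℤ) < (p : ℤ) - 1 := by
      have : (2 : ℤ) ≤ p := by exact_mod_cast hp2
      linarith
    by_contra hcon
    push Not at hcon
    have h13 : ((a' : ℤ) - d) + 1 ≤ -((d / (p - 1) : ℕ) : ℤ) := by omega
    have h14 : ((p : ℤ) - 1) * (((a' : ℤ) - d) + 1) ≤ ((p : ℤ) - 1) * (-((d / (p - 1) : ℕ) : ℤ)) :=
      mul_le_mul_of_nonneg_left h13 h12.le
    nlinarith

/-- **Schur's polynomial argument**: if a character `χ` of degree `n` takes on the subgroup `P`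
only rational integer values in `[-K, n]`, the value `n` only at `1`, then `|P|` divides
`(n + K)!`. -/
theorem card_dvd_factorial_of_int_values {G : Type u} [Group G] [Fintype G] (χ : G → ℂ)
    (hχ : Cfsg.IsCharacter G χ) (P : Subgroup G) (n K : ℕ)
    (h : ∀ u ∈ P, ∃ z : ℤ, χ u = z ∧ z ≤ n ∧ -(K : ℤ) ≤ z ∧ (z = n → u = 1))
    (h1 : χ 1 = n) : Nat.card P ∣ (n + K).factorial := by
  classical
  obtain ⟨f, hf⟩ : ∃ f : ℤ[X], f = ∏ i ∈ Finset.range (n + K), (X - C ((n : ℤ) - (i + 1))) :=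
    ⟨_, rfl⟩
  have hf1 : aeval (n : ℂ) f = ((n + K).factorial : ℂ) := by
    rw [hf, map_prod, ← Finset.prod_range_add_one_eq_factorial, Nat.cast_prod]
    refine Finset.prod_congr rfl fun i _ => ?_
    simp
  have hf0 : ∀ u : P, u ≠ 1 → aeval (χ (u : G)) f = 0 := by
    intro u hu
    obtain ⟨z, hz, hzn, hzK, hz1⟩ := h u u.2
    have hne : z ≠ n := fun hh => hu (Subtype.ext (hz1 hh))
    have hlt : z < n := lt_of_le_of_ne hzn hne
    obtain ⟨i, hi⟩ : ∃ i : ℕ, (i : ℤ) = n - 1 - z := ⟨(n - 1 - z).toNat, by omega⟩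
    have hi_mem : i ∈ Finset.range (n + K) := by
      rw [Finset.mem_range]; omega
    rw [hf, map_prod]
    refine Finset.prod_eq_zero hi_mem ?_
    have : (z : ℂ) = (n : ℂ) - ((i : ℂ) + 1) := by
      have : z = (n : ℤ) - ((i : ℤ) + 1) := by omega
      rw [this]; push_cast; ring
    simp [hz, this]
  have hsum : ∑ u : P, aeval (χ (u : G)) f = ((n + K).factorial : ℂ) := by
    rw [Fintype.sum_eq_single (1 : P) (fun u hu => hf0 u hu)]
    simp [h1, hf1]
  -- integrality of the sum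
  have hm : ∀ i : ℕ, ∃ m : ℕ, ∑ u : P, χ (u : G) ^ i = (Nat.card P : ℂ) * m := fun i =>
    Cfsg.Agent.Lib.helper81.sum_subgroup_char (Cfsg.Agent.Lib.helper4.isCharacter_pow hχ i) P
  choose m hm using hm
  have hint : ∑ u : P, aeval (χ (u : G)) f =
      (Nat.card P : ℂ) * ((∑ i ∈ Finset.range (f.natDegree + 1), f.coeff i * (m i : ℤ) : ℤ) : ℂ) := by
    simp_rw [aeval_eq_sum_range]
    rw [Finset.sum_comm]
    push_cast
    rw [Finset.mul_sum]
    refine Finset.sum_congr rfl fun i _ => ?_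
    rw [← Finset.smul_sum, hm i, zsmul_eq_mul]
    ring
  rw [hsum] at hint
  have h2 : ((n + K).factorial : ℤ) =
      (Nat.card P : ℤ) * (∑ i ∈ Finset.range (f.natDegree + 1), f.coeff i * (m i : ℤ)) := by
    exact_mod_cast hint
  exact Int.natCast_dvd_natCast.mp ⟨_, h2⟩

/-- The `p`-adic valuation of `(d + ⌊d/(p-1)⌋)!` in Schur's form. -/
theorem factorization_factorial_schur (p : ℕ) (hp : p.Prime) (d : ℕ) :
    ((d + d / (p - 1)).factorial).factorization p =
      ∑ i ∈ Finset.range (d + 1), d / ((p - 1) * p ^ i) := by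
  have hp2 : 2 ≤ p := hp.two_le
  have hs : 0 < p - 1 := by omega
  have hlog : Nat.log p (d + d / (p - 1)) < d + 2 := by
    rcases Nat.eq_zero_or_pos (d + d / (p - 1)) with h0 | h0
    · rw [h0]; simp
    · apply Nat.log_lt_of_lt_pow h0.ne'
      have h1 : d / (p - 1) ≤ d := Nat.div_le_self _ _
      have h2 : d < 2 ^ d := Nat.lt_two_pow_self
      have h3 : 2 ^ (d + 2) ≤ p ^ (d + 2) := Nat.pow_le_pow_left hp2 _
      have h4 : 2 ^ (d + 2) = 4 * 2 ^ d := by ring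
      omega
  rw [Nat.factorization_factorial hp hlog, Finset.sum_Ico_eq_sum_range]
  refine Finset.sum_congr (by simp) fun i _ => ?_
  have h5 : d + d / (p - 1) = d * p / (p - 1) := by
    have h6 : d * p = (p - 1) * d + d := by
      have : p = (p - 1) + 1 := by omega
      nlinarith
    rw [h6, Nat.mul_add_div hs]
  rw [h5, Nat.div_div_eq_div_mul, pow_add, pow_one]
  have h7 : (p - 1) * (p * p ^ i) = p * ((p - 1) * p ^ i) := by ring
  rw [h7, mul_comm d p, Nat.mul_div_mul_left _ _ hp.pos]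

end Cfsg.Agent.Lib.helper78
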