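import Mathlib

/-!
# S0999 piece GT8 (helper78): the centralizer of a non-identity element of a subgroup of
prime order is the centralizer of the subgroup.
-/

set_option autoImplicit false

namespace Cfsg.Agent.Lib.helper21.BR

/-- GT8 -/
theorem centralizer_singleton_eq {G : Type*} [Group G] (p : ℕ) [Fact p.Prime] (P : Subgroup G)
    (hP : Nat.card P = p) (x : G) (hx : x ∈ P) (hx1 : x ≠ 1) :
    Subgroup.centralizer ({x} : Set G) = Subgroup.centralizer (P : Set G) := by
  apply le_antisymm
  · intro g hg
    rw [Subgroup.mem_centralizer_iff] at hg ⊢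
    have hgx : x * g = g * x := hg x (Set.mem_singleton x)
    intro y hy
    have hx1' : (⟨x, hx⟩ : P) ≠ 1 := fun h => hx1 (congrArg Subtype.val h)
    have hmem : (⟨y, hy⟩ : P) ∈ Subgroup.zpowers (⟨x, hx⟩ : P) :=
      mem_zpowers_of_prime_card hP hx1'
    obtain ⟨k, hk⟩ := Subgroup.mem_zpowers_iff.mp hmem
    have hyk : y = x ^ k := by
      have := congrArg Subtype.val hk
      simpa using this.symm
    rw [hyk]
    have hc : Commute x g := hgx
    exact (hc.zpow_left k).eq
  · exact Subgroup.centralizer_le (Set.singleton_subset_iff.mpr hx)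

end Cfsg.Agent.Lib.helper21.BR
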