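import Mathlib
import Cfsg.Prelude.Def_Blocks
import Cfsg.Prelude.Def_BlockRank
import Cfsg.Prelude.Def_BrauerPairs
import Cfsg.Agent.Lib.helper78.KLCount
import Cfsg.Agent.Lib.helper80.PairEq
import Cfsg.Agent.Lib.helper80.Cover
import Cfsg.Agent.Lib.helper80.InducedBr
import Cfsg.Agent.Lib.helper80.Transport
import Cfsg.Agent.Lib.helper80.Principal
import Cfsg.Agent.Lib.helper79.DefectDeg
import Cfsg.Agent.Lib.helper79.Contrib
import Cfsg.Agent.Lib.helper81.CharOrtho

/-!
# Blocks with a Klein four defect group: general tools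

* `castBlk`: transport of a set of characters along an equality of subgroups.
* `isBrauerPairOf_iff_induced`: for an abelian `p`-subgroup `Q`, `(Q, f)` is a `B`-Brauer pair
  iff the block `f` of `C_G(Q)` induces `B`.
* `finsum_induced_one`: the blocks of `C_G(1)` inducing `B` contribute `l(B)`.
* `blockRank_blockMap`: `l` is invariant under transport along an isomorphism.
* `isMaximalBrauerPair_of_defect`: a `B`-Brauer pair on a defect group is maximal.
-/

set_option autoImplicit false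
set_option linter.unusedSectionVars false
set_option linter.style.haveILetI false

open Cfsg
open scoped ComplexConjugate

namespace Cfsg.Agent.Lib.helper78

universe u

section Cast

variable {G : Type u} [Group G]

/-- Transport of a set of irreducible characters along an equality of subgroups. -/
def castBlk {H H' : Subgroup G} (h : H = H') (b : Set (IrrCharacter H)) :
    Set (IrrCharacter H') := h ▸ b

theorem castBlk_rfl {H : Subgroup G} (b : Set (IrrCharacter H)) : castBlk rfl b = b := rfl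

theorem castBlk_symm_castBlk {H H' : Subgroup G} (h : H = H') (b : Set (IrrCharacter H)) :
    castBlk h.symm (castBlk h b) = b := by
  subst h; rfl

theorem castBlk_castBlk_symm {H H' : Subgroup G} (h : H = H') (b : Set (IrrCharacter H')) :
    castBlk h (castBlk h.symm b) = b := by
  subst h; rfl

theorem castBlk_injective {H H' : Subgroup G} (h : H = H') {b b' : Set (IrrCharacter H)}
    (hb : castBlk h b = castBlk h b') : b = b' := by
  subst h; exact hb

theorem isPBlock_castBlk {M : Ideal AlgInt} {H H' : Subgroup G} (h : H = H')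
    (b : Set (IrrCharacter H)) : IsPBlock M (castBlk h b) ↔ IsPBlock M b := by
  subst h; rfl

theorem isInducedBlock_castBlk {M : Ideal AlgInt} {H H' : Subgroup G} (h : H = H')
    (b : Set (IrrCharacter H)) (B : Set (IrrCharacter G)) :
    IsInducedBlock M H' (castBlk h b) B ↔ IsInducedBlock M H b B := by
  subst h; rfl

theorem blockRank_castBlk (p : ℕ) {H H' : Subgroup G} (h : H = H')
    (b : Set (IrrCharacter H)) : blockRank p (castBlk h b) = blockRank p b := by
  subst h; rfl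

theorem blockDefect_castBlk (p : ℕ) {H H' : Subgroup G} (h : H = H')
    (b : Set (IrrCharacter H)) : blockDefect p (castBlk h b) = blockDefect p b := by
  subst h; rfl

theorem centralizer_singleton_eq_zpowers (x : G) :
    Subgroup.centralizer ({x} : Set G)
      = Subgroup.centralizer ((Subgroup.zpowers x : Subgroup G) : Set G) := by
  rw [Subgroup.zpowers_eq_closure, Subgroup.centralizer_closure]

/-- The pair on the index type attached to an element and a set of characters of its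
centralizer. -/
def pairOf (x : G) (b : Set (IrrCharacter (Subgroup.centralizer ({x} : Set G)))) :
    BrauerPairIdx G :=
  ⟨Subgroup.zpowers x, castBlk (centralizer_singleton_eq_zpowers x) b⟩

theorem pairOf_fst (x : G) (b : Set (IrrCharacter (Subgroup.centralizer ({x} : Set G)))) :
    (pairOf x b).1 = Subgroup.zpowers x := rfl

theorem pairOf_injective (x : G) {b b' : Set (IrrCharacter (Subgroup.centralizer ({x} : Set G)))}
    (h : pairOf x b = pairOf x b') : b = b' := by
  unfold pairOf at h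
  have h2 := eq_of_heq (Sigma.mk.inj h).2
  exact castBlk_injective _ h2

/-- Every pair on a cyclic subgroup `⟨x⟩` comes from a set of characters of `C_G(x)`. -/
theorem exists_pairOf_eq (x : G) (Y : BrauerPairIdx G) (hY : Y.1 = Subgroup.zpowers x) :
    ∃ b : Set (IrrCharacter (Subgroup.centralizer ({x} : Set G))), pairOf x b = Y := by
  obtain ⟨Q, f⟩ := Y
  dsimp only at hY
  subst hY
  exact ⟨castBlk (centralizer_singleton_eq_zpowers x).symm f, by
    unfold pairOf
    rw [castBlk_castBlk_symm]⟩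

end Cast

section Induced

variable {G : Type u} [Group G] [Fintype G] {p : ℕ} [Fact p.Prime] {M : Ideal AlgInt}

/-- For an abelian `p`-subgroup `Q`: `(Q, f)` is a Brauer pair of `B` iff the block `f` of
`C_G(Q)` induces `B`. -/
theorem isBrauerPairOf_iff_induced (hM : IsPModular p M) (Q : Subgroup G) (hQ : IsPGroup p Q)
    (hQC : Q ≤ Subgroup.centralizer (Q : Set G))
    (f : Set (IrrCharacter (Subgroup.centralizer (Q : Set G)))) (B : Set (IrrCharacter G)) :
    IsBrauerPairOf p M B Q f ↔ IsInducedBlock M (Subgroup.centralizer (Q : Set G)) f B := by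
  classical
  have hMp := Cfsg.Agent.Lib.helper20.isPrime_of_isPModular hM
  constructor
  · intro h
    have hf : IsPBlock M f := h.1.2
    have hB : IsPBlock M B := h.2.1
    rw [Cfsg.Agent.Lib.helper80.isInducedBlock_iff_brInd hM Q (Subgroup.centralizer (Q : Set G))
      hQ hQC le_rfl (Subgroup.centralizer_le_normalizer _) hf hB]
    intro ξ hξ χ hχ
    obtain ⟨χ₀, hχ₀, hbr⟩ := Cfsg.Agent.Lib.helper80.exists_brInd_of_isBrauerPairOf hM Q h hξ
    exact hbr.congr_right hMp (Cfsg.Agent.Lib.helper81.sameBlock_of_mem hMp hB hχ₀ hχ)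
  · intro h
    have hf : IsPBlock M f := h.1
    have hB : IsPBlock M B := h.2.1
    obtain ⟨ξ, hξ⟩ := Cfsg.Agent.Lib.helper81.isPBlock_nonempty hMp hf
    obtain ⟨χ, hχ⟩ := Cfsg.Agent.Lib.helper81.isPBlock_nonempty hMp hB
    have hbr := (Cfsg.Agent.Lib.helper80.isInducedBlock_iff_brInd hM Q
      (Subgroup.centralizer (Q : Set G)) hQ hQC le_rfl (Subgroup.centralizer_le_normalizer _)
      hf hB).1 h ξ hξ χ hχ
    have := Cfsg.Agent.Lib.helper80.isBrauerPairOf_of_brInd hM Q hQ hB hχ hbr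
    rwa [← Cfsg.Agent.Lib.helper81.isPBlock_eq_blockOf hMp hf hξ] at this

theorem isPGroup_zpowers_of_orderOf (x : G) (hx : ∃ k : ℕ, orderOf x = p ^ k) :
    IsPGroup p (Subgroup.zpowers x) := by
  obtain ⟨k, hk⟩ := hx
  exact IsPGroup.of_card (by rw [Nat.card_zpowers, hk])

theorem zpowers_le_centralizer_zpowers (x : G) :
    Subgroup.zpowers x ≤ Subgroup.centralizer ((Subgroup.zpowers x : Subgroup G) : Set G) := by
  rw [← centralizer_singleton_eq_zpowers, Subgroup.zpowers_le]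
  exact Subgroup.mem_centralizer_singleton_iff.mpr rfl

/-- Subsections as Brauer pairs: `b` induces `B` iff `(⟨x⟩, b)` is a Brauer pair of `B`. -/
theorem induced_iff_pairOf (hM : IsPModular p M) (x : G) (hx : ∃ k : ℕ, orderOf x = p ^ k)
    (b : Set (IrrCharacter (Subgroup.centralizer ({x} : Set G)))) (B : Set (IrrCharacter G)) :
    IsInducedBlock M (Subgroup.centralizer ({x} : Set G)) b B
      ↔ IsBrauerPairOf p M B (pairOf x b).1 (pairOf x b).2 := by
  unfold pairOf
  dsimp only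
  rw [isBrauerPairOf_iff_induced hM _ (isPGroup_zpowers_of_orderOf x hx)
    (zpowers_le_centralizer_zpowers x), isInducedBlock_castBlk]

end Induced

section TopTerm

variable {G : Type u} [Group G]

/-- `l` is invariant under transport along an isomorphism. -/
theorem blockRank_blockMap {K₁ K₂ : Type u} [Group K₁] [Group K₂] (p : ℕ) (φ : K₁ ≃* K₂)
    (c : Set (IrrCharacter K₁)) :
    blockRank p (Cfsg.Agent.Lib.helper80.blockMap φ c) = blockRank p c := by
  classical
  obtain ⟨L, hL⟩ : ∃ L : (K₁ → ℂ) ≃ₗ[ℂ] (K₂ → ℂ), L = LinearEquiv.funCongrLeft ℂ ℂ φ.symm.toEquiv :=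
    ⟨_, rfl⟩
  have hLapp : ∀ (f : K₁ → ℂ) (k : K₂), L f k = f (φ.symm k) := by
    intro f k
    rw [hL]
    rfl
  have hreg : ∀ χ : IrrCharacter K₁,
      pRegularPart p (Cfsg.Agent.Lib.helper80.irrMap φ χ : K₂ → ℂ)
        = L (pRegularPart p (χ : K₁ → ℂ)) := by
    intro χ
    funext k
    rw [hLapp]
    have ho : orderOf (φ.symm k) = orderOf k := φ.symm.orderOf_eq k
    by_cases hk : p ∣ orderOf k
    · rw [pRegularPart_apply_of_sing p _ hk, pRegularPart_apply_of_sing p _ (by rw [ho]; exact hk)]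
    · rw [pRegularPart_apply_of_reg p _ hk, pRegularPart_apply_of_reg p _ (by rw [ho]; exact hk),
        Cfsg.Agent.Lib.helper80.irrMap_apply]
  have himg : (fun ψ : IrrCharacter K₂ => pRegularPart p (ψ : K₂ → ℂ)) ''
      (Cfsg.Agent.Lib.helper80.blockMap φ c)
      = L '' ((fun χ : IrrCharacter K₁ => pRegularPart p (χ : K₁ → ℂ)) '' c) := by
    ext w
    constructor
    · rintro ⟨ψ, hψ, rfl⟩
      rw [Cfsg.Agent.Lib.helper80.mem_blockMap] at hψ
      refine ⟨_, ⟨_, hψ, rfl⟩, ?_⟩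
      rw [← hreg, Cfsg.Agent.Lib.helper80.irrMap_irrMap_symm]
    · rintro ⟨_, ⟨χ, hχ, rfl⟩, rfl⟩
      refine ⟨Cfsg.Agent.Lib.helper80.irrMap φ χ, ?_, ?_⟩
      · rw [Cfsg.Agent.Lib.helper80.irrMap_mem_blockMap]
        exact hχ
      · exact hreg χ
  unfold blockRank
  rw [himg]
  have hspan : Submodule.span ℂ (L '' ((fun χ : IrrCharacter K₁ => pRegularPart p (χ : K₁ → ℂ)) '' c))
      = (Submodule.span ℂ ((fun χ : IrrCharacter K₁ => pRegularPart p (χ : K₁ → ℂ)) '' c)).map
          (L : (K₁ → ℂ) →ₗ[ℂ] (K₂ → ℂ)) := by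
    rw [Submodule.map_span]
    rfl
  rw [hspan]
  exact LinearEquiv.finrank_map_eq L _

/-- The isomorphism of `G` with a subgroup equal to `⊤`. -/
noncomputable def topIso (H : Subgroup G) (hH : H = ⊤) : G ≃* H :=
  (Subgroup.topEquiv.symm).trans (MulEquiv.subgroupCongr hH.symm)

theorem topIso_apply_coe (H : Subgroup G) (hH : H = ⊤) (g : G) :
    ((topIso H hH g : H) : G) = g := by
  subst hH
  rfl

theorem topIso_symm_apply (H : Subgroup G) (hH : H = ⊤) (h : H) :
    (topIso H hH).symm h = (h : G) := by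
  have := topIso_apply_coe H hH ((topIso H hH).symm h)
  rw [MulEquiv.apply_symm_apply] at this
  exact this.symm

variable [Fintype G]

theorem inducedCentralChar_topIso (H : Subgroup G) (hH : H = ⊤) (χ : IrrCharacter G) (g : G) :
    inducedCentralChar H (Cfsg.Agent.Lib.helper80.irrMap (topIso H hH) χ : H → ℂ) g
      = centralChar (χ : G → ℂ) g := by
  classical
  have hval : ∀ h : H, (Cfsg.Agent.Lib.helper80.irrMap (topIso H hH) χ : H → ℂ) h
      = (χ : G → ℂ) (h : G) := by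
    intro h
    rw [Cfsg.Agent.Lib.helper80.irrMap_apply, topIso_symm_apply]
  unfold inducedCentralChar
  rw [finsum_mem_eq_finite_toFinset_sum _ (Set.toFinite _)]
  have hcl := Cfsg.Agent.Lib.helper20.sum_conj_class
    (fun y : G => (χ : G → ℂ) y / (χ : G → ℂ) 1) (by
      intro a b hab
      show (χ : G → ℂ) a / (χ : G → ℂ) 1 = (χ : G → ℂ) b / (χ : G → ℂ) 1
      rw [Cfsg.Agent.Lib.helper81.irr_conjInv χ a b hab]) g
  unfold centralChar
  rw [mul_div_assoc, ← hcl]
  refine Finset.sum_bij (fun h _ => (h : G)) ?_ ?_ ?_ ?_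
  · intro h hh
    simp only [Set.Finite.mem_toFinset, Set.mem_ofPred_eq] at hh
    simp only [Finset.mem_filter, Finset.mem_univ, true_and]
    exact hh
  · intro a _ b _ hab
    exact Subtype.ext hab
  · intro y hy
    simp only [Finset.mem_filter, Finset.mem_univ, true_and] at hy
    refine ⟨⟨y, hH ▸ Subgroup.mem_top y⟩, ?_, rfl⟩
    simp only [Set.Finite.mem_toFinset, Set.mem_ofPred_eq]
    exact hy
  · intro h _
    rw [hval, hval]
    rfl

theorem isInducedBlock_topIso {M : Ideal AlgInt} (hMp : M.IsPrime) (H : Subgroup G) (hH : H = ⊤)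
    {B : Set (IrrCharacter G)} (hB : IsPBlock M B) :
    IsInducedBlock M H (Cfsg.Agent.Lib.helper80.blockMap (topIso H hH) B) B := by
  refine ⟨Cfsg.Agent.Lib.helper80.isPBlock_blockMap _ hB, hB, ?_⟩
  intro ξ hξ χ hχ g
  rw [Cfsg.Agent.Lib.helper80.mem_blockMap] at hξ
  have h1 := inducedCentralChar_topIso H hH
    (Cfsg.Agent.Lib.helper80.irrMap (topIso H hH).symm ξ) g
  rw [Cfsg.Agent.Lib.helper80.irrMap_irrMap_symm] at h1
  rw [h1]
  exact Cfsg.Agent.Lib.helper81.sameBlock_of_mem hMp hB hξ hχ g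

theorem eq_blockMap_topIso_of_induced {M : Ideal AlgInt} (hMp : M.IsPrime) (H : Subgroup G)
    (hH : H = ⊤) {B : Set (IrrCharacter G)} {b : Set (IrrCharacter H)}
    (h : IsInducedBlock M H b B) :
    b = Cfsg.Agent.Lib.helper80.blockMap (topIso H hH) B := by
  have hb' : IsPBlock M (Cfsg.Agent.Lib.helper80.blockMap (topIso H hH).symm b) :=
    Cfsg.Agent.Lib.helper80.isPBlock_blockMap _ h.1
  have h2 := isInducedBlock_topIso hMp H hH hb'
  rw [Cfsg.Agent.Lib.helper80.blockMap_blockMap_symm] at h2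
  have h3 := isInducedBlock_unique hMp H h h2
  rw [h3, Cfsg.Agent.Lib.helper80.blockMap_blockMap_symm]

/-- The blocks of `C_G(1)` inducing `B` contribute `l(B)`. -/
theorem finsum_induced_one {M : Ideal AlgInt} (hMp : M.IsPrime) (p : ℕ)
    {B : Set (IrrCharacter G)} (hB : IsPBlock M B) :
    ∑ᶠ b ∈ {b : Set (IrrCharacter (Subgroup.centralizer ({(1 : G)} : Set G))) |
        IsInducedBlock M (Subgroup.centralizer ({(1 : G)} : Set G)) b B}, blockRank p b
      = blockRank p B := by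
  have hH : Subgroup.centralizer ({(1 : G)} : Set G) = ⊤ := by
    rw [Subgroup.centralizer_eq_top_iff_subset]
    intro y hy
    rw [Set.mem_singleton_iff] at hy
    rw [hy]
    exact Subgroup.one_mem _
  have hset : {b : Set (IrrCharacter (Subgroup.centralizer ({(1 : G)} : Set G))) |
        IsInducedBlock M (Subgroup.centralizer ({(1 : G)} : Set G)) b B}
      = {Cfsg.Agent.Lib.helper80.blockMap (topIso _ hH) B} := by
    ext b
    simp only [Set.mem_ofPred_eq, Set.mem_singleton_iff]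
    constructor
    · intro h
      exact eq_blockMap_topIso_of_induced hMp _ hH h
    · intro h
      rw [h]
      exact isInducedBlock_topIso hMp _ hH hB
  rw [hset, finsum_mem_singleton, blockRank_blockMap]

end TopTerm

section DefectTwo

variable {H : Type u} [Group H] [Fintype H] {M : Ideal AlgInt}

theorem height_zero_of_defect_le_two {p : ℕ} [Fact p.Prime] (hM : IsPModular p M)
    {b : Set (IrrCharacter H)} (hb : IsPBlock M b) (hd : blockDefect p b ≤ 2)
    {θ : IrrCharacter H} (hθ : θ ∈ b) : blockHeight p b (θ : H → ℂ) = 0 := by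
  by_contra hne
  have h1 := Cfsg.Agent.Lib.helper79.height_add_two_le hM hb hθ (Nat.pos_of_ne_zero hne)
  omega

theorem card_eq_three_of_sum_sq {ι : Type*} (F : Finset ι) (z : ι → ℤ)
    (hodd : ∀ i ∈ F, ¬ (2 : ℤ) ∣ z i) (hsum : ∑ i ∈ F, z i ^ 2 = 3) : F.card = 3 := by
  have h1 : ∀ i ∈ F, z i ^ 2 = 1 := by
    intro i hi
    have hle : z i ^ 2 ≤ 3 :=
      (Finset.single_le_sum (f := fun j => z j ^ 2) (fun j _ => sq_nonneg (z j)) hi).trans_eq hsum
    have hu : z i ≤ 1 := by nlinarith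
    have hl : -1 ≤ z i := by nlinarith
    have hz := hodd i hi
    interval_cases z i
    · norm_num
    · exact absurd (dvd_zero 2) hz
    · norm_num
  rw [Finset.sum_congr rfl h1] at hsum
  simp only [Finset.sum_const, nsmul_eq_mul, mul_one] at hsum
  exact_mod_cast hsum

/-- A `2`-block of defect two has exactly four irreducible characters. -/
theorem card_eq_four_of_defect_two (hM : IsPModular 2 M) {B : Set (IrrCharacter H)}
    (hB : IsPBlock M B) (hd : blockDefect 2 B = 2) : Nat.card B = 4 := by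
  classical
  haveI : Fact (Nat.Prime 2) := ⟨Nat.prime_two⟩
  obtain ⟨χ₀, hχ₀, h0⟩ := Cfsg.Agent.Lib.helper79.exists_height_zero hM hB
  have hht : ∀ ψ ∈ B, blockHeight 2 B (ψ : H → ℂ) = 0 := fun ψ hψ =>
    height_zero_of_defect_le_two hM hB hd.le hψ
  obtain ⟨c, hc⟩ : ∃ c : IrrCharacter H → ℤ,
      c = fun ψ => Cfsg.Agent.Lib.helper79.contrib 2 B χ₀ ψ := ⟨_, rfl⟩
  have hcodd : ∀ ψ ∈ B, ¬ (2 : ℤ) ∣ c ψ := by
    intro ψ hψ
    have := Cfsg.Agent.Lib.helper79.not_dvd_of_height_zero hM hB hχ₀ h0 hψ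
    rw [hht ψ hψ] at this
    rw [hc]
    simpa using this
  have hc0 : ∀ ψ, ψ ∉ B → c ψ = 0 := by
    intro ψ hψ
    rw [hc]
    exact Cfsg.Agent.Lib.helper79.contrib_eq_zero hM hB hχ₀ hψ
  have hpos : 0 < c χ₀ := by
    rw [hc]
    exact Cfsg.Agent.Lib.helper79.contrib_self_pos hM hB hχ₀
  have hle : c χ₀ ≤ 4 := by
    have := Cfsg.Agent.Lib.helper79.contrib_self_le hM hB hχ₀
    rw [hd] at this
    rw [hc]
    simpa using this
  have hsq : ∑ ψ : IrrCharacter H, c ψ ^ 2 = 4 * c χ₀ := by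
    have := Cfsg.Agent.Lib.helper79.contrib_sum_sq hM hB hχ₀
    rw [hd] at this
    rw [hc]
    simpa using this
  obtain ⟨F, hF⟩ : ∃ F : Finset (IrrCharacter H), F = Finset.univ.filter (fun χ => χ ∈ B) :=
    ⟨_, rfl⟩
  have hmemF : ∀ χ : IrrCharacter H, χ ∈ F ↔ χ ∈ B := by
    intro χ
    rw [hF]
    simp
  have hsumF : ∑ ψ ∈ F, c ψ ^ 2 = 4 * c χ₀ := by
    rw [← hsq, hF, Finset.sum_filter]
    refine Finset.sum_congr rfl (fun ψ _ => ?_)
    split_ifs with h
    · rfl
    · rw [hc0 ψ h]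
      norm_num
  have hχ₀F : χ₀ ∈ F := (hmemF χ₀).mpr hχ₀
  have hsplit := Finset.add_sum_erase F (fun ψ => c ψ ^ 2) hχ₀F
  have hoddχ₀ := hcodd χ₀ hχ₀
  have hm : c χ₀ = 1 ∨ c χ₀ = 3 := by
    obtain ⟨m, hm⟩ : ∃ m, m = c χ₀ := ⟨_, rfl⟩
    rw [← hm] at hpos hle hoddχ₀ ⊢
    interval_cases m
    · left; rfl
    · exact absurd (dvd_refl 2) hoddχ₀
    · right; rfl
    · exact absurd (⟨2, by norm_num⟩ : (2 : ℤ) ∣ 4) hoddχ₀
  have hrest : ∑ ψ ∈ F.erase χ₀, c ψ ^ 2 = 3 := by
    have h1 : c χ₀ ^ 2 + ∑ ψ ∈ F.erase χ₀, c ψ ^ 2 = 4 * c χ₀ := by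
      rw [← hsumF]
      exact hsplit
    rcases hm with h | h
    · rw [h] at h1
      linarith
    · rw [h] at h1
      linarith
  have h3 := card_eq_three_of_sum_sq (F.erase χ₀) c (fun i hi =>
    hcodd i ((hmemF i).mp (Finset.mem_of_mem_erase hi))) hrest
  have hcard : F.card = 4 := by
    rw [← Finset.card_erase_add_one hχ₀F, h3]
  rw [← hcard]
  exact Nat.subtype_card F hmemF

/-- In a group with a central involution, a `2`-block of defect at most two has `l(b) = 1`. -/
theorem blockRank_eq_one_of_central_involution (hM : IsPModular 2 M)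
    (x : H) (hx1 : x ≠ 1) (hxx : x * x = 1) (hxc : ∀ h : H, h * x = x * h)
    {b : Set (IrrCharacter H)} (hb : IsPBlock M b) (hd : blockDefect 2 b ≤ 2) :
    blockRank 2 b = 1 := by
  classical
  haveI : Fact (Nat.Prime 2) := ⟨Nat.prime_two⟩
  have hMp := Cfsg.Agent.Lib.helper20.isPrime_of_isPModular hM
  have hht : ∀ ψ ∈ b, blockHeight 2 b (ψ : H → ℂ) = 0 := fun ψ hψ =>
    height_zero_of_defect_le_two hM hb hd hψ
  have hodd : ∀ θ ∈ b, ∀ ψ ∈ b, ¬ (2 : ℤ) ∣ Cfsg.Agent.Lib.helper79.contrib 2 b θ ψ := by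
    intro θ hθ ψ hψ
    have := Cfsg.Agent.Lib.helper79.not_dvd_of_height_zero hM hb hθ (hht θ hθ) hψ
    rw [hht ψ hψ] at this
    simpa using this
  -- `x * g` is `2`-singular for `2`-regular `g`
  have hsing : ∀ g : H, ¬ 2 ∣ orderOf g → 2 ∣ orderOf (x * g) := by
    intro g hg
    by_contra hn
    have hcomm : Commute x g := (hxc g).symm
    have h1 : (x * g) ^ (orderOf (x * g) * orderOf g) = 1 := by
      rw [pow_mul, pow_orderOf_eq_one, one_pow]
    rw [hcomm.mul_pow, mul_comm (orderOf (x * g)) (orderOf g), pow_mul g, pow_orderOf_eq_one,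
      one_pow, mul_one] at h1
    have hoddn : Odd (orderOf g * orderOf (x * g)) := by
      rw [Nat.odd_mul]
      exact ⟨Nat.odd_iff.mpr (by omega), Nat.odd_iff.mpr (by omega)⟩
    obtain ⟨m, hm⟩ := hoddn
    rw [hm, pow_add, pow_mul, pow_two, hxx, one_pow, one_mul, pow_one] at h1
    exact hx1 h1
  -- the norm of `θ (x * g)`
  have hnorm : ∀ (θ : IrrCharacter H) (g : H), ‖(θ : H → ℂ) (x * g)‖ = ‖(θ : H → ℂ) g‖ := by
    intro θ g
    have h1 := irr_central_mul θ x hxc g
    have h2 := irr_central_mul θ x hxc x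
    rw [hxx] at h2
    have hθ1 : (θ : H → ℂ) 1 ≠ 0 := Cfsg.Agent.Lib.helper81.irr_one_ne_zero θ
    have h3 : ((θ : H → ℂ) x / (θ : H → ℂ) 1) ^ 2 = 1 := by
      have : (θ : H → ℂ) x / (θ : H → ℂ) 1 * (θ : H → ℂ) x = (θ : H → ℂ) 1 := h2.symm
      field_simp
      rw [pow_two, pow_two]
      have h4 : (θ : H → ℂ) x * (θ : H → ℂ) x = (θ : H → ℂ) 1 * (θ : H → ℂ) 1 := by
        field_simp at this
        linear_combination this
      exact h4
    have h5 : ‖(θ : H → ℂ) x / (θ : H → ℂ) 1‖ = 1 := by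
      have h6 : ‖(θ : H → ℂ) x / (θ : H → ℂ) 1‖ ^ 2 = 1 := by
        rw [← norm_pow, h3, norm_one]
      have h7 : 0 ≤ ‖(θ : H → ℂ) x / (θ : H → ℂ) 1‖ := norm_nonneg _
      nlinarith
    rw [h1, norm_mul, h5, one_mul]
  -- the diagonal contributions are `1`
  have hdiag : ∀ θ ∈ b, Cfsg.Agent.Lib.helper79.contrib 2 b θ θ = 1 := by
    intro θ hθ
    have hreal := Cfsg.Agent.Lib.helper79.contrib_self_real hM hb hθ
    have hpos := Cfsg.Agent.Lib.helper79.contrib_self_pos hM hb hθ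
    have htot := Cfsg.Agent.Lib.helper79.sum_norm_sq_irr θ
    have hhalf : 2 * ∑ g : H, ‖pRegularPart 2 (θ : H → ℂ) g‖ ^ 2 ≤ (Nat.card H : ℝ) := by
      rw [← htot]
      have e1 : ∑ g : H, ‖pRegularPart 2 (θ : H → ℂ) g‖ ^ 2
          ≤ ∑ g : H, (‖(θ : H → ℂ) (x * g)‖ ^ 2 - ‖pRegularPart 2 (θ : H → ℂ) (x * g)‖ ^ 2) := by
        refine Finset.sum_le_sum (fun g _ => ?_)
        by_cases hg : 2 ∣ orderOf g
        · rw [pRegularPart_apply_of_sing 2 _ hg]
          have : ‖pRegularPart 2 (θ : H → ℂ) (x * g)‖ ^ 2 ≤ ‖(θ : H → ℂ) (x * g)‖ ^ 2 := by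
            by_cases hg' : 2 ∣ orderOf (x * g)
            · rw [pRegularPart_apply_of_sing 2 _ hg']
              simp
            · rw [pRegularPart_apply_of_reg 2 _ hg']
          simp only [norm_zero, ne_eq, OfNat.ofNat_ne_zero, not_false_eq_true, zero_pow]
          linarith
        · rw [pRegularPart_apply_of_reg 2 _ hg, pRegularPart_apply_of_sing 2 _ (hsing g hg),
            hnorm θ g]
          simp
      have e2 : ∑ g : H, (‖(θ : H → ℂ) (x * g)‖ ^ 2 - ‖pRegularPart 2 (θ : H → ℂ) (x * g)‖ ^ 2)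
          = ∑ g : H, (‖(θ : H → ℂ) g‖ ^ 2 - ‖pRegularPart 2 (θ : H → ℂ) g‖ ^ 2) :=
        Fintype.sum_equiv (Equiv.mulLeft x) _ _ (fun g => rfl)
      rw [e2, Finset.sum_sub_distrib] at e1
      linarith
    have hdle : (2 : ℝ) ^ blockDefect 2 b ≤ 4 := by
      have : (2 : ℝ) ^ blockDefect 2 b ≤ 2 ^ 2 :=
        pow_le_pow_right₀ (by norm_num) hd
      linarith
    have hcardpos : (0 : ℝ) < Nat.card H := by exact_mod_cast Nat.card_pos
    have hle2 : (Cfsg.Agent.Lib.helper79.contrib 2 b θ θ : ℝ) ≤ 2 := by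
      have hS : 0 ≤ ∑ g : H, ‖pRegularPart 2 (θ : H → ℂ) g‖ ^ 2 :=
        Finset.sum_nonneg (fun g _ => by positivity)
      have h1 : (Cfsg.Agent.Lib.helper79.contrib 2 b θ θ : ℝ) * (Nat.card H : ℝ)
          ≤ 2 * (Nat.card H : ℝ) := by
        rw [hreal]
        have hpow : (0 : ℝ) ≤ 2 ^ blockDefect 2 b := by positivity
        push_cast
        nlinarith
      exact le_of_mul_le_mul_right h1 hcardpos
    have hle2' : Cfsg.Agent.Lib.helper79.contrib 2 b θ θ ≤ 2 := by exact_mod_cast hle2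
    have ho := hodd θ hθ θ hθ
    obtain ⟨m, hm⟩ : ∃ m, m = Cfsg.Agent.Lib.helper79.contrib 2 b θ θ := ⟨_, rfl⟩
    rw [← hm] at hpos hle2' ho ⊢
    interval_cases m
    · rfl
    · exact absurd (dvd_refl 2) ho
  -- the off-diagonal contributions are `±1`
  have hoff : ∀ θ ∈ b, ∀ ψ ∈ b, Cfsg.Agent.Lib.helper79.contrib 2 b θ ψ ^ 2 = 1 := by
    intro θ hθ ψ hψ
    have hsq := Cfsg.Agent.Lib.helper79.contrib_sum_sq hM hb hθ
    rw [hdiag θ hθ, mul_one] at hsq
    have h1 : Cfsg.Agent.Lib.helper79.contrib 2 b θ ψ ^ 2 ≤ 4 := by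
      have h2 : Cfsg.Agent.Lib.helper79.contrib 2 b θ ψ ^ 2
          ≤ ∑ ψ' : IrrCharacter H, Cfsg.Agent.Lib.helper79.contrib 2 b θ ψ' ^ 2 :=
        Finset.single_le_sum (f := fun ψ' => Cfsg.Agent.Lib.helper79.contrib 2 b θ ψ' ^ 2)
          (fun j _ => sq_nonneg _) (Finset.mem_univ ψ)
      rw [hsq] at h2
      have h3 : ((2 : ℕ) : ℤ) ^ blockDefect 2 b ≤ 2 ^ 2 :=
        pow_le_pow_right₀ (by norm_num) hd
      have h4 : ((2 : ℕ) : ℤ) ^ 2 = 4 := by norm_num
      linarith
    have ho := hodd θ hθ ψ hψ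
    obtain ⟨m, hm⟩ : ∃ m, m = Cfsg.Agent.Lib.helper79.contrib 2 b θ ψ := ⟨_, rfl⟩
    rw [← hm] at h1 ho ⊢
    have hu : m ≤ 2 := by nlinarith
    have hl : -2 ≤ m := by nlinarith
    interval_cases m
    · exact absurd ⟨-1, by norm_num⟩ ho
    · norm_num
    · exact absurd (dvd_zero 2) ho
    · norm_num
    · exact absurd (dvd_refl 2) ho
  -- proportionality of the regular parts
  have hprop : ∀ θ ∈ b, ∀ ψ ∈ b, pRegularPart 2 (θ : H → ℂ)
      = ((Cfsg.Agent.Lib.helper79.contrib 2 b θ ψ : ℤ) : ℂ) • pRegularPart 2 (ψ : H → ℂ) := by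
    intro θ hθ ψ hψ
    obtain ⟨c, hc⟩ : ∃ c, c = Cfsg.Agent.Lib.helper79.contrib 2 b θ ψ := ⟨_, rfl⟩
    rw [← hc]
    have hc2 : (c : ℂ) * (c : ℂ) = 1 := by
      have := hoff θ hθ ψ hψ
      rw [← hc] at this
      have h1 : ((c ^ 2 : ℤ) : ℂ) = 1 := by rw [this]; norm_num
      push_cast at h1
      rw [← h1]; ring
    -- the four inner products
    have hR : ∀ α β : IrrCharacter H, Cfsg.Agent.Lib.helper79.regInner 2 (α : H → ℂ) (β : H → ℂ)
        = ∑ g : H, pRegularPart 2 (α : H → ℂ) g * conj (pRegularPart 2 (β : H → ℂ) g) := by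
      intro α β
      unfold Cfsg.Agent.Lib.helper79.regInner
      refine Finset.sum_congr rfl (fun g _ => ?_)
      by_cases hg : 2 ∣ orderOf g
      · rw [pRegularPart_apply_of_sing 2 _ hg, zero_mul, zero_mul]
      · rw [pRegularPart_apply_of_reg 2 (β : H → ℂ) hg]
    have s1 := Cfsg.Agent.Lib.helper79.contrib_spec hM hb hθ θ
    have s2 := Cfsg.Agent.Lib.helper79.contrib_spec hM hb hθ ψ
    have s3 := Cfsg.Agent.Lib.helper79.contrib_spec hM hb hψ θ
    have s4 := Cfsg.Agent.Lib.helper79.contrib_spec hM hb hψ ψ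
    rw [hdiag θ hθ, hR] at s1
    rw [← hc, hR] at s2
    rw [← Cfsg.Agent.Lib.helper79.contrib_symm hM hb hθ hψ, ← hc, hR] at s3
    rw [hdiag ψ hψ, hR] at s4
    have hpne : ((2 : ℕ) : ℂ) ^ blockDefect 2 b ≠ 0 := by
      apply pow_ne_zero
      norm_num
    have hzero : ∑ g : H, (pRegularPart 2 (θ : H → ℂ) g - (c : ℂ) * pRegularPart 2 (ψ : H → ℂ) g)
        * conj (pRegularPart 2 (θ : H → ℂ) g - (c : ℂ) * pRegularPart 2 (ψ : H → ℂ) g) = 0 := by
      have e : ∀ g : H, (pRegularPart 2 (θ : H → ℂ) g - (c : ℂ) * pRegularPart 2 (ψ : H → ℂ) g)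
          * conj (pRegularPart 2 (θ : H → ℂ) g - (c : ℂ) * pRegularPart 2 (ψ : H → ℂ) g)
          = pRegularPart 2 (θ : H → ℂ) g * conj (pRegularPart 2 (θ : H → ℂ) g)
            - (c : ℂ) * (pRegularPart 2 (θ : H → ℂ) g * conj (pRegularPart 2 (ψ : H → ℂ) g))
            - (c : ℂ) * (pRegularPart 2 (ψ : H → ℂ) g * conj (pRegularPart 2 (θ : H → ℂ) g))
            + (c : ℂ) * (c : ℂ) * (pRegularPart 2 (ψ : H → ℂ) g
                * conj (pRegularPart 2 (ψ : H → ℂ) g)) := by
        intro g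
        rw [map_sub, map_mul, map_intCast]
        ring
      rw [Finset.sum_congr rfl (fun g _ => e g), Finset.sum_add_distrib, Finset.sum_sub_distrib,
        Finset.sum_sub_distrib, ← Finset.mul_sum, ← Finset.mul_sum, ← Finset.mul_sum]
      apply mul_left_cancel₀ hpne
      rw [mul_zero, mul_add, mul_sub, mul_sub]
      have t1 : ((2 : ℕ) : ℂ) ^ blockDefect 2 b * ((c : ℂ) * ∑ g : H,
          pRegularPart 2 (θ : H → ℂ) g * conj (pRegularPart 2 (ψ : H → ℂ) g))
          = (c : ℂ) * (((2 : ℕ) : ℂ) ^ blockDefect 2 b * ∑ g : H,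
          pRegularPart 2 (θ : H → ℂ) g * conj (pRegularPart 2 (ψ : H → ℂ) g)) := by ring
      have t2 : ((2 : ℕ) : ℂ) ^ blockDefect 2 b * ((c : ℂ) * ∑ g : H,
          pRegularPart 2 (ψ : H → ℂ) g * conj (pRegularPart 2 (θ : H → ℂ) g))
          = (c : ℂ) * (((2 : ℕ) : ℂ) ^ blockDefect 2 b * ∑ g : H,
          pRegularPart 2 (ψ : H → ℂ) g * conj (pRegularPart 2 (θ : H → ℂ) g)) := by ring
      have t3 : ((2 : ℕ) : ℂ) ^ blockDefect 2 b * ((c : ℂ) * (c : ℂ) * ∑ g : H,
          pRegularPart 2 (ψ : H → ℂ) g * conj (pRegularPart 2 (ψ : H → ℂ) g))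
          = (c : ℂ) * (c : ℂ) * (((2 : ℕ) : ℂ) ^ blockDefect 2 b * ∑ g : H,
          pRegularPart 2 (ψ : H → ℂ) g * conj (pRegularPart 2 (ψ : H → ℂ) g)) := by ring
      rw [t1, t2, t3, ← s1, ← s2, ← s3, ← s4]
      push_cast
      linear_combination (-(Nat.card H : ℂ)) * hc2
    funext g
    have hnn : ∀ g : H, (0 : ℝ) ≤ Complex.normSq
        (pRegularPart 2 (θ : H → ℂ) g - (c : ℂ) * pRegularPart 2 (ψ : H → ℂ) g) :=
      fun g => Complex.normSq_nonneg _
    have hsum0 : ∑ g : H, Complex.normSq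
        (pRegularPart 2 (θ : H → ℂ) g - (c : ℂ) * pRegularPart 2 (ψ : H → ℂ) g) = 0 := by
      have : ((∑ g : H, Complex.normSq
          (pRegularPart 2 (θ : H → ℂ) g - (c : ℂ) * pRegularPart 2 (ψ : H → ℂ) g) : ℝ) : ℂ) = 0 := by
        rw [Complex.ofReal_sum, ← hzero]
        refine Finset.sum_congr rfl (fun g _ => ?_)
        rw [Complex.mul_conj]
      exact_mod_cast this
    have h0 := (Finset.sum_eq_zero_iff_of_nonneg (fun g _ => hnn g)).mp hsum0 g (Finset.mem_univ g)
    rw [Complex.normSq_eq_zero, sub_eq_zero] at h0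
    rw [h0]
    rfl
  -- conclusion
  obtain ⟨θ₀, hθ₀⟩ := Cfsg.Agent.Lib.helper81.isPBlock_nonempty hMp hb
  have hne : pRegularPart 2 (θ₀ : H → ℂ) ≠ 0 := by
    intro h
    have h1 := congrFun h 1
    rw [pRegularPart_apply_of_reg 2 _ (by rw [orderOf_one]; norm_num)] at h1
    exact Cfsg.Agent.Lib.helper81.irr_one_ne_zero θ₀ h1
  have hspan : Submodule.span ℂ ((fun χ : IrrCharacter H => pRegularPart 2 (χ : H → ℂ)) '' b)
      = Submodule.span ℂ {pRegularPart 2 (θ₀ : H → ℂ)} := by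
    apply le_antisymm
    · rw [Submodule.span_le]
      rintro _ ⟨θ, hθ, rfl⟩
      show pRegularPart 2 (θ : H → ℂ) ∈ _
      rw [hprop θ hθ θ₀ hθ₀]
      exact Submodule.smul_mem _ _ (Submodule.mem_span_singleton_self _)
    · rw [Submodule.span_le]
      intro w hw
      rw [Set.mem_singleton_iff] at hw
      rw [hw]
      exact Submodule.subset_span ⟨θ₀, hθ₀, rfl⟩
  unfold blockRank
  rw [hspan]
  exact finrank_span_singleton hne

end DefectTwo

end Cfsg.Agent.Lib.helper78
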