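import Mathlib

/-!
# S0999 piece GT6 (helper78): the centralizer of an involution has order dividing `a`.
-/

set_option autoImplicit false

namespace Cfsg.Agent.Lib.helper21.BR

/-- GT6 -/
theorem invol_centralizer_dvd {G : Type*} [Group G] [Finite G] (p a b : ℕ) [Fact p.Prime]
    (hcard : Nat.card G = p * a * b) (hpa : Nat.Coprime p a) (hpb : Nat.Coprime p b)
    (hab : Nat.Coprime a b) (ha : Even a)
    (hord : ∀ g : G, p ∣ orderOf g → orderOf g = p)
    (hmix : ∀ g : G, ¬ p ∣ orderOf g → ∀ r r' : ℕ, r.Prime → r'.Prime → r ∣ a → r' ∣ b →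
      r ∣ orderOf g → r' ∣ orderOf g → False)
    (s : G) (hs : orderOf s = 2) :
    Nat.card (Subgroup.centralizer ({s} : Set G)) ∣ a := by
  have hp : p.Prime := Fact.out
  have h2a : 2 ∣ a := even_iff_two_dvd.mp ha
  have hp2 : p ≠ 2 := by
    rintro rfl
    have h := Nat.dvd_gcd (dvd_refl 2) h2a
    rw [Nat.Coprime] at hpa
    rw [hpa] at h
    exact absurd h (by norm_num)
  have h2b : ¬ 2 ∣ b := by
    intro h
    have h' := Nat.dvd_gcd h2a h
    rw [Nat.Coprime] at hab
    rw [hab] at h'
    exact absurd h' (by norm_num)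
  -- `|C(s)|` is coprime to `p * b`
  have hcop : Nat.Coprime (Nat.card (Subgroup.centralizer ({s} : Set G))) (p * b) := by
    apply Nat.coprime_of_dvd
    intro q hq hqC hqpb
    have : Fact q.Prime := ⟨hq⟩
    obtain ⟨c, hc⟩ := exists_prime_orderOf_dvd_card' q hqC
    have hcG : orderOf (c : G) = q := by rw [Subgroup.orderOf_coe, hc]
    have hcomm : Commute (c : G) s := by
      have h := c.2
      rw [Subgroup.mem_centralizer_iff] at h
      exact (h s (Set.mem_singleton s)).symm
    have hq2 : q ≠ 2 := by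
      rintro rfl
      rcases (Nat.Prime.dvd_mul hq).mp hqpb with h | h
      · exact hp2 ((Nat.prime_dvd_prime_iff_eq hq hp).mp h).symm
      · exact h2b h
    have hcopq : Nat.Coprime (orderOf (c : G)) (orderOf s) := by
      rw [hcG, hs]
      exact (Nat.coprime_primes hq Nat.prime_two).mpr hq2
    have hprod : orderOf ((c : G) * s) = q * 2 := by
      rw [hcomm.orderOf_mul_eq_mul_orderOf_of_coprime hcopq, hcG, hs]
    rcases (Nat.Prime.dvd_mul hq).mp hqpb with h | h
    · -- `q = p`
      have hqp : q = p := (Nat.prime_dvd_prime_iff_eq hq hp).mp h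
      have h1 : p ∣ orderOf ((c : G) * s) := by rw [hprod, hqp]; exact Dvd.intro _ rfl
      have h2 := hord _ h1
      rw [hprod, hqp] at h2
      have := hp.pos
      omega
    · -- `q ∣ b`
      have hqp : q ≠ p := by
        rintro rfl
        have h' := Nat.dvd_gcd (dvd_refl q) h
        rw [Nat.Coprime] at hpb
        rw [hpb] at h'
        exact hq.one_lt.ne' (Nat.dvd_one.mp h')
      have hreg : ¬ p ∣ orderOf ((c : G) * s) := by
        rw [hprod]
        intro hd
        rcases (Nat.Prime.dvd_mul hp).mp hd with h' | h'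
        · exact hqp ((Nat.prime_dvd_prime_iff_eq hp hq).mp h').symm
        · exact hp2 ((Nat.prime_dvd_prime_iff_eq hp Nat.prime_two).mp h')
      exact hmix _ hreg 2 q Nat.prime_two hq h2a h (by rw [hprod]; exact Dvd.intro_left _ rfl)
        (by rw [hprod]; exact Dvd.intro _ rfl)
  have hdvd : Nat.card (Subgroup.centralizer ({s} : Set G)) ∣ a * (p * b) := by
    have h := Subgroup.card_subgroup_dvd_card (Subgroup.centralizer ({s} : Set G))
    rw [hcard] at h
    have e : p * a * b = a * (p * b) := by ring
    rwa [e] at h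
  exact hcop.dvd_of_dvd_mul_right hdvd

end Cfsg.Agent.Lib.helper21.BR
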