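import Mathlib
import Cfsg.Prelude.Def_Blocks
import Cfsg.Prelude.Def_BlockRank
import Cfsg.Prelude.Def_BrauerPairs
import Cfsg.Agent.Lib.helper78.KleinDefect
import Cfsg.Agent.Lib.helper80.PairConj
import Cfsg.Agent.Lib.helper80.StabIndex
import Cfsg.Agent.Lib.helper80.Nilpotent
import Cfsg.Agent.Lib.helper80.ClaimN
import Cfsg.Agent.S4658

/-!
# Blocks with a Klein four defect group: Brauer pairs and the count of subsections

* `isMaximalBrauerPair_of_defect`: a `B`-Brauer pair on a defect group is maximal.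
* `exists_conj_pairOf_le`, `pair_eq_of_le_of_fst_eq`, `conjPair_le_of_stabilizes`,
  `fusion_trivial_of_nilpotent`, `exists_induced_of_le`, `exists_conj_pairOf_eq`: subsections
  `(x, b)` with `b^G = B` as Brauer pairs on cyclic subgroups, up to conjugacy.
* `blockDefect_le_of_induced`: `d(b) ≤ d(B)` for a subsection.
* `relIndex_centralizer_dvd`, `klein_transitive`: the inertial quotient of a group of order four.
* `card_block_eq_rank_add`: `k(B) = l(B) + #{nontrivial subsections}` when all `l(b) = 1`.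
-/

set_option autoImplicit false
set_option linter.unusedSectionVars false
set_option linter.style.haveILetI false

open Cfsg
open scoped ComplexConjugate

namespace Cfsg.Agent.Lib.helper78

universe u

section Pairs

variable {G : Type u} [Group G] [Fintype G] {p : ℕ} [Fact p.Prime] {M : Ideal AlgInt}

/-- A Brauer pair of `B` on a defect group of `B` is maximal. -/
theorem isMaximalBrauerPair_of_defect (hM : IsPModular p M) {B : Set (IrrCharacter G)}
    {P : Subgroup G} {e : Set (IrrCharacter (Subgroup.centralizer (P : Set G)))}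
    (hpair : IsBrauerPairOf p M B P e) (hD : IsDefectGroup p M B P) :
    IsMaximalBrauerPair p M B P e := by
  refine ⟨hpair, fun R g hR hle => ?_⟩
  obtain ⟨P', e', hmax', hle'⟩ := Cfsg.Agent.Lib.helper80.exists_maximal_above hM _ R g rfl hR
  have hD' := Cfsg.Agent.Lib.helper80.isDefectGroup_of_maximal hM hmax'
  have hB : IsPBlock M B := hpair.2.1
  have hc1 := Cfsg.Agent.Lib.helper79.card_eq_of_isDefectGroup hM hB hD
  have hc2 := Cfsg.Agent.Lib.helper79.card_eq_of_isDefectGroup hM hB hD'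
  have hPR : P ≤ R := Cfsg.Agent.Lib.helper80.subpairLE_le ⟨P, e⟩ ⟨R, g⟩ hle
  have hRP' : R ≤ P' := Cfsg.Agent.Lib.helper80.subpairLE_le ⟨R, g⟩ ⟨P', e'⟩ hle'
  have hPP' : P = P' := Subgroup.eq_of_le_of_card_ge (hPR.trans hRP') (by rw [hc1, hc2])
  exact le_antisymm (hPP' ▸ hRP') hPR

/-- Every subsection of `B` is conjugate into a given maximal pair. -/
theorem exists_conj_pairOf_le (hM : IsPModular p M) {B : Set (IrrCharacter G)}
    {P : Subgroup G} {e : Set (IrrCharacter (Subgroup.centralizer (P : Set G)))}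
    (hmax : IsMaximalBrauerPair p M B P e) (x : G) (hx : ∃ k : ℕ, orderOf x = p ^ k)
    {b : Set (IrrCharacter (Subgroup.centralizer ({x} : Set G)))}
    (hb : IsInducedBlock M (Subgroup.centralizer ({x} : Set G)) b B) :
    ∃ g : G, Relation.ReflTransGen (NormalSubpairRel p M)
      (Cfsg.Agent.Lib.helper80.conjPair g (pairOf x b)) ⟨P, e⟩ := by
  have hpair := (induced_iff_pairOf hM x hx b B).1 hb
  obtain ⟨g, hg⟩ := Cfsg.Agent.Lib.helper80.exists_conj_le_maximal hM hmax hpair
  exact ⟨g, hg⟩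

theorem conjPair_fst_zpowers (g v : G) (W : BrauerPairIdx G) (hW : W.1 = Subgroup.zpowers v) :
    (Cfsg.Agent.Lib.helper80.conjPair g W).1 = Subgroup.zpowers (g * v * g⁻¹) := by
  show W.1.map (MulAut.conj g).toMonoidHom = _
  rw [hW, MonoidHom.map_zpowers]
  rfl

/-- Pairs below a fixed pair are determined by their subgroup. -/
theorem pair_eq_of_le_of_fst_eq (hM : IsPModular p M) {P : Subgroup G}
    {e : Set (IrrCharacter (Subgroup.centralizer (P : Set G)))} (hPe : IsBrauerPair p M P e)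
    {W W' : BrauerPairIdx G}
    (h : Relation.ReflTransGen (NormalSubpairRel p M) W ⟨P, e⟩)
    (h' : Relation.ReflTransGen (NormalSubpairRel p M) W' ⟨P, e⟩) (h1 : W.1 = W'.1) : W = W' := by
  obtain ⟨Q, f⟩ := W
  obtain ⟨Q', f'⟩ := W'
  dsimp only at h1
  subst h1
  have := Cfsg.Agent.Lib.helper80.subpairLE_unique hM P e hPe _ Q f f' rfl h h'
  rw [this]

/-- Conjugating by an element of the stabilizer of the top pair keeps a pair below it. -/
theorem conjPair_le_of_stabilizes (hM : IsPModular p M) {P : Subgroup G}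
    {e : Set (IrrCharacter (Subgroup.centralizer (P : Set G)))} (hPe : IsBrauerPair p M P e)
    {t : G} (htN : t ∈ Subgroup.normalizer (P : Set G))
    (htS : StabilizesBlock (Subgroup.centralizer (P : Set G)) e t) {W : BrauerPairIdx G}
    (h : Relation.ReflTransGen (NormalSubpairRel p M) W ⟨P, e⟩) :
    Relation.ReflTransGen (NormalSubpairRel p M) (Cfsg.Agent.Lib.helper80.conjPair t W) ⟨P, e⟩ := by
  have hMp := Cfsg.Agent.Lib.helper20.isPrime_of_isPModular hM
  have h1 : Relation.ReflTransGen (NormalSubpairRel p M) (Cfsg.Agent.Lib.helper80.conjPair t W)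
      (Cfsg.Agent.Lib.helper80.conjPair t ⟨P, e⟩) :=
    Cfsg.Agent.Lib.helper80.subpairLE_conj (p := p) (M := M) t (Q := W.1) (f := W.2) (P := P)
      (e := e) h
  rwa [Cfsg.Agent.Lib.helper80.conjPair_eq_self_of_stabilizes hMp hPe.2 htN htS] at h1

/-- Conjugation by an element of `C_G(x)` fixes the pair of a subsection at `x`. -/
theorem conjPair_pairOf_of_mem_centralizer (hMp : M.IsPrime) (x : G)
    {b : Set (IrrCharacter (Subgroup.centralizer ({x} : Set G)))} (hb : IsPBlock M b) {h : G}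
    (hh : h ∈ Subgroup.centralizer ({x} : Set G)) :
    Cfsg.Agent.Lib.helper80.conjPair h (pairOf x b) = pairOf x b := by
  have hh' : h ∈ Subgroup.centralizer ((Subgroup.zpowers x : Subgroup G) : Set G) := by
    rw [← centralizer_singleton_eq_zpowers]
    exact hh
  exact Cfsg.Agent.Lib.helper80.conjPair_eq_self_of_stabilizes hMp ((isPBlock_castBlk _ b).2 hb)
    (Subgroup.centralizer_le_normalizer _ hh')
    (Cfsg.Agent.Lib.helper80.stabilizesBlock_of_mem_sup_centralizer _ _
      (Subgroup.mem_sup_right hh'))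

/-- Control of fusion for nilpotent blocks with abelian defect group, on cyclic subgroups. -/
theorem fusion_trivial_of_nilpotent (hM : IsPModular p M) {B : Set (IrrCharacter G)}
    {P : Subgroup G} {e : Set (IrrCharacter (Subgroup.centralizer (P : Set G)))}
    (hmax : IsMaximalBrauerPair p M B P e) (hnil : IsNilpotentBlock p M B)
    (hab : ∀ x ∈ P, ∀ y ∈ P, x * y = y * x) {W W' : BrauerPairIdx G} (v : G) (hv : v ∈ P)
    (hW1 : W.1 = Subgroup.zpowers v)
    (hW : Relation.ReflTransGen (NormalSubpairRel p M) W ⟨P, e⟩)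
    (hW' : Relation.ReflTransGen (NormalSubpairRel p M) W' ⟨P, e⟩) (g : G)
    (hg : Cfsg.Agent.Lib.helper80.conjPair g W = W') : W'.1 = Subgroup.zpowers v := by
  have hle' : SubpairLE p M (W.1.map (MulAut.conj g).toMonoidHom) (conjBlock W.1 g W.2) P e := by
    have h1 : Relation.ReflTransGen (NormalSubpairRel p M)
        (Cfsg.Agent.Lib.helper80.conjPair g W) ⟨P, e⟩ := by
      rw [hg]
      exact hW'
    exact h1
  obtain ⟨u, hu, c, hc, hgc⟩ := Cfsg.Agent.Lib.helper80.exists_mul_of_nilpotent_conj hM hmax hnil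
    _ W.1 W.2 g rfl hW hle'
  rw [← hg, conjPair_fst_zpowers g v W hW1]
  have hconj : g * v * g⁻¹ = v := by
    have hvW : v ∈ W.1 := by
      rw [hW1]
      exact Subgroup.mem_zpowers v
    have hcv : v * c = c * v := Subgroup.mem_centralizer_iff.mp hc v hvW
    have huv : u * v = v * u := hab u hu v hv
    rw [hgc]
    calc u * c * v * (u * c)⁻¹ = u * (c * v) * c⁻¹ * u⁻¹ := by group
      _ = u * (v * c) * c⁻¹ * u⁻¹ := by rw [hcv]
      _ = (u * v) * u⁻¹ := by group
      _ = v := by rw [huv]; group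
  rw [hconj]

/-- A pair below a `B`-pair on a cyclic subgroup gives, after conjugation, a subsection of `B`. -/
theorem exists_induced_of_le (hM : IsPModular p M) {B : Set (IrrCharacter G)}
    {P : Subgroup G} {e : Set (IrrCharacter (Subgroup.centralizer (P : Set G)))}
    (hpair : IsBrauerPairOf p M B P e) {W : BrauerPairIdx G}
    (hW : Relation.ReflTransGen (NormalSubpairRel p M) W ⟨P, e⟩) (v : G)
    (hW1 : W.1 = Subgroup.zpowers v) (hv : ∃ k : ℕ, orderOf v = p ^ k) (g x : G)
    (hx : g * v * g⁻¹ = x) :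
    ∃ b : Set (IrrCharacter (Subgroup.centralizer ({x} : Set G))),
      IsInducedBlock M (Subgroup.centralizer ({x} : Set G)) b B
        ∧ pairOf x b = Cfsg.Agent.Lib.helper80.conjPair g W := by
  have hPe := hpair.1
  have hWpair : IsBrauerPair p M W.1 W.2 :=
    Cfsg.Agent.Lib.helper80.subpairLE_isBrauerPair W ⟨P, e⟩ hW hPe
  have hWB : IsBrauerPairOf p M B W.1 W.2 :=
    (Cfsg.Agent.S4658.result p M hM P W.1 e W.2 hPe hWpair hW B hpair.2.1).1 hpair
  have hconj := Cfsg.Agent.Lib.helper80.isBrauerPairOf_conj W.1 g hWB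
  have h1 : (Cfsg.Agent.Lib.helper80.conjPair g W).1 = Subgroup.zpowers x := by
    rw [conjPair_fst_zpowers g v W hW1, hx]
  obtain ⟨b, hb⟩ := exists_pairOf_eq x (Cfsg.Agent.Lib.helper80.conjPair g W) h1
  refine ⟨b, ?_, hb⟩
  have hxo : ∃ k : ℕ, orderOf x = p ^ k := by
    rw [← hx, orderOf_conj_kl]
    exact hv
  rw [induced_iff_pairOf hM x hxo, hb]
  exact hconj

/-- If the stabilizer of the maximal pair is transitive on the nontrivial elements of `P`, any
two nontrivial subsections of `B` are conjugate. -/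
theorem exists_conj_pairOf_eq (hM : IsPModular p M) {B : Set (IrrCharacter G)}
    {P : Subgroup G} {e : Set (IrrCharacter (Subgroup.centralizer (P : Set G)))}
    (hmax : IsMaximalBrauerPair p M B P e)
    (htrans : ∀ v ∈ P, v ≠ 1 → ∀ v' ∈ P, v' ≠ 1 → ∃ t : G, t ∈ Subgroup.normalizer (P : Set G) ∧
      StabilizesBlock (Subgroup.centralizer (P : Set G)) e t ∧ t * v * t⁻¹ = v')
    (x x' : G) (hx : ∃ k : ℕ, orderOf x = p ^ k) (hx' : ∃ k : ℕ, orderOf x' = p ^ k)
    (hx1 : x ≠ 1) (hx'1 : x' ≠ 1)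
    {b : Set (IrrCharacter (Subgroup.centralizer ({x} : Set G)))}
    {b' : Set (IrrCharacter (Subgroup.centralizer ({x'} : Set G)))}
    (hb : IsInducedBlock M (Subgroup.centralizer ({x} : Set G)) b B)
    (hb' : IsInducedBlock M (Subgroup.centralizer ({x'} : Set G)) b' B) :
    ∃ h : G, h * x * h⁻¹ = x' ∧ Cfsg.Agent.Lib.helper80.conjPair h (pairOf x b) = pairOf x' b' := by
  have hPe := hmax.1.1
  obtain ⟨g, hg⟩ := exists_conj_pairOf_le hM hmax x hx hb
  obtain ⟨g', hg'⟩ := exists_conj_pairOf_le hM hmax x' hx' hb'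
  have hv1 : (Cfsg.Agent.Lib.helper80.conjPair g (pairOf x b)).1
      = Subgroup.zpowers (g * x * g⁻¹) := conjPair_fst_zpowers g x _ rfl
  have hv'1 : (Cfsg.Agent.Lib.helper80.conjPair g' (pairOf x' b')).1
      = Subgroup.zpowers (g' * x' * g'⁻¹) := conjPair_fst_zpowers g' x' _ rfl
  have hvP : g * x * g⁻¹ ∈ P := by
    have h1 := Cfsg.Agent.Lib.helper80.subpairLE_le _ _ hg
    rw [hv1] at h1
    exact h1 (Subgroup.mem_zpowers _)
  have hv'P : g' * x' * g'⁻¹ ∈ P := by
    have h1 := Cfsg.Agent.Lib.helper80.subpairLE_le _ _ hg'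
    rw [hv'1] at h1
    exact h1 (Subgroup.mem_zpowers _)
  have hvne : g * x * g⁻¹ ≠ 1 := by
    intro h
    apply hx1
    have : x = g⁻¹ * (g * x * g⁻¹) * g := by group
    rw [this, h]
    group
  have hv'ne : g' * x' * g'⁻¹ ≠ 1 := by
    intro h
    apply hx'1
    have : x' = g'⁻¹ * (g' * x' * g'⁻¹) * g' := by group
    rw [this, h]
    group
  obtain ⟨t, htN, htS, htv⟩ := htrans _ hvP hvne _ hv'P hv'ne
  have h3 := conjPair_le_of_stabilizes hM hPe htN htS hg
  have h4 : (Cfsg.Agent.Lib.helper80.conjPair t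
      (Cfsg.Agent.Lib.helper80.conjPair g (pairOf x b))).1
      = (Cfsg.Agent.Lib.helper80.conjPair g' (pairOf x' b')).1 := by
    rw [conjPair_fst_zpowers t (g * x * g⁻¹) _ hv1, htv, hv'1]
  have h5 := pair_eq_of_le_of_fst_eq hM hPe h3 hg' h4
  refine ⟨g'⁻¹ * (t * g), ?_, ?_⟩
  · have e1 : g'⁻¹ * (t * g) * x * (g'⁻¹ * (t * g))⁻¹
        = g'⁻¹ * (t * (g * x * g⁻¹) * t⁻¹) * g' := by group
    rw [e1, htv]
    group
  · rw [← Cfsg.Agent.Lib.helper80.conjPair_mul, ← Cfsg.Agent.Lib.helper80.conjPair_mul, h5,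
      Cfsg.Agent.Lib.helper80.conjPair_inv_conjPair]

/-- The defect of a subsection block is at most the defect of the induced block. -/
theorem blockDefect_le_of_induced (hM : IsPModular p M) (x : G)
    (hx : ∃ k : ℕ, orderOf x = p ^ k)
    {b : Set (IrrCharacter (Subgroup.centralizer ({x} : Set G)))} {B : Set (IrrCharacter G)}
    (h : IsInducedBlock M (Subgroup.centralizer ({x} : Set G)) b B) :
    blockDefect p b ≤ blockDefect p B := by
  classical
  have hMp := Cfsg.Agent.Lib.helper20.isPrime_of_isPModular hM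
  haveI : Fintype (Subgroup.centralizer ({x} : Set G)) := Fintype.ofFinite _
  have hb := h.1
  have hB := h.2.1
  obtain ⟨Dc, hDc⟩ := Cfsg.Agent.Lib.helper80.exists_isDefectGroup p hMp hb
  obtain ⟨D, hD⟩ := Cfsg.Agent.Lib.helper80.exists_isDefectGroup p hMp hB
  obtain ⟨ξ, hξ⟩ := Cfsg.Agent.Lib.helper81.isPBlock_nonempty hMp hb
  obtain ⟨χ, hχ⟩ := Cfsg.Agent.Lib.helper81.isPBlock_nonempty hMp hB
  have hHN : Subgroup.centralizer ({x} : Set G)
      ≤ Subgroup.normalizer ((Subgroup.zpowers x : Subgroup G) : Set G) := by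
    rw [centralizer_singleton_eq_zpowers]
    exact Subgroup.centralizer_le_normalizer _
  have hPH : Subgroup.zpowers x ≤ Subgroup.centralizer ({x} : Set G) := by
    rw [centralizer_singleton_eq_zpowers]
    exact zpowers_le_centralizer_zpowers x
  have hbr := (Cfsg.Agent.Lib.helper80.isInducedBlock_iff_brInd hM (Subgroup.zpowers x)
    (Subgroup.centralizer ({x} : Set G)) (isPGroup_zpowers_of_orderOf x hx) hPH
    (centralizer_singleton_eq_zpowers x).ge hHN hb hB).1 h ξ hξ χ hχ
  obtain ⟨w, hw⟩ := hbr.defect_le hM hHN hb hξ hDc hχ hD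
  have hcard : Nat.card Dc ≤ Nat.card D := by
    refine Nat.card_le_card_of_injective
      (fun d : Dc => (⟨w⁻¹ * ((d : Subgroup.centralizer ({x} : Set G)) : G) * w, hw d d.2⟩ : D)) ?_
    intro a b hab
    have h1 := congrArg Subtype.val hab
    simp only [mul_left_inj, mul_right_inj] at h1
    exact Subtype.ext (Subtype.ext h1)
  rw [Cfsg.Agent.Lib.helper79.card_eq_of_isDefectGroup hM hb hDc,
    Cfsg.Agent.Lib.helper79.card_eq_of_isDefectGroup hM hB hD] at hcard
  exact (Nat.pow_le_pow_iff_right (Fact.out : p.Prime).one_lt).mp hcard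

end Pairs

section GroupTheory

variable {G : Type u} [Group G]

theorem three_cycle_transitive {α : Type*} [DecidableEq α] (S : Finset α) (hS : S.card = 3)
    (f : α → α) (hf : ∀ s ∈ S, f s ∈ S) (h3 : ∀ s ∈ S, f (f (f s)) = s)
    (hne : ∃ s ∈ S, f s ≠ s) : ∀ v ∈ S, ∀ w ∈ S, w = v ∨ w = f v ∨ w = f (f v) := by
  have hinj : ∀ s ∈ S, ∀ s' ∈ S, f s = f s' → s = s' := by
    intro s hs s' hs' h
    rw [← h3 s hs, ← h3 s' hs', h]
  have hnofix : ∀ v ∈ S, f v ≠ v := by
    intro v hv hfix
    obtain ⟨s, hs, hsne⟩ := hne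
    have hsv : s ≠ v := by
      intro h
      rw [h] at hsne
      exact hsne hfix
    have h1 : f s ≠ v := fun h => hsv (hinj s hs v hv (h.trans hfix.symm))
    have h2 : f (f s) ≠ f s := fun h => hsne (hinj _ (hf s hs) s hs h)
    have h3' : f (f s) ≠ v := fun h => h1 (hinj _ (hf s hs) v hv (h.trans hfix.symm))
    have hsub : ({v, s, f s} : Finset α) ⊆ S := by
      intro y hy
      simp only [Finset.mem_insert, Finset.mem_singleton] at hy
      rcases hy with rfl | rfl | rfl
      · exact hv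
      · exact hs
      · exact hf _ hs
    have hcard : ({v, s, f s} : Finset α).card = 3 :=
      Finset.card_eq_three.mpr ⟨v, s, f s, hsv.symm, Ne.symm h1, Ne.symm hsne, rfl⟩
    have heq := Finset.eq_of_subset_of_card_le hsub (by rw [hS, hcard])
    have hmem : f (f s) ∈ ({v, s, f s} : Finset α) := by
      rw [heq]
      exact hf _ (hf _ hs)
    simp only [Finset.mem_insert, Finset.mem_singleton] at hmem
    rcases hmem with h | h | h
    · exact h3' h
    · have h4 := h3 s hs
      rw [h] at h4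
      exact hsne h4
    · exact h2 h
  intro v hv w hw
  have h1 : f v ≠ v := hnofix v hv
  have h2 : f (f v) ≠ f v := hnofix _ (hf v hv)
  have h3' : f (f v) ≠ v := by
    intro h
    have h4 := h3 v hv
    rw [h] at h4
    exact h1 h4
  have hsub : ({v, f v, f (f v)} : Finset α) ⊆ S := by
    intro y hy
    simp only [Finset.mem_insert, Finset.mem_singleton] at hy
    rcases hy with rfl | rfl | rfl
    · exact hv
    · exact hf _ hv
    · exact hf _ (hf _ hv)
  have hcard : ({v, f v, f (f v)} : Finset α).card = 3 :=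
    Finset.card_eq_three.mpr ⟨v, f v, f (f v), Ne.symm h1, Ne.symm h3', Ne.symm h2, rfl⟩
  have heq := Finset.eq_of_subset_of_card_le hsub (by rw [hS, hcard])
  have hmem : w ∈ ({v, f v, f (f v)} : Finset α) := by
    rw [heq]
    exact hw
  simpa using hmem

/-- The index of `C_G(P)` in a subgroup of `N_G(P)` divides `24` when `|P| = 4`. -/
theorem relIndex_centralizer_dvd (P T : Subgroup G) (hP : Nat.card P = 4)
    (hTN : T ≤ Subgroup.normalizer (P : Set G)) :
    (Subgroup.centralizer (P : Set G)).relIndex T ∣ 24 := by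
  classical
  obtain ⟨ψ, hψ⟩ : ∃ ψ : T →* MulAut P, ψ = P.normalizerMonoidHom.comp (Subgroup.inclusion hTN) :=
    ⟨_, rfl⟩
  have hker : ψ.ker = (Subgroup.centralizer (P : Set G)).subgroupOf T := by
    rw [hψ, ← MonoidHom.comap_ker, Subgroup.normalizerMonoidHom_ker]
    ext t
    simp [Subgroup.mem_subgroupOf]
  have h1 : (Subgroup.centralizer (P : Set G)).relIndex T = Nat.card ψ.range := by
    unfold Subgroup.relIndex
    rw [← hker, Subgroup.index_ker]
  have h2 : Nat.card ψ.range ∣ Nat.card (MulAut P) := Subgroup.card_subgroup_dvd_card _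
  have h3 : Nat.card (MulAut P) ∣ Nat.card (Equiv.Perm P) := by
    refine Subgroup.card_dvd_of_injective (MulAut.toPerm P) ?_
    intro a b hab
    ext y
    have := congrArg (fun σ : Equiv.Perm P => σ y) hab
    exact congrArg Subtype.val this
  haveI : Finite P := Nat.finite_of_card_ne_zero (by rw [hP]; norm_num)
  have h4 : Nat.card (Equiv.Perm P) = 24 := by
    rw [Nat.card_perm, hP]
    rfl
  rw [h1]
  rw [h4] at h3
  exact h2.trans h3

/-- If `C_G(P)` has index three in `T ≤ N_G(P)` and `|P| = 4`, then `T` is transitive on the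
nontrivial elements of `P`. -/
theorem klein_transitive [Fintype G] (P T : Subgroup G) (hP : Nat.card P = 4)
    (hTN : T ≤ Subgroup.normalizer (P : Set G))
    (hnorm : ((Subgroup.centralizer (P : Set G)).subgroupOf T).Normal)
    (he : (Subgroup.centralizer (P : Set G)).relIndex T = 3) :
    ∀ v ∈ P, v ≠ 1 → ∀ v' ∈ P, v' ≠ 1 → ∃ t ∈ T, t * v * t⁻¹ = v' := by
  classical
  have hex : ∃ t : T, t ∉ (Subgroup.centralizer (P : Set G)).subgroupOf T := by
    by_contra hcon
    push Not at hcon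
    have h1 : (Subgroup.centralizer (P : Set G)).subgroupOf T = ⊤ :=
      (Subgroup.eq_top_iff' _).2 hcon
    have h2 : (Subgroup.centralizer (P : Set G)).relIndex T = 1 := by
      unfold Subgroup.relIndex
      rw [h1, Subgroup.index_top]
    omega
  obtain ⟨t, ht⟩ := hex
  have ht3 : t ^ 3 ∈ (Subgroup.centralizer (P : Set G)).subgroupOf T := by
    have h1 := Subgroup.pow_index_mem ((Subgroup.centralizer (P : Set G)).subgroupOf T) t
    have h2 : ((Subgroup.centralizer (P : Set G)).subgroupOf T).index = 3 := he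
    rwa [h2] at h1
  rw [Subgroup.mem_subgroupOf] at ht ht3
  obtain ⟨t₁, ht₁⟩ : ∃ t₁ : G, t₁ = (t : G) := ⟨_, rfl⟩
  have ht₁T : t₁ ∈ T := by rw [ht₁]; exact t.2
  have ht₁N : t₁ ∈ Subgroup.normalizer (P : Set G) := hTN ht₁T
  have ht₁C : t₁ ∉ Subgroup.centralizer (P : Set G) := by rw [ht₁]; exact ht
  have ht₁3 : t₁ ^ 3 ∈ Subgroup.centralizer (P : Set G) := by
    rw [ht₁]
    have : ((t ^ 3 : T) : G) = (t : G) ^ 3 := by push_cast; rfl
    rw [← this]
    exact ht3
  obtain ⟨S, hSdef⟩ : ∃ S : Finset G, S = (Finset.univ.filter (fun g : G => g ∈ P)).erase 1 :=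
    ⟨_, rfl⟩
  have hmemS : ∀ g : G, g ∈ S ↔ g ∈ P ∧ g ≠ 1 := by
    intro g
    rw [hSdef]
    simp only [Finset.mem_erase, Finset.mem_filter, Finset.mem_univ, true_and]
    tauto
  have hScard : S.card = 3 := by
    rw [hSdef, Finset.card_erase_of_mem (by simp)]
    have : (Finset.univ.filter (fun g : G => g ∈ P)).card = 4 := by
      rw [← hP, Nat.card_eq_fintype_card, Fintype.card_subtype]
    rw [this]
  obtain ⟨f, hfdef⟩ : ∃ f : G → G, f = fun g => t₁ * g * t₁⁻¹ := ⟨_, rfl⟩
  have hfapp : ∀ g, f g = t₁ * g * t₁⁻¹ := fun g => by rw [hfdef]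
  have hf : ∀ s ∈ S, f s ∈ S := by
    intro s hs
    rw [hmemS] at hs ⊢
    rw [hfapp]
    refine ⟨(Subgroup.mem_normalizer_iff.mp ht₁N s).mp hs.1, ?_⟩
    intro h
    apply hs.2
    have : s = t₁⁻¹ * (t₁ * s * t₁⁻¹) * t₁ := by group
    rw [this, h]
    group
  have h3 : ∀ s ∈ S, f (f (f s)) = s := by
    intro s hs
    rw [hmemS] at hs
    rw [hfapp, hfapp, hfapp]
    have hc : s * t₁ ^ 3 = t₁ ^ 3 * s := Subgroup.mem_centralizer_iff.mp ht₁3 s hs.1
    have hc' : s * (t₁ * t₁ * t₁) = t₁ * t₁ * t₁ * s := by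
      rwa [pow_succ, pow_two] at hc
    calc t₁ * (t₁ * (t₁ * s * t₁⁻¹) * t₁⁻¹) * t₁⁻¹
        = (t₁ * t₁ * t₁ * s) * t₁⁻¹ * t₁⁻¹ * t₁⁻¹ := by group
      _ = (s * (t₁ * t₁ * t₁)) * t₁⁻¹ * t₁⁻¹ * t₁⁻¹ := by rw [hc']
      _ = s := by group
  have hne : ∃ s ∈ S, f s ≠ s := by
    by_contra hcon
    push Not at hcon
    apply ht₁C
    rw [Subgroup.mem_centralizer_iff]
    intro s hs
    by_cases hs1 : s = 1
    · rw [hs1, one_mul, mul_one]
    · have h1 := hcon s ((hmemS s).mpr ⟨hs, hs1⟩)
      rw [hfapp] at h1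
      have : t₁ * s = t₁ * s * t₁⁻¹ * t₁ := by group
      rw [this, h1]
  have key := three_cycle_transitive S hScard f hf h3 hne
  intro v hv hv1 v' hv' hv'1
  rcases key v ((hmemS v).mpr ⟨hv, hv1⟩) v' ((hmemS v').mpr ⟨hv', hv'1⟩) with h | h | h
  · exact ⟨1, T.one_mem, by rw [h]; group⟩
  · exact ⟨t₁, ht₁T, by rw [h, hfapp]⟩
  · refine ⟨t₁ * t₁, T.mul_mem ht₁T ht₁T, ?_⟩
    rw [h, hfapp, hfapp]
    group

end GroupTheory

section Count

variable {G : Type u} [Group G] [Fintype G] {p : ℕ} [Fact p.Prime] {M : Ideal AlgInt}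

/-- Brauer's formula when all nontrivial subsections have `l(b) = 1`. -/
theorem card_block_eq_rank_add [DecidableEq G] (hM : IsPModular p M) {B : Set (IrrCharacter G)}
    (hB : IsPBlock M B) (X : Finset G) (hX : ∀ x ∈ X, ∃ k : ℕ, orderOf x = p ^ k)
    (hXrep : ∀ g : G, (∃ k : ℕ, orderOf g = p ^ k) → ∃! x, x ∈ X ∧ IsConj g x)
    (hone : ∀ x ∈ X, x ≠ 1 → ∀ b : Set (IrrCharacter (Subgroup.centralizer ({x} : Set G))),
      IsInducedBlock M (Subgroup.centralizer ({x} : Set G)) b B → blockRank p b = 1) :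
    Nat.card B = blockRank p B + Nat.card (Σ x : (X.erase 1 : Finset G),
      {b : Set (IrrCharacter (Subgroup.centralizer ({(x : G)} : Set G))) //
        IsInducedBlock M (Subgroup.centralizer ({(x : G)} : Set G)) b B}) := by
  classical
  have hMp := Cfsg.Agent.Lib.helper20.isPrime_of_isPModular hM
  haveI : ∀ x : G, Fintype (Subgroup.centralizer ({x} : Set G)) := fun x => Fintype.ofFinite _
  rw [card_block_eq_sum_blockRank hM B hB X hX hXrep]
  have h1X : (1 : G) ∈ X := by
    obtain ⟨x, ⟨hx, hc⟩, -⟩ := hXrep 1 ⟨0, by simp⟩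
    have hx1 : x = 1 := by
      obtain ⟨c, hc⟩ := isConj_iff.mp hc
      rw [← hc]
      group
    rwa [hx1] at hx
  rw [← Finset.add_sum_erase X _ h1X, finsum_induced_one hMp p hB]
  congr 1
  rw [Nat.card_sigma, ← Finset.sum_coe_sort (X.erase 1)]
  refine Finset.sum_congr rfl (fun x _ => ?_)
  have hxX : (x : G) ∈ X := Finset.mem_of_mem_erase x.2
  have hx1 : (x : G) ≠ 1 := Finset.ne_of_mem_erase x.2
  have e1 : ∑ᶠ b ∈ {b : Set (IrrCharacter (Subgroup.centralizer ({(x : G)} : Set G))) |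
        IsInducedBlock M (Subgroup.centralizer ({(x : G)} : Set G)) b B}, blockRank p b
      = ∑ᶠ b ∈ {b : Set (IrrCharacter (Subgroup.centralizer ({(x : G)} : Set G))) |
        IsInducedBlock M (Subgroup.centralizer ({(x : G)} : Set G)) b B}, 1 :=
    finsum_mem_congr rfl (fun b hb => hone (x : G) hxX hx1 b hb)
  rw [e1, finsum_mem_eq_finite_toFinset_sum _ (Set.toFinite _)]
  simp only [Finset.sum_const, smul_eq_mul, mul_one]
  rw [← Set.ncard_eq_toFinset_card _ (Set.toFinite _)]
  exact (Nat.card_coe_set_eq _).symm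

end Count

section Misc

variable {G : Type u} [Group G] [Fintype G]

theorem card_nontrivial_of_card_four (P : Subgroup G) (hP : Nat.card P = 4) :
    Nat.card {v : G // v ∈ P ∧ v ≠ 1} = 3 := by
  classical
  rw [Nat.card_eq_fintype_card, Fintype.card_subtype]
  have h1 : Finset.univ.filter (fun g : G => g ∈ P ∧ g ≠ 1)
      = (Finset.univ.filter (fun g : G => g ∈ P)).erase 1 := by
    ext g
    simp only [Finset.mem_erase, Finset.mem_filter, Finset.mem_univ, true_and]
    tauto
  rw [h1, Finset.card_erase_of_mem (by simp)]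
  have : (Finset.univ.filter (fun g : G => g ∈ P)).card = 4 := by
    rw [← hP, Nat.card_eq_fintype_card, Fintype.card_subtype]
  rw [this]

theorem blockRank_pos_of_isPBlock {M : Ideal AlgInt} (hMp : M.IsPrime) (p : ℕ) (hp : p.Prime)
    {B : Set (IrrCharacter G)} (hB : IsPBlock M B) : 0 < blockRank p B := by
  obtain ⟨χ, hχ⟩ := Cfsg.Agent.Lib.helper81.isPBlock_nonempty hMp hB
  have hmem : pRegularPart p (χ : G → ℂ)
      ∈ Submodule.span ℂ ((fun χ : IrrCharacter G => pRegularPart p (χ : G → ℂ)) '' B) :=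
    Submodule.subset_span ⟨χ, hχ, rfl⟩
  have hp1 : ¬ p ∣ orderOf (1 : G) := by
    rw [orderOf_one]
    exact fun h => hp.one_lt.ne' (Nat.dvd_one.mp h)
  have hne : pRegularPart p (χ : G → ℂ) ≠ 0 := by
    intro h
    have h1 := congrFun h 1
    rw [pRegularPart_apply_of_reg p _ hp1] at h1
    exact Cfsg.Agent.Lib.helper81.irr_one_ne_zero χ h1
  unfold blockRank
  exact Module.finrank_pos_iff_exists_ne_zero.mpr
    ⟨⟨_, hmem⟩, fun h => hne (congrArg Subtype.val h)⟩

end Misc

end Cfsg.Agent.Lib.helper78
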