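import Mathlib
import Cfsg.Prelude.Def_LocalStructure
import Cfsg.Prelude.Def_Blocks

/-!
# S3875, piece C (helper20's split): in a minimal non-`p`-closed group, a normal complement of
the Sylow `p`-subgroup (of order `p`) is an `r`-group.
-/

set_option autoImplicit false

namespace Cfsg.Agent.Lib.helper78.S3875

open Cfsg

/-- PIECE C. In a minimal non-`p`-closed group, a normal complement of the Sylow `p`-subgroup
is an `r`-group for some prime `r`. -/
theorem compl_isPGroup {H : Type*} [Group H] [Finite H] (p : ℕ) [Fact p.Prime] (P : Sylow p H)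
    (hP : Nat.card P = p) (hn : ¬ (P : Subgroup H).Normal)
    (hsub : ∀ L : Subgroup H, L ≠ ⊤ → IsPClosed p L)
    (L : Subgroup H) (hL : L.Normal) (hsup : (P : Subgroup H) ⊔ L = ⊤)
    (hinf : (P : Subgroup H) ⊓ L = ⊥) : ∃ r : ℕ, r.Prime ∧ IsPGroup r L := by
  classical
  have hp : p.Prime := Fact.out
  -- index of L is p
  have hLidx : L.index = p := by
    have h1 : L.relIndex ((P : Subgroup H) ⊔ L) = L.relIndex (P : Subgroup H) :=
      Subgroup.relIndex_sup_right (P : Subgroup H) L
    rw [hsup, Subgroup.relIndex_top_right] at h1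
    rw [h1]
    have h2 : (L ⊓ (P : Subgroup H)).relIndex (P : Subgroup H) = L.relIndex (P : Subgroup H) :=
      Subgroup.inf_relIndex_right L (P : Subgroup H)
    rw [← h2, inf_comm, hinf, Subgroup.relIndex_bot_left]
    exact hP
  have hcardH : Nat.card H = Nat.card L * p := by
    rw [← hLidx]; exact (Subgroup.card_mul_index L).symm
  have hLpos : 0 < Nat.card L := Nat.card_pos
  -- index of P is card L
  have hPidx : (P : Subgroup H).index = Nat.card L := by
    have h1 := Subgroup.card_mul_index (P : Subgroup H)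
    have h2 : Nat.card (P : Subgroup H) = p := hP
    rw [h2, hcardH] at h1
    have : p * (P : Subgroup H).index = p * Nat.card L := by rw [h1]; ring
    exact Nat.eq_of_mul_eq_mul_left hp.pos this
  have hpL : ¬ p ∣ Nat.card L := by
    rw [← hPidx]; exact P.not_dvd_index
  -- the number of Sylow p-subgroups
  have hnp1 : Nat.card (Sylow p H) ≠ 1 := by
    intro h1
    apply hn
    have hsub1 : Subsingleton (Sylow p H) := (Nat.card_eq_one_iff_unique.mp h1).1
    exact Sylow.normal_of_subsingleton P
  have hnpdvd : Nat.card (Sylow p H) ∣ Nat.card L := by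
    rw [← hPidx]; exact Sylow.card_dvd_index P
  set r := (Nat.card (Sylow p H)).minFac with hr_def
  have hr : r.Prime := Nat.minFac_prime hnp1
  have hrnp : r ∣ Nat.card (Sylow p H) := Nat.minFac_dvd _
  have hrL : r ∣ Nat.card L := hrnp.trans hnpdvd
  have hrp : r ≠ p := fun h => hpL (h ▸ hrL)
  have : Fact r.Prime := ⟨hr⟩
  refine ⟨r, hr, ?_⟩
  -- a Sylow r-subgroup of L and the Frattini argument
  obtain ⟨R⟩ : Nonempty (Sylow r L) := inferInstance
  set R' : Subgroup H := (R : Subgroup L).map L.subtype with hR'_def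
  have hR'L : R' ≤ L := Subgroup.map_subtype_le _
  have hR'card : Nat.card R' = Nat.card (R : Subgroup L) :=
    Subgroup.card_map_of_injective (Subgroup.subtype_injective L)
  have hfrat : Subgroup.normalizer (R' : Set H) ⊔ L = ⊤ := Sylow.normalizer_sup_eq_top R
  set Nm : Subgroup H := Subgroup.normalizer (R' : Set H) with hNm_def
  have hpNm : p ∣ Nat.card Nm := by
    have h1 : L.relIndex (Nm ⊔ L) = L.relIndex Nm := Subgroup.relIndex_sup_right Nm L
    rw [hfrat, Subgroup.relIndex_top_right, hLidx] at h1
    rw [h1]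
    exact Subgroup.relIndex_dvd_card L Nm
  obtain ⟨x, hx⟩ := exists_prime_orderOf_dvd_card' p hpNm
  have hxo : orderOf (x : H) = p := by rw [Subgroup.orderOf_coe]; exact hx
  -- the subgroup generated by x is a Sylow p-subgroup
  have hZp : IsPGroup p (Subgroup.zpowers (x : H)) := by
    apply IsPGroup.of_card (n := 1)
    rw [Nat.card_zpowers, hxo, pow_one]
  obtain ⟨P', hP'⟩ := hZp.exists_le_sylow
  have hP'card : Nat.card (P' : Subgroup H) = p := by
    have h1 : Nat.card (P' : Subgroup H) = Nat.card (P : Subgroup H) := by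
      rw [Sylow.card_eq_multiplicity, Sylow.card_eq_multiplicity]
    rw [h1]; exact hP
  have hP'eq : Subgroup.zpowers (x : H) = (P' : Subgroup H) := by
    apply Subgroup.eq_of_le_of_card_ge hP'
    rw [hP'card, Nat.card_zpowers, hxo]
  have hP'Nm : (P' : Subgroup H) ≤ Nm := by
    rw [← hP'eq, Subgroup.zpowers_le]; exact x.2
  have hR'Nm : R' ≤ Nm := Subgroup.le_normalizer
  set T : Subgroup H := (P' : Subgroup H) ⊔ R' with hT_def
  have hTNm : T ≤ Nm := sup_le hP'Nm hR'Nm
  have hRcardL : Nat.card (R : Subgroup L) * (R : Subgroup L).index = Nat.card L :=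
    Subgroup.card_mul_index _
  have hRidx : ¬ r ∣ (R : Subgroup L).index := R.not_dvd_index
  by_cases hT : T = ⊤
  · -- R' is normal in H and H = P' R'
    have hNmtop : Nm = ⊤ := top_le_iff.mp (hT ▸ hTNm)
    have hR'n : R'.Normal := Subgroup.normalizer_eq_top_iff.mp hNmtop
    have h1 : R'.relIndex ((P' : Subgroup H) ⊔ R') = R'.relIndex (P' : Subgroup H) :=
      Subgroup.relIndex_sup_right (P' : Subgroup H) R'
    have hT' : (P' : Subgroup H) ⊔ R' = ⊤ := hT
    rw [hT', Subgroup.relIndex_top_right] at h1
    have h2 : R'.index ∣ p := by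
      have h2a : R'.relIndex (P' : Subgroup H) ∣ Nat.card (P' : Subgroup H) :=
        Subgroup.relIndex_dvd_card R' (P' : Subgroup H)
      rw [h1]
      have h2b : Nat.card (P' : Subgroup H) ∣ p := dvd_of_eq hP'card
      exact h2a.trans h2b
    have h3 : Nat.card H = Nat.card R' * R'.index := (Subgroup.card_mul_index R').symm
    have h4 : Nat.card L * p ∣ Nat.card R' * p := by
      rw [← hcardH, h3]; exact Nat.mul_dvd_mul_left _ h2
    have h5 : Nat.card L ∣ Nat.card R' := Nat.dvd_of_mul_dvd_mul_right hp.pos h4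
    have h6 : Nat.card R' = r ^ (Nat.card L).factorization r := by
      rw [hR'card]; exact Sylow.card_eq_multiplicity R
    rw [h6] at h5
    obtain ⟨j, _, hj⟩ := (Nat.dvd_prime_pow hr).mp h5
    exact IsPGroup.of_card hj
  · -- T is p-closed, so R' normalizes P', contradiction with r ∣ n_p
    exfalso
    have hTc : IsPClosed p T := hsub T hT
    have hP'T : (P' : Subgroup H) ≤ T := le_sup_left
    have hnorm : ((P'.subtype hP'T : Sylow p T) : Subgroup T).Normal := hTc (P'.subtype hP'T)
    have hnorm' : ((P' : Subgroup H).subgroupOf T).Normal := by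
      simpa using hnorm
    have hTle : T ≤ Subgroup.normalizer ((P' : Subgroup H) : Set H) :=
      (Subgroup.normal_subgroupOf_iff_le_normalizer hP'T).mp hnorm'
    have hR'le : R' ≤ Subgroup.normalizer ((P' : Subgroup H) : Set H) := le_sup_right.trans hTle
    have hd1 : Nat.card R' ∣ Nat.card (Subgroup.normalizer ((P' : Subgroup H) : Set H)) :=
      Subgroup.card_dvd_of_le hR'le
    have hnp_idx : Nat.card (Sylow p H) = (Subgroup.normalizer ((P' : Subgroup H) : Set H)).index :=
      Sylow.card_eq_index_normalizer P'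
    have hd2 : r ∣ (Subgroup.normalizer ((P' : Subgroup H) : Set H)).index := hnp_idx ▸ hrnp
    have hd3 : Nat.card R' * r ∣ Nat.card H := by
      rw [← Subgroup.card_mul_index (Subgroup.normalizer ((P' : Subgroup H) : Set H))]
      exact Nat.mul_dvd_mul hd1 hd2
    rw [hcardH, hR'card] at hd3
    have hcop : Nat.Coprime (Nat.card (R : Subgroup L) * r) p := by
      apply Nat.Coprime.mul_left
      · have hRc : Nat.card (R : Subgroup L) = r ^ (Nat.card L).factorization r :=
          Sylow.card_eq_multiplicity R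
        rw [hRc]
        exact Nat.Coprime.pow_left _ ((Nat.coprime_primes hr hp).mpr hrp)
      · exact (Nat.coprime_primes hr hp).mpr hrp
    have hd4 : Nat.card (R : Subgroup L) * r ∣ Nat.card L := hcop.dvd_of_dvd_mul_right hd3
    rw [← hRcardL] at hd4
    have hRpos : 0 < Nat.card (R : Subgroup L) := Nat.card_pos
    exact hRidx (Nat.dvd_of_mul_dvd_mul_left hRpos hd4)

end Cfsg.Agent.Lib.helper78.S3875
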