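import Mathlib
import Cfsg.Prelude.Def_LocalStructure
import Cfsg.Prelude.Def_Blocks

/-!
# S3875, piece X1 (helper20's split): the Frobenius group `F_m ⋊ C_p` of order `p * m` is not
`p`-closed.
-/

set_option autoImplicit false

namespace Cfsg.Agent.Lib.helper78.S3875

open Cfsg

/-- Scalar multiplication by a unit, as an automorphism of the additive group of a field written
multiplicatively. -/
def x1Scal (F : Type) [Field F] : Fˣ →* MulAut (Multiplicative F) where
  toFun u :=
    { toFun := fun x => Multiplicative.ofAdd ((u : F) * Multiplicative.toAdd x)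
      invFun := fun x => Multiplicative.ofAdd (((u⁻¹ : Fˣ) : F) * Multiplicative.toAdd x)
      left_inv := fun x => by simp
      right_inv := fun x => by simp
      map_mul' := fun x y => by
        simp only [toAdd_mul, mul_add, ofAdd_add] }
  map_one' := by
    ext x
    simp
  map_mul' u v := by
    ext x
    simp [mul_assoc]

theorem x1Scal_apply (F : Type) [Field F] (u : Fˣ) (x : Multiplicative F) :
    x1Scal F u x = Multiplicative.ofAdd ((u : F) * Multiplicative.toAdd x) := rfl

/-- PIECE X1. Existence: the Frobenius group `F_m ⋊ C_p`. -/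
theorem exists_frobenius (p : ℕ) [Fact p.Prime] (m : ℕ) (hm : IsPrimePow m) (hm1 : m % p = 1) :
    ∃ (H : Type) (_ : Group H) (_ : Finite H), Nat.card H = p * m ∧ ¬ IsPClosed p H := by
  classical
  have hp : p.Prime := Fact.out
  obtain ⟨r, k, hr, hk, hrk⟩ := (isPrimePow_nat_iff m).mp hm
  have : Fact r.Prime := ⟨hr⟩
  have hrp : r ≠ p := by
    intro h
    have h0 : m % p = 0 := by
      rw [← hrk, h]
      exact Nat.mod_eq_zero_of_dvd (dvd_pow_self p hk.ne')
    omega
  let F : Type := GaloisField r k
  have hFcard : Nat.card F = m := by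
    rw [← hrk]; exact GaloisField.card r k hk.ne'
  have hm2 : 1 ≤ m := by
    rw [← hrk]; exact Nat.one_le_pow _ _ hr.pos
  have hpdvd : p ∣ Nat.card Fˣ := by
    rw [Nat.card_units, hFcard]
    exact (Nat.modEq_iff_dvd' hm2).mp (by
      show 1 % p = m % p
      rw [hm1, Nat.mod_eq_of_lt hp.one_lt])
  obtain ⟨ζ, hζ⟩ := exists_prime_orderOf_dvd_card' p hpdvd
  let C : Subgroup Fˣ := Subgroup.zpowers ζ
  let φ : C →* MulAut (Multiplicative F) := (x1Scal F).comp C.subtype
  have hfin : Finite (Multiplicative F ⋊[φ] C) :=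
    Finite.of_equiv _ (SemidirectProduct.equivProd (φ := φ)).symm
  refine ⟨Multiplicative F ⋊[φ] C, inferInstance, hfin, ?_, ?_⟩
  · rw [SemidirectProduct.card]
    have h1 : Nat.card (Multiplicative F) = m := by
      rw [← hFcard]; exact Nat.card_congr Multiplicative.toAdd
    have h2 : Nat.card C = p := by
      show Nat.card (Subgroup.zpowers ζ) = p
      rw [Nat.card_zpowers, hζ]
    rw [h1, h2, mul_comm]
  · intro hc
    let ζ' : C := ⟨ζ, Subgroup.mem_zpowers ζ⟩
    let z : Multiplicative F ⋊[φ] C := SemidirectProduct.inr ζ'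
    let a : Multiplicative F ⋊[φ] C := SemidirectProduct.inl (Multiplicative.ofAdd (1 : F))
    have hzo : orderOf z = p := by
      have h1 : orderOf z = orderOf ζ' :=
        orderOf_injective (SemidirectProduct.inr : C →* Multiplicative F ⋊[φ] C)
          SemidirectProduct.inr_injective ζ'
      rw [h1, ← hζ]
      exact Subgroup.orderOf_mk ζ _
    have hZp : IsPGroup p (Subgroup.zpowers z) := by
      apply IsPGroup.of_card (n := 1)
      rw [Nat.card_zpowers, hzo, pow_one]
    obtain ⟨P, hPle⟩ := hZp.exists_le_sylow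
    have hPn : (P : Subgroup (Multiplicative F ⋊[φ] C)).Normal := hc P
    have hzP : z ∈ (P : Subgroup (Multiplicative F ⋊[φ] C)) := hPle (Subgroup.mem_zpowers z)
    have hyP : a * z * a⁻¹ * z⁻¹ ∈ (P : Subgroup (Multiplicative F ⋊[φ] C)) :=
      Subgroup.mul_mem _ (hPn.conj_mem z hzP a) (Subgroup.inv_mem _ hzP)
    have hy : a * z * a⁻¹ * z⁻¹ =
        SemidirectProduct.inl (Multiplicative.ofAdd ((1 : F) - (ζ : F))) := by
      apply SemidirectProduct.ext
      · simp only [SemidirectProduct.mul_left, SemidirectProduct.mul_right,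
          SemidirectProduct.inv_left, SemidirectProduct.inv_right, a, z,
          SemidirectProduct.left_inl, SemidirectProduct.right_inl, SemidirectProduct.left_inr,
          SemidirectProduct.right_inr, map_one, MulAut.one_apply, mul_one, one_mul, inv_one,
          φ, MonoidHom.comp_apply, Subgroup.coe_subtype, x1Scal_apply, ζ']
        rw [toAdd_inv, toAdd_ofAdd, mul_neg_one, sub_eq_add_neg, ofAdd_add]
      · simp only [SemidirectProduct.mul_right, SemidirectProduct.inv_right, a, z,
          SemidirectProduct.right_inl, SemidirectProduct.right_inr, one_mul, inv_one, mul_one,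
          mul_inv_cancel]
    rw [hy] at hyP
    have hyo : orderOf (SemidirectProduct.inl (Multiplicative.ofAdd ((1 : F) - (ζ : F))) :
        Multiplicative F ⋊[φ] C) = r := by
      rw [orderOf_injective (SemidirectProduct.inl : Multiplicative F →* Multiplicative F ⋊[φ] C)
        SemidirectProduct.inl_injective, orderOf_ofAdd_eq_addOrderOf]
      apply addOrderOf_eq_prime
      · rw [nsmul_eq_mul, CharP.cast_eq_zero F r, zero_mul]
      · intro h0
        have h1 : (ζ : F) = 1 := (sub_eq_zero.mp h0).symm
        have h2 : ζ = 1 := Units.ext h1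
        rw [h2, orderOf_one] at hζ
        exact hp.one_lt.ne hζ
    obtain ⟨j, hj⟩ := (IsPGroup.iff_orderOf.mp P.isPGroup') ⟨_, hyP⟩
    rw [Subgroup.orderOf_mk, hyo] at hj
    have h3 : r ∣ p ^ j := hj ▸ dvd_rfl
    exact hrp ((Nat.prime_dvd_prime_iff_eq hr hp).mp (hr.dvd_of_dvd_pow h3))

end Cfsg.Agent.Lib.helper78.S3875
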