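import Mathlib
import Cfsg.Agent.Lib.helper79.RealDegA
import Cfsg.Agent.Lib.helper79.RealDegF
import Cfsg.Agent.Lib.helper3.PGroupFrattini
import Cfsg.Agent.Lib.helper3.PGroupNormal

/-!
# Real characters of odd degree in solvable groups: group-theoretic lemmas (helper78)

* `exists_normal_abelian_pgroup` : a nontrivial finite solvable group has a nontrivial normal
  abelian `p`-subgroup;
* `eq_top_of_core_central` : no odd normal subgroup and `O_2(G)` central forces `G = O_2(G)`;
* normalizers of Sylow subgroups in quotients and subgroups;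
* the condition `x ^ 2 ∈ ⁅P, P⁆` in quotients and subgroups.
-/

set_option autoImplicit false
set_option linter.style.haveILetI false

open scoped commutatorElement

namespace Cfsg.Agent.Lib.helper78

universe u

section Structure

variable {G : Type u} [Group G]

/-- A nontrivial finite solvable group has a nontrivial normal abelian `p`-subgroup. -/
theorem exists_normal_abelian_pgroup [Finite G] [Group.IsSolvable G] [Nontrivial G] :
    ∃ p : ℕ, p.Prime ∧ ∃ B : Subgroup G, B.Normal ∧ B ≠ ⊥ ∧ IsPGroup p B ∧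
      ∀ a ∈ B, ∀ b ∈ B, a * b = b * a := by
  classical
  obtain ⟨V, hVn, hV0, -, hVmin⟩ :=
    Cfsg.Agent.Lib.helper79.exists_minimal_normal_le (⊤ : Subgroup G) top_ne_bot
  -- V is abelian
  have hcomm : ⁅V, V⁆ = ⊥ := by
    by_contra hne
    have hlt : ⁅V, V⁆ < V := Group.IsSolvable.commutator_lt_of_ne_bot hV0
    have hn : (⁅V, V⁆ : Subgroup G).Normal := inferInstance
    exact (ne_of_lt hlt) (hVmin _ hn hne hlt.le)
  have hab : ∀ a ∈ V, ∀ b ∈ V, a * b = b * a := by
    intro a ha b hb
    have h1 : ⁅a, b⁆ ∈ ⁅V, V⁆ := Subgroup.commutator_mem_commutator ha hb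
    rw [hcomm, Subgroup.mem_bot, commutatorElement_eq_one_iff_mul_comm] at h1
    exact h1
  -- a prime dividing the order
  have hcard : Nat.card V ≠ 1 := by
    intro h
    exact hV0 ((Subgroup.card_eq_one).mp h)
  obtain ⟨p, hp, hpd⟩ := Nat.exists_prime_and_dvd hcard
  haveI : Fact p.Prime := ⟨hp⟩
  obtain ⟨x, hx⟩ := exists_prime_orderOf_dvd_card' p hpd
  let B : Subgroup G :=
    { carrier := {v | v ∈ V ∧ v ^ p = 1}
      one_mem' := ⟨V.one_mem, one_pow p⟩
      mul_mem' := by
        rintro a b ⟨ha, ha'⟩ ⟨hb, hb'⟩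
        refine ⟨V.mul_mem ha hb, ?_⟩
        have hc : Commute a b := hab a ha b hb
        rw [hc.mul_pow, ha', hb', one_mul]
      inv_mem' := by
        rintro a ⟨ha, ha'⟩
        exact ⟨V.inv_mem ha, by rw [inv_pow, ha', inv_one]⟩ }
  have hBmem : ∀ v, v ∈ B ↔ v ∈ V ∧ v ^ p = 1 := fun v => Iff.rfl
  refine ⟨p, hp, B, ?_, ?_, ?_, ?_⟩
  · refine ⟨fun n hn g => ?_⟩
    rw [hBmem] at hn ⊢
    refine ⟨hVn.conj_mem n hn.1 g, ?_⟩
    rw [conj_pow, hn.2, mul_one, mul_inv_cancel]
  · intro hB
    have hxB : (x : G) ∈ B := by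
      rw [hBmem]
      refine ⟨x.2, ?_⟩
      have : x ^ p = 1 := by rw [← hx]; exact pow_orderOf_eq_one x
      have h2 : ((x ^ p : V) : G) = 1 := by rw [this]; rfl
      simpa using h2
    rw [hB, Subgroup.mem_bot] at hxB
    have hx1 : x = 1 := Subtype.ext hxB
    rw [hx1, orderOf_one] at hx
    exact hp.one_lt.ne hx
  · intro g
    refine ⟨1, ?_⟩
    have := ((hBmem (g : G)).mp g.2).2
    apply Subtype.ext
    simpa using this
  · intro a ha b hb
    exact hab a ((hBmem a).mp ha).1 b ((hBmem b).mp hb).1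

/-- If a finite solvable group has no nontrivial normal subgroup of odd order and its largest
normal `2`-subgroup `Q` is central, then `G = Q`. -/
theorem eq_top_of_core_central [Finite G] [Group.IsSolvable G] (Q : Subgroup G) [hQn : Q.Normal]
    (hQ2 : IsPGroup 2 Q)
    (hmax : ∀ M : Subgroup G, M.Normal → IsPGroup 2 M → M ≤ Q)
    (hodd : ∀ A : Subgroup G, A.Normal → Odd (Nat.card A) → A = ⊥)
    (hcent : Q ≤ Subgroup.center G) : Q = ⊤ := by
  classical
  by_contra hne
  haveI : Nontrivial (G ⧸ Q) := by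
    rw [← not_subsingleton_iff_nontrivial]
    intro hs
    exact hne (QuotientGroup.subsingleton_iff.mp hs)
  obtain ⟨p, hp, Bb, hBn, hB0, hBp, hBab⟩ := exists_normal_abelian_pgroup (G := G ⧸ Q)
  haveI : Fact p.Prime := ⟨hp⟩
  set f := QuotientGroup.mk' Q with hf
  have hfs : Function.Surjective f := QuotientGroup.mk'_surjective Q
  set M : Subgroup G := Bb.comap f with hM
  have hMn : M.Normal := hBn.comap f
  have hQpow : ∀ q ∈ Q, ∃ j : ℕ, q ^ (2 ^ j) = 1 := by
    intro q hq
    obtain ⟨j, hj⟩ := hQ2 ⟨q, hq⟩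
    refine ⟨j, ?_⟩
    have := congrArg (Subtype.val) hj
    simpa using this
  have hMpow : ∀ m ∈ M, ∃ k : ℕ, m ^ (p ^ k) ∈ Q := by
    intro m hm
    obtain ⟨k, hk⟩ := hBp ⟨f m, hm⟩
    refine ⟨k, ?_⟩
    have h1 : (f m) ^ (p ^ k) = 1 := by
      have := congrArg (Subtype.val) hk
      simpa using this
    rw [← map_pow] at h1
    exact (QuotientGroup.eq_one_iff _).mp h1
  by_cases hp2 : p = 2
  · -- M is a normal 2-subgroup, hence inside Q
    subst hp2
    have hM2 : IsPGroup 2 M := by
      intro m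
      obtain ⟨k, hk⟩ := hMpow m m.2
      obtain ⟨j, hj⟩ := hQpow _ hk
      refine ⟨k + j, ?_⟩
      apply Subtype.ext
      rw [pow_add, pow_mul] 
      simpa using hj
    have hMQ : M ≤ Q := hmax M hMn hM2
    apply hB0
    rw [eq_bot_iff]
    intro b hb
    obtain ⟨g, rfl⟩ := hfs b
    have hgQ : g ∈ Q := hMQ hb
    rw [Subgroup.mem_bot]
    exact (QuotientGroup.eq_one_iff _).mpr hgQ
  · -- p odd: the p-elements of M form a normal subgroup of odd order
    have hcop : ∀ k j : ℕ, Nat.Coprime (p ^ k) (2 ^ j) := by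
      intro k j
      apply Nat.Coprime.pow
      rw [Nat.coprime_primes hp Nat.prime_two]
      exact hp2
    -- commutators of elements of M lie in Q
    have hcomQ : ∀ a ∈ M, ∀ b ∈ M, a * b * a⁻¹ * b⁻¹ ∈ Q := by
      intro a ha b hb
      rw [← QuotientGroup.eq_one_iff]
      have h1 : f a * f b = f b * f a := hBab _ ha _ hb
      change f (a * b * a⁻¹ * b⁻¹) = 1
      rw [map_mul, map_mul, map_mul, map_inv, map_inv, h1]
      group
    -- p-elements of M commute with all of M
    have hcentral : ∀ a ∈ M, ∀ k : ℕ, a ^ (p ^ k) = 1 → ∀ b ∈ M, a * b = b * a := by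
      intro a ha k hak b hb
      set c := a * b * a⁻¹ * b⁻¹ with hc
      have hcQ : c ∈ Q := hcomQ a ha b hb
      have hcc : ∀ g : G, g * c = c * g := fun g => Subgroup.mem_center_iff.mp (hcent hcQ) g
      have hpow : ∀ i : ℕ, a ^ i * b * (a ^ i)⁻¹ = c ^ i * b := by
        intro i
        induction i with
        | zero => simp
        | succ i ih =>
          have e1 : a ^ (i + 1) * b * (a ^ (i + 1))⁻¹ = a * (a ^ i * b * (a ^ i)⁻¹) * a⁻¹ := by
            rw [pow_succ']; group
          rw [e1, ih]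
          have e2 : a * b * a⁻¹ = c * b := by rw [hc]; group
          calc a * (c ^ i * b) * a⁻¹ = (a * c ^ i) * (b * a⁻¹) := by group
            _ = (c ^ i * a) * (b * a⁻¹) := by
                rw [show a * c ^ i = c ^ i * a from by
                  have : Commute a (c ^ i) := (Commute.pow_right (hcc a) i)
                  exact this]
            _ = c ^ i * (a * b * a⁻¹) := by group
            _ = c ^ i * (c * b) := by rw [e2]
            _ = c ^ (i + 1) * b := by rw [pow_succ]; group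
      have h1 := hpow (p ^ k)
      rw [hak] at h1
      have h2 : c ^ (p ^ k) = 1 := by
        have : b = c ^ (p ^ k) * b := by simpa using h1
        have h3 : c ^ (p ^ k) * b = 1 * b := by rw [one_mul]; exact this.symm
        exact mul_right_cancel h3
      obtain ⟨j, hj⟩ := hQpow c hcQ
      have h3 : c ^ (Nat.gcd (p ^ k) (2 ^ j)) = 1 := pow_gcd_eq_one.mpr ⟨h2, hj⟩
      rw [hcop k j, pow_one] at h3
      have : a * b * a⁻¹ * b⁻¹ = 1 := h3
      calc a * b = (a * b * a⁻¹ * b⁻¹) * (b * a) := by group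
        _ = b * a := by rw [this, one_mul]
    let A : Subgroup G :=
      { carrier := {m | m ∈ M ∧ ∃ k : ℕ, m ^ (p ^ k) = 1}
        one_mem' := ⟨M.one_mem, 0, one_pow _⟩
        mul_mem' := by
          rintro a b ⟨ha, ka, hka⟩ ⟨hb, kb, hkb⟩
          refine ⟨M.mul_mem ha hb, ka + kb, ?_⟩
          have hc : Commute a b := hcentral a ha ka hka b hb
          rw [hc.mul_pow, pow_add, pow_mul, hka, one_pow, mul_comm (p ^ ka), pow_mul, hkb,
            one_pow, one_mul]
        inv_mem' := by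
          rintro a ⟨ha, ka, hka⟩
          exact ⟨M.inv_mem ha, ka, by rw [inv_pow, hka, inv_one]⟩ }
    have hAmem : ∀ v, v ∈ A ↔ v ∈ M ∧ ∃ k : ℕ, v ^ (p ^ k) = 1 := fun v => Iff.rfl
    have hAn : A.Normal := by
      refine ⟨fun n hn g => ?_⟩
      rw [hAmem] at hn ⊢
      obtain ⟨hn1, k, hk⟩ := hn
      refine ⟨hMn.conj_mem n hn1 g, k, ?_⟩
      rw [conj_pow, hk, mul_one, mul_inv_cancel]
    have hAp : IsPGroup p A := by
      intro a
      obtain ⟨-, k, hk⟩ := (hAmem (a : G)).mp a.2
      refine ⟨k, ?_⟩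
      apply Subtype.ext
      simpa using hk
    have hAodd : Odd (Nat.card A) := by
      obtain ⟨n, hn⟩ := hAp.exists_card_eq
      rw [hn]
      exact Odd.pow (hp.odd_of_ne_two hp2)
    have hA0 : A = ⊥ := hodd A hAn hAodd
    -- but A is nontrivial
    apply hB0
    rw [eq_bot_iff]
    intro b hb
    obtain ⟨m, rfl⟩ := hfs b
    have hmM : m ∈ M := hb
    obtain ⟨k, hk⟩ := hMpow m hmM
    obtain ⟨j, hj⟩ := hQpow _ hk
    have hmA : m ^ (2 ^ j) ∈ A := by
      rw [hAmem]
      refine ⟨M.pow_mem hmM _, k, ?_⟩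
      rw [← pow_mul, mul_comm, pow_mul]
      exact hj
    rw [hA0, Subgroup.mem_bot] at hmA
    rw [Subgroup.mem_bot]
    have h1 : (f m) ^ (2 ^ j) = 1 := by rw [← map_pow, hmA, map_one]
    have h2 : (f m) ^ (p ^ k) = 1 := by
      rw [← map_pow]
      exact (QuotientGroup.eq_one_iff _).mpr hk
    have h3 : (f m) ^ (Nat.gcd (p ^ k) (2 ^ j)) = 1 := pow_gcd_eq_one.mpr ⟨h2, h1⟩
    rw [hcop k j, pow_one] at h3
    exact h3

end Structure

section Normalizer

variable {G : Type u} [Group G]

/-- Frattini for an arbitrary overgroup `K` of a Sylow subgroup `P`: an element normalizing `K`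
lies in `K * N_G(P)`. -/
theorem exists_mul_mem_normalizer_sylow [Finite G] {p : ℕ} [Fact p.Prime] (P : Sylow p G)
    (K : Subgroup G) (hPK : (P : Subgroup G) ≤ K) (y : G)
    (hy : y ∈ Subgroup.normalizer (K : Set G)) :
    ∃ k ∈ K, k⁻¹ * y ∈ Subgroup.normalizer ((P : Subgroup G) : Set G) := by
  have hyP : ((y • P : Sylow p G) : Subgroup G) ≤ K := by
    intro z hz
    rw [Sylow.coe_subgroup_smul] at hz
    obtain ⟨w, hw, rfl⟩ := hz
    have := (Subgroup.mem_normalizer_iff.mp hy w).mp (hPK hw)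
    simpa using this
  obtain ⟨k, hk⟩ := MulAction.exists_smul_eq K (P.subtype hPK) ((y • P).subtype hyP)
  refine ⟨k, k.2, ?_⟩
  have h1 : (k : G) • P = y • P := by
    rw [Sylow.smul_subtype hPK k] at hk
    exact Sylow.subtype_injective hk
  have h2 : ((k : G)⁻¹ * y) • P = P := by rw [mul_smul, ← h1, inv_smul_smul]
  exact Sylow.smul_eq_iff_mem_normalizer.mp h2

theorem normalizer_comap_map_of_ker_le {G' : Type*} [Group G'] (f : G →* G')
    (hf : Function.Surjective f) (H : Subgroup G) (hker : f.ker ≤ H) :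
    (Subgroup.normalizer ((H.map f : Subgroup G') : Set G')).comap f =
      Subgroup.normalizer (H : Set G) := by
  rw [Subgroup.comap_normalizer_eq_of_surjective _ hf, Subgroup.comap_map_eq_self hker]

theorem normalizer_map_eq_of_ker_le {G' : Type*} [Group G'] (f : G →* G')
    (hf : Function.Surjective f) (H : Subgroup G) (hker : f.ker ≤ H)
    (h : Subgroup.normalizer (H : Set G) = H) :
    Subgroup.normalizer ((H.map f : Subgroup G') : Set G') = H.map f := by
  have h1 := normalizer_comap_map_of_ker_le f hf H hker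
  rw [h] at h1
  rw [← Subgroup.map_comap_eq_self_of_surjective hf
    (Subgroup.normalizer ((H.map f : Subgroup G') : Set G')), h1]

theorem normalizer_eq_of_map_of_ker_le {G' : Type*} [Group G'] (f : G →* G')
    (hf : Function.Surjective f) (H : Subgroup G) (hker : f.ker ≤ H)
    (h : Subgroup.normalizer ((H.map f : Subgroup G') : Set G') = H.map f) :
    Subgroup.normalizer (H : Set G) = H := by
  rw [← normalizer_comap_map_of_ker_le f hf H hker, h, Subgroup.comap_map_eq_self hker]

/-- A self-normalizing Sylow subgroup stays self-normalizing in any quotient. -/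
theorem normalizer_map_mk_sylow [Finite G] {p : ℕ} [Fact p.Prime] (P : Sylow p G)
    (A : Subgroup G) [A.Normal]
    (h : Subgroup.normalizer ((P : Subgroup G) : Set G) = P) :
    Subgroup.normalizer ((((P : Subgroup G).map (QuotientGroup.mk' A) : Subgroup (G ⧸ A))) :
      Set (G ⧸ A)) = (P : Subgroup G).map (QuotientGroup.mk' A) := by
  apply le_antisymm _ Subgroup.le_normalizer
  intro ybar hy
  obtain ⟨y, rfl⟩ := QuotientGroup.mk'_surjective A ybar
  have h1 : y ∈ (Subgroup.normalizer ((((P : Subgroup G).map (QuotientGroup.mk' A) :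
      Subgroup (G ⧸ A))) : Set (G ⧸ A))).comap (QuotientGroup.mk' A) := hy
  rw [Subgroup.comap_normalizer_eq_of_surjective _ (QuotientGroup.mk'_surjective A),
    Subgroup.comap_map_eq, QuotientGroup.ker_mk'] at h1
  obtain ⟨k, hk, hk2⟩ := exists_mul_mem_normalizer_sylow P ((P : Subgroup G) ⊔ A) le_sup_left y h1
  rw [h] at hk2
  have hy2 : y ∈ (P : Subgroup G) ⊔ A := by
    have e : y = k * (k⁻¹ * y) := by group
    rw [e]
    exact Subgroup.mul_mem _ hk ((le_sup_left : (P : Subgroup G) ≤ (P : Subgroup G) ⊔ A) hk2)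
  have h3 : (QuotientGroup.mk' A) y ∈ ((P : Subgroup G) ⊔ A).map (QuotientGroup.mk' A) :=
    Subgroup.mem_map_of_mem _ hy2
  rw [Subgroup.map_sup, QuotientGroup.map_mk'_self, sup_bot_eq] at h3
  exact h3

/-- If the image of `P` is self-normalizing modulo a normal subgroup `A` meeting `P` trivially
but `P` is not self-normalizing, then `A` contains a nontrivial element centralizing `P`. -/
theorem exists_centralizing_of_normalizer_map (P A : Subgroup G) [hA : A.Normal]
    (hPA : P ⊓ A = ⊥)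
    (h : Subgroup.normalizer (((P.map (QuotientGroup.mk' A) : Subgroup (G ⧸ A))) :
      Set (G ⧸ A)) = P.map (QuotientGroup.mk' A))
    (hne : Subgroup.normalizer (P : Set G) ≠ P) :
    ∃ c ∈ A, c ≠ 1 ∧ ∀ x ∈ P, c * x = x * c := by
  have hlt : ¬ Subgroup.normalizer (P : Set G) ≤ P := fun hle =>
    hne (le_antisymm hle Subgroup.le_normalizer)
  obtain ⟨n, hn, hnP⟩ := SetLike.not_le_iff_exists.mp hlt
  have h1 : (QuotientGroup.mk' A) n ∈ P.map (QuotientGroup.mk' A) := by
    rw [← h]
    exact Subgroup.le_normalizer_map _ (Subgroup.mem_map_of_mem _ hn)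
  obtain ⟨x, hx, hxn⟩ := h1
  have hc : x⁻¹ * n ∈ A := by
    have h2 : (QuotientGroup.mk' A) (x⁻¹ * n) = 1 := by
      rw [map_mul, map_inv, hxn, inv_mul_cancel]
    exact (QuotientGroup.eq_one_iff _).mp h2
  have hcN : x⁻¹ * n ∈ Subgroup.normalizer (P : Set G) :=
    Subgroup.mul_mem _ (Subgroup.inv_mem _ (Subgroup.le_normalizer hx)) hn
  refine ⟨x⁻¹ * n, hc, ?_, ?_⟩
  · intro h1
    apply hnP
    have : n = x := by
      have := congrArg (fun z => x * z) h1
      simpa using this
    rw [this]; exact hx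
  · intro y hy
    set c := x⁻¹ * n with hcdef
    have h2 : c * y * c⁻¹ * y⁻¹ ∈ P ⊓ A := by
      refine ⟨?_, ?_⟩
      · exact P.mul_mem ((Subgroup.mem_normalizer_iff.mp hcN y).mp hy) (P.inv_mem hy)
      · have e : c * y * c⁻¹ * y⁻¹ = c * (y * c⁻¹ * y⁻¹) := by group
        rw [e]
        exact A.mul_mem hc (hA.conj_mem _ (A.inv_mem hc) y)
    rw [hPA, Subgroup.mem_bot] at h2
    calc c * y = (c * y * c⁻¹ * y⁻¹) * (y * c) := by group
      _ = y * c := by rw [h2, one_mul]

theorem normalizer_subgroupOf_eq_self (P T : Subgroup G) (hPT : P ≤ T)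
    (h : Subgroup.normalizer (P : Set G) = P) :
    Subgroup.normalizer ((P.subgroupOf T : Subgroup T) : Set T) = P.subgroupOf T := by
  rw [← Subgroup.subgroupOf_normalizer_eq hPT, h]

theorem sq_mem_commutator_map {G' : Type*} [Group G'] (f : G →* G') (P : Subgroup G)
    (h : ∀ x ∈ P, x ^ 2 ∈ ⁅P, P⁆) : ∀ y ∈ P.map f, y ^ 2 ∈ ⁅P.map f, P.map f⁆ := by
  rintro y ⟨x, hx, rfl⟩
  rw [← Subgroup.map_commutator, ← map_pow]
  exact Subgroup.mem_map_of_mem f (h x hx)

theorem sq_mem_commutator_subgroupOf (P T : Subgroup G) (hPT : P ≤ T)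
    (h : ∀ x ∈ P, x ^ 2 ∈ ⁅P, P⁆) :
    ∀ y ∈ P.subgroupOf T, y ^ 2 ∈ ⁅P.subgroupOf T, P.subgroupOf T⁆ := by
  intro y hy
  have h1 : ((y : G)) ^ 2 ∈ ⁅P, P⁆ := h y (Subgroup.mem_subgroupOf.mp hy)
  have h2 : (⁅P.subgroupOf T, P.subgroupOf T⁆).map T.subtype = ⁅P, P⁆ := by
    rw [Subgroup.map_commutator, Subgroup.map_subgroupOf_eq_of_le hPT]
  rw [← h2] at h1
  obtain ⟨z, hz, hz2⟩ := h1
  have : z = y ^ 2 := Subtype.ext (by simpa using hz2)
  rw [← this]; exact hz

/-- For a finite `2`-group: `P' = Φ(P)` iff all squares lie in `P'`. -/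
theorem commutator_eq_frattini_iff {P : Type*} [Group P] [Finite P] (hP : IsPGroup 2 P) :
    commutator P = frattini P ↔ ∀ x : P, x ^ 2 ∈ commutator P := by
  haveI : Fact (Nat.Prime 2) := ⟨Nat.prime_two⟩
  constructor
  · intro h x
    rw [h]
    exact Cfsg.Agent.Lib.helper3.pow_prime_mem_frattini hP x
  · intro h
    exact le_antisymm (Cfsg.Agent.Lib.helper3.commutator_le_frattini hP)
      (Cfsg.Agent.Lib.helper3.frattini_le_of_pow_mem_of_commutator_le _ h le_rfl)

end Normalizer

end Cfsg.Agent.Lib.helper78
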