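import Mathlib
import Cfsg.Prelude.Def_Characters
import Cfsg.Prelude.Def_Blocks
import Cfsg.Agent.Lib.helper79.RealDegE
import Cfsg.Agent.Lib.helper79.RealDegF
import Cfsg.Agent.Lib.helper82.CliffordCorr
import Cfsg.Agent.Lib.helper78.RealBlock
import Cfsg.Agent.Lib.helper78.RealOddA

/-!
# Real characters of odd degree: Clifford-theoretic lemmas (helper78)

* `exists_real_under_of_odd` : a real-valued irreducible character of odd degree lies over a
  real-valued irreducible character of any normal subgroup;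
* `real_odd_ker_of_odd_normal` : a real-valued irreducible character of odd degree has every
  normal subgroup of odd order in its kernel.
-/

set_option autoImplicit false
set_option linter.style.haveILetI false
set_option linter.unusedSectionVars false

namespace Cfsg.Agent.Lib.helper78

open Cfsg
open Cfsg.Agent.Lib Cfsg.Agent.Lib.helper83 Cfsg.Agent.Lib.helper82
open Cfsg.Agent.Lib.helper83.RealNorm
open scoped ComplexConjugate

universe u

section Under

variable {H : Type u} [Group H] [Fintype H] (M : Subgroup H) [hM : M.Normal] [Fintype M]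

/-- The degree of an irreducible character is `e * |H : I(θ)| * θ(1)`, as natural numbers. -/
theorem clifford_degree_nat (χ : IrrCharacter H) (θ : IrrCharacter M) (e : ℕ)
    (he : classInner (fun n : M => (χ : H → ℂ) n) (θ : M → ℂ) = e) (he0 : e ≠ 0) :
    charDegree (χ : H → ℂ) = e * (inertia M (θ : M → ℂ)).index * charDegree (θ : M → ℂ) := by
  classical
  letI : Fintype (IrrCharacter M) := Fintype.ofFinite _
  have h := clifford_degree M χ.2 θ.2 e he he0
  rw [Cfsg.Agent.Lib.helper82.irr_one_eq χ, Cfsg.Agent.Lib.helper82.irr_one_eq θ] at h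
  exact_mod_cast h

/-- A real-valued irreducible character of odd degree lies over a real-valued irreducible
character of the normal subgroup `M`. -/
theorem exists_real_under_of_odd (χ : IrrCharacter H)
    (hχ : ∀ g, ((χ : H → ℂ) g).im = 0) (hodd : Odd (charDegree (χ : H → ℂ))) :
    ∃ θ : IrrCharacter M, (∀ m, ((θ : M → ℂ) m).im = 0) ∧
      classInner (fun n : M => (χ : H → ℂ) n) (θ : M → ℂ) ≠ 0 := by
  classical
  letI : Fintype (IrrCharacter M) := Fintype.ofFinite _
  have hres : IsCharacter M (fun n : M => (χ : H → ℂ) n) :=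
    helper84.isCharacter_restrict M (isCharacter_of_irr χ.2)
  obtain ⟨Nm, hN, hNg, hN1⟩ := exists_nat_decomp hres
  have hex : ∃ θ₀ : IrrCharacter M, Nm θ₀ ≠ 0 := by
    by_contra hcon
    simp only [not_exists, not_not] at hcon
    have h1 : (χ : H → ℂ) 1 = 0 := by
      have h2 := hNg 1
      simp only [hcon, Nat.cast_zero, zero_mul, Finset.sum_const_zero] at h2
      exact h2
    exact Cfsg.Agent.Lib.helper83.irr_one_ne_zero χ h1
  obtain ⟨θ₀, hθ₀⟩ := hex
  have hc₀ : classInner (fun n : M => (χ : H → ℂ) n) (θ₀ : M → ℂ) ≠ 0 := by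
    rw [hN θ₀]; exact_mod_cast hθ₀
  have hcf : IsClassFunction H (χ : H → ℂ) := isClassFunction_irr χ
  have hset : (Finset.univ.filter fun φ : IrrCharacter M =>
      classInner (fun n : M => (χ : H → ℂ) n) (φ : M → ℂ) ≠ 0) = conjOrbit M (θ₀ : M → ℂ) := by
    ext φ
    rw [Finset.mem_filter, mem_conjOrbit]
    constructor
    · rintro ⟨-, hφ⟩
      exact clifford_conj M χ.2 θ₀.2 φ.2 hc₀ hφ
    · rintro ⟨x, hx⟩
      refine ⟨Finset.mem_univ _, ?_⟩
      rw [hx, classInner_restrict_cconj M hcf]
      exact hc₀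
  have hcard : Odd (conjOrbit M (θ₀ : M → ℂ)).card := by
    rw [card_conjOrbit M θ₀.2]
    have hdeg := clifford_degree_nat M χ θ₀ (Nm θ₀) (hN θ₀) hθ₀
    have hdvd : (inertia M (θ₀ : M → ℂ)).index ∣ charDegree (χ : H → ℂ) := by
      rw [hdeg]
      exact Dvd.dvd.mul_right (Dvd.intro_left _ rfl) _
    exact Odd.of_dvd_nat hodd hdvd
  obtain ⟨θ, hfix, hoddθ⟩ := exists_fixed_odd (fun φ : IrrCharacter M => starIrr φ)
    (fun φ => starIrr_starIrr φ)
    (fun φ => if classInner (fun n : M => (χ : H → ℂ) n) (φ : M → ℂ) ≠ 0 then 1 else 0)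
    (fun φ => by
      have h := Cfsg.Agent.Lib.helper79.classInner_starIrr_of_real M
        (fun n : M => (χ : H → ℂ) n) (fun m => hχ m) φ
      by_cases h0 : classInner (fun n : M => (χ : H → ℂ) n) (φ : M → ℂ) = 0
      · have h1 : classInner (fun n : M => (χ : H → ℂ) n) (starIrr φ : M → ℂ) = 0 := by
          rw [h, h0, map_zero]
        simp [h1, h0]
      · have h1 : classInner (fun n : M => (χ : H → ℂ) n) (starIrr φ : M → ℂ) ≠ 0 := by
          rw [h]; exact (map_ne_zero _).mpr h0
        simp [h1, h0])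
    (by
      rw [Finset.sum_boole, hset]
      exact_mod_cast hcard)
  refine ⟨θ, (starIrr_eq_iff θ).mp hfix, ?_⟩
  intro h0
  rw [if_neg (not_not.mpr h0)] at hoddθ
  exact absurd hoddθ (by decide)

/-- A real-valued irreducible character of odd degree has every normal subgroup of odd order in
its kernel. -/
theorem real_odd_ker_of_odd_normal (hMo : Odd (Nat.card M)) (χ : IrrCharacter H)
    (hχ : ∀ g, ((χ : H → ℂ) g).im = 0) (hodd : Odd (charDegree (χ : H → ℂ))) :
    ∀ a ∈ M, (χ : H → ℂ) a = (χ : H → ℂ) 1 := by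
  classical
  letI : Fintype (IrrCharacter M) := Fintype.ofFinite _
  obtain ⟨θ, hθr, hθc⟩ := exists_real_under_of_odd M χ hχ hodd
  have hθ1 : θ = trivIrr M := by
    apply irr_eq_one_of_real_of_odd
    · exact (Nat.coprime_two_right).mpr hMo
    · intro n
      exact Complex.conj_eq_iff_im.mpr (hθr n)
  have hres : IsCharacter M (fun n : M => (χ : H → ℂ) n) :=
    helper84.isCharacter_restrict M (isCharacter_of_irr χ.2)
  obtain ⟨Nm, hN, -, -⟩ := exists_nat_decomp hres
  have he0 : Nm θ ≠ 0 := by
    intro h0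
    apply hθc
    rw [hN θ, h0, Nat.cast_zero]
  have hinv : ∀ g : H, cconj M g (θ : M → ℂ) = (θ : M → ℂ) := by
    intro g
    funext n
    rw [cconj_def, hθ1, trivIrr_apply, trivIrr_apply]
  have hval := clifford_invariant M χ.2 θ.2 hinv (Nm θ) (hN θ) he0
  intro a ha
  have h1 := hval ⟨a, ha⟩
  have h2 := hval 1
  rw [hθ1, trivIrr_apply] at h1 h2
  exact h1.trans h2.symm

end Under

end Cfsg.Agent.Lib.helper78
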