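import Mathlib
import Cfsg.Prelude.Def_Characters
import Cfsg.Prelude.Def_Blocks
import Cfsg.Agent.Lib.helper78.RealOddB

/-!
# Odd-degree characters are real when `N_G(P) = P` and `P / P'` is elementary abelian (helper78)

`real_of_selfNormalizing` : `G` finite solvable, `P` a Sylow `2`-subgroup with `N_G(P) = P` and
`x ^ 2 ∈ ⁅P, P⁆` for all `x ∈ P`; then every irreducible character of odd degree is real-valued.
-/

set_option autoImplicit false
set_option linter.style.haveILetI false
set_option linter.unusedSectionVars false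

namespace Cfsg.Agent.Lib.helper78

open Cfsg
open Cfsg.Agent.Lib Cfsg.Agent.Lib.helper83 Cfsg.Agent.Lib.helper82
open scoped ComplexConjugate commutatorElement

universe u

section Aux

variable {G : Type u} [Group G]

theorem card_quotient_lt_of_ne_bot [Finite G] (K : Subgroup G) [K.Normal] (hK : K ≠ ⊥) :
    Nat.card (G ⧸ K) < Nat.card G := by
  have h1 : Nat.card G = Nat.card (G ⧸ K) * Nat.card K :=
    Subgroup.card_eq_card_quotient_mul_card_subgroup K
  have h2 : 1 < Nat.card K := by
    rcases Nat.lt_or_ge 1 (Nat.card K) with h | h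
    · exact h
    · exfalso
      have h3 : Nat.card K = 1 := le_antisymm h Nat.card_pos
      exact hK (Subgroup.card_eq_one.mp h3)
  have h3 : 0 < Nat.card (G ⧸ K) := Nat.card_pos
  nlinarith

theorem card_subgroup_lt_of_ne_top [Finite G] (T : Subgroup G) (hT : T ≠ ⊤) :
    Nat.card T < Nat.card G := by
  have h1 := Subgroup.card_mul_index T
  have h2 : T.index ≠ 1 := fun h => hT (Subgroup.index_eq_one.mp h)
  have h3 : T.index ≠ 0 := Subgroup.index_ne_zero_of_finite
  have h4 : 0 < Nat.card T := Nat.card_pos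
  have h5 : 2 ≤ T.index := by omega
  nlinarith

theorem indFun_im_eq_zero [Fintype G] (T : Subgroup G) (ψ : T → ℂ) (h : ∀ t, (ψ t).im = 0)
    (g : G) : (indFun T ψ g).im = 0 := by
  classical
  rw [helper4.indFun_apply, ← Complex.conj_eq_iff_im, map_mul, map_inv₀, Complex.conj_natCast,
    map_sum]
  congr 1
  refine Finset.sum_congr rfl fun x _ => ?_
  by_cases hx : x⁻¹ * g * x ∈ T
  · rw [helper4.extendByZero_apply_mem T ψ hx]
    exact Complex.conj_eq_iff_im.mpr (h _)
  · rw [helper4.extendByZero_apply_of_not_mem T ψ hx, map_zero]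

/-- The statement proved by induction on the order. -/
def RStatement (n : ℕ) : Prop :=
  ∀ (G : Type u) [Group G] [Finite G], Nat.card G = n → Group.IsSolvable G →
    ∀ P : Sylow 2 G, Subgroup.normalizer ((P : Subgroup G) : Set G) = P →
      (∀ x ∈ (P : Subgroup G), x ^ 2 ∈ ⁅(P : Subgroup G), (P : Subgroup G)⁆) →
      ∀ χ : IrrCharacter G, Odd (charDegree (χ : G → ℂ)) → ∀ g : G, ((χ : G → ℂ) g).im = 0

theorem real_of_quotient [Finite G] [Group.IsSolvable G]
    (ih : ∀ m < Nat.card G, RStatement.{u} m) (K : Subgroup G) [K.Normal] (hK : K ≠ ⊥)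
    (P : Sylow 2 G) (hN : Subgroup.normalizer ((P : Subgroup G) : Set G) = P)
    (hsq : ∀ x ∈ (P : Subgroup G), x ^ 2 ∈ ⁅(P : Subgroup G), (P : Subgroup G)⁆)
    (χ : IrrCharacter G) (hker : ∀ k ∈ K, (χ : G → ℂ) k = (χ : G → ℂ) 1)
    (hodd : Odd (charDegree (χ : G → ℂ))) : ∀ g : G, ((χ : G → ℂ) g).im = 0 := by
  haveI : Fact (Nat.Prime 2) := ⟨Nat.prime_two⟩
  obtain ⟨ψ, hψ, hψχ⟩ := isIrrCharacter_deflation K χ.2 hker
  have hdeg : charDegree ψ = charDegree (χ : G → ℂ) := by
    unfold charDegree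
    rw [← hψχ 1]
    rfl
  have h := ih _ (card_quotient_lt_of_ne_bot K hK) (G ⧸ K) rfl inferInstance
    (P.mapSurjective (QuotientGroup.mk'_surjective K))
    (by rw [Sylow.coe_mapSurjective]; exact normalizer_map_mk_sylow P K hN)
    (by rw [Sylow.coe_mapSurjective]; exact sq_mem_commutator_map _ _ hsq)
    ⟨ψ, hψ⟩ (by rw [hdeg]; exact hodd)
  intro g
  rw [← hψχ g]
  exact h _

theorem real_of_top [Finite G] (P : Sylow 2 G) (hP : (P : Subgroup G) = ⊤)
    (hsq : ∀ x ∈ (P : Subgroup G), x ^ 2 ∈ ⁅(P : Subgroup G), (P : Subgroup G)⁆)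
    (χ : IrrCharacter G) (hodd : Odd (charDegree (χ : G → ℂ))) :
    ∀ g : G, ((χ : G → ℂ) g).im = 0 := by
  classical
  haveI : Fact (Nat.Prime 2) := ⟨Nat.prime_two⟩
  obtain ⟨k, hk⟩ := P.isPGroup'.exists_card_eq
  have hcard : Nat.card G = 2 ^ k := by
    rw [← hk]
    have h1 : Nat.card (P : Subgroup G) = Nat.card G := by rw [hP]; exact Subgroup.card_top
    exact h1.symm
  have h1 := helper82.irr_degree_dvd_card χ
  rw [hcard] at h1
  obtain ⟨i, -, hi⟩ := (Nat.dvd_prime_pow Nat.prime_two).mp h1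
  have hi0 : i = 0 := by
    by_contra hne
    rw [hi] at hodd
    exact (Nat.not_even_iff_odd.mpr hodd) ((Nat.even_pow).mpr ⟨even_two, hne⟩)
  rw [hi0, pow_zero] at hi
  have hχ1 : (χ : G → ℂ) 1 = 1 := by
    rw [helper82.irr_one_eq χ, hi, Nat.cast_one]
  obtain ⟨f, hf⟩ := exists_hom_of_linear (isCharacter_of_irr χ.2) hχ1
  intro g
  have hg2 : g ^ 2 ∈ commutator G := by
    have := hsq g (by rw [hP]; trivial)
    rw [hP] at this
    exact this
  have h2 := linear_commutator (isCharacter_of_irr χ.2) hχ1 (g ^ 2) hg2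
  rw [hχ1, hf, map_pow] at h2
  have h3 : ((f g : ℂˣ) : ℂ) * ((f g : ℂˣ) : ℂ) = 1 := by
    rw [← sq]
    exact_mod_cast h2
  rw [hf]
  rcases mul_self_eq_one_iff.mp h3 with h | h
  · rw [h]; simp
  · rw [h]; simp

theorem real_of_selfNormalizing_aux : ∀ n : ℕ, RStatement.{u} n := by
  intro n
  induction n using Nat.strong_induction_on with
  | _ n ih =>
  intro G _ _ hcard hsolv P hN hsq χ hodd
  classical
  haveI := hsolv
  letI : Fintype G := Fintype.ofFinite G
  subst hcard
  haveI : Fact (Nat.Prime 2) := ⟨Nat.prime_two⟩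
  by_cases hA : ∃ A : Subgroup G, A.Normal ∧ Odd (Nat.card A) ∧ A ≠ ⊥
  · obtain ⟨A, hAn, hAodd, hA0⟩ := hA
    haveI := hAn
    have hPA : (P : Subgroup G) ⊓ A = ⊥ := by
      apply Disjoint.eq_bot
      apply Subgroup.disjoint_of_coprime_natCard
      obtain ⟨k, hk⟩ := P.isPGroup'.exists_card_eq
      have hk' : Nat.card (P : Subgroup G) = 2 ^ k := hk
      rw [hk']
      exact Nat.Coprime.pow_left k (Nat.coprime_two_left.mpr hAodd)
    have hfix : ∀ v ∈ A, (∀ q ∈ (P : Subgroup G), q * v = v * q) → v = 1 := by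
      intro v hv hc
      have hvN : v ∈ Subgroup.normalizer ((P : Subgroup G) : Set G) := by
        rw [Subgroup.mem_normalizer_iff]
        intro h
        constructor
        · intro hh
          have e : v * h * v⁻¹ = h := by rw [← hc h hh]; group
          rw [e]; exact hh
        · intro hh
          have e := hc _ hh
          have e2 : v * h = v * (v * h * v⁻¹) := by rw [← e]; group
          have e3 : h = v * h * v⁻¹ := mul_left_cancel e2
          rw [e3]; exact hh
      rw [hN] at hvN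
      have h1 : v ∈ (P : Subgroup G) ⊓ A := ⟨hvN, hv⟩
      rw [hPA] at h1
      exact h1
    have hker := Cfsg.Agent.Lib.helper79.irr_trivial_of_fixedPointFree 2 A (P : Subgroup G)
      P.isPGroup' hfix χ hodd.not_two_dvd_nat
    exact real_of_quotient ih A hA0 P hN hsq χ hker hodd
  · push Not at hA
    set Q : Subgroup G := (P : Subgroup G).normalCore with hQdef
    haveI hQn : Q.Normal := Subgroup.normalCore_normal _
    have hQP : Q ≤ (P : Subgroup G) := Subgroup.normalCore_le _
    have hQ2 : IsPGroup 2 Q := P.isPGroup'.to_le hQP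
    have hPidx : ¬ 2 ∣ (P : Subgroup G).index := P.not_dvd_index
    have hmax : ∀ M : Subgroup G, M.Normal → IsPGroup 2 M → M ≤ Q := by
      intro M hMn hM2
      haveI := hMn
      exact Subgroup.normal_le_normalCore.mpr
        (Cfsg.Agent.Lib.helper79.le_of_normal_of_not_dvd_index 2 M (P : Subgroup G) hM2 hPidx)
    letI : Fintype (IrrCharacter Q) := Fintype.ofFinite _
    obtain ⟨θ₀, hθ₀, e, he, he0⟩ := helper82.exists_constituent_restrict Q χ.2
    have hdeg := clifford_degree_nat Q χ ⟨θ₀, hθ₀⟩ e he he0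
    have hidx : ¬ 2 ∣ (inertia Q θ₀).index := by
      intro h2
      apply hodd.not_two_dvd_nat
      rw [hdeg]
      exact Dvd.dvd.mul_right (Dvd.dvd.mul_left h2 _) _
    have hθdeg : Odd (charDegree θ₀) := by
      rw [hdeg] at hodd
      exact (Nat.odd_mul.mp hodd).2
    have hθ₀1 : θ₀ 1 = 1 := by
      have h1 := helper82.irr_degree_dvd_card (⟨θ₀, hθ₀⟩ : IrrCharacter Q)
      obtain ⟨j, hj⟩ := hQ2.exists_card_eq
      rw [hj] at h1
      obtain ⟨i, -, hi⟩ := (Nat.dvd_prime_pow Nat.prime_two).mp h1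
      have hi' : charDegree θ₀ = 2 ^ i := hi
      have hi0 : i = 0 := by
        by_contra hne
        rw [hi'] at hθdeg
        exact (Nat.not_even_iff_odd.mpr hθdeg) ((Nat.even_pow).mpr ⟨even_two, hne⟩)
      rw [hi0, pow_zero] at hi'
      have h3 := helper82.irr_one_eq (⟨θ₀, hθ₀⟩ : IrrCharacter Q)
      have h4 : θ₀ 1 = (charDegree θ₀ : ℂ) := h3
      rw [h4, hi', Nat.cast_one]
    obtain ⟨g₀, hg₀⟩ := Cfsg.Agent.Lib.helper79.exists_conj_mem_of_not_dvd_index 2
      (P : Subgroup G) (inertia Q θ₀) P.isPGroup' hidx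
    set θ : Q → ℂ := cconj Q g₀ θ₀ with hθdef
    have hθ : IsIrrCharacter Q θ := isIrrCharacter_cconj Q g₀ hθ₀
    have hθe : classInner (fun n : Q => (χ : G → ℂ) n) θ = e := by
      rw [hθdef, classInner_restrict_cconj Q (isClassFunction_irr χ), he]
    have hθ1 : θ 1 = 1 := by rw [hθdef, cconj_apply_one, hθ₀1]
    set T : Subgroup G := inertia Q θ with hTdef
    have hPT : (P : Subgroup G) ≤ T := by
      intro x hx
      rw [hTdef, mem_inertia, hθdef, ← cconj_mul]
      have e1 : x * g₀ = g₀ * (g₀⁻¹ * x * g₀) := by group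
      rw [e1, cconj_mul]
      congr 1
      exact (mem_inertia Q θ₀ _).mp (hg₀ x hx)
    have hQT : Q ≤ T := le_inertia Q (helper4.isClassFunction_of_isIrrCharacter hθ)
    by_cases hT : T = ⊤
    · -- θ is G-invariant
      have hinv : ∀ g : G, cconj Q g θ = θ := fun g =>
        (mem_inertia Q θ g).mp (by rw [← hTdef, hT]; trivial)
      have hval := clifford_invariant Q χ.2 hθ hinv e hθe he0
      obtain ⟨f, hf⟩ := exists_hom_of_linear (isCharacter_of_irr hθ) hθ1
      set K : Subgroup G := f.ker.map Q.subtype with hKdef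
      have hKmem : ∀ k : G, k ∈ K ↔ ∃ hk : k ∈ Q, f ⟨k, hk⟩ = 1 := by
        intro k
        rw [hKdef, Subgroup.mem_map]
        constructor
        · rintro ⟨q, hq, rfl⟩
          exact ⟨q.2, MonoidHom.mem_ker.mp hq⟩
        · rintro ⟨hk, h1⟩
          exact ⟨⟨k, hk⟩, MonoidHom.mem_ker.mpr h1, rfl⟩
      have hθinv : ∀ (g : G) (q : Q), θ ⟨g * q * g⁻¹, hQn.conj_mem q q.2 g⟩ = θ q :=
        fun g => (cconj_eq_iff Q g θ).mp (hinv g)
      have hKn : K.Normal := by
        refine ⟨fun k hk g => ?_⟩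
        obtain ⟨hkQ, hk1⟩ := (hKmem k).mp hk
        rw [hKmem]
        refine ⟨hQn.conj_mem k hkQ g, ?_⟩
        have h1 := hθinv g ⟨k, hkQ⟩
        rw [hf, hf, hk1] at h1
        exact Units.ext h1
      have hker : ∀ k ∈ K, (χ : G → ℂ) k = (χ : G → ℂ) 1 := by
        intro k hk
        obtain ⟨hkQ, hk1⟩ := (hKmem k).mp hk
        have h1 := hval ⟨k, hkQ⟩
        have h2 := hval 1
        rw [hf, hk1] at h1
        rw [hθ1] at h2
        rw [Units.val_one] at h1
        exact h1.trans h2.symm
      by_cases hK : K = ⊥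
      · have hfinj : Function.Injective f := by
          rw [← MonoidHom.ker_eq_bot_iff]
          rw [hKdef] at hK
          exact (Subgroup.map_eq_bot_iff_of_injective _ Q.subtype_injective).mp hK
        have hcent : Q ≤ Subgroup.center G := by
          intro q hq
          rw [Subgroup.mem_center_iff]
          intro g
          have h1 := hθinv g ⟨q, hq⟩
          rw [hf, hf] at h1
          have h2 : (⟨g * q * g⁻¹, hQn.conj_mem q hq g⟩ : Q) = ⟨q, hq⟩ := hfinj (Units.ext h1)
          have h3 : g * q * g⁻¹ = q := congrArg Subtype.val h2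
          calc g * q = (g * q * g⁻¹) * g := by group
            _ = q * g := by rw [h3]
        have hQtop : Q = ⊤ := eq_top_of_core_central Q hQ2 hmax hA hcent
        have hPtop : (P : Subgroup G) = ⊤ := top_le_iff.mp (hQtop ▸ hQP)
        exact real_of_top P hPtop hsq χ hodd
      · haveI := hKn
        exact real_of_quotient ih K hK P hN hsq χ hker hodd
    · -- Clifford correspondence
      obtain ⟨ψ, hψ, hψχ, hψθ⟩ := clifford_corr_surj Q T hQT hθ hTdef χ.2
        (by rw [hθe]; exact_mod_cast he0)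
      have hdeg2 : charDegree (χ : G → ℂ) = T.index * charDegree ψ := by
        have h1 := helper4.indFun_one T ψ
        rw [hψχ, helper82.irr_one_eq χ] at h1
        have h2 := helper82.irr_one_eq (⟨ψ, hψ⟩ : IrrCharacter T)
        have h3 : ψ 1 = (charDegree ψ : ℂ) := h2
        rw [h3] at h1
        exact_mod_cast h1
      have hψodd : Odd (charDegree ψ) := by
        rw [hdeg2] at hodd
        exact (Nat.odd_mul.mp hodd).2
      have hreal := ih _ (card_subgroup_lt_of_ne_top T hT) T rfl inferInstance (P.subtype hPT)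
        (by rw [Sylow.coe_subtype]; exact normalizer_subgroupOf_eq_self _ _ hPT hN)
        (by rw [Sylow.coe_subtype]; exact sq_mem_commutator_subgroupOf _ _ hPT hsq)
        ⟨ψ, hψ⟩ hψodd
      intro g
      rw [← hψχ]
      exact indFun_im_eq_zero T ψ hreal g

/-- If `N_G(P) = P` and all squares of elements of `P` lie in `⁅P, P⁆`, every irreducible
character of odd degree of the finite solvable group `G` is real-valued. -/
theorem real_of_selfNormalizing {G : Type u} [Group G] [Finite G] [Group.IsSolvable G]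
    (P : Sylow 2 G) (hN : Subgroup.normalizer ((P : Subgroup G) : Set G) = P)
    (hsq : ∀ x ∈ (P : Subgroup G), x ^ 2 ∈ ⁅(P : Subgroup G), (P : Subgroup G)⁆)
    (χ : IrrCharacter G) (hodd : Odd (charDegree (χ : G → ℂ))) :
    ∀ g : G, ((χ : G → ℂ) g).im = 0 :=
  real_of_selfNormalizing_aux (Nat.card G) G rfl inferInstance P hN hsq χ hodd

end Aux

end Cfsg.Agent.Lib.helper78
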