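import Mathlib
import Cfsg.Prelude.Def_Characters
import Cfsg.Prelude.Def_Blocks
import Cfsg.Agent.Lib.helper78.RealOddC

/-!
# A non-real character of odd degree when `N_G(P) ≠ P` (helper78)

* `exists_nonreal_of_central_elt` : if an abelian normal subgroup `B` of odd order contains a
  nontrivial element centralizing the Sylow `2`-subgroup `P`, then some irreducible character of
  odd degree is not real-valued;
* `exists_nonreal_of_normalizer_ne` : `G` finite solvable with `N_G(P) ≠ P` has an irreducible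
  character of odd degree which is not real-valued.
-/

set_option autoImplicit false
set_option linter.style.haveILetI false
set_option linter.unusedSectionVars false

namespace Cfsg.Agent.Lib.helper78

open Cfsg
open Cfsg.Agent.Lib Cfsg.Agent.Lib.helper83 Cfsg.Agent.Lib.helper82
open scoped ComplexConjugate commutatorElement

universe u

section Central

variable {G : Type u} [Group G]

/-- The sum of a nontrivial linear character over the group vanishes. -/
theorem sum_hom_eq_zero_of_ne_one {B : Type*} [Group B] [Fintype B] (lam : B →* ℂˣ) (c : B)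
    (hc : lam c ≠ 1) : ∑ b : B, ((lam b : ℂˣ) : ℂ) = 0 := by
  have h1 : ∑ b : B, ((lam b : ℂˣ) : ℂ) = ((lam c : ℂˣ) : ℂ) * ∑ b : B, ((lam b : ℂˣ) : ℂ) := by
    rw [Finset.mul_sum]
    refine (Fintype.sum_equiv (Equiv.mulLeft c) _ _ (fun b => ?_)).symm
    simp [map_mul]
  have h2 : (1 - ((lam c : ℂˣ) : ℂ)) * ∑ b : B, ((lam b : ℂˣ) : ℂ) = 0 := by
    rw [sub_mul, one_mul, ← h1, sub_self]
  rcases mul_eq_zero.mp h2 with h | h
  · exfalso
    apply hc
    apply Units.ext
    rw [Units.val_one]
    exact (sub_eq_zero.mp h).symm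
  · exact h

theorem exists_nonreal_of_central_elt [Finite G] (P : Sylow 2 G) (B : Subgroup G)
    [hBn : B.Normal] (hBodd : Odd (Nat.card B)) (hBab : ∀ a ∈ B, ∀ b ∈ B, a * b = b * a)
    (c : G) (hc : c ∈ B) (hc1 : c ≠ 1) (hcP : ∀ x ∈ (P : Subgroup G), c * x = x * c) :
    ∃ χ : IrrCharacter G, Odd (charDegree (χ : G → ℂ)) ∧
      ¬ ∀ g : G, ((χ : G → ℂ) g).im = 0 := by
  classical
  haveI : Fact (Nat.Prime 2) := ⟨Nat.prime_two⟩
  letI : Fintype G := Fintype.ofFinite G
  letI : Fintype (IrrCharacter G) := Fintype.ofFinite _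
  letI : Fintype (IrrCharacter B) := Fintype.ofFinite _
  obtain ⟨k, hk⟩ := P.isPGroup'.exists_card_eq
  have hk' : Nat.card (P : Subgroup G) = 2 ^ k := hk
  have hcop : Nat.Coprime (Nat.card (P : Subgroup G)) (Nat.card B) := by
    rw [hk']
    exact Nat.Coprime.pow_left k (Nat.coprime_two_left.mpr hBodd)
  have hPB : (P : Subgroup G) ⊓ B = ⊥ := (Subgroup.disjoint_of_coprime_natCard hcop).eq_bot
  -- a linear character of B nontrivial at c
  set c' : B := ⟨c, hc⟩ with hc'
  have hc'1 : c' ≠ 1 := fun h => hc1 (congrArg Subtype.val h)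
  obtain ⟨lam0, hlam0⟩ := exists_hom_apply_ne_one (G := B)
    (fun a b => Subtype.ext (hBab a a.2 b b.2)) hc'1
  -- the product of the P-conjugates
  set lam : B →* ℂˣ := ∏ x : (P : Subgroup G),
    lam0.comp ((MulAut.conjNormal (x : G) : B ≃* B).toMonoidHom) with hlamdef
  have hlam : ∀ b : B, lam b = ∏ x : (P : Subgroup G), lam0 (MulAut.conjNormal (x : G) b) := by
    intro b
    rw [hlamdef, MonoidHom.finsetProd_apply]
    rfl
  have hlaminv : ∀ y ∈ (P : Subgroup G), ∀ b : B, lam (MulAut.conjNormal y b) = lam b := by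
    intro y hy b
    rw [hlam, hlam]
    refine Fintype.prod_equiv (Equiv.mulRight (⟨y, hy⟩ : (P : Subgroup G))) _ _ (fun x => ?_)
    congr 1
    simp [map_mul]
  have hlamc : lam c' ≠ 1 := by
    intro h
    have h1 : lam c' = lam0 c' ^ Nat.card (P : Subgroup G) := by
      rw [hlam]
      have h2 : ∀ x : (P : Subgroup G), lam0 (MulAut.conjNormal (x : G) c') = lam0 c' := by
        intro x
        congr 1
        apply Subtype.ext
        rw [MulAut.conjNormal_apply]
        have := hcP x x.2
        calc (x : G) * c * (x : G)⁻¹ = (c * x) * (x : G)⁻¹ := by rw [this]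
          _ = c := by group
      rw [Finset.prod_congr rfl (fun x _ => h2 x), Finset.prod_const, Finset.card_univ,
        Nat.card_eq_fintype_card]
    rw [h1] at h
    have h3 : lam0 c' ^ Nat.card B = 1 := by
      rw [← map_pow, pow_card_eq_one', map_one]
    have h4 : lam0 c' ^ Nat.gcd (Nat.card (P : Subgroup G)) (Nat.card B) = 1 :=
      pow_gcd_eq_one.mpr ⟨h, h3⟩
    rw [hcop, pow_one] at h4
    exact hlam0 h4
  set θ : B → ℂ := fun b => ((lam b : ℂˣ) : ℂ) with hθdef
  have hθ : IsIrrCharacter B θ := isIrrCharacter_of_hom lam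
  have hθ1 : θ 1 = 1 := by simp [hθdef]
  have hPT : (P : Subgroup G) ≤ inertia B θ := by
    intro y hy
    rw [mem_inertia_iff]
    intro n
    have h1 : (⟨y * n * y⁻¹, hBn.conj_mem (n : G) n.2 y⟩ : B) = MulAut.conjNormal y n :=
      Subtype.ext (MulAut.conjNormal_apply y n).symm
    rw [h1, hθdef]
    simp only
    rw [hlaminv y hy n]
  -- the permutation character on the cosets of P
  set π : G → ℂ := indFun (P : Subgroup G) (fun _ => (1 : ℂ)) with hπdef
  have hπ : IsCharacter G π := helper4.isCharacter_indFun _ helper4.isCharacter_one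
  have hπ1 : π 1 = ((P : Subgroup G).index : ℂ) := by
    rw [hπdef, helper4.indFun_one, mul_one]
  have hπB : ∀ b : B, b ≠ 1 → π b = 0 := by
    intro b hb
    rw [hπdef, helper4.indFun_apply]
    have h0 : ∀ x : G, extendByZero (P : Subgroup G) (fun _ => (1 : ℂ)) (x⁻¹ * (b : G) * x) = 0 := by
      intro x
      apply helper4.extendByZero_apply_of_not_mem
      intro hx
      have hxB : x⁻¹ * (b : G) * x ∈ B := by
        have := hBn.conj_mem (b : G) b.2 x⁻¹
        simpa using this
      have h2 : x⁻¹ * (b : G) * x ∈ (P : Subgroup G) ⊓ B := ⟨hx, hxB⟩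
      rw [hPB, Subgroup.mem_bot] at h2
      apply hb
      apply Subtype.ext
      have h3 : (b : G) = x * (x⁻¹ * (b : G) * x) * x⁻¹ := by group
      rw [h3, h2]
      simp
    rw [Finset.sum_congr rfl (fun x _ => h0 x), Finset.sum_const_zero, mul_zero]
  have hinner : classInner (fun b : B => π b) θ =
      ((P : Subgroup G).index : ℂ) / (Nat.card B : ℂ) := by
    rw [classInner_def, Finset.sum_eq_single (1 : B)]
    · rw [hθ1, map_one, mul_one]
      have : π ((1 : B) : G) = ((P : Subgroup G).index : ℂ) := hπ1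
      rw [this]
      field_simp
    · intro b _ hb
      rw [hπB b hb, zero_mul]
    · intro h
      exact absurd (Finset.mem_univ _) h
  -- decomposition of π
  obtain ⟨N, hN, hNg, -⟩ := exists_nat_decomp hπ
  have hres : ∀ ψ : IrrCharacter G, ∃ m : ℕ,
      classInner (fun b : B => (ψ : G → ℂ) b) θ = m := by
    intro ψ
    have hch : IsCharacter B (fun b : B => (ψ : G → ℂ) b) :=
      helper84.isCharacter_restrict B (isCharacter_of_irr ψ.2)
    obtain ⟨Nm, hNm, -, -⟩ := exists_nat_decomp hch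
    exact ⟨Nm ⟨θ, hθ⟩, hNm ⟨θ, hθ⟩⟩
  choose m hm using hres
  have hsum : classInner (fun b : B => π b) θ = ((∑ ψ : IrrCharacter G, N ψ * m ψ : ℕ) : ℂ) := by
    have h1 : (fun b : B => π b) =
        fun b : B => ∑ ψ : IrrCharacter G, (N ψ : ℂ) * (ψ : G → ℂ) b := by
      funext b
      exact hNg b
    rw [h1, Cfsg.Agent.Lib.helper79.classInner_sum_mul_left B]
    push_cast
    refine Finset.sum_congr rfl fun ψ _ => ?_
    rw [hm ψ]
  -- index of P = |B| * odd
  have hBdvd : Nat.card B ∣ (P : Subgroup G).index := by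
    have h1 : Nat.card B ∣ Nat.card G := Subgroup.card_subgroup_dvd_card B
    rw [← Subgroup.card_mul_index (P : Subgroup G)] at h1
    exact (Nat.Coprime.dvd_mul_left hcop.symm).mp h1
  obtain ⟨kk, hkk⟩ := hBdvd
  have hkkodd : Odd kk := by
    have h1 : ¬ 2 ∣ (P : Subgroup G).index := P.not_dvd_index
    rw [hkk] at h1
    rw [← Nat.not_even_iff_odd]
    intro h2
    exact h1 (Dvd.dvd.mul_left (even_iff_two_dvd.mp h2) _)
  have hBpos : (Nat.card B : ℂ) ≠ 0 := by
    exact_mod_cast (Nat.card_pos (α := B)).ne'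
  have hsumk : ∑ ψ : IrrCharacter G, N ψ * m ψ = kk := by
    have h1 : ((∑ ψ : IrrCharacter G, N ψ * m ψ : ℕ) : ℂ) = (kk : ℂ) := by
      rw [← hsum, hinner, hkk]
      push_cast
      field_simp
    exact_mod_cast h1
  -- some ψ with odd multiplicities
  have hex : ∃ ψ : IrrCharacter G, Odd (N ψ * m ψ) := by
    by_contra hcon
    push Not at hcon
    have h1 : Even (∑ ψ : IrrCharacter G, N ψ * m ψ) :=
      Finset.even_sum _ (fun ψ _ => Nat.not_odd_iff_even.mp (hcon ψ))
    rw [hsumk] at h1
    exact (Nat.not_even_iff_odd.mpr hkkodd) h1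
  obtain ⟨ψ, hψ⟩ := hex
  have hmodd : Odd (m ψ) := (Nat.odd_mul.mp hψ).2
  have hm0 : m ψ ≠ 0 := by
    intro h
    rw [h] at hmodd
    exact (Nat.not_odd_iff_even.mpr (by decide)) hmodd
  have hdeg := clifford_degree_nat B ψ ⟨θ, hθ⟩ (m ψ) (hm ψ) hm0
  have hθdeg : charDegree θ = 1 := by
    unfold charDegree
    rw [hθ1]
    simp
  have hTodd : Odd (inertia B θ).index := by
    have h1 : (inertia B θ).index ∣ (P : Subgroup G).index := Subgroup.index_dvd_of_le hPT
    have h2 : Odd (P : Subgroup G).index := by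
      rw [← Nat.not_even_iff_odd, even_iff_two_dvd]
      exact P.not_dvd_index
    exact Odd.of_dvd_nat h2 h1
  have hψodd : Odd (charDegree (ψ : G → ℂ)) := by
    rw [hdeg]
    have h1 : charDegree ((⟨θ, hθ⟩ : IrrCharacter B) : B → ℂ) = 1 := hθdeg
    rw [h1, mul_one]
    exact Odd.mul hmodd hTodd
  refine ⟨ψ, hψodd, ?_⟩
  intro hreal
  have hker := real_odd_ker_of_odd_normal B hBodd ψ hreal hψodd
  have h0 : classInner (fun b : B => (ψ : G → ℂ) b) θ = 0 := by
    rw [classInner_def]
    have h1 : ∀ b : B, (ψ : G → ℂ) b * conj (θ b) = (ψ : G → ℂ) 1 * conj (θ b) := by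
      intro b
      rw [hker b b.2]
    rw [Finset.sum_congr rfl (fun b _ => h1 b), ← Finset.mul_sum, ← map_sum,
      sum_hom_eq_zero_of_ne_one lam c' hlamc, map_zero, mul_zero, mul_zero]
  rw [hm ψ] at h0
  exact hm0 (by exact_mod_cast h0)

/-- The statement proved by induction on the order. -/
def SStatement (n : ℕ) : Prop :=
  ∀ (G : Type u) [Group G] [Finite G], Nat.card G = n → Group.IsSolvable G →
    ∀ P : Sylow 2 G, Subgroup.normalizer ((P : Subgroup G) : Set G) ≠ P →
      ∃ χ : IrrCharacter G, Odd (charDegree (χ : G → ℂ)) ∧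
        ¬ ∀ g : G, ((χ : G → ℂ) g).im = 0

theorem nonreal_inflation [Finite G] (K : Subgroup G) [K.Normal] (ψ : IrrCharacter (G ⧸ K))
    (hodd : Odd (charDegree (ψ : G ⧸ K → ℂ)))
    (hnr : ¬ ∀ g : G ⧸ K, ((ψ : G ⧸ K → ℂ) g).im = 0) :
    ∃ χ : IrrCharacter G, Odd (charDegree (χ : G → ℂ)) ∧
      ¬ ∀ g : G, ((χ : G → ℂ) g).im = 0 := by
  refine ⟨⟨fun g => (ψ : G ⧸ K → ℂ) (g : G ⧸ K), isIrrCharacter_inflation K ψ.2⟩, hodd, ?_⟩
  intro h
  apply hnr
  intro gb
  obtain ⟨g, rfl⟩ := QuotientGroup.mk_surjective gb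
  exact h g

theorem exists_nonreal_of_normalizer_ne_aux : ∀ n : ℕ, SStatement.{u} n := by
  intro n
  induction n using Nat.strong_induction_on with
  | _ n ih =>
  intro G _ _ hcard hsolv P hN
  classical
  haveI := hsolv
  subst hcard
  haveI : Fact (Nat.Prime 2) := ⟨Nat.prime_two⟩
  haveI : Nontrivial G := by
    by_contra hnt
    rw [not_nontrivial_iff_subsingleton] at hnt
    apply hN
    haveI := hnt
    exact Subsingleton.elim _ _
  obtain ⟨p, hp, B, hBn, hB0, hBp, hBab⟩ := exists_normal_abelian_pgroup (G := G)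
  haveI := hBn
  haveI : Fact p.Prime := ⟨hp⟩
  have hPidx : ¬ 2 ∣ (P : Subgroup G).index := P.not_dvd_index
  by_cases hp2 : p = 2
  · subst hp2
    have hBP : B ≤ (P : Subgroup G) :=
      Cfsg.Agent.Lib.helper79.le_of_normal_of_not_dvd_index 2 B (P : Subgroup G) hBp hPidx
    have hker : (QuotientGroup.mk' B).ker ≤ (P : Subgroup G) := by
      rw [QuotientGroup.ker_mk']; exact hBP
    have hNbar : Subgroup.normalizer ((((P : Subgroup G).map (QuotientGroup.mk' B) :
        Subgroup (G ⧸ B))) : Set (G ⧸ B)) ≠ (P : Subgroup G).map (QuotientGroup.mk' B) :=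
      fun h => hN (normalizer_eq_of_map_of_ker_le _ (QuotientGroup.mk'_surjective B) _ hker h)
    obtain ⟨ψ, hψo, hψn⟩ := ih _ (card_quotient_lt_of_ne_bot B hB0) (G ⧸ B) rfl inferInstance
      (P.mapSurjective (QuotientGroup.mk'_surjective B))
      (by rw [Sylow.coe_mapSurjective]; exact hNbar)
    exact nonreal_inflation B ψ hψo hψn
  · have hBodd : Odd (Nat.card B) := by
      obtain ⟨j, hj⟩ := hBp.exists_card_eq
      rw [hj]
      exact Odd.pow (hp.odd_of_ne_two hp2)
    by_cases hNbar : Subgroup.normalizer ((((P : Subgroup G).map (QuotientGroup.mk' B) :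
        Subgroup (G ⧸ B))) : Set (G ⧸ B)) = (P : Subgroup G).map (QuotientGroup.mk' B)
    · have hPB : (P : Subgroup G) ⊓ B = ⊥ := by
        apply Disjoint.eq_bot
        apply Subgroup.disjoint_of_coprime_natCard
        obtain ⟨k, hk⟩ := P.isPGroup'.exists_card_eq
        have hk' : Nat.card (P : Subgroup G) = 2 ^ k := hk
        rw [hk']
        exact Nat.Coprime.pow_left k (Nat.coprime_two_left.mpr hBodd)
      obtain ⟨c, hc, hc1, hcP⟩ :=
        exists_centralizing_of_normalizer_map (P : Subgroup G) B hPB hNbar hN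
      exact exists_nonreal_of_central_elt P B hBodd hBab c hc hc1 hcP
    · obtain ⟨ψ, hψo, hψn⟩ := ih _ (card_quotient_lt_of_ne_bot B hB0) (G ⧸ B) rfl inferInstance
        (P.mapSurjective (QuotientGroup.mk'_surjective B))
        (by rw [Sylow.coe_mapSurjective]; exact hNbar)
      exact nonreal_inflation B ψ hψo hψn

/-- A finite solvable group whose Sylow `2`-subgroup is not self-normalizing has an irreducible
character of odd degree which is not real-valued. -/
theorem exists_nonreal_of_normalizer_ne {G : Type u} [Group G] [Finite G] [Group.IsSolvable G]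
    (P : Sylow 2 G) (hN : Subgroup.normalizer ((P : Subgroup G) : Set G) ≠ P) :
    ∃ χ : IrrCharacter G, Odd (charDegree (χ : G → ℂ)) ∧
      ¬ ∀ g : G, ((χ : G → ℂ) g).im = 0 :=
  exists_nonreal_of_normalizer_ne_aux (Nat.card G) G rfl inferInstance P hN

end Central

end Cfsg.Agent.Lib.helper78
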