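import Mathlib
import Cfsg.Prelude.Def_Characters
import Cfsg.Prelude.Def_Blocks
import Cfsg.Agent.Lib.helper78.RealOddD

/-!
# Auxiliary lemmas for non-real characters over a linear character of a Sylow subgroup (helper78)

* `sum_comp_surjective` : sums over the fibres of a surjective homomorphism;
* `exists_hom_descent` : descent of a linear character along a surjection;
* `classInner_restrict_hom_ne_zero` : a character lying over a linear character `μ` of `X` lies
  over `μ|Y` on every subgroup `Y`;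
* `exists_nat_mult_hom` : multiplicities through a homomorphism `ι : P₀ →* X`;
* `indFun_conj`, `sq_eq_one_of_norm_of_im`.
-/

set_option autoImplicit false
set_option linter.style.haveILetI false
set_option linter.unusedSectionVars false

namespace Cfsg.Agent.Lib.helper78

open Cfsg
open Cfsg.Agent.Lib Cfsg.Agent.Lib.helper83 Cfsg.Agent.Lib.helper82
open scoped ComplexConjugate commutatorElement

universe u

/-- Sum over the fibres of a surjective homomorphism. -/
theorem sum_comp_surjective {A B : Type*} [Group A] [Group B] [Fintype A] [Fintype B]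
    (π : A →* B) (hπ : Function.Surjective π) (F : B → ℂ) :
    ∑ a : A, F (π a) = (Nat.card π.ker : ℂ) * ∑ b : B, F b := by
  classical
  let s : B → A := Function.surjInv hπ
  have hs : ∀ b, π (s b) = b := Function.surjInv_eq hπ
  let e : π.ker × B ≃ A :=
    { toFun := fun kb => (kb.1 : A) * s kb.2
      invFun := fun a => (⟨a * (s (π a))⁻¹, by
        rw [MonoidHom.mem_ker, map_mul, map_inv, hs, mul_inv_cancel]⟩, π a)
      left_inv := by
        rintro ⟨k, b⟩
        have hk : π (k : A) = 1 := k.2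
        have h1 : π ((k : A) * s b) = b := by rw [map_mul, hk, one_mul, hs]
        apply Prod.ext
        · apply Subtype.ext
          simp only
          rw [h1]
          group
        · exact h1
      right_inv := by
        intro a
        simp }
  have h1 : ∑ a : A, F (π a) = ∑ kb : π.ker × B, F kb.2 := by
    refine (Fintype.sum_equiv e (fun kb => F kb.2) (fun a => F (π a)) (fun kb => ?_)).symm
    show F kb.2 = F (π ((kb.1 : A) * s kb.2))
    rw [map_mul, (kb.1.2 : π (kb.1 : A) = 1), one_mul, hs]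
  rw [h1, Fintype.sum_prod_type]
  simp [Finset.sum_const, Finset.card_univ, Nat.card_eq_fintype_card]

/-- Descent of a homomorphism along a surjection. -/
theorem exists_hom_descent {A B : Type*} [Group A] [Group B] (π : A →* B)
    (hπ : Function.Surjective π) (μ : A →* ℂˣ) (h : π.ker ≤ μ.ker) :
    ∃ ν : B →* ℂˣ, ∀ a, ν (π a) = μ a :=
  ⟨π.liftOfRightInverse (Function.surjInv hπ) (Function.rightInverse_surjInv hπ) ⟨μ, h⟩,
    fun a => MonoidHom.liftOfRightInverse_comp_apply _ _ _ ⟨μ, h⟩ a⟩

/-- Linearity of `classInner` in the first variable. -/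
theorem classInner_sum_mul_left' {X : Type u} [Group X] [Fintype X] {ι : Type*} [Fintype ι]
    (c : ι → ℂ) (P : ι → X → ℂ) (ψ : X → ℂ) :
    classInner (fun g => ∑ i, c i * P i g) ψ = ∑ i, c i * classInner (P i) ψ := by
  simp only [classInner_def, Finset.sum_mul, Finset.mul_sum]
  rw [Finset.sum_comm]
  refine Finset.sum_congr rfl fun i _ => ?_
  refine Finset.sum_congr rfl fun g _ => ?_
  ring

/-- A character lying over the linear character `μ` of `X` lies over `μ|Y` on any subgroup. -/
theorem classInner_restrict_hom_ne_zero {X : Type u} [Group X] [Fintype X] (Y : Subgroup X)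
    [Fintype Y] {Ψ : X → ℂ} (hΨ : IsCharacter X Ψ) (μ : X →* ℂˣ)
    (h : classInner Ψ (fun x => ((μ x : ℂˣ) : ℂ)) ≠ 0) :
    classInner (fun y : Y => Ψ y) (fun y : Y => ((μ y : ℂˣ) : ℂ)) ≠ 0 := by
  classical
  letI : Fintype (IrrCharacter X) := Fintype.ofFinite _
  letI : Fintype (IrrCharacter Y) := Fintype.ofFinite _
  obtain ⟨N, hN, hNg, -⟩ := exists_nat_decomp hΨ
  set μ' : IrrCharacter X := ⟨fun x => ((μ x : ℂˣ) : ℂ), isIrrCharacter_of_hom μ⟩ with hμ'
  set μY : IrrCharacter Y := ⟨fun y : Y => ((μ y : ℂˣ) : ℂ),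
    isIrrCharacter_of_hom (μ.comp Y.subtype)⟩ with hμY
  have hNμ : N μ' ≠ 0 := by
    intro h0
    apply h
    have := hN μ'
    rw [h0, Nat.cast_zero] at this
    exact this
  have hres : ∀ φ : IrrCharacter X, ∃ m : ℕ,
      classInner (fun y : Y => (φ : X → ℂ) y) (μY : Y → ℂ) = m := by
    intro φ
    have hch : IsCharacter Y (fun y : Y => (φ : X → ℂ) y) :=
      helper84.isCharacter_restrict Y (isCharacter_of_irr φ.2)
    obtain ⟨Nm, hNm, -, -⟩ := exists_nat_decomp hch
    exact ⟨Nm μY, hNm μY⟩
  choose m hm using hres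
  have hmμ : m μ' = 1 := by
    have h1 := hm μ'
    have h2 : classInner (μY : Y → ℂ) (μY : Y → ℂ) = 1 := by
      rw [classInner_irr]; simp
    have h3 : (fun y : Y => (μ' : X → ℂ) y) = (μY : Y → ℂ) := rfl
    rw [h3, h2] at h1
    exact_mod_cast h1.symm
  have hsum : classInner (fun y : Y => Ψ y) (μY : Y → ℂ) =
      ((∑ φ : IrrCharacter X, N φ * m φ : ℕ) : ℂ) := by
    have h1 : (fun y : Y => Ψ y) =
        fun y : Y => ∑ φ : IrrCharacter X, (N φ : ℂ) * (φ : X → ℂ) y := by
      funext y
      exact hNg y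
    rw [h1, classInner_sum_mul_left']
    push_cast
    refine Finset.sum_congr rfl fun φ _ => ?_
    rw [hm φ]
  have hpos : 0 < ∑ φ : IrrCharacter X, N φ * m φ := by
    have h1 : N μ' * m μ' ≤ ∑ φ : IrrCharacter X, N φ * m φ :=
      Finset.single_le_sum (f := fun φ => N φ * m φ) (fun _ _ => Nat.zero_le _)
        (Finset.mem_univ μ')
    rw [hmμ, mul_one] at h1
    exact lt_of_lt_of_le (Nat.pos_of_ne_zero hNμ) h1
  have h4 : classInner (fun y : Y => Ψ y) (μY : Y → ℂ) ≠ 0 := by
    rw [hsum]
    exact_mod_cast hpos.ne'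
  exact h4

/-- The multiplicity of a linear character `μ` of `P₀` in the pull-back of a character along a
homomorphism `ι : P₀ →* X` is a natural number. -/
theorem exists_nat_mult_hom {X : Type*} [Group X] {P₀ : Type u} [Group P₀] [Fintype P₀]
    (ι : P₀ →* X) (μ : P₀ →* ℂˣ) {Φ : X → ℂ} (hΦ : IsCharacter X Φ) :
    ∃ n : ℕ, ∑ x : P₀, Φ (ι x) * conj ((μ x : ℂˣ) : ℂ) = (Nat.card P₀ : ℂ) * n := by
  classical
  letI : Fintype (IrrCharacter P₀) := Fintype.ofFinite _
  have hch : IsCharacter P₀ (fun x => Φ (ι x)) := helper4.isCharacter_comp ι hΦ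
  obtain ⟨N, hN, -, -⟩ := exists_nat_decomp hch
  refine ⟨N ⟨fun x => ((μ x : ℂˣ) : ℂ), isIrrCharacter_of_hom μ⟩, ?_⟩
  have h1 := hN ⟨fun x => ((μ x : ℂˣ) : ℂ), isIrrCharacter_of_hom μ⟩
  rw [classInner_def] at h1
  have hc : (Nat.card P₀ : ℂ) ≠ 0 := by exact_mod_cast (Nat.card_pos (α := P₀)).ne'
  rw [← h1]
  field_simp

/-- Induction commutes with complex conjugation. -/
theorem indFun_conj {G : Type u} [Group G] [Fintype G] (T : Subgroup G) (ψ : T → ℂ) (g : G) :
    indFun T (fun t => conj (ψ t)) g = conj (indFun T ψ g) := by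
  classical
  rw [helper4.indFun_apply, helper4.indFun_apply, map_mul, map_inv₀, Complex.conj_natCast,
    map_sum]
  congr 1
  refine Finset.sum_congr rfl fun x _ => ?_
  by_cases hx : x⁻¹ * g * x ∈ T
  · rw [helper4.extendByZero_apply_mem T _ hx, helper4.extendByZero_apply_mem T _ hx]
  · rw [helper4.extendByZero_apply_of_not_mem T _ hx, helper4.extendByZero_apply_of_not_mem T _ hx,
      map_zero]

/-- A complex number of norm one with zero imaginary part squares to one. -/
theorem sq_eq_one_of_norm_of_im (z : ℂ) (hz : ‖z‖ = 1) (him : z.im = 0) : z ^ 2 = 1 := by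
  have h1 : z = (z.re : ℂ) := Complex.ext rfl (by simp [him])
  have h2 : z.re ^ 2 = 1 := by
    have h3 : ‖z‖ ^ 2 = z.re ^ 2 + z.im ^ 2 := by
      rw [Complex.sq_norm, Complex.normSq_apply]; ring
    rw [hz, him] at h3
    nlinarith
  rw [h1]
  exact_mod_cast h2

end Cfsg.Agent.Lib.helper78
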