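import Mathlib
import Cfsg.Agent.Lib.helper78.BR_GT8

/-!
# S0999 piece GT5 (helper78): if the Sylow `p`-subgroup `P` has order `p` and is
self-centralizing, every element of order divisible by `p` has order `p`.
-/

set_option autoImplicit false

namespace Cfsg.Agent.Lib.helper21.BR

/-- GT5 -/
theorem order_eq_of_dvd {G : Type*} [Group G] [Finite G] (p : ℕ) [Fact p.Prime] (P : Sylow p G)
    (hP : Nat.card P = p)
    (hC : Nat.card (Subgroup.centralizer ((P : Subgroup G) : Set G)) = p) :
    ∀ g : G, p ∣ orderOf g → orderOf g = p := by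
  intro g hg
  have hp : p.Prime := Fact.out
  obtain ⟨k, hk⟩ := hg
  have hpos : 0 < orderOf g := orderOf_pos g
  have hk0 : k ≠ 0 := by
    rintro rfl
    rw [mul_zero] at hk
    omega
  -- `g ^ k` has order `p`
  have hgk : orderOf (g ^ k) = p := by
    rw [orderOf_pow' g hk0, hk, Nat.gcd_mul_left_left, Nat.mul_div_cancel _ (Nat.pos_of_ne_zero hk0)]
  -- the subgroup generated by `g ^ k` is a `p`-group, so it lies in a Sylow `p`-subgroup
  have hpg : IsPGroup p (Subgroup.zpowers (g ^ k)) := by
    apply IsPGroup.of_card (n := 1)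
    rw [Nat.card_zpowers, hgk, pow_one]
  obtain ⟨Q, hQ⟩ := hpg.exists_le_sylow
  obtain ⟨c, hc⟩ := MulAction.exists_smul_eq G Q P
  have hmemQ : g ^ k ∈ (Q : Subgroup G) := hQ (Subgroup.mem_zpowers _)
  have hmemP : c * g ^ k * c⁻¹ ∈ (P : Subgroup G) := by
    rw [← hc, Sylow.coe_subgroup_smul]
    have h := (Subgroup.smul_mem_pointwise_smul_iff (a := MulAut.conj c)
      (S := (Q : Subgroup G)) (x := g ^ k)).mpr hmemQ
    simpa [MulAut.smul_def] using h
  have hconj : ∀ y : G, orderOf (c * y * c⁻¹) = orderOf y := fun y => by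
    simpa using orderOf_injective (MulAut.conj c).toMonoidHom (MulAut.conj c).injective y
  set g' := c * g * c⁻¹ with hg'
  have hpow : g' ^ k = c * g ^ k * c⁻¹ := by
    rw [hg', conj_pow]
  have hne : g' ^ k ≠ 1 := by
    intro h
    have h1 : orderOf (c * g ^ k * c⁻¹) = 1 := by rw [← hpow, h, orderOf_one]
    rw [hconj, hgk] at h1
    exact hp.one_lt.ne' h1
  have hcent : g' ∈ Subgroup.centralizer ((P : Subgroup G) : Set G) := by
    rw [← centralizer_singleton_eq p (P : Subgroup G) hP (g' ^ k) (hpow ▸ hmemP) hne,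
      Subgroup.mem_centralizer_iff]
    intro y hy
    rw [Set.mem_singleton_iff] at hy
    rw [hy, ← pow_succ, ← pow_succ']
  have hdvd : orderOf g' ∣ p := by
    have h := orderOf_dvd_natCard (⟨g', hcent⟩ : Subgroup.centralizer ((P : Subgroup G) : Set G))
    rwa [hC, ← Subgroup.orderOf_coe] at h
  have hord : orderOf g' = orderOf g := by rw [hg', hconj]
  rw [hord] at hdvd
  exact Nat.dvd_antisymm hdvd ⟨k, hk⟩

end Cfsg.Agent.Lib.helper21.BR
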