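import Mathlib

/-!
# S0999 piece GT1 (helper78): in a simple non-cyclic group of order `< p ^ 3`, a Sylow
`p`-subgroup has order `p`.
-/

set_option autoImplicit false

namespace Cfsg.Agent.Lib.helper21.BR

/-- A finite simple `p`-group is cyclic. -/
theorem helper78_simple_pgroup_cyclic {G : Type*} [Group G] [Finite G] [IsSimpleGroup G]
    (p : ℕ) [Fact p.Prime] (h : IsPGroup p G) : IsCyclic G := by
  have hnt : Nontrivial G := IsSimpleGroup.toNontrivial
  have hc : Nontrivial (Subgroup.center G) := h.center_nontrivial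
  have htop : Subgroup.center G = ⊤ := by
    rcases (inferInstance : (Subgroup.center G).Normal).eq_bot_or_eq_top with h0 | h0
    · exfalso
      rw [Subgroup.nontrivial_iff_ne_bot] at hc
      exact hc h0
    · exact h0
  exact @IsSimpleGroup.isCyclic G (Group.commGroupOfCenterEqTop htop) ‹IsSimpleGroup G›

/-- GT1 -/
theorem sylow_card_eq {G : Type*} [Group G] [Finite G] [IsSimpleGroup G] (hG : ¬ IsCyclic G)
    (p : ℕ) [Fact p.Prime] (hdvd : p ∣ Nat.card G) (hbig : Nat.card G < p ^ 3) (P : Sylow p G) :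
    Nat.card P = p := by
  have hp : p.Prime := Fact.out
  obtain ⟨k, hk⟩ := P.2.exists_card_eq
  have hpd : p ∣ Nat.card (P : Subgroup G) := P.dvd_card_of_dvd_card hdvd
  have hk1 : k ≠ 0 := by
    rintro rfl
    rw [pow_zero] at hk
    rw [hk] at hpd
    exact hp.one_lt.ne' (Nat.dvd_one.mp hpd)
  by_cases hk2 : k = 1
  · rw [hk, hk2, pow_one]
  exfalso
  have hk2' : 2 ≤ k := by omega
  have hcard := Subgroup.card_mul_index (P : Subgroup G)
  have hidx : (P : Subgroup G).index < p := by
    have h1 : p ^ 2 ≤ Nat.card (P : Subgroup G) := by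
      rw [hk]; exact Nat.pow_le_pow_right hp.pos hk2'
    have h2 : p ^ 2 * (P : Subgroup G).index < p ^ 2 * p := by
      calc p ^ 2 * (P : Subgroup G).index
          ≤ Nat.card (P : Subgroup G) * (P : Subgroup G).index := Nat.mul_le_mul_right _ h1
        _ = Nat.card G := hcard
        _ < p ^ 3 := hbig
        _ = p ^ 2 * p := by ring
    exact lt_of_mul_lt_mul_left h2 (Nat.zero_le _)
  have hd : Nat.card (Sylow p G) ∣ (P : Subgroup G).index := P.card_dvd_index
  have hm : Nat.card (Sylow p G) ≡ 1 [MOD p] := card_sylow_modEq_one p G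
  have hidx0 : 0 < (P : Subgroup G).index :=
    Nat.pos_of_ne_zero Subgroup.index_ne_zero_of_finite
  have hle : Nat.card (Sylow p G) ≤ (P : Subgroup G).index := Nat.le_of_dvd hidx0 hd
  have hone : Nat.card (Sylow p G) = 1 := by
    have hlt : Nat.card (Sylow p G) < p := lt_of_le_of_lt hle hidx
    have h := hm
    unfold Nat.ModEq at h
    rw [Nat.mod_eq_of_lt hlt, Nat.mod_eq_of_lt hp.one_lt] at h
    exact h
  have hsub : Subsingleton (Sylow p G) := (Nat.card_eq_one_iff_unique.mp hone).1
  have hn : (P : Subgroup G).Normal := Sylow.normal_of_subsingleton P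
  rcases hn.eq_bot_or_eq_top with h0 | h0
  · rw [h0, Subgroup.card_bot] at hpd
    exact hp.one_lt.ne' (Nat.dvd_one.mp hpd)
  · have hGp : IsPGroup p G := by
      apply IsPGroup.of_card (n := k)
      rw [← hk, h0, Subgroup.card_top]
    exact hG (helper78_simple_pgroup_cyclic p hGp)

end Cfsg.Agent.Lib.helper21.BR
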