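import Mathlib

/-!
# S0999 piece GT3 (helper78): the order formula `|G| = p e v (1 + n p)`.
-/

set_option autoImplicit false

namespace Cfsg.Agent.Lib.helper21.BR

/-- GT3 -/
theorem order_formula {G : Type*} [Group G] [Finite G] [IsSimpleGroup G] (hG : ¬ IsCyclic G)
    (p : ℕ) [Fact p.Prime] (P : Sylow p G) (hP : Nat.card P = p) :
    ∃ v n : ℕ, 1 ≤ n ∧ Nat.card (Subgroup.centralizer ((P : Subgroup G) : Set G)) = p * v ∧
      Nat.card (Sylow p G) = 1 + n * p ∧
      Nat.card G = p * (Subgroup.centralizer ((P : Subgroup G) : Set G)).relIndex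
        (Subgroup.normalizer ((P : Subgroup G) : Set G)) * v * (1 + n * p) := by
  have hp : p.Prime := Fact.out
  have hcyc : IsCyclic (P : Subgroup G) := isCyclic_of_prime_card hP
  -- `P ≤ C(P)`
  have hPC : (P : Subgroup G) ≤ Subgroup.centralizer ((P : Subgroup G) : Set G) := by
    intro x hx
    rw [Subgroup.mem_centralizer_iff]
    intro y hy
    obtain ⟨g, hg⟩ := IsCyclic.exists_generator (α := (P : Subgroup G))
    obtain ⟨a, ha⟩ := Subgroup.mem_zpowers_iff.mp (hg ⟨x, hx⟩)
    obtain ⟨b, hb⟩ := Subgroup.mem_zpowers_iff.mp (hg ⟨y, hy⟩)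
    have hxa : x = (g : G) ^ a := by simpa using (congrArg Subtype.val ha).symm
    have hyb : y = (g : G) ^ b := by simpa using (congrArg Subtype.val hb).symm
    rw [hxa, hyb, ← zpow_add, ← zpow_add, add_comm]
  obtain ⟨v, hv⟩ : p ∣ Nat.card (Subgroup.centralizer ((P : Subgroup G) : Set G)) := by
    have h := Subgroup.card_dvd_of_le hPC
    rwa [hP] at h
  have hidx : Nat.card (Sylow p G) =
      (Subgroup.normalizer ((P : Subgroup G) : Set G)).index := P.card_eq_index_normalizer
  have hm : Nat.card (Sylow p G) ≡ 1 [MOD p] := card_sylow_modEq_one p G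
  have hmod : Nat.card (Sylow p G) % p = 1 := by
    have h := hm
    unfold Nat.ModEq at h
    rwa [Nat.mod_eq_of_lt hp.one_lt] at h
  have hdm := Nat.div_add_mod (Nat.card (Sylow p G)) p
  rw [hmod] at hdm
  generalize Nat.card (Sylow p G) / p = n at hdm
  have hS : Nat.card (Sylow p G) = 1 + n * p := by rw [← hdm]; ring
  have hn1 : 1 ≤ n := by
    by_contra hlt
    have h0 : n = 0 := by omega
    rw [h0, zero_mul, add_zero] at hS
    have hsub : Subsingleton (Sylow p G) := (Nat.card_eq_one_iff_unique.mp hS).1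
    have hn : (P : Subgroup G).Normal := Sylow.normal_of_subsingleton P
    rcases hn.eq_bot_or_eq_top with hb | ht
    · rw [hb, Subgroup.card_bot] at hP
      exact hp.one_lt.ne' hP.symm
    · rw [ht, Subgroup.card_top] at hP
      exact hG (isCyclic_of_prime_card hP)
  refine ⟨v, n, hn1, hv, hS, ?_⟩
  have hCN : Subgroup.centralizer ((P : Subgroup G) : Set G) ≤
      Subgroup.normalizer ((P : Subgroup G) : Set G) := Subgroup.centralizer_le_normalizer _
  have h1 := Subgroup.relIndex_mul_relIndex (H := (⊥ : Subgroup G))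
    (K := Subgroup.centralizer ((P : Subgroup G) : Set G))
    (L := Subgroup.normalizer ((P : Subgroup G) : Set G)) bot_le hCN
  rw [Subgroup.relIndex_bot_left, Subgroup.relIndex_bot_left] at h1
  have h2 := Subgroup.card_mul_index (Subgroup.normalizer ((P : Subgroup G) : Set G))
  rw [← hidx, ← h1, hv, hS] at h2
  rw [← h2]
  ring

end Cfsg.Agent.Lib.helper21.BR
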