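import Mathlib
import Cfsg.Agent.Lib.helper24.SfuDefs
import Cfsg.Agent.Lib.helper10.SfuUCRIT

set_option autoImplicit false

namespace Cfsg.Agent.Lib.helper24

open Module Matrix Cfsg.Geo

/-- UDIAG -/
theorem sfu_diag_crit {F : Type*} [Field F] [Fintype F] {n : ℕ} (q₀ : ℕ)
    (hcard : Fintype.card F = q₀ ^ 2) (f : (Fin n → F) → (Fin n → F) → F)
    (hf : IsUnitaryFormPow q₀ f) (r : ℕ) [Fact r.Prime] (hd : r ∣ q₀ - 1)
    (ζ : F) (hζ : orderOf ζ = r) (a : Fin n → ZMod r) (w : F) (hw : w ≠ 0)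
    (h : SfuWeakConj f (w • Matrix.diagonal (fun j => ζ ^ (a j).val))) :
    ∃ c : ZMod r, ∀ b : ZMod r, (Finset.univ.filter (fun j => a j = b)).card =
      (Finset.univ.filter (fun j => a j = c - b)).card := by
  classical
  obtain ⟨P, g, hP, hg, hxP⟩ := h
  have hr : r.Prime := Fact.out
  have hζr : ζ ^ r = 1 := by rw [← hζ]; exact pow_orderOf_eq_one ζ
  have hζ0 : ζ ≠ 0 := by
    rintro rfl
    rw [zero_pow hr.ne_zero] at hζr
    exact zero_ne_one hζr
  have hq0 : 1 ≤ q₀ := by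
    rcases Nat.eq_zero_or_pos q₀ with h0 | h0
    · subst h0
      have h1 : 1 < Fintype.card F := Fintype.one_lt_card
      rw [hcard] at h1; simp at h1
    · exact h0
  have hζq : ζ ^ q₀ = ζ := by
    obtain ⟨t, ht⟩ := hd
    have h1 : q₀ = r * t + 1 := by omega
    rw [h1, pow_succ, pow_mul, hζr, one_pow, one_mul]
  have hEadd : ∀ x y : ZMod r, ζ ^ (x + y).val = ζ ^ x.val * ζ ^ y.val := by
    intro x y
    rw [ZMod.val_add, ← pow_add, ← pow_eq_pow_mod _ hζr]
  have hEinj : ∀ x y : ZMod r, ζ ^ x.val = ζ ^ y.val → x = y := by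
    intro x y hxy
    have hx : x.val < orderOf ζ := by rw [hζ]; exact ZMod.val_lt x
    have hy : y.val < orderOf ζ := by rw [hζ]; exact ZMod.val_lt y
    have h1 := pow_injOn_Iio_orderOf (Set.mem_Iio.mpr hx) (Set.mem_Iio.mpr hy) hxy
    exact ZMod.val_injective r h1
  have hE0 : ∀ x : ZMod r, ζ ^ x.val ≠ 0 := fun x => pow_ne_zero _ hζ0
  have hEq : ∀ x : ZMod r, (ζ ^ x.val) ^ q₀ = ζ ^ x.val := by
    intro x; rw [← pow_mul, mul_comm, pow_mul, hζq]
  have hPu : IsUnit P.det := isUnit_iff_ne_zero.mpr hP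
  set μ : Fin n → F := fun j => w * ζ ^ (a j).val with hμ
  have hD : w • Matrix.diagonal (fun j => ζ ^ (a j).val) = Matrix.diagonal μ := by
    ext i j
    by_cases hij : i = j
    · subst hij; simp [hμ]
    · simp [hμ, Matrix.diagonal_apply_ne _ hij]
  have hgK : (g : Matrix (Fin n) (Fin n) F) * P⁻¹ = P⁻¹ * Matrix.diagonal μ := by
    rw [← hD]
    have h1 : P⁻¹ * (w • Matrix.diagonal (fun j => ζ ^ (a j).val)) * P
        = (g : Matrix (Fin n) (Fin n) F) := by
      rw [Matrix.mul_assoc, hxP, ← Matrix.mul_assoc, Matrix.nonsing_inv_mul _ hPu, Matrix.one_mul]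
    rw [← h1, Matrix.mul_assoc, Matrix.mul_nonsing_inv _ hPu, Matrix.mul_one]
  have hK : (P⁻¹).det ≠ 0 := by
    rw [Matrix.det_nonsing_inv, Ring.inverse_eq_inv']
    exact inv_ne_zero hP
  obtain ⟨c₀, hc₀, hcnt⟩ := sfu_crit q₀ hcard f hf g hg P⁻¹ μ hK hgK
  have key : ∀ b : ZMod r, (Finset.univ.filter (fun j => a j = b)).card
      = (Finset.univ.filter (fun j => μ j = w * ζ ^ b.val)).card := by
    intro b
    apply congrArg Finset.card
    ext j
    simp only [Finset.mem_filter, Finset.mem_univ, true_and, hμ]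
    constructor
    · intro hj; rw [hj]
    · intro hj; exact hEinj _ _ (mul_left_cancel₀ hw hj)
  rcases isEmpty_or_nonempty (Fin n) with hemp | ⟨⟨j₀⟩⟩
  · refine ⟨0, fun b => ?_⟩
    simp
  · have h1 := hcnt (μ j₀) (mul_ne_zero hw (hE0 _))
    have hpos : 0 < (Finset.univ.filter (fun j => μ j = μ j₀)).card :=
      Finset.card_pos.mpr ⟨j₀, by simp⟩
    rw [h1] at hpos
    obtain ⟨j₁, hj₁⟩ := Finset.card_pos.mp hpos
    simp only [Finset.mem_filter, Finset.mem_univ, true_and] at hj₁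
    have hcw : (c₀ / w) ^ q₀ = w * ζ ^ (a j₀ + a j₁).val := by
      have h2 : (c₀ / μ j₀) ^ q₀ = (c₀ / w) ^ q₀ / ζ ^ (a j₀).val := by
        simp only [hμ]
        rw [← div_div, div_pow, hEq]
      rw [h2] at hj₁
      have h3 := (eq_div_iff (hE0 _)).mp hj₁
      rw [hEadd, ← h3]
      simp only [hμ]
      ring
    refine ⟨a j₀ + a j₁, fun b => ?_⟩
    have htar : (c₀ / (w * ζ ^ b.val)) ^ q₀ = w * ζ ^ (a j₀ + a j₁ - b).val := by
      rw [← div_div, div_pow, hEq, hcw]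
      have h4 : ζ ^ (a j₀ + a j₁).val = ζ ^ (a j₀ + a j₁ - b).val * ζ ^ b.val := by
        rw [← hEadd, sub_add_cancel]
      rw [h4]
      have := hE0 b
      field_simp
    rw [key b, key (a j₀ + a j₁ - b), hcnt (w * ζ ^ b.val) (mul_ne_zero hw (hE0 _)), htar]

end Cfsg.Agent.Lib.helper24
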