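import Mathlib
import Cfsg.Agent.Lib.helper24.SrA

/-!
# S5973 split, piece CNTD, core (helper78): the divisibility consequence of the count of totally
singular `m`-spaces, with the two counting pieces CNTA, CNTB as hypotheses.
-/

set_option autoImplicit false
set_option linter.unusedSectionVars false
set_option linter.unusedVariables false

namespace Cfsg.Agent.Lib.helper24

open Module Cfsg.Agent.Lib.helper45

universe u

section stpcntd

variable {F : Type u} [Field F] [Fintype F]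

/-- pure arithmetic: the cancellation of the powers of `q`. -/
theorem helper78_cntd_arith (q d m N : ℕ) (hq : 2 ≤ q) (hmd : m < d)
    (h : N * ∏ j ∈ Finset.range m, (q ^ m - q ^ j) =
      ∏ j ∈ Finset.range m,
        (q ^ j * ((q ^ (d - j) - 1) * (q ^ (d - j - 1) + 1)) + q ^ j - q ^ j)) :
    N * ∏ j ∈ Finset.range m, (q ^ (m - j) - 1) =
      ∏ j ∈ Finset.range m, ((q ^ (d - j) - 1) * (q ^ (d - j - 1) + 1)) := by
  have h1 : ∏ j ∈ Finset.range m, (q ^ m - q ^ j) =
      (∏ j ∈ Finset.range m, q ^ j) * ∏ j ∈ Finset.range m, (q ^ (m - j) - 1) := by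
    rw [← Finset.prod_mul_distrib]
    refine Finset.prod_congr rfl (fun j hj => ?_)
    have hj' : j < m := Finset.mem_range.1 hj
    have h2 : q ^ m = q ^ j * q ^ (m - j) := by
      rw [← pow_add]
      congr 1
      omega
    rw [h2, Nat.mul_sub, mul_one]
  have h3 : ∏ j ∈ Finset.range m,
        (q ^ j * ((q ^ (d - j) - 1) * (q ^ (d - j - 1) + 1)) + q ^ j - q ^ j) =
      (∏ j ∈ Finset.range m, q ^ j) *
        ∏ j ∈ Finset.range m, ((q ^ (d - j) - 1) * (q ^ (d - j - 1) + 1)) := by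
    rw [← Finset.prod_mul_distrib]
    refine Finset.prod_congr rfl (fun j hj => ?_)
    rw [Nat.add_sub_cancel]
  rw [h1, h3] at h
  have hpos : 0 < ∏ j ∈ Finset.range m, q ^ j :=
    Finset.prod_pos (fun j _ => pow_pos (by omega) j)
  have h4 : (∏ j ∈ Finset.range m, q ^ j) * (N * ∏ j ∈ Finset.range m, (q ^ (m - j) - 1)) =
      (∏ j ∈ Finset.range m, q ^ j) *
        ∏ j ∈ Finset.range m, ((q ^ (d - j) - 1) * (q ^ (d - j - 1) + 1)) := by
    rw [← h]
    ring
  exact Nat.eq_of_mul_eq_mul_left hpos h4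

/-- pure arithmetic: the conclusion from the product formula. -/
theorem helper78_cntd_concl (q d m N p r : ℕ) (hq : 2 ≤ q) (hmd : m < d) (hp : p.Prime)
    (hpq : p ∣ q) (hqp : ∀ r' : ℕ, r'.Prime → r' ∣ q → r' = p) (hr : r.Prime)
    (h : N * ∏ j ∈ Finset.range m, (q ^ (m - j) - 1) =
      ∏ j ∈ Finset.range m, ((q ^ (d - j) - 1) * (q ^ (d - j - 1) + 1)))
    (hdvd : r ∣ N) :
    r ≠ p ∧ ∃ j, j < m ∧ r ∣ (q ^ (d - j) - 1) * (q ^ (d - j - 1) + 1) := by
  have h1 : r ∣ ∏ j ∈ Finset.range m, ((q ^ (d - j) - 1) * (q ^ (d - j - 1) + 1)) := by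
    rw [← h]
    exact Dvd.dvd.mul_right hdvd _
  obtain ⟨j, hj, hjd⟩ := (Prime.dvd_finset_prod_iff hr.prime _).1 h1
  have hj' : j < m := Finset.mem_range.1 hj
  refine ⟨?_, j, hj', hjd⟩
  rintro rfl
  -- `r = p` divides `q`, but not the factor
  have hq1 : ∀ e : ℕ, 1 ≤ e → r ∣ q ^ e := fun e he => dvd_pow hpq (by omega)
  rcases (Nat.Prime.dvd_mul hr).1 hjd with h2 | h2
  · have h3 : r ∣ q ^ (d - j) := hq1 _ (by omega)
    have h4 : 1 ≤ q ^ (d - j) := Nat.one_le_pow _ _ (by omega)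
    have h5 : r ∣ q ^ (d - j) - (q ^ (d - j) - 1) := Nat.dvd_sub h3 h2
    have h6 : q ^ (d - j) - (q ^ (d - j) - 1) = 1 := by omega
    rw [h6] at h5
    exact hr.one_lt.ne' (Nat.dvd_one.1 h5)
  · have h3 : r ∣ q ^ (d - j - 1) := hq1 _ (by omega)
    have h5 : r ∣ q ^ (d - j - 1) + 1 - q ^ (d - j - 1) := Nat.dvd_sub h2 h3
    have h6 : q ^ (d - j - 1) + 1 - q ^ (d - j - 1) = 1 := by omega
    rw [h6] at h5
    exact hr.one_lt.ne' (Nat.dvd_one.1 h5)

/-- CNTD with the two counting pieces CNTA (for `ε = 1`) and CNTB as hypotheses. -/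
theorem helper78_stp_count_dvd_of {V : Type u} [AddCommGroup V] [Module F V]
    [FiniteDimensional F V]
    (Q : QuadraticForm F V)
    (d m : ℕ) (hmd : m < d)
    (hA : ∀ U : Submodule F V, (∀ u ∈ U, Q u = 0) →
      (Fintype.card F : ℤ) *
        (Nat.card {v : V // Q v = 0 ∧ ∀ u ∈ U, QuadraticMap.polar Q u v = 0} : ℤ) =
      (Fintype.card F : ℤ) ^ finrank F U *
        ((Fintype.card F : ℤ) ^ (2 * (d - finrank F U)) +
          (1 : ℤ) * (Fintype.card F : ℤ) ^ (d - finrank F U) * ((Fintype.card F : ℤ) - 1)))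
    (hB : ∀ f : ℕ → ℕ, (∀ U : Submodule F V, (∀ u ∈ U, Q u = 0) → finrank F U < m →
        Nat.card {v : V // Q v = 0 ∧ ∀ u ∈ U, QuadraticMap.polar Q u v = 0} = f (finrank F U)) →
      Nat.card {W : Submodule F V // finrank F W = m ∧ ∀ w ∈ W, Q w = 0} *
          ∏ j ∈ Finset.range m, (Fintype.card F ^ m - Fintype.card F ^ j) =
        ∏ j ∈ Finset.range m, (f j - Fintype.card F ^ j))
    (p : ℕ) [Fact p.Prime] [CharP F p] (r : ℕ) (hr : r.Prime)
    (hdvd : r ∣ Nat.card {W : Submodule F V // finrank F W = m ∧ ∀ w ∈ W, Q w = 0}) :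
    r ≠ p ∧ ∃ j, j < m ∧
      r ∣ (Fintype.card F ^ (d - j) - 1) * (Fintype.card F ^ (d - j - 1) + 1) := by
  have hq : 2 ≤ Fintype.card F := Fintype.one_lt_card
  obtain ⟨n, hp, hcard⟩ := FiniteField.card F p
  have hpq : p ∣ Fintype.card F := by
    rw [hcard]
    exact dvd_pow_self p n.ne_zero
  have hqp : ∀ r' : ℕ, r'.Prime → r' ∣ Fintype.card F → r' = p := by
    intro r' hr' hd
    rw [hcard] at hd
    exact (Nat.prime_dvd_prime_iff_eq hr' hp).1 (hr'.dvd_of_dvd_pow hd)
  -- the count of singular vectors orthogonal to a totally singular subspace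
  have hcount := hB (fun j => Fintype.card F ^ j *
      ((Fintype.card F ^ (d - j) - 1) * (Fintype.card F ^ (d - j - 1) + 1)) + Fintype.card F ^ j) ?_
  · exact helper78_cntd_concl (Fintype.card F) d m _ p r hq hmd hp hpq hqp hr
      (helper78_cntd_arith (Fintype.card F) d m _ hq hmd hcount) hdvd
  · intro U hU hUm
    have h1 := hA U hU
    obtain ⟨e, he⟩ : ∃ e : ℕ, d - finrank F U = e + 1 := ⟨d - finrank F U - 1, by omega⟩
    have he' : d - finrank F U - 1 = e := by omega
    have hq0 : (Fintype.card F : ℤ) ≠ 0 := by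
      have : (0 : ℤ) < (Fintype.card F : ℤ) := by exact_mod_cast (by omega : 0 < Fintype.card F)
      exact this.ne'
    have h2 : ((Fintype.card F ^ (e + 1) - 1 : ℕ) : ℤ) = (Fintype.card F : ℤ) ^ (e + 1) - 1 := by
      have h3 : 1 ≤ Fintype.card F ^ (e + 1) := Nat.one_le_pow _ _ (by omega)
      push_cast [Nat.cast_sub h3]
      ring
    have key : (Fintype.card F : ℤ) *
        (Nat.card {v : V // Q v = 0 ∧ ∀ u ∈ U, QuadraticMap.polar Q u v = 0} : ℤ) =
        (Fintype.card F : ℤ) * ((Fintype.card F ^ finrank F U *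
          ((Fintype.card F ^ (d - finrank F U) - 1) *
            (Fintype.card F ^ (d - finrank F U - 1) + 1)) + Fintype.card F ^ finrank F U : ℕ) : ℤ) := by
      rw [h1, he', he]
      have h4 : 2 * (e + 1) = 2 * e + 2 := by ring
      rw [h4]
      push_cast [h2]
      ring
    exact_mod_cast mul_left_cancel₀ hq0 key

end stpcntd

end Cfsg.Agent.Lib.helper24
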