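import Mathlib
import Cfsg.Agent.Lib.helper24.SrA
import Cfsg.Agent.Lib.helper4.StpCNTA
import Cfsg.Agent.Lib.helper75.StpCNTB
import Cfsg.Agent.Lib.helper78.StpCNTDcore

/-!
# S5973 split, piece CNTD (helper78): a prime dividing the number of totally singular `m`-spaces
of a plus type space of dimension `2d` (`m < d`) is not the characteristic and divides
`(q^(d-j) - 1) (q^(d-j-1) + 1)` for some `j < m`.
-/

set_option autoImplicit false
set_option linter.unusedSectionVars false
set_option linter.unusedVariables false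

namespace Cfsg.Agent.Lib.helper24

open Module Cfsg.Agent.Lib.helper45 Cfsg.Agent.Lib.helper49

universe u

section stpgeneric

variable {F : Type u} [Field F] [Fintype F]

/-- A prime `r` dividing the number of totally singular `m`-spaces (`m < d`) of a plus type
space of dimension `2d` is not the characteristic and divides `(q^(d-j) - 1) (q^(d-j-1) + 1)`
for some `j < m`  [`N_m ∏_{j<m} (q^(m-j) - 1) = ∏_{j<m} (q^(d-j) - 1) (q^(d-j-1) + 1)`, and
modulo `p` both products are `(-1)^m`]. -/
theorem stp_count_dvd {V : Type u} [AddCommGroup V] [Module F V] [FiniteDimensional F V]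
    (Q : QuadraticForm F V) (hnd : ∀ v, (∀ w, QuadraticMap.polar Q v w = 0) → v = 0)
    (d m : ℕ) (hmd : m < d) (hdim : finrank F V = 2 * d) (hty : SrTy Q ⊤ 1)
    (p : ℕ) [Fact p.Prime] [CharP F p] (r : ℕ) (hr : r.Prime)
    (hdvd : r ∣ Nat.card {W : Submodule F V // finrank F W = m ∧ ∀ w ∈ W, Q w = 0}) :
    r ≠ p ∧ ∃ j, j < m ∧
      r ∣ (Fintype.card F ^ (d - j) - 1) * (Fintype.card F ^ (d - j - 1) + 1) := by
  exact helper78_stp_count_dvd_of Q d m hmd
    (fun U hU => stp_perp_sing Q hnd d hdim 1 (Or.inl rfl) hty U hU)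
    (fun f hf => stp_count Q m f hf) p r hr hdvd

end stpgeneric

end Cfsg.Agent.Lib.helper24
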