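import Mathlib
import Cfsg.Agent.Lib.helper74.QODefs

/-!
# S1935 split, piece L1 (helper78): `l * l' = 0` on `lim W ξ`.
-/

set_option autoImplicit false

namespace Cfsg.Agent.Lib.helper78.QO

open Cfsg.Agent.Lib.helper74.QO

variable {R : Type*} [Ring R]

/-- PIECE L1 -/
theorem lim_mul (W : AddSubgroup R) (ξ : R) (hξ : ξ * ξ = 0)
    (hW : ∀ w ∈ W, ∀ w' ∈ W, w * w' = 0) :
    ∀ l ∈ lim W ξ, ∀ l' ∈ lim W ξ, l * l' = 0 := by
  rintro _ ⟨a, ha, b, hb, c, hc, h1, h2, rfl⟩ _ ⟨a', ha', b', hb', c', hc', h1', h2', rfl⟩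
  have e1 : a * a' = 0 := hW a ha a' ha'
  have e2 : a * b' = 0 := hW a ha b' hb'
  have e3 : a * c' = 0 := hW a ha c' hc'
  have e4 : b * a' = 0 := hW b hb a' ha'
  have e5 : b * b' = 0 := hW b hb b' hb'
  have e6 : c * a' = 0 := hW c hc a' ha'
  have v1 : (a * ξ - ξ * a - ξ * b * ξ) * b' = 0 := hW _ h2 b' hb'
  have v2 : (a * ξ - ξ * a - ξ * b * ξ) * c' = 0 := hW _ h2 c' hc'
  have v3 : b * (a' * ξ - ξ * a' - ξ * b' * ξ) = 0 := hW b hb _ h2'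
  have v4 : c * (a' * ξ - ξ * a' - ξ * b' * ξ) = 0 := hW c hc _ h2'
  have key : (a + b * ξ - ξ * b - ξ * c * ξ) * (a' + b' * ξ - ξ * b' - ξ * c' * ξ) =
      a * a' + (a * b') * ξ - ((a * ξ - ξ * a - ξ * b * ξ) * b') - ξ * (a * b')
        - ((a * ξ - ξ * a - ξ * b * ξ) * c') * ξ - ξ * (a * c') * ξ
        - b * (a' * ξ - ξ * a' - ξ * b' * ξ) + (b * a') * ξ
        - b * (ξ * ξ) * b' - b * (ξ * ξ) * c' * ξ
        - ξ * (b * a') - ξ * (b * b') * ξ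
        + ξ * (c * (a' * ξ - ξ * a' - ξ * b' * ξ)) - ξ * (c * a') * ξ
        + ξ * c * (ξ * ξ) * b' + ξ * c * (ξ * ξ) * c' * ξ := by
    noncomm_ring
  rw [key, e1, e2, e3, e4, e5, e6, v1, v2, v3, v4, hξ]
  simp

end Cfsg.Agent.Lib.helper78.QO
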