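import Mathlib

/-!
# S1237, piece B (helper37's split): Levi's theorem for finite 2-groups.

A finite 2-group in which every element commutes with all of its conjugates (a 2-Engel group) has
nilpotency class at most two.  Proof: for `N` the normal closure of an element, `N` is abelian, and
in the ring `End (Additive N)` the operators `D g = (conjugation by g) - 1` satisfy `D g ^ 2 = 0`.
This forces `D x * D y = - D y * D x` and `D ⁅x, y⁆ = 2 * D x * D y`, whence `⁅⁅x, y⁆, z⁆ ^ 3 = 1`.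
-/

set_option autoImplicit false
set_option linter.unusedSimpArgs false

namespace Cfsg.Agent.Lib.helper78.S1237

/-- The ring computation behind Levi's theorem. -/
theorem levi_ring {R : Type*} [Ring R] (X Y : R) (hX : X * X = 0) (hY : Y * Y = 0)
    (h1 : (X + Y + X * Y) * (X + Y + X * Y) = 0) (h2 : (Y + X + Y * X) * (Y + X + Y * X) = 0) :
    X * Y + Y * X = 0 ∧ (1 + X) * (1 + Y) * (1 - X) * (1 - Y) = 1 + (X * Y + X * Y) := by
  have hX' : ∀ a : R, X * (X * a) = 0 := fun a => by rw [← mul_assoc, hX, zero_mul]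
  have hY' : ∀ a : R, Y * (Y * a) = 0 := fun a => by rw [← mul_assoc, hY, zero_mul]
  have hu : (1 + Y) * (1 - Y) = 1 := by
    simp only [mul_sub, add_mul, one_mul, mul_one, hY]; abel
  have hv : (1 + X) * (1 - X) = 1 := by
    simp only [mul_sub, add_mul, one_mul, mul_one, hX]; abel
  have e1 : X * (Y * X) * (1 + Y) = 0 := by
    have h3 := congrArg (fun t => X * t) h1
    simp only [mul_zero] at h3
    rw [← h3]
    simp only [mul_add, add_mul, mul_assoc, hX, hX', hY, mul_zero, add_zero,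
      zero_add, mul_one]
  have hXYX : X * (Y * X) = 0 := by
    have h3 := congrArg (fun t => t * (1 - Y)) e1
    simp only [zero_mul] at h3
    rw [mul_assoc (X * (Y * X)), hu, mul_one] at h3
    exact h3
  have e2 : Y * (X * Y) * (1 + X) = 0 := by
    have h3 := congrArg (fun t => Y * t) h2
    simp only [mul_zero] at h3
    rw [← h3]
    simp only [mul_add, add_mul, mul_assoc, hX, hY, hY', mul_zero, add_zero,
      zero_add, mul_one]
  have hYXY : Y * (X * Y) = 0 := by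
    have h3 := congrArg (fun t => t * (1 - X)) e2
    simp only [zero_mul] at h3
    rw [mul_assoc (Y * (X * Y)), hv, mul_one] at h3
    exact h3
  have hXYX' : ∀ a : R, X * (Y * (X * a)) = 0 := fun a => by
    rw [← mul_assoc Y, ← mul_assoc X, hXYX, zero_mul]
  have hYXY' : ∀ a : R, Y * (X * (Y * a)) = 0 := fun a => by
    rw [← mul_assoc X, ← mul_assoc Y, hYXY, zero_mul]
  have hanti : X * Y + Y * X = 0 := by
    have h3 := h1
    simp only [mul_add, add_mul, mul_assoc, hX, hX', hY, hY', hXYX, hXYX', hYXY, hYXY', mul_zero,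
      zero_mul, add_zero, zero_add] at h3
    rw [add_comm]; exact h3
  refine ⟨hanti, ?_⟩
  have hYX : Y * X = - (X * Y) := eq_neg_of_add_eq_zero_right hanti
  have hYX' : ∀ a : R, Y * (X * a) = - (X * (Y * a)) := fun a => by
    rw [← mul_assoc, hYX, neg_mul, mul_assoc]
  simp only [mul_add, add_mul, mul_sub, sub_mul, mul_assoc, hX, hX', hY, hY', hXYX, hXYX', hYXY,
    hYXY', hYX, hYX', mul_zero, zero_mul, add_zero, zero_add, mul_one, one_mul, sub_zero,
    mul_neg, neg_mul, neg_zero, neg_neg]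
  abel

section Action

variable {T A : Type*} [Group T] [CommGroup A] (ρ : T →* MulAut A)

/-- The operator of `g` on the additive version of `A`. -/
def leviP (g : T) : AddMonoid.End (Additive A) := MonoidHom.toAdditive ((ρ g).toMonoidHom)

theorem leviP_apply (g : T) (a : A) :
    leviP ρ g (Additive.ofMul a) = Additive.ofMul (ρ g a) := rfl

theorem leviP_mul (g k : T) : leviP ρ (g * k) = leviP ρ g * leviP ρ k := by
  ext m
  induction m using Additive.rec with
  | _ a => simp [leviP_apply]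

theorem leviP_one : leviP ρ (1 : T) = 1 := by
  ext m
  induction m using Additive.rec with
  | _ a => simp [leviP_apply]

theorem leviD_apply (g : T) (a : A) :
    (leviP ρ g - 1) (Additive.ofMul a) = Additive.ofMul (ρ g a * a⁻¹) := by
  show leviP ρ g (Additive.ofMul a) - Additive.ofMul a = _
  rw [leviP_apply, ← ofMul_div, div_eq_mul_inv]

theorem leviMul_apply {M : Type*} [AddCommGroup M] (f g : AddMonoid.End M) (m : M) :
    (f * g) m = f (g m) := rfl

theorem leviAdd_apply {M : Type*} [AddCommGroup M] (f g : AddMonoid.End M) (m : M) :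
    (f + g) m = f m + g m := rfl

/-- Consequences of `(g - 1)^2 = 0` on an abelian group with an action. -/
theorem levi_action
    (hE : ∀ (g : T) (a : A), ρ g (ρ g a * a⁻¹) * (ρ g a * a⁻¹)⁻¹ = 1) (x y : T) (a : A) :
    ρ x (ρ y a * a⁻¹) * (ρ y a * a⁻¹)⁻¹ = (ρ y (ρ x a * a⁻¹) * (ρ x a * a⁻¹)⁻¹)⁻¹ ∧
    ρ (x * y * x⁻¹ * y⁻¹) a * a⁻¹ =
      (ρ x (ρ y a * a⁻¹) * (ρ y a * a⁻¹)⁻¹) * (ρ x (ρ y a * a⁻¹) * (ρ y a * a⁻¹)⁻¹) := by
  have hD : ∀ g : T, (leviP ρ g - 1) * (leviP ρ g - 1) = 0 := by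
    intro g
    ext m
    induction m using Additive.rec with
    | _ a =>
      rw [leviMul_apply, leviD_apply, leviD_apply, hE g a]
      rfl
  have hPD : ∀ g : T, leviP ρ g = 1 + (leviP ρ g - 1) := fun g => by abel
  have hmulD : ∀ g k : T, leviP ρ (g * k) - 1 =
      (leviP ρ g - 1) + (leviP ρ k - 1) + (leviP ρ g - 1) * (leviP ρ k - 1) := by
    intro g k
    rw [leviP_mul]
    simp only [sub_mul, mul_sub, one_mul, mul_one]
    abel
  have hinv : ∀ g : T, leviP ρ g⁻¹ = 1 - (leviP ρ g - 1) := by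
    intro g
    have h1 : leviP ρ g⁻¹ * leviP ρ g = 1 := by rw [← leviP_mul, inv_mul_cancel, leviP_one]
    have h2 : leviP ρ g * (1 - (leviP ρ g - 1)) = 1 := by
      have := hD g
      calc leviP ρ g * (1 - (leviP ρ g - 1))
          = 1 - (leviP ρ g - 1) * (leviP ρ g - 1) := by
            simp only [sub_mul, mul_sub, one_mul, mul_one]
            abel
        _ = 1 := by rw [this, sub_zero]
    calc leviP ρ g⁻¹ = leviP ρ g⁻¹ * (leviP ρ g * (1 - (leviP ρ g - 1))) := by rw [h2, mul_one]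
      _ = (leviP ρ g⁻¹ * leviP ρ g) * (1 - (leviP ρ g - 1)) := by rw [mul_assoc]
      _ = 1 - (leviP ρ g - 1) := by rw [h1, one_mul]
  set X := leviP ρ x - 1 with hXdef
  set Y := leviP ρ y - 1 with hYdef
  have h1 : (X + Y + X * Y) * (X + Y + X * Y) = 0 := by
    rw [← hmulD x y]; exact hD (x * y)
  have h2 : (Y + X + Y * X) * (Y + X + Y * X) = 0 := by
    rw [← hmulD y x]; exact hD (y * x)
  obtain ⟨hanti, hcomm⟩ := levi_ring X Y (hD x) (hD y) h1 h2
  constructor
  · -- anticommutativity, applied to `a`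
    have h3 : (X * Y) (Additive.ofMul a) = - ((Y * X) (Additive.ofMul a)) := by
      have h4 : X * Y = - (Y * X) := eq_neg_of_add_eq_zero_left hanti
      rw [h4]; rfl
    rw [leviMul_apply, leviMul_apply, hYdef, hXdef, leviD_apply, leviD_apply,
      leviD_apply, leviD_apply] at h3
    exact congrArg Additive.toMul h3
  · have h5 : leviP ρ (x * y * x⁻¹ * y⁻¹) - 1 = X * Y + X * Y := by
      rw [leviP_mul, leviP_mul, leviP_mul, hinv x, hinv y, hPD x, hPD y, ← hXdef, ← hYdef]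
      have h6 : (1 + X) * (1 + Y) * (1 - (1 + X - 1)) * (1 - (1 + Y - 1))
          = (1 + X) * (1 + Y) * (1 - X) * (1 - Y) := by
        congr 2 <;> abel
      rw [h6, hcomm]; abel
    have h7 : (leviP ρ (x * y * x⁻¹ * y⁻¹) - 1) (Additive.ofMul a) =
        (X * Y + X * Y) (Additive.ofMul a) := by rw [h5]
    rw [leviD_apply, leviAdd_apply, leviMul_apply, hYdef, hXdef, leviD_apply,
      leviD_apply] at h7
    exact congrArg Additive.toMul h7

end Action

/-- PIECE B (LEVI). Mathlib only. -/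
theorem class_two_of_two_engel {T : Type*} [Group T] [Finite T] (hT : IsPGroup 2 T)
    (h : ∀ x g : T, x * (g * x * g⁻¹) = g * x * g⁻¹ * x) (a b : T) :
    a * b * a⁻¹ * b⁻¹ ∈ Subgroup.center T := by
  classical
  -- conjugates of an element commute
  have hconj : ∀ w g k : T, (g * w * g⁻¹) * (k * w * k⁻¹) = (k * w * k⁻¹) * (g * w * g⁻¹) := by
    intro w g k
    have h1 := h (g * w * g⁻¹) (k * g⁻¹)
    have h2 : k * g⁻¹ * (g * w * g⁻¹) * (k * g⁻¹)⁻¹ = k * w * k⁻¹ := by group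
    rw [h2] at h1
    exact h1
  -- key: for every w and all x y, the two identities with a = w
  have key : ∀ w x y : T,
      x * (y * w * y⁻¹ * w⁻¹) * x⁻¹ * (y * w * y⁻¹ * w⁻¹)⁻¹ =
        (y * (x * w * x⁻¹ * w⁻¹) * y⁻¹ * (x * w * x⁻¹ * w⁻¹)⁻¹)⁻¹ ∧
      (x * y * x⁻¹ * y⁻¹) * w * (x * y * x⁻¹ * y⁻¹)⁻¹ * w⁻¹ =
        (x * (y * w * y⁻¹ * w⁻¹) * x⁻¹ * (y * w * y⁻¹ * w⁻¹)⁻¹) *
        (x * (y * w * y⁻¹ * w⁻¹) * x⁻¹ * (y * w * y⁻¹ * w⁻¹)⁻¹) := by
    intro w x y
    set N : Subgroup T := Subgroup.normalClosure {w} with hN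
    have hNn : N.Normal := Subgroup.normalClosure_normal
    have hwN : w ∈ N := Subgroup.subset_normalClosure (Set.mem_singleton w)
    have hNc : ∀ u ∈ N, ∀ v ∈ N, u * v = v * u := by
      have hS : ∀ u ∈ Group.conjugatesOfSet {w}, ∀ v ∈ Group.conjugatesOfSet {w}, u * v = v * u := by
        intro u hu v hv
        rw [Group.mem_conjugatesOfSet_iff] at hu hv
        obtain ⟨w1, hw1, hu⟩ := hu
        obtain ⟨w2, hw2, hv⟩ := hv
        rw [Set.mem_singleton_iff] at hw1 hw2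
        subst hw1; subst hw2
        obtain ⟨g, hg⟩ := isConj_iff.mp hu
        obtain ⟨k, hk⟩ := isConj_iff.mp hv
        rw [← hg, ← hk]
        exact hconj _ g k
      have h1 : N ≤ Subgroup.centralizer (Group.conjugatesOfSet {w}) := by
        rw [hN, Subgroup.normalClosure, Subgroup.closure_le]
        intro u hu
        rw [SetLike.mem_coe, Subgroup.mem_centralizer_iff]
        intro v hv
        exact hS v hv u hu
      have h2 : N ≤ Subgroup.centralizer (N : Set T) := by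
        rw [hN, Subgroup.normalClosure, Subgroup.closure_le]
        intro u hu
        rw [SetLike.mem_coe, Subgroup.mem_centralizer_iff]
        intro v hv
        have := h1 hv
        rw [Subgroup.mem_centralizer_iff] at this
        exact (this u hu).symm
      intro u hu v hv
      have := h2 hu
      rw [Subgroup.mem_centralizer_iff] at this
      exact (this v hv).symm
    let _ : CommGroup N :=
      { (inferInstance : Group N) with
        mul_comm := fun u v => Subtype.ext (hNc u u.2 v v.2) }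
    let ρ : T →* MulAut N := MulAut.conjNormal
    have hρ : ∀ (g : T) (u : N), ((ρ g u : N) : T) = g * u * g⁻¹ := fun g u => by
      simp [ρ]
    have hE : ∀ (g : T) (u : N), ρ g (ρ g u * u⁻¹) * (ρ g u * u⁻¹)⁻¹ = 1 := by
      intro g u
      apply Subtype.ext
      simp only [Subgroup.coe_mul, Subgroup.coe_inv, hρ, Subgroup.coe_one]
      -- g commutes with g u g⁻¹ u⁻¹
      have h1 := h g (u : T)
      have h2 : g * ((u : T) * g⁻¹ * (u : T)⁻¹) = (u : T) * g⁻¹ * (u : T)⁻¹ * g := by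
        have h3 : (u : T) * g⁻¹ * (u : T)⁻¹ = ((u : T) * g * (u : T)⁻¹)⁻¹ := by group
        rw [h3]
        have h4 : ((u : T) * g * (u : T)⁻¹)⁻¹ * g = g * ((u : T) * g * (u : T)⁻¹)⁻¹ := by
          rw [inv_mul_eq_iff_eq_mul, ← mul_assoc, ← h1, mul_assoc, mul_inv_cancel, mul_one]
        rw [h4]
      calc g * (g * (u : T) * g⁻¹ * (u : T)⁻¹) * g⁻¹ * (g * (u : T) * g⁻¹ * (u : T)⁻¹)⁻¹
          = g * (g * ((u : T) * g⁻¹ * (u : T)⁻¹)) * g⁻¹ * (g * ((u : T) * g⁻¹ * (u : T)⁻¹))⁻¹ := by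
            group
        _ = g * ((u : T) * g⁻¹ * (u : T)⁻¹ * g) * g⁻¹ * (g * ((u : T) * g⁻¹ * (u : T)⁻¹))⁻¹ := by
            rw [h2]
        _ = 1 := by group
    obtain ⟨k1, k2⟩ := levi_action ρ hE x y ⟨w, hwN⟩
    constructor
    · have := congrArg (Subtype.val : N → T) k1
      simpa only [Subgroup.coe_mul, Subgroup.coe_inv, hρ] using this
    · have := congrArg (Subtype.val : N → T) k2
      simpa only [Subgroup.coe_mul, Subgroup.coe_inv, hρ] using this
  -- the inverse rule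
  have hinvrule : ∀ x m : T, x * m⁻¹ * x⁻¹ * (m⁻¹)⁻¹ = (x * m * x⁻¹ * m⁻¹)⁻¹ := by
    intro x m
    have h1 := h m x
    have h2 : (x * m * x⁻¹)⁻¹ * m = m * (x * m * x⁻¹)⁻¹ := by
      rw [inv_mul_eq_iff_eq_mul, ← mul_assoc, ← h1, mul_assoc, mul_inv_cancel, mul_one]
    calc x * m⁻¹ * x⁻¹ * (m⁻¹)⁻¹ = (x * m * x⁻¹)⁻¹ * m := by group
      _ = m * (x * m * x⁻¹)⁻¹ := h2
      _ = (x * m * x⁻¹ * m⁻¹)⁻¹ := by group
  rw [Subgroup.mem_center_iff]
  intro z
  -- s = [a, [b, z]], t = [[a, b], z]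
  set s : T := a * (b * z * b⁻¹ * z⁻¹) * a⁻¹ * (b * z * b⁻¹ * z⁻¹)⁻¹ with hs
  have e1 : (a * b * a⁻¹ * b⁻¹) * z * (a * b * a⁻¹ * b⁻¹)⁻¹ * z⁻¹ = s * s := (key z a b).2
  -- [z, [a, b]] = s
  have e2 : z * (a * b * a⁻¹ * b⁻¹) * z⁻¹ * (a * b * a⁻¹ * b⁻¹)⁻¹ = s := by
    have h1 := (key b z a).1
    rw [h1]
    have h2 : z * b * z⁻¹ * b⁻¹ = (b * z * b⁻¹ * z⁻¹)⁻¹ := by group
    rw [h2, hinvrule a (b * z * b⁻¹ * z⁻¹), inv_inv]
  have e3 : (a * b * a⁻¹ * b⁻¹) * z * (a * b * a⁻¹ * b⁻¹)⁻¹ * z⁻¹ = s⁻¹ := by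
    rw [← e2]; group
  have hs3 : s ^ 3 = 1 := by
    have h1 : s * s = s⁻¹ := e1.symm.trans e3
    calc s ^ 3 = s * s * s := by rw [pow_succ, pow_two]
      _ = s⁻¹ * s := by rw [h1]
      _ = 1 := inv_mul_cancel s
  have hs1 : s = 1 := by
    obtain ⟨k, hk⟩ := (IsPGroup.iff_orderOf.mp hT) s
    have h1 : orderOf s ∣ 3 := orderOf_dvd_of_pow_eq_one hs3
    rw [hk] at h1
    have h2 : k = 0 := by
      by_contra hk0
      have h3 : 2 ∣ 2 ^ k := dvd_pow_self 2 hk0
      have h4 : 2 ∣ 3 := h3.trans h1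
      omega
    rw [h2, pow_zero] at hk
    exact orderOf_eq_one_iff.mp hk
  rw [hs1, inv_one] at e3
  -- [[a,b], z] = 1
  have h5 : (a * b * a⁻¹ * b⁻¹) * z = z * (a * b * a⁻¹ * b⁻¹) := by
    have h6 : (a * b * a⁻¹ * b⁻¹) * z * (a * b * a⁻¹ * b⁻¹)⁻¹ = z := by
      rw [← mul_inv_eq_one]; exact e3
    calc (a * b * a⁻¹ * b⁻¹) * z
        = ((a * b * a⁻¹ * b⁻¹) * z * (a * b * a⁻¹ * b⁻¹)⁻¹) * (a * b * a⁻¹ * b⁻¹) := by group
      _ = z * (a * b * a⁻¹ * b⁻¹) := by rw [h6]
  exact h5.symm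

end Cfsg.Agent.Lib.helper78.S1237
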