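import Mathlib
import Cfsg.Agent.S1237

/-!
# S1238 piece A4 (helper78): the case of two central involutions, from the landed S1237.
-/

set_option autoImplicit false

namespace Cfsg.Agent.Lib.helper78.S1238

open Cfsg

/-- The rank bound passes to a subgroup. -/
theorem a4_prank_subgroup {G : Type*} [Group G] (k : ℕ) (h2 : Cfsg.PRankLE 2 k G)
    (S : Subgroup G) : Cfsg.PRankLE 2 k ↥S := by
  intro A hA hexp
  have hcomm : IsMulCommutative (A.map S.subtype) := by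
    refine ⟨⟨fun a b => ?_⟩⟩
    obtain ⟨a', ha', hae⟩ := a.2
    obtain ⟨b', hb', hbe⟩ := b.2
    apply Subtype.ext
    have h := hA.is_comm.comm (⟨a', ha'⟩ : A) ⟨b', hb'⟩
    have h' : a' * b' = b' * a' := congrArg Subtype.val h
    show (a : G) * (b : G) = (b : G) * (a : G)
    rw [← hae, ← hbe]
    exact congrArg S.subtype h'
  have hexp' : ∀ a ∈ A.map S.subtype, a ^ 2 = 1 := by
    rintro a ⟨a', ha', rfl⟩
    have := hexp a' ha'
    rw [← map_pow, this, map_one]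
  have h := h2 (A.map S.subtype) hcomm hexp'
  rwa [Subgroup.card_map_of_injective S.subtype_injective] at h

/-- Two distinct central involutions of `S`: the rank of `S` is not at most `1`. -/
theorem a4_not_rank_one {T : Type*} [Group T] [Finite T] (a b : T)
    (hac : ∀ g : T, g * a = a * g) (hbc : ∀ g : T, g * b = b * g)
    (ha : orderOf a = 2) (hb : orderOf b = 2) (hne : a ≠ b) : ¬ Cfsg.PRankLE 2 1 T := by
  intro h
  have ha2 : a * a = 1 := by rw [← pow_two, ← ha, pow_orderOf_eq_one]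
  have hb2 : b * b = 1 := by rw [← pow_two, ← hb, pow_orderOf_eq_one]
  have ha1 : a ≠ 1 := by
    rintro rfl
    rw [orderOf_one] at ha
    omega
  have hb1 : b ≠ 1 := by
    rintro rfl
    rw [orderOf_one] at hb
    omega
  let A : Subgroup T :=
    { carrier := {x | (∀ g : T, g * x = x * g) ∧ x * x = 1}
      mul_mem' := by
        rintro x y ⟨hx, hx2⟩ ⟨hy, hy2⟩
        refine ⟨fun g => ?_, ?_⟩
        · rw [← mul_assoc, hx g, mul_assoc, hy g, mul_assoc]
        · calc x * y * (x * y) = x * (y * x) * y := by group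
            _ = x * (x * y) * y := by rw [hx y]
            _ = (x * x) * (y * y) := by group
            _ = 1 := by rw [hx2, hy2, one_mul]
      one_mem' := ⟨fun g => by rw [mul_one, one_mul], by rw [one_mul]⟩
      inv_mem' := by
        rintro x ⟨hx, hx2⟩
        have hinv : x⁻¹ = x := inv_eq_of_mul_eq_one_left hx2
        show (∀ g : T, g * x⁻¹ = x⁻¹ * g) ∧ x⁻¹ * x⁻¹ = 1
        rw [hinv]
        exact ⟨hx, hx2⟩ }
  have hcomm : IsMulCommutative A :=
    ⟨⟨fun x y => Subtype.ext (x.2.1 (y : T)).symm⟩⟩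
  have hexp : ∀ x ∈ A, x ^ 2 = 1 := fun x hx => by rw [pow_two]; exact hx.2
  have hle := h A hcomm hexp
  have hinj : Function.Injective (![⟨1, A.one_mem⟩, ⟨a, ⟨hac, ha2⟩⟩, ⟨b, ⟨hbc, hb2⟩⟩] : Fin 3 → A) := by
    intro i j hij
    fin_cases i <;> fin_cases j <;> simp_all [Subtype.ext_iff]
  have h3 := Nat.card_le_card_of_injective _ hinj
  rw [Nat.card_fin] at h3
  omega

/-- PIECE A4. Case I conclusion from A3 and `Cfsg.Agent.S1237.result`. -/
theorem case_central {G : Type*} [Group G] [Finite G] (h2 : Cfsg.PRankLE 2 2 G) (S : Sylow 2 G)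
    (z₁ z₂ : G) (h₁ : z₁ ∈ (S : Subgroup G)) (h₂ : z₂ ∈ (S : Subgroup G))
    (hc₁ : ∀ g ∈ (S : Subgroup G), g * z₁ = z₁ * g) (hc₂ : ∀ g ∈ (S : Subgroup G), g * z₂ = z₂ * g)
    (ho₁ : orderOf z₁ = 2) (ho₂ : orderOf z₂ = 2) (hne : z₁ ≠ z₂)
    (φ : MulAut ↥(S : Subgroup G))
    (hφ : ∀ s t : ↥(S : Subgroup G), orderOf s = 2 → orderOf t = 2 → ∃ k : ℕ, (φ ^ k) s = t)
    {F : Type*} [Field F] [Fintype F] (hF : Fintype.card F = 16) (P : Sylow 2 (Cfsg.PSU 3 F 4)) :
    (∃ m : ℕ, 2 ≤ m ∧ Nonempty ((S : Subgroup G) ≃* DihedralGroup m)) ∨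
    (∃ n : ℕ, 2 ≤ n ∧ Nonempty ((S : Subgroup G) ≃* Multiplicative (ZMod (2 ^ n) × ZMod (2 ^ n)))) ∨
    Nonempty ((S : Subgroup G) ≃* (P : Subgroup (Cfsg.PSU 3 F 4))) := by
  have hT : IsPGroup 2 ↥(S : Subgroup G) := S.isPGroup'
  have h2' : Cfsg.PRankLE 2 2 ↥(S : Subgroup G) := a4_prank_subgroup 2 h2 (S : Subgroup G)
  have h1' : ¬ Cfsg.PRankLE 2 1 ↥(S : Subgroup G) := by
    apply a4_not_rank_one (⟨z₁, h₁⟩ : ↥(S : Subgroup G)) ⟨z₂, h₂⟩
    · intro g; exact Subtype.ext (hc₁ g g.2)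
    · intro g; exact Subtype.ext (hc₂ g g.2)
    · rw [← Subgroup.orderOf_coe]; exact ho₁
    · rw [← Subgroup.orderOf_coe]; exact ho₂
    · intro h; exact hne (congrArg Subtype.val h)
  rcases Cfsg.Agent.S1237.result hT h2' h1' φ hφ hF P with ⟨n, hn, ⟨e⟩⟩ | h
  · rcases Nat.lt_or_ge n 2 with hlt | hge
    · left
      have hn1 : n = 1 := by omega
      subst hn1
      have hK : IsKleinFour (Multiplicative (ZMod (2 ^ 1) × ZMod (2 ^ 1))) :=
        (inferInstance : IsKleinFour (Multiplicative (ZMod 2 × ZMod 2)))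
      obtain ⟨e'⟩ := IsKleinFour.nonempty_mulEquiv
        (G₁ := Multiplicative (ZMod (2 ^ 1) × ZMod (2 ^ 1))) (G₂ := DihedralGroup 2)
      exact ⟨2, le_refl 2, ⟨e.trans e'⟩⟩
    · exact Or.inr (Or.inl ⟨n, hge, ⟨e⟩⟩)
  · exact Or.inr (Or.inr h)

end Cfsg.Agent.Lib.helper78.S1238
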