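import Mathlib

/-! S5238 block F, sub-split `s5238c` (architect helper45), piece C11 `final_count` (helper78). -/

namespace Cfsg.Agent.Lib.helper45.PearlC

/-- C11 FINAL COUNT (M; tools passed as hypotheses): `x, w ∈ E` not commuting, `|G : C_G(w)| ≤ p`
⟹ `|C_G(x)| = p ^ 2`. -/
theorem final_count {G : Type*} [Group G] [Finite G] (p : ℕ) [Fact p.Prime] (n : ℕ)
    (hG : Nat.card G = p ^ n) (E : Subgroup G) (hE : Nat.card ↥E = p ^ 3)
    (hC : Subgroup.centralizer (E : Set G) ≤ E)
    (hCp : Nat.card ↥(Subgroup.centralizer (E : Set G)) = p)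
    (hZ : Subgroup.center G = Subgroup.centralizer (E : Set G))
    (w x : G) (hwE : w ∈ E) (hxE : x ∈ E) (hxw : x * w ≠ w * x)
    (hidx : Nat.card G ≤ p * Nat.card ↥(Subgroup.centralizer ({w} : Set G)))
    (hstrict : ∀ A B : Subgroup G, A < B → p * Nat.card ↥A ≤ Nat.card ↥B)
    (hstep : ∀ A B C : Subgroup G, C ≤ B →
      Nat.card ↥(A ⊓ B) * Nat.card ↥C ≤ Nat.card ↥(A ⊓ C) * Nat.card ↥B)
    (hcg : ∀ (D : Subgroup G), D ≤ E → Nat.card ↥E ≤ p * Nat.card ↥D → ∀ e ∈ E, e ∉ D →
      ∀ g : G, (∀ d ∈ D, d * g = g * d) → e * g = g * e →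
        g ∈ Subgroup.centralizer (E : Set G)) :
    Nat.card ↥(Subgroup.centralizer ({x} : Set G)) = p ^ 2 := by
  classical
  have hZp : Nat.card ↥(Subgroup.center G) = p := by
    rw [hZ]
    exact hCp
  have hZE : Subgroup.center G ≤ E := by
    rw [hZ]
    exact hC
  have hwZ : w ∉ Subgroup.center G := fun h => hxw (Subgroup.mem_center_iff.mp h x)
  have hxZ : x ∉ Subgroup.center G := fun h => hxw ((Subgroup.mem_center_iff.mp h w).symm)
  have hDE : Subgroup.center G ⊔ Subgroup.zpowers w ≤ E :=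
    sup_le hZE ((Subgroup.zpowers_le).mpr hwE)
  have hZD : Subgroup.center G < Subgroup.center G ⊔ Subgroup.zpowers w := by
    refine lt_of_le_of_ne le_sup_left ?_
    intro h
    apply hwZ
    rw [h]
    exact (le_sup_right : Subgroup.zpowers w ≤ _) (Subgroup.mem_zpowers w)
  have h1 := hstrict _ _ hZD
  rw [hZp] at h1
  have hED : Nat.card ↥E ≤ p * Nat.card ↥(Subgroup.center G ⊔ Subgroup.zpowers w) := by
    rw [hE]
    calc p ^ 3 = p * (p * p) := by ring
      _ ≤ p * Nat.card ↥(Subgroup.center G ⊔ Subgroup.zpowers w) := Nat.mul_le_mul_left _ h1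
  have hDw : Subgroup.center G ⊔ Subgroup.zpowers w ≤ Subgroup.centralizer ({w} : Set G) := by
    refine sup_le (Subgroup.center_le_centralizer _) ?_
    rw [Subgroup.zpowers_le, Subgroup.mem_centralizer_iff]
    intro h hh
    rw [Set.mem_singleton_iff] at hh
    rw [hh]
  have hxD : x ∉ Subgroup.center G ⊔ Subgroup.zpowers w := by
    intro h
    have h2 := hDw h
    rw [Subgroup.mem_centralizer_iff] at h2
    exact hxw (h2 w rfl).symm
  have hinf : Subgroup.centralizer ({x} : Set G) ⊓ Subgroup.centralizer ({w} : Set G) ≤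
      Subgroup.centralizer (E : Set G) := by
    intro g hg
    obtain ⟨hgx, hgw⟩ := Subgroup.mem_inf.mp hg
    rw [Subgroup.mem_centralizer_iff] at hgx hgw
    have hgx' : x * g = g * x := hgx x rfl
    have hgw' : w * g = g * w := hgw w rfl
    refine hcg _ hDE hED x hxE hxD g ?_ hgx'
    have hDg : Subgroup.center G ⊔ Subgroup.zpowers w ≤ Subgroup.centralizer ({g} : Set G) := by
      refine sup_le (Subgroup.center_le_centralizer _) ?_
      rw [Subgroup.zpowers_le, Subgroup.mem_centralizer_iff]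
      intro h hh
      rw [Set.mem_singleton_iff] at hh
      rw [hh]
      exact hgw'.symm
    intro d hd
    have h3 := hDg hd
    rw [Subgroup.mem_centralizer_iff] at h3
    exact (h3 g rfl).symm
  have h2 : Nat.card ↥(Subgroup.centralizer ({x} : Set G) ⊓ Subgroup.centralizer ({w} : Set G)) ≤
      p := by
    rw [← hCp]
    exact Subgroup.card_le_of_le hinf
  have h3 := hstep (Subgroup.centralizer ({x} : Set G)) ⊤ (Subgroup.centralizer ({w} : Set G)) le_top
  rw [inf_top_eq, Subgroup.card_top] at h3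
  have hCwpos : 0 < Nat.card ↥(Subgroup.centralizer ({w} : Set G)) := Nat.card_pos
  have h4 : Nat.card ↥(Subgroup.centralizer ({x} : Set G)) *
      Nat.card ↥(Subgroup.centralizer ({w} : Set G)) ≤
      (p * p) * Nat.card ↥(Subgroup.centralizer ({w} : Set G)) := by
    calc _ ≤ Nat.card ↥(Subgroup.centralizer ({x} : Set G) ⊓ Subgroup.centralizer ({w} : Set G)) *
          Nat.card G := h3
      _ ≤ p * Nat.card G := Nat.mul_le_mul_right _ h2
      _ ≤ p * (p * Nat.card ↥(Subgroup.centralizer ({w} : Set G))) := Nat.mul_le_mul_left _ hidx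
      _ = (p * p) * Nat.card ↥(Subgroup.centralizer ({w} : Set G)) := by ring
  have h5 : Nat.card ↥(Subgroup.centralizer ({x} : Set G)) ≤ p * p :=
    Nat.le_of_mul_le_mul_right h4 hCwpos
  have hZx : Subgroup.center G < Subgroup.centralizer ({x} : Set G) := by
    refine lt_of_le_of_ne (Subgroup.center_le_centralizer _) ?_
    intro h
    apply hxZ
    rw [h, Subgroup.mem_centralizer_iff]
    intro y hy
    rw [Set.mem_singleton_iff] at hy
    rw [hy]
  have h6 := hstrict _ _ hZx
  rw [hZp] at h6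
  rw [pow_two]
  exact le_antisymm h5 h6

end Cfsg.Agent.Lib.helper45.PearlC
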