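import Mathlib

/-!
# S2279 split (architect helper45), piece GA: `abs_GA`

Abstract bookkeeping with the sets `Ω k`: from `c ^ 3 ∈ Ω 2`, the raising rule and the wrap rule one gets
`c ∈ Ω 0`, `c ^ (n - 1) ∈ Ω (n - 2)` and the rule `y ∈ Ω 0 → c ^ n * y ∈ Ω 0`.
-/

set_option autoImplicit false

namespace Cfsg.Agent.Lib.helper45.RU

variable {F : Type*} [Field F]

/-- GA -/
theorem abs_GA (n : ℕ) (hn : 4 ≤ n) (Ω : ℕ → Set F) (c : F) (m : ℕ) (hm : 0 < m)
    (hcm : c ^ m = 1) (h2 : c ^ 3 ∈ Ω 2)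
    (hraise : ∀ k, k + 3 ≤ n → ∀ y, y ∈ Ω k → c * y ∈ Ω (k + 1))
    (hwrap : ∀ i i', i + 2 ≤ n → i' + 2 ≤ n → n ≤ i + i' + 1 →
      ∀ x y, x ∈ Ω i → y ∈ Ω i' → x * y ∈ Ω (i + i' + 1 - n)) :
    c ∈ Ω 0 ∧ c ^ (n - 1) ∈ Ω (n - 2) ∧ ∀ y, y ∈ Ω 0 → c ^ n * y ∈ Ω 0 := by
  have hpow : c ^ (n - 1) * c = c ^ n := by
    rw [← pow_succ]; congr 1; omega
  -- `c ^ (k + 1) ∈ Ω k` for `2 ≤ k ≤ n - 2`
  have h1 : ∀ d, d + 4 ≤ n → c ^ (d + 3) ∈ Ω (d + 2) := by
    intro d
    induction d with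
    | zero => intro _; simpa using h2
    | succ d ih =>
      intro hd
      have h := hraise (d + 2) (by omega) _ (ih (by omega))
      have e : c * c ^ (d + 3) = c ^ (d + 1 + 3) := by ring
      rw [e] at h
      exact h
  have hA : c ^ (n - 1) ∈ Ω (n - 2) := by
    have h := h1 (n - 4) (by omega)
    have e1 : n - 4 + 3 = n - 1 := by omega
    have e2 : n - 4 + 2 = n - 2 := by omega
    rw [e1, e2] at h
    exact h
  have hB : ∀ y, y ∈ Ω 0 → c ^ n * y ∈ Ω 0 := by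
    intro y hy
    have hy1 : c * y ∈ Ω 1 := by
      have h := hraise 0 (by omega) y hy
      simpa using h
    have h := hwrap (n - 2) 1 (by omega) (by omega) (by omega) _ _ hA hy1
    have e1 : n - 2 + 1 + 1 - n = 0 := by omega
    rw [e1] at h
    have e2 : c ^ (n - 1) * (c * y) = c ^ n * y := by
      rw [← hpow]; ring
    rw [e2] at h
    exact h
  refine ⟨?_, hA, hB⟩
  have h3 : c ^ (n + 2) ∈ Ω 1 := by
    have h := hwrap (n - 2) 2 (by omega) (by omega) (by omega) _ _ hA h2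
    have e1 : n - 2 + 2 + 1 - n = 1 := by omega
    rw [e1] at h
    have e2 : c ^ (n - 1) * c ^ 3 = c ^ (n + 2) := by
      rw [← pow_add]; congr 1; omega
    rw [e2] at h
    exact h
  have h4 : c ^ (2 * n + 1) ∈ Ω 0 := by
    have h := hwrap (n - 2) 1 (by omega) (by omega) (by omega) _ _ hA h3
    have e1 : n - 2 + 1 + 1 - n = 0 := by omega
    rw [e1] at h
    have e2 : c ^ (n - 1) * c ^ (n + 2) = c ^ (2 * n + 1) := by
      rw [← pow_add]; congr 1; omega
    rw [e2] at h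
    exact h
  have h5 : ∀ j : ℕ, c ^ (n * j) * c ^ (2 * n + 1) ∈ Ω 0 := by
    intro j
    induction j with
    | zero => simpa using h4
    | succ j ih =>
      have h := hB _ ih
      have e : c ^ n * (c ^ (n * j) * c ^ (2 * n + 1)) = c ^ (n * (j + 1)) * c ^ (2 * n + 1) := by
        rw [← mul_assoc, ← pow_add]; congr 2; ring
      rw [e] at h
      exact h
  have h6 := h5 (2 * m - 2)
  have e : c ^ (n * (2 * m - 2)) * c ^ (2 * n + 1) = c := by
    rw [← pow_add]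
    have e' : n * (2 * m - 2) + (2 * n + 1) = m * (2 * n) + 1 := by
      have e'' : 2 * m - 2 + 2 = 2 * m := by omega
      calc n * (2 * m - 2) + (2 * n + 1) = n * (2 * m - 2 + 2) + 1 := by ring
        _ = n * (2 * m) + 1 := by rw [e'']
        _ = m * (2 * n) + 1 := by ring
    rw [e', pow_succ, pow_mul, hcm, one_pow, one_mul]
  rw [e] at h6
  exact h6

end Cfsg.Agent.Lib.helper45.RU
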