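import Mathlib
import Cfsg.Agent.Lib.helper61.SL25Pres

/-!
Concrete facts on `SL(2,5)`: unique involution, centre, and `|Aut(SL(2,5))| ≤ 120` (helper78).
-/

set_option autoImplicit false

namespace Cfsg.Agent.Lib.helper78.ZasF

open Cfsg.Agent.Lib.helper61.SL25

/-- `SL(2,5)`. -/
abbrev SL25 : Type := Matrix.SpecialLinearGroup (Fin 2) (ZMod 5)

set_option maxRecDepth 100000 in
theorem sl25_invol : ∀ g : SL25, g ^ 2 = 1 → g = 1 ∨ g = mZ := by
  decide

set_option maxRecDepth 100000 in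
theorem sl25_central : ∀ g : SL25, g * mX = mX * g → g * mY = mY * g → g = 1 ∨ g = mZ := by
  decide

set_option maxRecDepth 100000 in
theorem sl25_card_five : (Finset.univ.filter fun b : SL25 => b ^ 5 = 1 ∧ b ≠ 1).card = 24 := by
  decide

set_option maxRecDepth 100000 in
theorem sl25_card_T :
    (Finset.univ.filter fun a : SL25 => a ^ 3 = 1 ∧ a ≠ 1 ∧ (a * mY) ^ 2 = mZ).card = 5 := by
  decide

theorem mZ_eq : mZ = (mX * mY) ^ 2 := by decide

theorem mZ_ne_one : mZ ≠ 1 := by decide

theorem mY_ne_one : mY ≠ 1 := by decide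

theorem mX_ne_one : mX ≠ 1 := by decide

/-- An automorphism of `SL(2,5)` fixes the involution. -/
theorem aut_mZ (φ : MulAut SL25) : φ mZ = mZ := by
  have h1 : (φ mZ) ^ 2 = 1 := by rw [← map_pow, mZ2, map_one]
  rcases sl25_invol _ h1 with h | h
  · exfalso
    have : φ mZ = φ 1 := by rw [h, map_one]
    exact mZ_ne_one (φ.injective this)
  · exact h

/-- Automorphisms agreeing on `mX`, `mY` are equal. -/
theorem aut_ext (φ ψ : MulAut SL25) (hX : φ mX = ψ mX) (hY : φ mY = ψ mY) : φ = ψ := by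
  have hZ : φ mZ = ψ mZ := by rw [aut_mZ, aut_mZ]
  have h : φ.toMonoidHom.comp phi = ψ.toMonoidHom.comp phi := by
    apply PresentedGroup.ext
    intro i
    fin_cases i
    · show φ (phi x) = ψ (phi x)
      have : phi x = mX := homOf_x _ _ _ _ _ _ _ _ _
      rw [this, hX]
    · show φ (phi y) = ψ (phi y)
      have : phi y = mY := homOf_y _ _ _ _ _ _ _ _ _
      rw [this, hY]
    · show φ (phi z) = ψ (phi z)
      have : phi z = mZ := homOf_z _ _ _ _ _ _ _ _ _
      rw [this, hZ]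
  apply MulEquiv.ext
  intro g
  obtain ⟨w, rfl⟩ := phi_surjective g
  exact DFunLike.congr_fun h w

instance finite_mulAut_sl25 : Finite (MulAut SL25) :=
  Finite.of_injective (fun φ : MulAut SL25 => (φ : SL25 → SL25)) DFunLike.coe_injective

/-- `|Aut(SL(2,5))| ≤ 120`. -/
theorem card_mulAut_sl25_le : Nat.card (MulAut SL25) ≤ 120 := by
  classical
  have h1 := Subgroup.card_mul_index (MulAction.stabilizer (MulAut SL25) mY)
  have h2 : (MulAction.stabilizer (MulAut SL25) mY).index ≤ 24 := by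
    rw [MulAction.index_stabilizer]
    rw [← sl25_card_five, ← Set.ncard_coe_finset]
    apply Set.ncard_le_ncard _ (Finset.finite_toSet _)
    rintro b ⟨φ, rfl⟩
    simp only [Finset.coe_filter, Finset.mem_univ, true_and, Set.mem_ofPred_eq]
    show (φ mY) ^ 5 = 1 ∧ φ mY ≠ 1
    refine ⟨by rw [← map_pow, mY5, map_one], fun h => ?_⟩
    have : φ mY = φ 1 := by rw [h, map_one]
    exact mY_ne_one (φ.injective this)
  have h3 : Nat.card (MulAction.stabilizer (MulAut SL25) mY) ≤ 5 := by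
    have hc : Nat.card ↥(Finset.univ.filter fun a : SL25 =>
        a ^ 3 = 1 ∧ a ≠ 1 ∧ (a * mY) ^ 2 = mZ) = 5 := by
      rw [Nat.card_eq_fintype_card, Fintype.card_coe]
      exact sl25_card_T
    refine le_trans (Nat.card_le_card_of_injective
      (fun φ : MulAction.stabilizer (MulAut SL25) mY => (⟨φ.1 mX, ?_⟩ :
        ↥(Finset.univ.filter fun a : SL25 => a ^ 3 = 1 ∧ a ≠ 1 ∧ (a * mY) ^ 2 = mZ))) ?_) hc.le
    · have hφ : φ.1 mY = mY := φ.2
      simp only [Finset.mem_filter, Finset.mem_univ, true_and]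
      refine ⟨by rw [← map_pow, mX3, map_one], fun h => ?_, ?_⟩
      · have : φ.1 mX = φ.1 1 := by rw [h, map_one]
        exact mX_ne_one (φ.1.injective this)
      · have h5 : (φ.1 mX * mY) ^ 2 = φ.1 ((mX * mY) ^ 2) := by
          rw [map_pow, map_mul, hφ]
        rw [h5, ← mZ_eq, aut_mZ]
    · intro φ ψ h
      have hX : φ.1 mX = ψ.1 mX := congrArg Subtype.val h
      have hY : φ.1 mY = ψ.1 mY := by
        have h1 : φ.1 mY = mY := φ.2
        have h2 : ψ.1 mY = mY := ψ.2
        rw [h1, h2]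
      exact Subtype.ext (aut_ext _ _ hX hY)
  calc Nat.card (MulAut SL25)
      = Nat.card (MulAction.stabilizer (MulAut SL25) mY) *
          (MulAction.stabilizer (MulAut SL25) mY).index := h1.symm
    _ ≤ 5 * 24 := Nat.mul_le_mul h3 h2
    _ = 120 := by norm_num

/-- An element of order 4. -/
theorem exists_sq_mZ : ∃ i : SL25, i ^ 2 = mZ :=
  ⟨⟨!![0, -1; 1, 0], by decide⟩, by decide⟩

end Cfsg.Agent.Lib.helper78.ZasF
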