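import Mathlib
import Cfsg.Agent.Lib.helper62.FrobExtract

/-!
Bridge from the Zassenhaus statement on perfect groups of fixed-point-free automorphisms
(the statement of S0690, taken as a hypothesis `ZStmt`) to abstract groups with a fixed-point-free
module (`HasFpfMod`) (helper78).
-/

set_option autoImplicit false

namespace Cfsg.Agent.Lib.helper78.ZasF

open Cfsg.Agent.Lib.helper62.FrobExtract

universe u v

/-- The statement of S0690 at universe level `v`. -/
def ZStmt : Prop :=
  ∀ (K : Type v) [Group K] [Finite K] (G : Subgroup (MulAut K)),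
    (∀ φ ∈ G, φ ≠ 1 → ∀ k : K, φ k = k → k = 1) → commutator G = ⊤ → G ≠ ⊥ →
    Nonempty (G ≃* Matrix.SpecialLinearGroup (Fin 2) (ZMod 5))

theorem commutator_eq_top_of_surjective {N G : Type*} [Group N] [Group G] (f : N →* G)
    (hf : Function.Surjective f) (h : commutator N = ⊤) : commutator G = ⊤ := by
  rw [commutator_def] at h ⊢
  have h1 := Subgroup.map_commutator (⊤ : Subgroup N) ⊤ f
  rw [h, Subgroup.map_top_of_surjective f hf] at h1
  exact h1.symm

/-- A perfect nontrivial group with a fixed-point-free module is `SL(2,5)`, given Zassenhaus. -/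
theorem sl25_of_perfect (hZ : ZStmt.{v}) {N : Type u} [Group N] [Finite N]
    (h : HasFpfMod.{u, v} N) (hperf : commutator N = ⊤) (hnt : Nontrivial N) :
    Nonempty (N ≃* Matrix.SpecialLinearGroup (Fin 2) (ZMod 5)) := by
  obtain ⟨p, hp, V, iV, iA, hpN, hfin, hntV, hpV, hfpf⟩ := h
  let φ : N →* MulAut (Multiplicative V) :=
    (MulAutMultiplicative V).symm.toMonoidHom.comp (DistribMulAction.toAddAut N V)
  have hφ : ∀ (n : N) (x : V), φ n (Multiplicative.ofAdd x) = Multiplicative.ofAdd (n • x) := by
    intro n x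
    rfl
  have hinj : Function.Injective φ := by
    rw [injective_iff_map_eq_one]
    intro n hn
    by_contra hn1
    obtain ⟨x, hx⟩ := exists_ne (0 : V)
    have h1 := hφ n x
    rw [hn] at h1
    have h2 : n • x = x := (Multiplicative.ofAdd.injective h1).symm
    exact hx (hfpf n hn1 x h2)
  let e : N ≃* φ.range := MonoidHom.ofInjective hinj
  have hfinK : Finite (Multiplicative V) := Finite.of_equiv V Multiplicative.ofAdd
  have hfpfG : ∀ ψ ∈ φ.range, ψ ≠ 1 → ∀ k : Multiplicative V, ψ k = k → k = 1 := by
    rintro ψ ⟨n, rfl⟩ hψ k hk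
    have hn1 : n ≠ 1 := by
      rintro rfl
      exact hψ (map_one φ)
    have h1 := hφ n (Multiplicative.toAdd k)
    rw [ofAdd_toAdd, hk] at h1
    have h2 : n • Multiplicative.toAdd k = Multiplicative.toAdd k := by
      have := congrArg Multiplicative.toAdd h1
      simpa using this.symm
    have h3 := hfpf n hn1 _ h2
    exact Multiplicative.toAdd.injective h3
  have hperfG : commutator φ.range = ⊤ :=
    commutator_eq_top_of_surjective e.toMonoidHom e.surjective hperf
  have hneG : φ.range ≠ ⊥ := by
    intro hbot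
    obtain ⟨n, hn⟩ := exists_ne (1 : N)
    have h1 : φ n ∈ φ.range := ⟨n, rfl⟩
    rw [hbot, Subgroup.mem_bot] at h1
    exact hn (hinj (h1.trans (map_one φ).symm))
  obtain ⟨σ⟩ := hZ (Multiplicative V) φ.range hfpfG hperfG hneG
  exact ⟨e.trans σ⟩

end Cfsg.Agent.Lib.helper78.ZasF
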