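import Mathlib
import Cfsg.Agent.Lib.helper62.FrobExtract
import Cfsg.Agent.Lib.helper62.FrobSolvA
import Cfsg.Agent.Lib.helper62.LinRegQ8A
import Cfsg.Agent.Lib.helper78.ZasBridge
import Cfsg.Agent.Lib.helper78.ZasAut

/-!
Structure of non-solvable groups with a fixed-point-free module (non-solvable Frobenius
complements), given Zassenhaus' theorem `ZStmt` (helper78).
-/

set_option autoImplicit false

namespace Cfsg.Agent.Lib.helper78.ZasF

open Cfsg.Agent.Lib.helper62.FrobExtract Cfsg.Agent.Lib.helper62.LinRegQ8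
  Cfsg.Agent.Lib.helper62.FrobSolv Cfsg.Agent.Lib.helper61.SL25

universe u v

/-- A finite non-solvable group has a nontrivial perfect normal subgroup. -/
theorem exists_perfect_core {G : Type*} [Group G] [Finite G] (hns : ¬ Group.IsSolvable G) :
    ∃ S : Subgroup G, S.Normal ∧ ⁅S, S⁆ = S ∧ S ≠ ⊥ := by
  obtain ⟨n, hn⟩ := WellFounded.not_rel_apply_succ (r := (· < · : Subgroup G → Subgroup G → Prop))
    (derivedSeries G)
  have hle : derivedSeries G (n + 1) ≤ derivedSeries G n := derivedSeries_antitone G (Nat.le_succ n)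
  have heq : derivedSeries G (n + 1) = derivedSeries G n := eq_of_le_of_not_lt hle hn
  refine ⟨derivedSeries G n, derivedSeries_normal G n, ?_, ?_⟩
  · rw [← derivedSeries_succ]
    exact heq
  · intro hbot
    exact hns ((Group.isSolvable_def G).mpr ⟨n, hbot⟩)

/-- Structure of a non-solvable group with a fixed-point-free module. -/
theorem frob_struct (hZ : ZStmt.{v}) {G : Type u} [Group G] [Finite G]
    (hfpf : HasFpfMod.{u, v} G)
    (hrk : ∀ p : ℕ, p.Prime → ∀ x y : G, x * y = y * x → x ^ p = 1 → y ^ p = 1 → x ≠ 1 →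
      y ∈ Subgroup.zpowers x)
    (hns : ¬ Group.IsSolvable G) :
    ∃ G₀ : Subgroup G, G₀.Normal ∧ (G₀.index = 1 ∨ G₀.index = 2) ∧
      ∃ S M : Subgroup G, S ⊔ M = G₀ ∧ S ⊓ M = ⊥ ∧ (∀ s ∈ S, ∀ x ∈ M, s * x = x * s) ∧
        Nonempty (S ≃* Matrix.SpecialLinearGroup (Fin 2) (ZMod 5)) ∧
        (∀ (p : ℕ) [Fact p.Prime] (P : Sylow p M), IsCyclic P) ∧ (Nat.card M).Coprime 30 := by
  classical
  obtain ⟨S, hSn, hSperf, hSne⟩ := exists_perfect_core hns
  have hfpfS : HasFpfMod.{u, v} S := hfpf.comap S.subtype S.subtype_injective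
  have hperfS : commutator S = ⊤ := by
    apply Subgroup.map_injective S.subtype_injective
    rw [Subgroup.map_subtype_commutator, hSperf, ← MonoidHom.range_eq_map, Subgroup.range_subtype]
  have hntS : Nontrivial S := (Subgroup.nontrivial_iff_ne_bot S).mpr hSne
  obtain ⟨e⟩ := sl25_of_perfect hZ hfpfS hperfS hntS
  have hcardS : Nat.card S = 120 := by rw [Nat.card_congr e.toEquiv, card_SL25]
  -- the involution
  obtain ⟨z₀, hz₀⟩ : ∃ z₀ : S, e z₀ = mZ := e.surjective mZ
  obtain ⟨z, hzz₀⟩ : ∃ z : G, z = (z₀ : G) := ⟨_, rfl⟩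
  have hzS : z ∈ S := hzz₀ ▸ z₀.2
  have hz₀2 : z₀ ^ 2 = 1 := by
    apply e.injective
    rw [map_pow, hz₀, mZ2, map_one]
  have hz₀1 : z₀ ≠ 1 := by
    intro h
    rw [h, map_one] at hz₀
    exact mZ_ne_one hz₀.symm
  have hz2 : z ^ 2 = 1 := by
    rw [hzz₀, ← Subgroup.coe_pow, hz₀2, Subgroup.coe_one]
  have hz1 : z ≠ 1 := by
    intro h
    apply hz₀1
    apply Subtype.ext
    rw [← hzz₀, h, Subgroup.coe_one]
  have hinv : ∀ t : G, t ≠ 1 → t ^ 2 = 1 → t = z := fun t ht1 ht2 =>
    fpf_involution_unique hfpf t z ht1 hz1 ht2 hz2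
  have hzcen : ∀ g : G, g * z = z * g := by
    intro g
    have h1 : g * z * g⁻¹ = z := by
      apply hinv
      · intro h
        apply hz1
        have : z = g⁻¹ * (g * z * g⁻¹) * g := by group
        rw [this, h]; group
      · rw [conj_pow, hz2]; group
    calc g * z = (g * z * g⁻¹) * g := by group
      _ = z * g := by rw [h1]
  -- the centralizer
  obtain ⟨C, hCdef⟩ : ∃ C : Subgroup G, C = Subgroup.centralizer (S : Set G) := ⟨_, rfl⟩
  have hCn : C.Normal := by rw [hCdef]; infer_instance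
  have hCmem : ∀ c : G, c ∈ C ↔ ∀ s ∈ S, s * c = c * s := by
    intro c
    rw [hCdef, Subgroup.mem_centralizer_iff]
    rfl
  have hzC : z ∈ C := (hCmem z).mpr (fun s _ => hzcen s)
  -- `S ⊓ C ⊆ {1, z}`
  have hSC : ∀ x ∈ S, x ∈ C → x = 1 ∨ x = z := by
    intro x hxS hxC
    have hcen : ∀ h : SL25, e ⟨x, hxS⟩ * h = h * e ⟨x, hxS⟩ := by
      intro h
      obtain ⟨s, rfl⟩ := e.surjective h
      rw [← map_mul, ← map_mul]
      congr 1
      apply Subtype.ext
      exact ((hCmem x).mp hxC s s.2).symm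
    rcases sl25_central _ (hcen mX) (hcen mY) with h | h
    · left
      have : (⟨x, hxS⟩ : S) = 1 := e.injective (by rw [h, map_one])
      exact congrArg Subtype.val this
    · right
      have : (⟨x, hxS⟩ : S) = z₀ := e.injective (by rw [h, hz₀])
      rw [hzz₀]
      exact congrArg Subtype.val this
  -- no elements of order 4 in `C`
  obtain ⟨i₁, hi₁⟩ := exists_sq_mZ
  obtain ⟨i₀, hi₀⟩ : ∃ i₀ : S, e i₀ = i₁ := e.surjective i₁
  have hi2 : (i₀ : G) ^ 2 = z := by
    have : i₀ ^ 2 = z₀ := by
      apply e.injective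
      rw [map_pow, hi₀, hi₁, hz₀]
    rw [hzz₀, ← this, Subgroup.coe_pow]
  have hno4 : ∀ c ∈ C, c ^ 4 = 1 → c ^ 2 = 1 := by
    intro c hc h4
    by_contra h2
    have hc2 : c ^ 2 = z := hinv _ h2 (by rw [← pow_mul]; exact h4)
    have hci : (i₀ : G) * c = c * i₀ := (hCmem c).mp hc _ i₀.2
    have h3 : (c * (i₀ : G)⁻¹) ^ 2 = 1 := by
      have hcomm : Commute c ((i₀ : G)⁻¹) := (Commute.inv_right (show Commute c (i₀ : G) from hci.symm))
      rw [hcomm.mul_pow, hc2, inv_pow, hi2, mul_inv_cancel]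
    have hcS : c ∈ S := by
      by_cases h5 : c * (i₀ : G)⁻¹ = 1
      · have : c = i₀ := by
          rw [mul_inv_eq_one] at h5
          exact h5
        rw [this]
        exact i₀.2
      · have h6 := hinv _ h5 h3
        have : c = z * i₀ := by
          rw [← h6]; group
        rw [this]
        exact S.mul_mem hzS i₀.2
    rcases hSC c hcS hc with h | h
    · exact h2 (by rw [h, one_pow])
    · exact h2 (by rw [h, hz2])
  have hno2k : ∀ k : ℕ, ∀ c ∈ C, c ^ 2 ^ k = 1 → c ^ 2 = 1 := by
    intro k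
    induction k with
    | zero =>
      intro c _ h
      rw [pow_zero, pow_one] at h
      rw [h, one_pow]
    | succ k ih =>
      intro c hc h
      have h1 : (c ^ 2) ^ 2 ^ k = 1 := by
        rw [← pow_mul, ← pow_succ']
        exact h
      have h2 := ih (c ^ 2) (C.pow_mem hc 2) h1
      exact hno4 c hc (by rw [← h2, ← pow_mul])
  -- a Sylow 2-subgroup of `C` is central
  obtain ⟨T⟩ : Nonempty (Sylow 2 C) := inferInstance
  have hT : ∀ t : C, t ∈ T → (t : G) = 1 ∨ (t : G) = z := by
    intro t ht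
    obtain ⟨k, hk⟩ := (IsPGroup.iff_orderOf.mp T.isPGroup') ⟨t, ht⟩
    have h1 : (t : G) ^ 2 ^ k = 1 := by
      have h0 : orderOf (t : G) = 2 ^ k := by
        rw [← hk]
        rw [Subgroup.orderOf_coe, ← Subgroup.orderOf_coe (⟨t, ht⟩ : (T : Subgroup C))]
      rw [← h0]
      exact pow_orderOf_eq_one _
    have h2 := hno2k k _ t.2 h1
    by_cases h3 : (t : G) = 1
    · exact Or.inl h3
    · exact Or.inr (hinv _ h3 h2)
  have hTc : Subgroup.normalizer ((T : Subgroup C) : Set C) ≤ Subgroup.centralizer (T : Set C) := by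
    intro g _
    rw [Subgroup.mem_centralizer_iff]
    intro t ht
    apply Subtype.ext
    show (t : G) * g = g * t
    rcases hT t ht with h | h
    · rw [h, one_mul, mul_one]
    · rw [h]
      exact (hzcen g).symm
  have hcompl := MonoidHom.ker_transferSylow_isComplement' T hTc
  obtain ⟨M₀, hM₀⟩ : ∃ M₀ : Subgroup C, M₀ = (MonoidHom.transferSylow T hTc).ker := ⟨_, rfl⟩
  rw [← hM₀] at hcompl
  have hoddM₀ : ¬ 2 ∣ Nat.card M₀ := by
    rw [← hcompl.index_eq_card]
    exact T.not_dvd_index
  obtain ⟨M, hM⟩ : ∃ M : Subgroup G, M = M₀.map C.subtype := ⟨_, rfl⟩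
  have hcardM : Nat.card M = Nat.card M₀ := by
    rw [hM]
    exact Subgroup.card_map_of_injective C.subtype_injective
  have hoddM : ¬ 2 ∣ Nat.card M := by rw [hcardM]; exact hoddM₀
  have hMC : M ≤ C := by
    rw [hM]
    rintro x ⟨y, -, rfl⟩
    exact y.2
  have hSM : S ⊓ M = ⊥ := by
    rw [eq_bot_iff]
    intro x hx
    rw [Subgroup.mem_inf] at hx
    rw [Subgroup.mem_bot]
    rcases hSC x hx.1 (hMC hx.2) with h | h
    · exact h
    · exfalso
      apply hoddM
      have h1 : orderOf (⟨x, hx.2⟩ : M) = 2 := by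
        rw [← Subgroup.orderOf_coe]
        show orderOf x = 2
        rw [h]
        exact orderOf_eq_prime hz2 hz1
      rw [← h1]
      exact orderOf_dvd_natCard _
  have hcomm : ∀ s ∈ S, ∀ x ∈ M, s * x = x * s := fun s hs x hx => (hCmem x).mp (hMC hx) s hs
  have hsup : S ⊔ M = S ⊔ C := by
    apply le_antisymm (sup_le_sup_left hMC S)
    apply sup_le le_sup_left
    intro c hc
    obtain ⟨⟨m, t⟩, hmt, -⟩ := (Subgroup.isComplement'_def.mp hcompl).existsUnique ⟨c, hc⟩
    have hc' : c = (m : C) * (t : C) := by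
      have := congrArg Subtype.val hmt
      exact this.symm
    rw [hc']
    apply Subgroup.mul_mem
    · apply Subgroup.mem_sup_right
      rw [hM]
      exact Subgroup.mem_map_of_mem _ m.2
    · apply Subgroup.mem_sup_left
      rcases hT t.1 t.2 with h | h
      · rw [h]; exact S.one_mem
      · rw [h]; exact hzS
  -- Sylow subgroups of `M`
  have hsyl : ∀ (p : ℕ) [Fact p.Prime] (P : Sylow p M), IsCyclic P := by
    intro p _ P
    have hfpfP : HasFpfMod.{u, v} (P : Subgroup M) :=
      hfpf.comap (M.subtype.comp (P : Subgroup M).subtype)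
        ((Subgroup.subtype_injective _).comp (Subgroup.subtype_injective _))
    rcases fpf_pgroup_cyclic_or_quat hfpfP p P.isPGroup' with hcyc | ⟨-, n, ⟨eQ⟩⟩
    · exact hcyc
    · exfalso
      apply hoddM
      have h1 : Nat.card (P : Subgroup M) = 4 * 2 ^ n := by
        have : NeZero (2 ^ n) := ⟨by positivity⟩
        rw [Nat.card_congr eQ.toEquiv, Nat.card_eq_fintype_card, QuaternionGroup.card]
      have h2 : Nat.card (P : Subgroup M) ∣ Nat.card M := Subgroup.card_subgroup_dvd_card _
      rw [h1] at h2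
      exact (Dvd.intro _ (by ring : 2 * (2 * 2 ^ n) = 4 * 2 ^ n)).trans h2
  -- coprimality
  have hq : ∀ q : ℕ, q.Prime → q ∣ 120 → q ≠ 2 → ¬ q ∣ Nat.card M := by
    intro q hqp hq120 _ hqM
    have : Fact q.Prime := ⟨hqp⟩
    obtain ⟨m, hm⟩ := exists_prime_orderOf_dvd_card' q hqM
    obtain ⟨s, hs⟩ := exists_prime_orderOf_dvd_card' (G := S) q (by rw [hcardS]; exact hq120)
    have hs1 : (s : G) ≠ 1 := by
      intro h
      have : s = 1 := Subtype.ext h
      rw [this, orderOf_one] at hs
      exact hqp.one_lt.ne hs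
    have hsq : (s : G) ^ q = 1 := by
      rw [← Subgroup.coe_pow, ← hs, pow_orderOf_eq_one, Subgroup.coe_one]
    have hmq : (m : G) ^ q = 1 := by
      rw [← Subgroup.coe_pow, ← hm, pow_orderOf_eq_one, Subgroup.coe_one]
    have h1 := hrk q hqp (s : G) (m : G) (hcomm _ s.2 _ m.2) hsq hmq hs1
    have h2 : (m : G) ∈ S := by
      obtain ⟨k, hk⟩ := Subgroup.mem_zpowers_iff.mp h1
      rw [← hk]
      exact S.zpow_mem s.2 k
    have h3 : (m : G) ∈ S ⊓ M := Subgroup.mem_inf.mpr ⟨h2, m.2⟩
    rw [hSM, Subgroup.mem_bot] at h3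
    have : m = 1 := Subtype.ext h3
    rw [this, orderOf_one] at hm
    exact hqp.one_lt.ne hm
  have hcop : (Nat.card M).Coprime 30 := by
    have h2 : (Nat.card M).Coprime 2 :=
      ((Nat.Prime.coprime_iff_not_dvd Nat.prime_two).mpr hoddM).symm
    have h3 : (Nat.card M).Coprime 3 :=
      ((Nat.Prime.coprime_iff_not_dvd Nat.prime_three).mpr
        (hq 3 Nat.prime_three (by norm_num) (by norm_num))).symm
    have h5 : (Nat.card M).Coprime 5 :=
      ((Nat.Prime.coprime_iff_not_dvd Nat.prime_five).mpr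
        (hq 5 Nat.prime_five (by norm_num) (by norm_num))).symm
    have : (Nat.card M).Coprime (2 * 3 * 5) := (h2.mul_right h3).mul_right h5
    exact this
  -- the index
  have hidx : (S ⊔ C).index = 1 ∨ (S ⊔ C).index = 2 := by
    let f : G →* MulAut S := MulAut.conjNormal
    have hker : f.ker = C := by
      ext g
      rw [MonoidHom.mem_ker, hCmem]
      constructor
      · intro hg s hs
        have h1 := DFunLike.congr_fun hg ⟨s, hs⟩
        have h2 : g * s * g⁻¹ = s := by
          have := congrArg Subtype.val h1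
          rw [MulAut.conjNormal_apply] at this
          exact this
        calc s * g = (g * s * g⁻¹) * g := by rw [h2]
          _ = g * s := by group
      · intro hg
        apply MulEquiv.ext
        intro s
        apply Subtype.ext
        rw [MulAut.conjNormal_apply]
        show g * s * g⁻¹ = s
        have := hg s s.2
        rw [← this]; group
    have hfinA : Finite (MulAut S) :=
      Finite.of_injective (fun φ : MulAut S => (φ : S → S)) DFunLike.coe_injective
    have hCidx : C.index ≤ 120 := by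
      rw [← hker, Subgroup.index_ker]
      calc Nat.card f.range ≤ Nat.card (MulAut S) := Subgroup.card_le_card_group _
        _ = Nat.card (MulAut SL25) := Nat.card_congr (MulAut.congr e).toEquiv
        _ ≤ 120 := card_mulAut_sl25_le
    have h1 : C.relIndex (S ⊔ C) * (S ⊔ C).index = C.index :=
      Subgroup.relIndex_mul_index le_sup_right
    have h2 : C.relIndex (S ⊔ C) = C.relIndex S := Subgroup.relIndex_sup_right S C
    have h3 : Nat.card (C.subgroupOf S) * C.relIndex S = 120 := by
      rw [← hcardS]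
      exact Subgroup.card_mul_index (C.subgroupOf S)
    have h4 : Nat.card (C.subgroupOf S) ≤ 2 := by
      have hsub : ((C.subgroupOf S : Subgroup S) : Set S) ⊆ {1, z₀} := by
        intro x hx
        have hxC : (x : G) ∈ C := Subgroup.mem_subgroupOf.mp hx
        rcases hSC x x.2 hxC with h | h
        · left
          exact Subtype.ext h
        · right
          exact Subtype.ext (h.trans hzz₀)
      calc Nat.card (C.subgroupOf S)
          = ((C.subgroupOf S : Subgroup S) : Set S).ncard := Nat.card_coe_set_eq _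
        _ ≤ ({1, z₀} : Set S).ncard := Set.ncard_le_ncard hsub (Set.toFinite _)
        _ ≤ ({z₀} : Set S).ncard + 1 := Set.ncard_insert_le _ _
        _ = 2 := by rw [Set.ncard_singleton]
    have hpos : (S ⊔ C).index ≠ 0 := Subgroup.index_ne_zero_of_finite
    rw [h2] at h1
    have hr : 60 ≤ C.relIndex S := by nlinarith
    have hle : (S ⊔ C).index ≤ 2 := by nlinarith
    omega
  refine ⟨S ⊔ C, inferInstance, hidx, S, M, hsup, hSM, hcomm, ⟨e⟩, hsyl, hcop⟩

end Cfsg.Agent.Lib.helper78.ZasF
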