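import Mathlib

/-!
# S0892 split (architect helper70), piece O3: `odd_invol_pow`

Products of lifted involutions in a central extension with kernel of odd order.
-/

set_option autoImplicit false

namespace Cfsg.Agent.Lib.helper70.SM

universe u

/-- An element of the (odd order) kernel whose square is trivial is trivial. -/
theorem helper78_sm_odd_sq_eq_one {Γ : Type u} [Group Γ] [Finite Γ] {P : Type*} [Group P]
    (π : Γ →* P) (hodd : Odd (Nat.card π.ker)) (b : Γ) (hb : b ∈ π.ker) (hb2 : b ^ 2 = 1) :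
    b = 1 := by
  have h1 : orderOf b ∣ 2 := orderOf_dvd_of_pow_eq_one hb2
  have h2 : orderOf b ∣ Nat.card π.ker := Subgroup.orderOf_dvd_natCard π.ker hb
  have h3 : orderOf b ∣ Nat.gcd 2 (Nat.card π.ker) := Nat.dvd_gcd h1 h2
  have h4 : Nat.gcd 2 (Nat.card π.ker) = 1 := Nat.coprime_two_left.mpr hodd
  rw [h4] at h3
  exact orderOf_eq_one_iff.mp (Nat.dvd_one.mp h3)

/-- O3 (Lemma R: products of involutions, odd kernel). -/
theorem odd_invol_pow {Γ : Type u} [Group Γ] [Finite Γ] {P : Type*} [Group P] (π : Γ →* P)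
    (hc : π.ker ≤ Subgroup.center Γ) (hodd : Odd (Nat.card π.ker))
    (u v : Γ) (hu : u ^ 2 = 1) (hv : v ^ 2 = 1) (m : ℕ) (h : (π u * π v) ^ m = 1) :
    (u * v) ^ m = 1 := by
  have hbker : (u * v) ^ m ∈ π.ker := by
    rw [MonoidHom.mem_ker, map_pow, map_mul]; exact h
  have hbc := hc hbker
  have huu : u * u = 1 := by rw [← pow_two]; exact hu
  have hvv : v * v = 1 := by rw [← pow_two]; exact hv
  have huinv : u⁻¹ = u := inv_eq_of_mul_eq_one_left huu
  have hvinv : v⁻¹ = v := inv_eq_of_mul_eq_one_left hvv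
  have hconj : u * (u * v) ^ m * u⁻¹ = ((u * v) ^ m)⁻¹ := by
    rw [← conj_pow, ← inv_pow]
    congr 1
    rw [mul_inv_rev, huinv, hvinv, ← mul_assoc, huu, one_mul]
  have hcomm : u * (u * v) ^ m * u⁻¹ = (u * v) ^ m := by
    rw [Subgroup.mem_center_iff] at hbc
    rw [hbc u, mul_inv_cancel_right]
  have hbb : (u * v) ^ m = ((u * v) ^ m)⁻¹ := hcomm.symm.trans hconj
  have hb2 : ((u * v) ^ m) ^ 2 = 1 := by
    calc ((u * v) ^ m) ^ 2 = (u * v) ^ m * (u * v) ^ m := pow_two _
      _ = ((u * v) ^ m)⁻¹ * (u * v) ^ m := by rw [← hbb]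
      _ = 1 := inv_mul_cancel _
  exact helper78_sm_odd_sq_eq_one π hodd _ hbker hb2

end Cfsg.Agent.Lib.helper70.SM
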