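import Cfsg.Agent.Lib.helper78.SM_O3
import Mathlib

/-!
# S0892 split (architect helper70), piece O4: `odd_a4`

The `A₄` relation `(a b)³ = 1` lifts along a central extension with kernel of odd order.
-/

set_option autoImplicit false

namespace Cfsg.Agent.Lib.helper70.SM

universe u

/-- Word lemma: in a group with `a³ = b² = (a b)³ = 1` the involutions `b` and `a b a⁻¹`
commute (local copy of the word lemma, under a prefixed name). -/
theorem helper78_sm_a4_comm {G : Type*} [Group G] (a b : G) (ha : a ^ 3 = 1) (hb : b ^ 2 = 1)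
    (hab : (a * b) ^ 3 = 1) : b * (a * b * a⁻¹) = (a * b * a⁻¹) * b := by
  have haa : a * a = a⁻¹ := by
    have h : a * a * a = 1 := by rw [← ha, pow_succ, pow_two]
    exact eq_inv_of_mul_eq_one_left h
  have haa' : a⁻¹ * a⁻¹ = a := by
    rw [← mul_inv_rev, haa, inv_inv]
  have hbinv : b⁻¹ = b := by
    have h : b * b = 1 := by rw [← pow_two]; exact hb
    exact inv_eq_of_mul_eq_one_left h
  have h3 : a * b * (a * b) * (a * b) = 1 := by rw [← hab, pow_succ, pow_two]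
  have e1 : b * a * b = a⁻¹ * b * a⁻¹ := by
    calc b * a * b = a⁻¹ * (a * b * (a * b) * (a * b)) * (b⁻¹ * a⁻¹) := by group
      _ = a⁻¹ * b⁻¹ * a⁻¹ := by rw [h3]; group
      _ = a⁻¹ * b * a⁻¹ := by rw [hbinv]
  have e2 : a * b * a = b * a⁻¹ * b := by
    calc a * b * a = a * (b * a * b) * a * (a⁻¹ * b⁻¹) := by group
      _ = a * (a⁻¹ * b * a⁻¹) * a * (a⁻¹ * b⁻¹) := by rw [e1]
      _ = b * a⁻¹ * b⁻¹ := by group
      _ = b * a⁻¹ * b := by rw [hbinv]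
  calc b * (a * b * a⁻¹) = (b * a * b) * a⁻¹ := by group
    _ = a⁻¹ * b * a⁻¹ * a⁻¹ := by rw [e1]
    _ = a⁻¹ * b * (a⁻¹ * a⁻¹) := by group
    _ = a⁻¹ * b * a := by rw [haa']
    _ = (a * a) * b * a := by rw [haa]
    _ = a * (a * b * a) := by group
    _ = a * (b * a⁻¹ * b) := by rw [e2]
    _ = (a * b * a⁻¹) * b := by group

/-- O4 (the `A₄` relation, odd kernel). -/
theorem odd_a4 {Γ : Type u} [Group Γ] [Finite Γ] {P : Type*} [Group P] (π : Γ →* P)
    (hc : π.ker ≤ Subgroup.center Γ) (hodd : Odd (Nat.card π.ker))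
    (a b : Γ) (ha : a ^ 3 = 1) (hb : b ^ 2 = 1) (hab : (π a * π b) ^ 3 = 1) :
    (a * b) ^ 3 = 1 := by
  have haa : a * a = a⁻¹ := by
    have h : a * a * a = 1 := by rw [← ha, pow_succ, pow_two]
    exact eq_inv_of_mul_eq_one_left h
  have haa' : a⁻¹ * a⁻¹ = a := by
    rw [← mul_inv_rev, haa, inv_inv]
  have hbb : b * b = 1 := by rw [← pow_two]; exact hb
  have hbinv : b⁻¹ = b := inv_eq_of_mul_eq_one_left hbb
  -- the three involutions
  have hvv : (a * b * a⁻¹) * (a * b * a⁻¹) = 1 := by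
    calc (a * b * a⁻¹) * (a * b * a⁻¹) = a * (b * b) * a⁻¹ := by group
      _ = 1 := by rw [hbb]; group
  have hww : (a⁻¹ * b * a) * (a⁻¹ * b * a) = 1 := by
    calc (a⁻¹ * b * a) * (a⁻¹ * b * a) = a⁻¹ * (b * b) * a := by group
      _ = 1 := by rw [hbb]; group
  -- (a b)^3 = v w u
  have key : (a * b) ^ 3 = (a * b * a⁻¹) * (a⁻¹ * b * a) * b := by
    calc (a * b) ^ 3 = a * b * (a * b) * (a * b) := by rw [pow_succ, pow_two]
      _ = a * b * (a⁻¹ * a⁻¹) * b * a * b := by rw [haa']; group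
      _ = (a * b * a⁻¹) * (a⁻¹ * b * a) * b := by group
  -- images
  have hA : (π a) ^ 3 = 1 := by rw [← map_pow, ha, map_one]
  have hB : (π b) ^ 2 = 1 := by rw [← map_pow, hb, map_one]
  have hP := helper78_sm_a4_comm (π a) (π b) hA hB hab
  have hBB : π b * π b = 1 := by rw [← pow_two]; exact hB
  have hCC : (π a * π b * (π a)⁻¹) * (π a * π b * (π a)⁻¹) = 1 := by
    calc (π a * π b * (π a)⁻¹) * (π a * π b * (π a)⁻¹) = π a * (π b * π b) * (π a)⁻¹ := by group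
      _ = 1 := by rw [hBB]; group
  have hm : (π b * π (a * b * a⁻¹)) ^ 2 = 1 := by
    rw [map_mul, map_mul, map_inv, pow_two]
    calc π b * (π a * π b * (π a)⁻¹) * (π b * (π a * π b * (π a)⁻¹))
        = π b * ((π a * π b * (π a)⁻¹) * π b) * (π a * π b * (π a)⁻¹) := by group
      _ = π b * (π b * (π a * π b * (π a)⁻¹)) * (π a * π b * (π a)⁻¹) := by rw [← hP]
      _ = (π b * π b) * ((π a * π b * (π a)⁻¹) * (π a * π b * (π a)⁻¹)) := by group
      _ = 1 := by rw [hBB, hCC, one_mul]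
  have hv2 : (a * b * a⁻¹) ^ 2 = 1 := by rw [pow_two]; exact hvv
  have huv2 := odd_invol_pow π hc hodd b (a * b * a⁻¹) hb hv2 2 hm
  have hvinv : (a * b * a⁻¹)⁻¹ = a * b * a⁻¹ := inv_eq_of_mul_eq_one_left hvv
  -- u v = v u
  have huv : b * (a * b * a⁻¹) = (a * b * a⁻¹) * b := by
    have h1 : b * (a * b * a⁻¹) * (b * (a * b * a⁻¹)) = 1 := by rw [← pow_two]; exact huv2
    calc b * (a * b * a⁻¹) = (b * (a * b * a⁻¹) * (b * (a * b * a⁻¹))) * ((a * b * a⁻¹)⁻¹ * b⁻¹) := by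
          group
      _ = (a * b * a⁻¹)⁻¹ * b⁻¹ := by rw [h1, one_mul]
      _ = (a * b * a⁻¹) * b := by rw [hvinv, hbinv]
  -- v w = w v (conjugate by a)
  have hvw : (a * b * a⁻¹) * (a⁻¹ * b * a) = (a⁻¹ * b * a) * (a * b * a⁻¹) := by
    calc (a * b * a⁻¹) * (a⁻¹ * b * a) = a * b * (a⁻¹ * a⁻¹) * b * a := by group
      _ = a * b * a * b * (a⁻¹ * a⁻¹) := by rw [haa']
      _ = a * (b * (a * b * a⁻¹)) * a⁻¹ := by group
      _ = a * ((a * b * a⁻¹) * b) * a⁻¹ := by rw [huv]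
      _ = (a * a) * b * a⁻¹ * b * a⁻¹ := by group
      _ = a⁻¹ * b * (a * a) * b * a⁻¹ := by rw [haa]
      _ = (a⁻¹ * b * a) * (a * b * a⁻¹) := by group
  -- w u = u w (conjugate by a again)
  have hwu : (a⁻¹ * b * a) * b = b * (a⁻¹ * b * a) := by
    calc (a⁻¹ * b * a) * b = a⁻¹ * (b * (a * b * a⁻¹)) * a := by group
      _ = a⁻¹ * ((a * b * a⁻¹) * b) * a := by rw [huv]
      _ = b * (a⁻¹ * b * a) := by group
  -- β² = 1
  have hβ2 : ((a * b) ^ 3) ^ 2 = 1 := by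
    rw [key, pow_two]
    calc (a * b * a⁻¹) * (a⁻¹ * b * a) * b * ((a * b * a⁻¹) * (a⁻¹ * b * a) * b)
        = (a * b * a⁻¹) * (a⁻¹ * b * a) * (b * (a * b * a⁻¹)) * (a⁻¹ * b * a) * b := by group
      _ = (a * b * a⁻¹) * (a⁻¹ * b * a) * ((a * b * a⁻¹) * b) * (a⁻¹ * b * a) * b := by rw [huv]
      _ = (a * b * a⁻¹) * ((a⁻¹ * b * a) * (a * b * a⁻¹)) * (b * (a⁻¹ * b * a)) * b := by group
      _ = (a * b * a⁻¹) * ((a * b * a⁻¹) * (a⁻¹ * b * a)) * ((a⁻¹ * b * a) * b) * b := by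
          rw [← hvw, ← hwu]
      _ = ((a * b * a⁻¹) * (a * b * a⁻¹)) * ((a⁻¹ * b * a) * (a⁻¹ * b * a)) * (b * b) := by group
      _ = 1 := by rw [hvv, hww, hbb]; group
  have hβker : (a * b) ^ 3 ∈ π.ker := by
    rw [MonoidHom.mem_ker, map_pow, map_mul]; exact hab
  exact helper78_sm_odd_sq_eq_one π hodd _ hβker hβ2

end Cfsg.Agent.Lib.helper70.SM
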