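import Mathlib
import Cfsg.Agent.Lib.helper74.QODefs

/-!
# S1935 split, piece D (helper78): a conjugate `x` of an element of `A` that does not normalize
`A`, all of whose `⟨x⟩`-conjugates of elements of `A` normalize `A`.
-/

set_option autoImplicit false

namespace Cfsg.Agent.Lib.helper78.QO

open Cfsg.Agent.Lib.helper74.QO

/-- In a finite `p`-group `T`, a subgroup whose normal closure is `T` is `T`. -/
theorem helper78_pclosure {Γ : Type*} [Group Γ] (p : ℕ) [Fact p.Prime] (T A : Subgroup Γ)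
    [Finite T] (hT : IsPGroup p T) (hAT : A ≤ T)
    (hcl : T ≤ Subgroup.closure {x | ∃ t ∈ T, ∃ a ∈ A, x = t * a * t⁻¹}) : A = T := by
  by_contra hne
  have hA' : A.subgroupOf T ≠ ⊤ := by
    intro h
    apply hne
    exact le_antisymm hAT ((Subgroup.subgroupOf_eq_top).1 h)
  obtain ⟨M, hM, hAM⟩ := (eq_top_or_exists_le_coatom (A.subgroupOf T)).resolve_left hA'
  have hnil : Group.IsNilpotent T := hT.isNilpotent
  have hMn : M.Normal := Subgroup.NormalizerCondition.normal_of_coatom M normalizerCondition_of_isNilpotent hM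
  have hle : Subgroup.closure {x | ∃ t ∈ T, ∃ a ∈ A, x = t * a * t⁻¹} ≤ M.map T.subtype := by
    rw [Subgroup.closure_le]
    rintro _ ⟨t, ht, a, ha, rfl⟩
    refine ⟨⟨t, ht⟩ * ⟨a, hAT ha⟩ * ⟨t, ht⟩⁻¹, ?_, rfl⟩
    exact hMn.conj_mem _ (hAM (Subgroup.mem_subgroupOf.2 ha)) _
  have hMtop : M = ⊤ := by
    rw [eq_top_iff]
    intro x _
    obtain ⟨y, hy, hxy⟩ := hle (hcl x.2)
    have hyx : y = x := Subtype.ext hxy
    rw [← hyx]
    exact hy
  exact hM.1 hMtop

/-- PIECE D -/
theorem exists_bad_conj {Γ : Type*} [Group Γ] (p : ℕ) [Fact p.Prime] (G : Subgroup Γ)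
    [Finite G] (hG : IsPGroup p G) (A : Subgroup Γ) (hAG : A ≤ G)
    (hnot : ¬ ∀ g ∈ G, ∀ a ∈ A, g * a * g⁻¹ ∈ Subgroup.normalizer (A : Set Γ)) :
    ∃ x ∈ G, (∃ g ∈ G, ∃ a ∈ A, x = g * a * g⁻¹) ∧ x ∉ Subgroup.normalizer (A : Set Γ) ∧
      ∀ s : ℤ, ∀ b ∈ A, x ^ s * b * x ^ (-s) ∈ Subgroup.normalizer (A : Set Γ) := by
  have main : ∀ n : ℕ, ∀ T : Subgroup Γ, Nat.card T ≤ n → T ≤ G → A ≤ T →
      ¬ Subgroup.closure {x | ∃ t ∈ T, ∃ a ∈ A, x = t * a * t⁻¹} ≤
        Subgroup.normalizer (A : Set Γ) →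
      ∃ x ∈ G, (∃ g ∈ G, ∃ a ∈ A, x = g * a * g⁻¹) ∧ x ∉ Subgroup.normalizer (A : Set Γ) ∧
        ∀ s : ℤ, ∀ b ∈ A, x ^ s * b * x ^ (-s) ∈ Subgroup.normalizer (A : Set Γ) := by
    intro n
    induction n with
    | zero =>
      intro T hcard hTG hAT hnot'
      have hfT : Finite T :=
        Finite.of_injective (Subgroup.inclusion hTG) (Subgroup.inclusion_injective hTG)
      have hpos := Nat.card_pos (α := T)
      omega
    | succ n ih =>
      intro T hcard hTG hAT hnot'
      have hfT : Finite T :=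
        Finite.of_injective (Subgroup.inclusion hTG) (Subgroup.inclusion_injective hTG)
      obtain ⟨H, hH⟩ : ∃ H : Subgroup Γ,
          H = Subgroup.closure {x | ∃ t ∈ T, ∃ a ∈ A, x = t * a * t⁻¹} := ⟨_, rfl⟩
      rw [← hH] at hnot'
      have hHT : H ≤ T := by
        rw [hH, Subgroup.closure_le]
        rintro _ ⟨t, ht, a, ha, rfl⟩
        exact T.mul_mem (T.mul_mem ht (hAT ha)) (T.inv_mem ht)
      have hAH : A ≤ H := by
        intro a ha
        rw [hH]
        apply Subgroup.subset_closure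
        exact ⟨1, T.one_mem, a, ha, by simp⟩
      by_cases hK : Subgroup.closure {x | ∃ t ∈ H, ∃ a ∈ A, x = t * a * t⁻¹} ≤
          Subgroup.normalizer (A : Set Γ)
      · -- a generator of `H` outside the normalizer
        have hex : ∃ t ∈ T, ∃ a ∈ A, t * a * t⁻¹ ∉ Subgroup.normalizer (A : Set Γ) := by
          by_contra hcon
          push Not at hcon
          apply hnot'
          rw [hH, Subgroup.closure_le]
          rintro _ ⟨t, ht, a, ha, rfl⟩
          exact hcon t ht a ha
        obtain ⟨t, ht, a, ha, hx⟩ := hex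
        have hxH : t * a * t⁻¹ ∈ H := by
          rw [hH]
          exact Subgroup.subset_closure ⟨t, ht, a, ha, rfl⟩
        refine ⟨t * a * t⁻¹, hTG (hHT hxH), ⟨t, hTG ht, a, ha, rfl⟩, hx, ?_⟩
        intro s b hb
        apply hK
        apply Subgroup.subset_closure
        refine ⟨(t * a * t⁻¹) ^ s, H.zpow_mem hxH s, b, hb, ?_⟩
        rw [zpow_neg]
      · -- descend to `H`
        have hne : H ≠ T := by
          intro heq
          have hAT' : A = T := by
            refine helper78_pclosure p T A (hG.to_le hTG) hAT ?_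
            rw [← hH, heq]
          apply hnot'
          rw [heq, ← hAT']
          exact Subgroup.le_normalizer
        have hlt : Nat.card H < Nat.card T := by
          by_contra hcon
          exact hne (Subgroup.eq_of_le_of_card_ge hHT (not_lt.mp hcon))
        exact ih H (by omega) (hHT.trans hTG) hAH hK
  refine main (Nat.card G) G le_rfl le_rfl hAG ?_
  intro h
  apply hnot
  intro g hg a ha
  exact h (Subgroup.subset_closure ⟨g, hg, a, ha, rfl⟩)

end Cfsg.Agent.Lib.helper78.QO
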