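import Mathlib
import Cfsg.Prelude.Def_Characters
import Cfsg.Agent.Lib.helper82.CharDeg
import Cfsg.Agent.Lib.helper82.CharNormal
import Cfsg.Agent.Lib.helper82.CharQuot
import Cfsg.Agent.Lib.helper82.CharSums
import Cfsg.Agent.Lib.helper21.TIChar
import Cfsg.Agent.Lib.helper84.CentralVanish
import Cfsg.Agent.Lib.helper4.CharTheory
import Cfsg.Agent.Lib.helper4.CharDecomp
import Cfsg.Agent.Lib.helper83.Gagola
import Cfsg.Agent.Lib.helper81.Kernel
import Cfsg.Agent.Lib.helper81.CharOrtho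
import Cfsg.Agent.Lib.helper81.CharBasic

/-!
# The Feit–Thompson degree bound for abelian subgroups with disjoint centralizer sets
(helper78 library)

`H` abelian, `H ∩ Z(G) = 1`, and for noncentral `g` the centralizer of `g` meets at most one
conjugate of `H` nontrivially.  For `χ ∈ Irr(G)` with `H ⊄ ker χ`:
`χ(1)² > |H| · |⟨χ_H, 1_H⟩|²` (`ft_degree_bound`), and when moreover `χ(1) ≠ 1` and `H` lies in no
proper normal subgroup, `(1 + χ(1))² > |H|` (`ft_degree_bound_two`).
-/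

set_option autoImplicit false
set_option linter.unusedSectionVars false
set_option linter.unusedVariables false
set_option linter.style.haveILetI false

namespace Cfsg.Agent.Lib.helper78

open Cfsg
open scoped ComplexConjugate

universe u

section FTGroup

variable {G : Type u} [Group G]

/-- The Feit–Thompson hypothesis: the centralizer of a noncentral element meets at most one
conjugate of `H` nontrivially. -/
def FTOne (H : Subgroup G) : Prop :=
  ∀ g : G, g ∉ Subgroup.center G → ∀ a b : G,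
    Subgroup.centralizer ({g} : Set G) ⊓ H.map (MulAut.conj a).toMonoidHom ≠ ⊥ →
    Subgroup.centralizer ({g} : Set G) ⊓ H.map (MulAut.conj b).toMonoidHom ≠ ⊥ →
    H.map (MulAut.conj a).toMonoidHom = H.map (MulAut.conj b).toMonoidHom

/-- The set of elements commuting with a nontrivial element of `H`. -/
def FTW (H : Subgroup G) (g : G) : Prop := ∃ h ∈ H, h ≠ 1 ∧ g * h = h * g

theorem ftOne_cent_ne_bot {H : Subgroup G} {g a : G} (ha : FTW H (a⁻¹ * g * a)) :
    Subgroup.centralizer ({g} : Set G) ⊓ H.map (MulAut.conj a).toMonoidHom ≠ ⊥ := by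
  obtain ⟨h, hh, hh1, hhc⟩ := ha
  intro hbot
  have hmem : a * h * a⁻¹ ∈
      Subgroup.centralizer ({g} : Set G) ⊓ H.map (MulAut.conj a).toMonoidHom := by
    refine Subgroup.mem_inf.mpr ⟨?_, ⟨h, hh, by simp [MulAut.conj_apply]⟩⟩
    rw [Subgroup.mem_centralizer_iff]
    intro y hy
    rw [Set.mem_singleton_iff] at hy
    subst hy
    have : a * (a⁻¹ * y * a * h) * a⁻¹ = a * (h * (a⁻¹ * y * a)) * a⁻¹ := by rw [hhc]
    calc y * (a * h * a⁻¹) = a * (a⁻¹ * y * a * h) * a⁻¹ := by group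
      _ = a * (h * (a⁻¹ * y * a)) * a⁻¹ := this
      _ = a * h * a⁻¹ * y := by group
  rw [hbot, Subgroup.mem_bot] at hmem
  apply hh1
  have : h = a⁻¹ * (a * h * a⁻¹) * a := by group
  rw [this, hmem]
  group

theorem ftOne_normalizer {H : Subgroup G} (hone : FTOne H) {g : G}
    (hg : g ∉ Subgroup.center G) {a b : G}
    (ha : FTW H (a⁻¹ * g * a)) (hb : FTW H (b⁻¹ * g * b)) :
    a⁻¹ * b ∈ Subgroup.normalizer (H : Set G) := by
  have h3 := hone g hg a b (ftOne_cent_ne_bot ha) (ftOne_cent_ne_bot hb)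
  have key : ∀ u : G, u ∈ H → a⁻¹ * b * u * (a⁻¹ * b)⁻¹ ∈ H := by
    intro u hu
    have h4 : b * u * b⁻¹ ∈ H.map (MulAut.conj a).toMonoidHom := by
      rw [h3]
      exact ⟨u, hu, by simp [MulAut.conj_apply]⟩
    obtain ⟨v, hv, hv'⟩ := h4
    have h5 : a * v * a⁻¹ = b * u * b⁻¹ := by simpa [MulAut.conj_apply] using hv'
    have h6 : a⁻¹ * b * u * (a⁻¹ * b)⁻¹ = v := by
      calc a⁻¹ * b * u * (a⁻¹ * b)⁻¹ = a⁻¹ * (b * u * b⁻¹) * a := by group
        _ = a⁻¹ * (a * v * a⁻¹) * a := by rw [h5]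
        _ = v := by group
    rw [h6]
    exact hv
  have key' : ∀ u : G, u ∈ H → (a⁻¹ * b)⁻¹ * u * (a⁻¹ * b) ∈ H := by
    intro u hu
    have h4 : a * u * a⁻¹ ∈ H.map (MulAut.conj b).toMonoidHom := by
      rw [← h3]
      exact ⟨u, hu, by simp [MulAut.conj_apply]⟩
    obtain ⟨v, hv, hv'⟩ := h4
    have h5 : b * v * b⁻¹ = a * u * a⁻¹ := by simpa [MulAut.conj_apply] using hv'
    have h6 : (a⁻¹ * b)⁻¹ * u * (a⁻¹ * b) = v := by
      calc (a⁻¹ * b)⁻¹ * u * (a⁻¹ * b) = b⁻¹ * (a * u * a⁻¹) * b := by group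
        _ = b⁻¹ * (b * v * b⁻¹) * b := by rw [h5]
        _ = v := by group
    rw [h6]
    exact hv
  rw [Subgroup.mem_normalizer_iff]
  intro u
  constructor
  · intro hu
    exact key u hu
  · intro hu
    have := key' _ hu
    have h7 : (a⁻¹ * b)⁻¹ * (a⁻¹ * b * u * (a⁻¹ * b)⁻¹) * (a⁻¹ * b) = u := by group
    rw [h7] at this
    exact this

theorem ftW_mem_normalizer {H : Subgroup G} (hone : FTOne H) {g : G} (hg : FTW H g) :
    g ∈ Subgroup.normalizer (H : Set G) := by
  by_cases hgZ : g ∈ Subgroup.center G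
  · rw [Subgroup.mem_normalizer_iff]
    intro u
    have : g * u * g⁻¹ = u := by
      rw [Subgroup.mem_center_iff] at hgZ
      rw [← hgZ u]
      group
    rw [this]
  · have h1 : FTW H ((1 : G)⁻¹ * g * 1) := by simpa using hg
    have h2 : FTW H (g⁻¹ * g * g) := by simpa using hg
    have := ftOne_normalizer hone hgZ h1 h2
    simpa using this

theorem ftW_of_center {H : Subgroup G} (hH : H ≠ ⊥) {z : G} (hz : z ∈ Subgroup.center G) :
    FTW H z := by
  obtain ⟨h, hh1⟩ := (Subgroup.ne_bot_iff_exists_ne_one).mp hH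
  refine ⟨h, h.2, ?_, ?_⟩
  · intro h1
    apply hh1
    exact Subtype.ext h1
  · rw [Subgroup.mem_center_iff] at hz
    exact (hz h).symm

theorem ftW_mul_center {H : Subgroup G} (hab : ∀ a ∈ H, ∀ b ∈ H, a * b = b * a) (hH : H ≠ ⊥)
    {h z : G} (hh : h ∈ H) (hz : z ∈ Subgroup.center G) : FTW H (h * z) := by
  obtain ⟨k, hk1⟩ := (Subgroup.ne_bot_iff_exists_ne_one).mp hH
  refine ⟨k, k.2, ?_, ?_⟩
  · intro h1
    apply hk1
    exact Subtype.ext h1
  · rw [Subgroup.mem_center_iff] at hz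
    calc h * z * (k : G) = h * ((k : G) * z) := by rw [mul_assoc, hz (k : G)]
      _ = (h * (k : G)) * z := by rw [mul_assoc]
      _ = ((k : G) * h) * z := by rw [hab h hh k k.2]
      _ = (k : G) * (h * z) := by rw [mul_assoc]

end FTGroup

section FTCount

variable {G : Type u} [Group G] [Fintype G]

/-- Double counting: if `W` is a set whose conjugates through a given element are parametrised
by at most one coset of `N`, then `|G| Σ_W F ≤ |N| Σ_U F` for a nonnegative class function `F`. -/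
theorem ft_upper (F : G → ℝ) (hF0 : ∀ g, 0 ≤ F g) (hFc : ∀ g x, F (x⁻¹ * g * x) = F g)
    (W U : G → Prop) [DecidablePred W] [DecidablePred U] (N : Subgroup G) [Fintype N]
    (hWU : ∀ y x, W (x⁻¹ * y * x) → U y)
    (hW : ∀ y x x', W (x⁻¹ * y * x) → W (x'⁻¹ * y * x') → x⁻¹ * x' ∈ N) :
    (Nat.card G : ℝ) * ∑ g, (if W g then F g else 0)
      ≤ (Nat.card N : ℝ) * ∑ g, (if U g then F g else 0) := by
  classical
  have h1 : (Nat.card G : ℝ) * ∑ g, (if W g then F g else 0)
      = ∑ x : G, ∑ y : G, (if W (x⁻¹ * y * x) then F y else 0) := by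
    rw [Nat.card_eq_fintype_card, ← Finset.card_univ, ← nsmul_eq_mul, ← Finset.sum_const]
    refine Finset.sum_congr rfl fun x _ => ?_
    rw [← Equiv.sum_comp (MulAut.conj x⁻¹).toEquiv]
    refine Finset.sum_congr rfl fun y _ => ?_
    simp [hFc]
  rw [h1, Finset.sum_comm, Finset.mul_sum]
  refine Finset.sum_le_sum fun y _ => ?_
  by_cases hy : ∃ x₀, W (x₀⁻¹ * y * x₀)
  · obtain ⟨x₀, hx₀⟩ := hy
    rw [if_pos (hWU y x₀ hx₀), ← Finset.sum_filter, Finset.sum_const, nsmul_eq_mul]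
    refine mul_le_mul_of_nonneg_right ?_ (hF0 y)
    have hcard : (Finset.univ.filter fun x => W (x⁻¹ * y * x)).card ≤ Nat.card N := by
      rw [Nat.card_eq_fintype_card, ← Finset.card_univ]
      refine Finset.card_le_card_of_injOn
        (fun x => if hx : W (x⁻¹ * y * x) then (⟨x₀⁻¹ * x, hW y x₀ x hx₀ hx⟩ : N) else 1)
        (fun _ _ => Finset.mem_univ _) ?_
      intro a ha b hb hab
      simp only [Finset.coe_filter, Finset.mem_univ, true_and, Set.mem_ofPred_eq] at ha hb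
      simp only [dif_pos ha, dif_pos hb] at hab
      have := congrArg Subtype.val hab
      simpa using this
    exact_mod_cast hcard
  · rw [Finset.sum_eq_zero]
    · exact mul_nonneg (Nat.cast_nonneg _) (by split_ifs <;> simp [hF0])
    · intro x _
      rw [if_neg]
      intro hx
      exact hy ⟨x, hx⟩

end FTCount

section FTChar

variable {L : Type u} [Group L] [Fintype L]

/-- If no nontrivial element of the normal subgroup `K` commutes with `n`, then the coset `nK`
consists of `K`-conjugates of `n`. -/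
theorem sum_coset_of_free (K : Subgroup L) [K.Normal] [Fintype K] (Θ : L → ℂ)
    (hΘ : IsClassFunction L Θ) (n : L) (hn : ∀ k ∈ K, n * k = k * n → k = 1) :
    ∑ k : K, Θ (n * k) = (Nat.card K : ℂ) * Θ n := by
  classical
  have hmem : ∀ k : K, n⁻¹ * (k : L)⁻¹ * n * k ∈ K := by
    intro k
    have h1 : n⁻¹ * (k : L)⁻¹ * n ∈ K := by
      have := ‹K.Normal›.conj_mem _ (K.inv_mem k.2) n⁻¹
      simpa using this
    exact K.mul_mem h1 k.2
  let σ : K → K := fun k => ⟨n⁻¹ * (k : L)⁻¹ * n * k, hmem k⟩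
  have hinj : Function.Injective σ := by
    intro a b hab
    have h1 : n⁻¹ * (a : L)⁻¹ * n * a = n⁻¹ * (b : L)⁻¹ * n * b := congrArg Subtype.val hab
    have h2 : n * ((a : L) * (b : L)⁻¹) = ((a : L) * (b : L)⁻¹) * n := by
      have h3 : (a : L)⁻¹ * n * a = (b : L)⁻¹ * n * b := by
        have := congrArg (fun t => n * t) h1
        simpa [mul_assoc] using this
      calc n * ((a : L) * (b : L)⁻¹) = a * ((a : L)⁻¹ * n * a) * (b : L)⁻¹ := by group
        _ = a * ((b : L)⁻¹ * n * b) * (b : L)⁻¹ := by rw [h3]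
        _ = ((a : L) * (b : L)⁻¹) * n := by group
    have h4 := hn _ (K.mul_mem a.2 (K.inv_mem b.2)) h2
    apply Subtype.ext
    exact mul_inv_eq_one.mp h4
  have hbij : Function.Bijective σ := (Finite.injective_iff_bijective).mp hinj
  rw [← Function.Bijective.sum_comp hbij (fun k : K => Θ (n * k))]
  have h5 : ∀ k : K, Θ (n * (σ k : L)) = Θ n := by
    intro k
    have h6 : n * (σ k : L) = (k : L)⁻¹ * n * ((k : L)⁻¹)⁻¹ := by
      show n * (n⁻¹ * (k : L)⁻¹ * n * k) = _
      group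
    rw [h6]
    exact hΘ n _
  rw [Finset.sum_congr rfl fun k _ => h5 k, Finset.sum_const, Finset.card_univ,
    Nat.card_eq_fintype_card, nsmul_eq_mul]

theorem sum_mul_conj_eq_card_mul_classInner (φ ψ : L → ℂ) :
    ∑ n, φ n * conj (ψ n) = (Nat.card L : ℂ) * classInner φ ψ := by
  have hne : (Nat.card L : ℂ) ≠ 0 := by
    rw [Nat.card_eq_fintype_card]
    exact_mod_cast Fintype.card_ne_zero
  unfold classInner
  rw [← mul_assoc, mul_inv_cancel₀ hne, one_mul]

/-- Decomposition of a character of `L` relative to a normal subgroup `K`: `Θ = Θ' + Θ''` where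
`Θ'` is constant on cosets of `K`, `Θ''` has zero sum on every coset of `K`, the two parts are
orthogonal and `Θ''` has norm at least one when `K` is not in the kernel of `Θ`. -/
theorem exists_ker_decomp (K : Subgroup L) [K.Normal] [Fintype K] {Θ : L → ℂ}
    (hΘ : IsCharacter L Θ) :
    ∃ Θ' Θ'' : L → ℂ, (∀ n, Θ n = Θ' n + Θ'' n) ∧ (∀ n, ∀ k ∈ K, Θ' (n * k) = Θ' n) ∧
      (∀ n, ∑ k : K, Θ'' (n * k) = 0) ∧ (∑ n, Θ' n * conj (Θ'' n) = 0) ∧
      ((∃ k ∈ K, Θ k ≠ Θ 1) → (Nat.card L : ℝ) ≤ ∑ n, Complex.normSq (Θ'' n)) := by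
  classical
  obtain ⟨m, hm1, hm2, hm3⟩ := helper82.exists_nat_decomp hΘ
  let P : IrrCharacter L → Prop := fun ψ => ∀ k ∈ K, (ψ : L → ℂ) k = (ψ : L → ℂ) 1
  let aN : IrrCharacter L → ℕ := fun ψ => if P ψ then m ψ else 0
  let bN : IrrCharacter L → ℕ := fun ψ => if P ψ then 0 else m ψ
  have hfa : (fun n => ∑ ψ : IrrCharacter L, (aN ψ : ℂ) * (ψ : L → ℂ) n)
      = ∑ ψ : IrrCharacter L, (aN ψ : ℂ) • (ψ : L → ℂ) := by
    funext n
    simp [Finset.sum_apply]
  have hfb : (fun n => ∑ ψ : IrrCharacter L, (bN ψ : ℂ) * (ψ : L → ℂ) n)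
      = ∑ ψ : IrrCharacter L, (bN ψ : ℂ) • (ψ : L → ℂ) := by
    funext n
    simp [Finset.sum_apply]
  refine ⟨fun n => ∑ ψ, (aN ψ : ℂ) * (ψ : L → ℂ) n, fun n => ∑ ψ, (bN ψ : ℂ) * (ψ : L → ℂ) n,
    ?_, ?_, ?_, ?_, ?_⟩
  · intro n
    rw [hm2 n, ← Finset.sum_add_distrib]
    refine Finset.sum_congr rfl fun ψ _ => ?_
    by_cases hψ : P ψ <;> simp [aN, bN, hψ]
  · intro n k hk
    refine Finset.sum_congr rfl fun ψ _ => ?_
    by_cases hψ : P ψ
    · have := helper83.isCharacter_mul_ker (helper81.irr_isCharacter ψ) (hψ k hk) n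
      rw [this]
    · simp [aN, hψ]
  · intro n
    rw [Finset.sum_comm]
    refine Finset.sum_eq_zero fun ψ _ => ?_
    by_cases hψ : P ψ
    · simp [bN, hψ]
    · rw [← Finset.mul_sum]
      have hex : ∃ x ∈ K, (ψ : L → ℂ) x ≠ (ψ : L → ℂ) 1 := by
        by_contra hcon
        push Not at hcon
        exact hψ hcon
      rw [helper82.irr_sum_mul_normal ψ K hex n, mul_zero]
  · rw [sum_mul_conj_eq_card_mul_classInner, hfa, hfb, helper4.classInner_sum_irr_smul]
    rw [Finset.sum_eq_zero, mul_zero]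
    intro ψ _
    by_cases hψ : P ψ <;> simp [aN, bN, hψ]
  · intro hK
    have hex : ∃ ψ : IrrCharacter L, 1 ≤ bN ψ := by
      by_contra hcon
      push Not at hcon
      have hb0 : ∀ ψ, bN ψ = 0 := fun ψ => by have := hcon ψ; omega
      obtain ⟨k, hk, hk1⟩ := hK
      apply hk1
      have h1 : ∀ n, Θ n = ∑ ψ : IrrCharacter L, (aN ψ : ℂ) * (ψ : L → ℂ) n := by
        intro n
        rw [hm2 n]
        refine Finset.sum_congr rfl fun ψ _ => ?_
        by_cases hψ : P ψ
        · simp [aN, hψ]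
        · have := hb0 ψ
          simp only [bN, if_neg hψ] at this
          simp [aN, hψ, this]
      rw [h1 k, h1 1]
      refine Finset.sum_congr rfl fun ψ _ => ?_
      by_cases hψ : P ψ
      · rw [hψ k hk]
      · simp [aN, hψ]
    obtain ⟨ψ₀, hψ₀⟩ := hex
    have h2 : ∑ n, (fun n => ∑ ψ : IrrCharacter L, (bN ψ : ℂ) * (ψ : L → ℂ) n) n *
        conj ((fun n => ∑ ψ : IrrCharacter L, (bN ψ : ℂ) * (ψ : L → ℂ) n) n)
        = (Nat.card L : ℂ) * ((∑ ψ : IrrCharacter L, bN ψ * bN ψ : ℕ) : ℂ) := by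
      rw [sum_mul_conj_eq_card_mul_classInner, hfb, helper4.classInner_sum_irr_smul]
      congr 1
      push_cast
      refine Finset.sum_congr rfl fun ψ _ => ?_
      rw [Complex.conj_natCast]
    have h3 : ∑ n, Complex.normSq (∑ ψ : IrrCharacter L, (bN ψ : ℂ) * (ψ : L → ℂ) n)
        = (Nat.card L : ℝ) * ((∑ ψ : IrrCharacter L, bN ψ * bN ψ : ℕ) : ℝ) := by
      have h4 : ((∑ n, Complex.normSq (∑ ψ : IrrCharacter L, (bN ψ : ℂ) * (ψ : L → ℂ) n) : ℝ) : ℂ)
          = (((Nat.card L : ℝ) * ((∑ ψ : IrrCharacter L, bN ψ * bN ψ : ℕ) : ℝ) : ℝ) : ℂ) := by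
        push_cast
        have h5 := h2
        push_cast at h5
        rw [← h5]
        refine Finset.sum_congr rfl fun n _ => ?_
        rw [Complex.mul_conj]
      exact_mod_cast h4
    rw [h3]
    have h6 : 1 ≤ ∑ ψ : IrrCharacter L, bN ψ * bN ψ := by
      calc 1 ≤ bN ψ₀ * bN ψ₀ := Nat.one_le_iff_ne_zero.mpr (by positivity)
        _ ≤ ∑ ψ : IrrCharacter L, bN ψ * bN ψ :=
          Finset.single_le_sum (f := fun ψ => bN ψ * bN ψ) (fun _ _ => Nat.zero_le _)
            (Finset.mem_univ ψ₀)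
    have h7 : (1 : ℝ) ≤ ((∑ ψ : IrrCharacter L, bN ψ * bN ψ : ℕ) : ℝ) := by exact_mod_cast h6
    have h8 : (0 : ℝ) ≤ (Nat.card L : ℝ) := Nat.cast_nonneg _
    nlinarith

/-- Abstract lower bound: if off the set `S` the coset sums of `Θ` over `K` are `|K| Θ(n)`, then
`Σ_S |Θ|² ≥ |L| + Σ_S |Θ̄|²` where `Θ̄` is the average of `Θ` over cosets of `K`. -/
theorem ft_lower_abstract (K : Subgroup L) [K.Normal] [Fintype K] {Θ : L → ℂ}
    (hΘ : IsCharacter L Θ) (hK : ∃ k ∈ K, Θ k ≠ Θ 1) (S : L → Prop) [DecidablePred S]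
    (hS : ∀ n, ¬ S n → ∑ k : K, Θ (n * k) = (Nat.card K : ℂ) * Θ n) :
    (Nat.card L : ℝ) + ∑ n, (if S n then
        Complex.normSq ((Nat.card K : ℂ)⁻¹ * ∑ k : K, Θ (n * k)) else 0)
      ≤ ∑ n, (if S n then Complex.normSq (Θ n) else 0) := by
  obtain ⟨Θ', Θ'', h1, h2, h3, h4, h5⟩ := exists_ker_decomp K hΘ
  have hKne : (Nat.card K : ℂ) ≠ 0 := by
    rw [Nat.card_eq_fintype_card]
    exact_mod_cast Fintype.card_ne_zero
  have h6 : ∀ n, (Nat.card K : ℂ)⁻¹ * ∑ k : K, Θ (n * k) = Θ' n := by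
    intro n
    have e : ∑ k : K, Θ (n * k) = (Nat.card K : ℂ) * Θ' n := by
      simp_rw [h1]
      rw [Finset.sum_add_distrib, h3 n, add_zero]
      rw [Finset.sum_congr rfl (fun (k : K) _ => h2 n (k : L) k.2), Finset.sum_const,
        Finset.card_univ, Nat.card_eq_fintype_card, nsmul_eq_mul]
    rw [e, ← mul_assoc, inv_mul_cancel₀ hKne, one_mul]
  have h7 : ∀ n, ¬ S n → Θ'' n = 0 := by
    intro n hn
    have e1 := hS n hn
    have e2 := h6 n
    rw [e1, ← mul_assoc, inv_mul_cancel₀ hKne, one_mul] at e2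
    have e3 := h1 n
    rw [e2] at e3
    exact left_eq_add.mp e3
  simp_rw [h6]
  have h8 : ∀ n, Complex.normSq (Θ n) = Complex.normSq (Θ' n)
      + (Complex.normSq (Θ'' n) + 2 * (Θ' n * conj (Θ'' n)).re) := by
    intro n
    rw [h1 n, Complex.normSq_add]
    ring
  have h9 : ∑ n, (if S n then Complex.normSq (Θ n) else 0)
      = ∑ n, (if S n then Complex.normSq (Θ' n) else 0)
        + ∑ n, (Complex.normSq (Θ'' n) + 2 * (Θ' n * conj (Θ'' n)).re) := by
    rw [← Finset.sum_add_distrib]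
    refine Finset.sum_congr rfl fun n _ => ?_
    by_cases hn : S n
    · simp [hn, h8 n]
    · simp [hn, h7 n hn]
  rw [h9, Finset.sum_add_distrib, ← Finset.mul_sum, ← Complex.re_sum, h4]
  have := h5 hK
  simp only [Complex.zero_re, mul_zero, add_zero]
  linarith

end FTChar

section FTMain

variable {G : Type u} [Group G] [Fintype G]

open Classical in
/-- Lower bound for the sum of `|χ|²` over the set `W` (elements commuting with a nontrivial
element of `H`). -/
theorem ft_lower (H : Subgroup G) [Fintype H] (hone : FTOne H) (χ : IrrCharacter G)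
    (hker : ∃ h ∈ H, (χ : G → ℂ) h ≠ (χ : G → ℂ) 1) :
    (Nat.card (Subgroup.normalizer (H : Set G)) : ℝ) + ∑ g : G, (if FTW H g then
        Complex.normSq ((Nat.card H : ℂ)⁻¹ * ∑ h : H, (χ : G → ℂ) (g * h)) else 0)
      ≤ ∑ g : G, (if FTW H g then Complex.normSq ((χ : G → ℂ) g) else 0) := by
  set N := Subgroup.normalizer (H : Set G) with hN
  have hHN : H ≤ N := Subgroup.le_normalizer
  haveI : (H.subgroupOf N).Normal := Subgroup.normal_in_normalizer
  let e := Subgroup.subgroupOfEquivOfLe hHN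
  have hΘ : IsCharacter N (fun n : N => (χ : G → ℂ) n) :=
    helper4.isCharacter_restrict N (helper81.irr_isCharacter χ)
  have hK : ∃ k ∈ H.subgroupOf N, (fun n : N => (χ : G → ℂ) n) k
      ≠ (fun n : N => (χ : G → ℂ) n) 1 := by
    obtain ⟨h, hh, hne⟩ := hker
    exact ⟨⟨h, hHN hh⟩, Subgroup.mem_subgroupOf.mpr hh, by simpa using hne⟩
  have hcl : IsClassFunction N (fun n : N => (χ : G → ℂ) n) :=
    helper4.isClassFunction_of_isCharacter hΘ
  have hS : ∀ n : N, ¬ FTW H (n : G) →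
      ∑ k : H.subgroupOf N, (fun n : N => (χ : G → ℂ) n) (n * k)
        = (Nat.card (H.subgroupOf N) : ℂ) * (fun n : N => (χ : G → ℂ) n) n := by
    intro n hn
    refine sum_coset_of_free (H.subgroupOf N) _ hcl n ?_
    intro k hk hcomm
    by_contra hk1
    apply hn
    refine ⟨(k : G), Subgroup.mem_subgroupOf.mp hk, ?_, ?_⟩
    · intro h1
      apply hk1
      exact Subtype.ext h1
    · have := congrArg Subtype.val hcomm
      simpa using this
  have h1 := ft_lower_abstract (H.subgroupOf N) hΘ hK (fun n : N => FTW H (n : G)) hS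
  have hcardK : Nat.card (H.subgroupOf N) = Nat.card H := Nat.card_congr e.toEquiv
  have hsumK : ∀ n : N, ∑ k : H.subgroupOf N, (χ : G → ℂ) ((n * k : N) : G)
      = ∑ h : H, (χ : G → ℂ) ((n : G) * h) := by
    intro n
    refine Fintype.sum_equiv e.toEquiv _ _ ?_
    intro k
    simp [e]
  have hconv : ∀ f : G → ℝ, ∑ n : N, (if FTW H (n : G) then f n else 0)
      = ∑ g : G, (if FTW H g then f g else 0) := by
    intro f
    rw [← Finset.sum_subtype (Finset.univ.filter (fun x : G => x ∈ N)) (by simp)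
      (fun g : G => if FTW H g then f g else 0)]
    refine Finset.sum_filter_of_ne ?_
    intro g _ hg
    by_contra hgN
    apply hg
    rw [if_neg]
    intro hW
    exact hgN (ftW_mem_normalizer hone hW)
  rw [← hconv, ← hconv]
  simp only [hcardK, hsumK] at h1
  exact h1

theorem ft_avg_center (H : Subgroup G) [Fintype H] (χ : IrrCharacter G) {h z : G} (hh : h ∈ H)
    (hz : z ∈ Subgroup.center G) :
    Complex.normSq ((Nat.card H : ℂ)⁻¹ * ∑ k : H, (χ : G → ℂ) (h * z * k))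
      = Complex.normSq ((Nat.card H : ℂ)⁻¹ * ∑ k : H, (χ : G → ℂ) k) := by
  have h1 : ∑ k : H, (χ : G → ℂ) (h * z * k)
      = (χ : G → ℂ) z / (χ : G → ℂ) 1 * ∑ k : H, (χ : G → ℂ) k := by
    rw [Finset.mul_sum]
    rw [← Equiv.sum_comp (Equiv.mulLeft (⟨h, hh⟩ : H))
      (fun k : H => (χ : G → ℂ) z / (χ : G → ℂ) 1 * (χ : G → ℂ) k)]
    refine Finset.sum_congr rfl fun k _ => ?_
    rw [← helper21.irr_mul_center_eq χ hz]
    simp only [Equiv.coe_mulLeft, Subgroup.coe_mul]
    rw [Subgroup.mem_center_iff] at hz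
    rw [mul_assoc h z, ← hz, mul_assoc]
  rw [h1, ← mul_assoc, mul_comm _ ((χ : G → ℂ) z / (χ : G → ℂ) 1), mul_assoc,
    Complex.normSq_mul]
  have h2 : Complex.normSq ((χ : G → ℂ) z / (χ : G → ℂ) 1) = 1 := by
    have := helper84.irr_center_conj_mul χ hz
    rw [mul_comm, Complex.mul_conj] at this
    exact_mod_cast this
  rw [h2, one_mul]

open Classical in
theorem ft_hz_bound (H : Subgroup G) [Fintype H] (hab : ∀ a ∈ H, ∀ b ∈ H, a * b = b * a)
    (hZ : H ⊓ Subgroup.center G = ⊥) (hH : H ≠ ⊥) (χ : IrrCharacter G) :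
    (Nat.card H : ℝ) * (Nat.card (Subgroup.center G) : ℝ)
        * Complex.normSq ((Nat.card H : ℂ)⁻¹ * ∑ k : H, (χ : G → ℂ) k)
      ≤ ∑ g : G, (if FTW H g then
          Complex.normSq ((Nat.card H : ℂ)⁻¹ * ∑ k : H, (χ : G → ℂ) (g * k)) else 0) := by
  set f : G → ℝ := fun g =>
    Complex.normSq ((Nat.card H : ℂ)⁻¹ * ∑ k : H, (χ : G → ℂ) (g * k)) with hf
  have hinj : Function.Injective
      (fun p : H × Subgroup.center G => (p.1 : G) * (p.2 : G)) := by
    rintro ⟨a, b⟩ ⟨a', b'⟩ hp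
    simp only at hp
    have h1 : (a' : G)⁻¹ * a = (b' : G) * (b : G)⁻¹ := by
      calc (a' : G)⁻¹ * a = (a' : G)⁻¹ * (a * b) * (b : G)⁻¹ := by group
        _ = (a' : G)⁻¹ * (a' * b') * (b : G)⁻¹ := by rw [hp]
        _ = (b' : G) * (b : G)⁻¹ := by group
    have h2 : (a' : G)⁻¹ * a ∈ H ⊓ Subgroup.center G :=
      Subgroup.mem_inf.mpr ⟨H.mul_mem (H.inv_mem a'.2) a.2, by
        rw [h1]
        exact (Subgroup.center G).mul_mem b'.2 ((Subgroup.center G).inv_mem b.2)⟩
    rw [hZ, Subgroup.mem_bot] at h2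
    have h3 : (a : G) = a' := by
      rw [inv_mul_eq_one] at h2
      exact h2.symm
    have h4 : (b : G) = b' := by
      rw [h3] at hp
      exact mul_left_cancel hp
    exact Prod.ext (Subtype.ext h3) (Subtype.ext h4)
  have h5 : ∑ p : H × Subgroup.center G, f ((p.1 : G) * (p.2 : G))
      = (Nat.card H : ℝ) * (Nat.card (Subgroup.center G) : ℝ)
        * Complex.normSq ((Nat.card H : ℂ)⁻¹ * ∑ k : H, (χ : G → ℂ) k) := by
    rw [Finset.sum_congr rfl (fun (p : H × Subgroup.center G) _ =>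
      ft_avg_center H χ p.1.2 p.2.2), Finset.sum_const, Finset.card_univ, Fintype.card_prod,
      nsmul_eq_mul, Nat.card_eq_fintype_card, Nat.card_eq_fintype_card]
    push_cast
    ring
  rw [← h5, ← Finset.sum_filter, ← Finset.sum_image (s := Finset.univ) (f := f)
    (g := fun p : H × Subgroup.center G => (p.1 : G) * (p.2 : G))
    (fun x _ y _ hxy => hinj hxy)]
  refine Finset.sum_le_sum_of_subset_of_nonneg ?_ (fun _ _ _ => Complex.normSq_nonneg _)
  intro g hg
  rw [Finset.mem_image] at hg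
  obtain ⟨p, _, rfl⟩ := hg
  rw [Finset.mem_filter]
  exact ⟨Finset.mem_univ _, ftW_mul_center hab hH p.1.2 p.2.2⟩

/-- **Feit–Thompson degree bound, first part**: `|H| · |⟨χ_H, 1_H⟩|² < χ(1)²`. -/
theorem ft_degree_bound (H : Subgroup G) [Fintype H] (hab : ∀ a ∈ H, ∀ b ∈ H, a * b = b * a)
    (hZ : H ⊓ Subgroup.center G = ⊥) (hone : FTOne H) (χ : IrrCharacter G)
    (hker : ∃ h ∈ H, (χ : G → ℂ) h ≠ (χ : G → ℂ) 1) :
    (Nat.card H : ℝ) * Complex.normSq ((Nat.card H : ℂ)⁻¹ * ∑ k : H, (χ : G → ℂ) k)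
      < (charDegree (χ : G → ℂ) : ℝ) ^ 2 := by
  classical
  have hH : H ≠ ⊥ := by
    rintro rfl
    obtain ⟨h, hh, hne⟩ := hker
    rw [Subgroup.mem_bot] at hh
    exact hne (by rw [hh])
  set N := Subgroup.normalizer (H : Set G) with hN
  set c := Complex.normSq ((Nat.card H : ℂ)⁻¹ * ∑ k : H, (χ : G → ℂ) k) with hc
  set d : ℝ := (charDegree (χ : G → ℂ) : ℝ) with hd
  set F : G → ℝ := fun g => Complex.normSq ((χ : G → ℂ) g) with hF
  have hF0 : ∀ g, 0 ≤ F g := fun g => Complex.normSq_nonneg _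
  have hFc : ∀ g x, F (x⁻¹ * g * x) = F g := by
    intro g x
    have := helper81.irr_classFun χ g x⁻¹
    simp only [inv_inv] at this
    show Complex.normSq _ = Complex.normSq _
    rw [this]
  have hU := ft_upper F hF0 hFc (fun g => FTW H g ∧ g ∉ Subgroup.center G)
    (fun g => g ∉ Subgroup.center G) N
    (by
      intro y x hx hy
      apply hx.2
      rw [Subgroup.mem_center_iff] at hy ⊢
      intro g
      have := hy (x * g * x⁻¹)
      calc g * (x⁻¹ * y * x) = x⁻¹ * (x * g * x⁻¹ * y) * x := by group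
        _ = x⁻¹ * (y * (x * g * x⁻¹)) * x := by rw [this]
        _ = x⁻¹ * y * x * g := by group)
    (by
      intro y x x' hx hx'
      have hy : y ∉ Subgroup.center G := by
        intro hy
        apply hx.2
        rw [Subgroup.mem_center_iff] at hy ⊢
        intro g
        have := hy (x * g * x⁻¹)
        calc g * (x⁻¹ * y * x) = x⁻¹ * (x * g * x⁻¹ * y) * x := by group
          _ = x⁻¹ * (y * (x * g * x⁻¹)) * x := by rw [this]
          _ = x⁻¹ * y * x * g := by group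
      exact ftOne_normalizer hone hy hx.1 hx'.1)
  have hT : ∑ g, F g = (Nat.card G : ℝ) := by
    have h := sum_mul_conj_eq_card_mul_classInner (χ : G → ℂ) (χ : G → ℂ)
    rw [helper81.irr_classInner_self χ, mul_one] at h
    have h' : ((∑ g, F g : ℝ) : ℂ) = ((Nat.card G : ℝ) : ℂ) := by
      push_cast
      rw [← h]
      refine Finset.sum_congr rfl fun g _ => ?_
      rw [Complex.mul_conj]
    exact_mod_cast h'
  have hFz : ∀ z ∈ Subgroup.center G, F z = d ^ 2 := by
    intro z hz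
    have h2 : Complex.normSq ((χ : G → ℂ) z / (χ : G → ℂ) 1) = 1 := by
      have := helper84.irr_center_conj_mul χ hz
      rw [mul_comm, Complex.mul_conj] at this
      exact_mod_cast this
    have h3 : (χ : G → ℂ) z = (χ : G → ℂ) z / (χ : G → ℂ) 1 * (χ : G → ℂ) 1 := by
      rw [div_mul_cancel₀ _ (helper81.irr_one_ne_zero χ)]
    show Complex.normSq _ = _
    rw [h3, Complex.normSq_mul, h2, one_mul, helper81.irr_one_eq_charDegree,
      Complex.normSq_natCast]
    ring
  have hZs : ∑ g, (if g ∈ Subgroup.center G then F g else 0)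
      = (Nat.card (Subgroup.center G) : ℝ) * d ^ 2 := by
    rw [← Finset.sum_filter, Finset.sum_congr rfl
      (fun g hg => hFz g (Finset.mem_filter.mp hg).2), Finset.sum_const, nsmul_eq_mul]
    congr 2
    exact (Nat.subtype_card (Finset.univ.filter fun g : G => g ∈ Subgroup.center G)
      (by simp)).symm
  have hsplit1 : ∑ g, (if g ∉ Subgroup.center G then F g else 0)
      = (Nat.card G : ℝ) - (Nat.card (Subgroup.center G) : ℝ) * d ^ 2 := by
    rw [← hT, ← hZs, eq_sub_iff_add_eq, ← Finset.sum_add_distrib]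
    refine Finset.sum_congr rfl fun g _ => ?_
    by_cases hg : g ∈ Subgroup.center G <;> simp [hg]
  have hsplit2 : ∑ g, (if FTW H g then F g else 0)
      = ∑ g, (if FTW H g ∧ g ∉ Subgroup.center G then F g else 0)
        + (Nat.card (Subgroup.center G) : ℝ) * d ^ 2 := by
    rw [← hZs, ← Finset.sum_add_distrib]
    refine Finset.sum_congr rfl fun g _ => ?_
    by_cases hg : g ∈ Subgroup.center G
    · simp [hg, ftW_of_center hH hg]
    · simp [hg]
  have hlow := ft_lower H hone χ hker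
  have hhz := ft_hz_bound H hab hZ hH χ
  have hGpos : (0 : ℝ) < Nat.card G := by exact_mod_cast Nat.card_pos
  have hNpos : (0 : ℝ) < Nat.card N := by exact_mod_cast Nat.card_pos
  have hZpos : (0 : ℝ) < Nat.card (Subgroup.center G) := by exact_mod_cast Nat.card_pos
  have hdpos : (0 : ℝ) < d := by
    rw [hd]
    exact_mod_cast helper81.irr_charDegree_pos χ
  have hHpos : (0 : ℝ) ≤ Nat.card H := Nat.cast_nonneg _
  rw [hsplit1] at hU
  rw [hsplit2] at hlow
  have h1 : (Nat.card G : ℝ) * ((Nat.card N : ℝ)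
      + (Nat.card H : ℝ) * (Nat.card (Subgroup.center G) : ℝ) * c
      - (Nat.card (Subgroup.center G) : ℝ) * d ^ 2)
      ≤ (Nat.card N : ℝ) * ((Nat.card G : ℝ) - (Nat.card (Subgroup.center G) : ℝ) * d ^ 2) := by
    refine le_trans (mul_le_mul_of_nonneg_left ?_ hGpos.le) hU
    linarith
  by_contra hcon
  push Not at hcon
  have h2 : 0 ≤ (Nat.card G : ℝ) * (Nat.card (Subgroup.center G) : ℝ)
      * ((Nat.card H : ℝ) * c - d ^ 2) :=
    mul_nonneg (mul_nonneg hGpos.le hZpos.le) (sub_nonneg.mpr hcon)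
  have h3 : 0 < (Nat.card N : ℝ) * (Nat.card (Subgroup.center G) : ℝ) * d ^ 2 := by positivity
  nlinarith

/-- For an abelian subgroup `H`, `⟨χ_H, χ_H⟩ ≥ χ(1)`. -/
theorem abelian_restrict_norm_ge (H : Subgroup G) [Fintype H]
    (hab : ∀ a ∈ H, ∀ b ∈ H, a * b = b * a) (χ : IrrCharacter G) :
    (charDegree (χ : G → ℂ) : ℝ)
      ≤ ((Nat.card H : ℂ)⁻¹ * ∑ k : H, (χ : G → ℂ) k * conj ((χ : G → ℂ) k)).re := by
  classical
  set d := charDegree (χ : G → ℂ) with hd
  have hχc : IsCharacter G (χ : G → ℂ) := helper81.irr_isCharacter χ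
  have hφ : IsCharacter H (fun h : H => (χ : G → ℂ) h) := helper4.isCharacter_restrict H hχc
  obtain ⟨a, ha1, ha2, ha3⟩ := helper82.exists_nat_decomp hφ
  have hlin : ∀ lam : IrrCharacter H, charDegree (lam : H → ℂ) = 1 := by
    intro lam
    have := helper82.irr_one_of_commutative (G := H)
      (fun x y => Subtype.ext (hab x x.2 y y.2)) lam.2
    exact helper21.charDegree_of_one_eq (by rw [this]; simp)
  have hda : d = ∑ lam : IrrCharacter H, a lam := by
    have h1 : ((d : ℕ) : ℂ)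
        = ((∑ lam : IrrCharacter H, a lam * charDegree (lam : H → ℂ) : ℕ) : ℂ) := by
      rw [← ha3]
      show _ = (χ : G → ℂ) ((1 : H) : G)
      rw [Subgroup.coe_one, helper81.irr_one_eq_charDegree χ]
    have h2 : d = ∑ lam : IrrCharacter H, a lam * charDegree (lam : H → ℂ) := by
      exact_mod_cast h1
    rw [h2]
    refine Finset.sum_congr rfl fun lam _ => ?_
    rw [hlin lam, mul_one]
  have hfun : (fun h : H => (χ : G → ℂ) h)
      = ∑ lam : IrrCharacter H, (a lam : ℂ) • (lam : H → ℂ) := by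
    funext h
    rw [ha2 h]
    simp [Finset.sum_apply]
  have hinner : (Nat.card H : ℂ)⁻¹ * ∑ k : H, (χ : G → ℂ) k * conj ((χ : G → ℂ) k)
      = ((∑ lam : IrrCharacter H, a lam * a lam : ℕ) : ℂ) := by
    have h1 : (Nat.card H : ℂ)⁻¹ * ∑ k : H, (χ : G → ℂ) k * conj ((χ : G → ℂ) k)
        = classInner (fun h : H => (χ : G → ℂ) h) (fun h : H => (χ : G → ℂ) h) := by
      unfold classInner
      rfl
    rw [h1, hfun, helper4.classInner_sum_irr_smul]
    push_cast
    refine Finset.sum_congr rfl fun lam _ => ?_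
    rw [Complex.conj_natCast]
  rw [hinner, Complex.natCast_re, hda]
  have : ∑ lam : IrrCharacter H, a lam ≤ ∑ lam : IrrCharacter H, a lam * a lam :=
    Finset.sum_le_sum fun lam _ => Nat.le_mul_self (a lam)
  exact_mod_cast this

/-- **Feit–Thompson degree bound, second part**: if `χ(1) ≠ 1` and `H` lies in no proper normal
subgroup, then `|H| < (1 + χ(1))²`. -/
theorem ft_degree_bound_two (H : Subgroup G) [Fintype H]
    (hab : ∀ a ∈ H, ∀ b ∈ H, a * b = b * a)
    (hZ : H ⊓ Subgroup.center G = ⊥) (hone : FTOne H) (χ : IrrCharacter G)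
    (hdeg : charDegree (χ : G → ℂ) ≠ 1)
    (hnorm : ∀ M : Subgroup G, M.Normal → H ≤ M → M = ⊤) :
    (Nat.card H : ℝ) < (1 + (charDegree (χ : G → ℂ) : ℝ)) ^ 2 := by
  classical
  set d := charDegree (χ : G → ℂ) with hd
  have hdpos : 0 < d := helper81.irr_charDegree_pos χ
  have hd2 : 2 ≤ d := by omega
  have hχc : IsCharacter G (χ : G → ℂ) := helper81.irr_isCharacter χ
  set Θ : G → ℂ := (χ : G → ℂ) * (fun g => conj ((χ : G → ℂ) g)) with hΘdef
  have hΘ : IsCharacter G Θ := helper4.isCharacter_mul hχc (helper4.isCharacter_conj hχc)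
  obtain ⟨m, hm1, hm2, hm3⟩ := helper82.exists_nat_decomp hΘ
  have hmtriv : m (helper81.trivChar G) = 1 := by
    have h1 := hm1 (helper81.trivChar G)
    have h2 : classInner Θ (helper81.trivChar G : G → ℂ)
        = classInner (χ : G → ℂ) (χ : G → ℂ) := by
      unfold classInner
      congr 1
      refine Finset.sum_congr rfl fun g _ => ?_
      simp [hΘdef]
    rw [h2, helper81.irr_classInner_self] at h1
    exact_mod_cast h1.symm
  have hkerψ : ∀ ψ : IrrCharacter G, ψ ≠ helper81.trivChar G →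
      ∃ h ∈ H, (ψ : G → ℂ) h ≠ (ψ : G → ℂ) 1 := by
    intro ψ hψ
    by_contra hcon
    push Not at hcon
    have hψc := helper81.irr_isCharacter ψ
    have hle : H ≤ helper81.charKer (ψ : G → ℂ) hψc :=
      fun h hh => (helper81.mem_charKer _ _ _).mpr (hcon h hh)
    have htop := hnorm _ (helper81.charKer_normal _ hψc) hle
    obtain ⟨g, hg⟩ := helper81.irr_exists_ne_of_ne_triv ψ hψ
    apply hg
    have : g ∈ helper81.charKer (ψ : G → ℂ) hψc := by
      rw [htop]
      exact Subgroup.mem_top g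
    exact (helper81.mem_charKer _ _ _).mp this
  set s : ℝ := Real.sqrt (Nat.card H) with hs
  have hs0 : 0 ≤ s := Real.sqrt_nonneg _
  have hs2 : s ^ 2 = (Nat.card H : ℝ) := Real.sq_sqrt (Nat.cast_nonneg _)
  let cc : IrrCharacter G → ℂ := fun ψ => (Nat.card H : ℂ)⁻¹ * ∑ k : H, (ψ : G → ℂ) k
  have hb1 : ∀ ψ : IrrCharacter G, ψ ≠ helper81.trivChar G →
      s * (cc ψ).re < (charDegree (ψ : G → ℂ) : ℝ) := by
    intro ψ hψ
    have h1 := ft_degree_bound H hab hZ hone ψ (hkerψ ψ hψ)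
    have h2 : (cc ψ).re ^ 2 ≤ Complex.normSq (cc ψ) := by
      rw [Complex.normSq_apply]
      nlinarith [mul_self_nonneg (cc ψ).im]
    have h3 : (s * (cc ψ).re) ^ 2 < (charDegree (ψ : G → ℂ) : ℝ) ^ 2 := by
      rw [mul_pow, hs2]
      calc (Nat.card H : ℝ) * (cc ψ).re ^ 2
          ≤ (Nat.card H : ℝ) * Complex.normSq (cc ψ) :=
            mul_le_mul_of_nonneg_left h2 (Nat.cast_nonneg _)
        _ < _ := h1
    exact lt_of_pow_lt_pow_left₀ 2 (Nat.cast_nonneg _) h3
  have hdeg2 : (d : ℝ) ^ 2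
      = ∑ ψ : IrrCharacter G, (m ψ : ℝ) * (charDegree (ψ : G → ℂ) : ℝ) := by
    have h1 : Θ 1 = ((d ^ 2 : ℕ) : ℂ) := by
      simp only [hΘdef, Pi.mul_apply]
      rw [helper81.irr_one_eq_charDegree χ, Complex.conj_natCast]
      push_cast
      ring
    rw [h1] at hm3
    have h2 : d ^ 2 = ∑ ψ : IrrCharacter G, m ψ * charDegree (ψ : G → ℂ) := by
      exact_mod_cast hm3
    have h3 : ((d ^ 2 : ℕ) : ℝ)
        = ((∑ ψ : IrrCharacter G, m ψ * charDegree (ψ : G → ℂ) : ℕ) : ℝ) := by rw [h2]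
    push_cast at h3
    exact h3
  have hcΘ : ((Nat.card H : ℂ)⁻¹ * ∑ k : H, Θ k).re
      = ∑ ψ : IrrCharacter G, (m ψ : ℝ) * (cc ψ).re := by
    have h1 : (Nat.card H : ℂ)⁻¹ * ∑ k : H, Θ k = ∑ ψ : IrrCharacter G, (m ψ : ℂ) * cc ψ := by
      simp only [hm2, cc]
      rw [Finset.sum_comm, Finset.mul_sum]
      refine Finset.sum_congr rfl fun ψ _ => ?_
      rw [← Finset.mul_sum]
      ring
    rw [h1, Complex.re_sum]
    refine Finset.sum_congr rfl fun ψ _ => ?_
    simp
  have hge : (d : ℝ) ≤ ((Nat.card H : ℂ)⁻¹ * ∑ k : H, Θ k).re :=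
    abelian_restrict_norm_ge H hab χ
  have hcctriv : cc (helper81.trivChar G) = 1 := by
    have hne : (Nat.card H : ℂ) ≠ 0 := by
      rw [Nat.card_eq_fintype_card]
      exact_mod_cast Fintype.card_ne_zero
    simp only [cc, helper81.trivChar_apply, Finset.sum_const, Finset.card_univ, nsmul_eq_mul,
      mul_one]
    rw [← Nat.card_eq_fintype_card, inv_mul_cancel₀ hne]
  have hdtriv : charDegree (helper81.trivChar G : G → ℂ) = 1 :=
    helper21.charDegree_of_one_eq (by simp)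
  have hA : (d : ℝ) ^ 2 - 1 = ∑ ψ ∈ Finset.univ.erase (helper81.trivChar G),
      (m ψ : ℝ) * (charDegree (ψ : G → ℂ) : ℝ) := by
    rw [hdeg2, ← Finset.add_sum_erase Finset.univ _ (Finset.mem_univ (helper81.trivChar G)),
      hmtriv, hdtriv]
    simp
  have hB : ((Nat.card H : ℂ)⁻¹ * ∑ k : H, Θ k).re - 1
      = ∑ ψ ∈ Finset.univ.erase (helper81.trivChar G), (m ψ : ℝ) * (cc ψ).re := by
    rw [hcΘ, ← Finset.add_sum_erase Finset.univ _ (Finset.mem_univ (helper81.trivChar G)),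
      hmtriv, hcctriv]
    simp
  have hd2' : (2 : ℝ) ≤ d := by exact_mod_cast hd2
  have hex : ∃ ψ ∈ Finset.univ.erase (helper81.trivChar G), 0 < m ψ := by
    by_contra hcon
    push Not at hcon
    have h0 : (d : ℝ) ^ 2 - 1 = 0 := by
      rw [hA]
      refine Finset.sum_eq_zero fun ψ hψ => ?_
      have := hcon ψ hψ
      have h0 : m ψ = 0 := by omega
      simp [h0]
    nlinarith
  have hlt : s * ∑ ψ ∈ Finset.univ.erase (helper81.trivChar G), (m ψ : ℝ) * (cc ψ).re
      < ∑ ψ ∈ Finset.univ.erase (helper81.trivChar G),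
          (m ψ : ℝ) * (charDegree (ψ : G → ℂ) : ℝ) := by
    rw [Finset.mul_sum]
    refine Finset.sum_lt_sum ?_ ?_
    · intro ψ hψ
      have := hb1 ψ (Finset.ne_of_mem_erase hψ)
      have hm0 : (0 : ℝ) ≤ m ψ := Nat.cast_nonneg _
      nlinarith
    · obtain ⟨ψ, hψ, hmψ⟩ := hex
      refine ⟨ψ, hψ, ?_⟩
      have := hb1 ψ (Finset.ne_of_mem_erase hψ)
      have hm0 : (0 : ℝ) < m ψ := by exact_mod_cast hmψ
      nlinarith
  rw [← hA, ← hB] at hlt
  have h9 : s * ((d : ℝ) - 1) < ((d : ℝ) - 1) * ((d : ℝ) + 1) := by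
    calc s * ((d : ℝ) - 1) ≤ s * (((Nat.card H : ℂ)⁻¹ * ∑ k : H, Θ k).re - 1) := by
          apply mul_le_mul_of_nonneg_left _ hs0
          linarith
      _ < (d : ℝ) ^ 2 - 1 := hlt
      _ = _ := by ring
  have h10 : s < (d : ℝ) + 1 := by
    by_contra hcon
    push Not at hcon
    nlinarith
  rw [← hs2]
  nlinarith

end FTMain

end Cfsg.Agent.Lib.helper78
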