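import Mathlib

/-!
# S3571 piece M6b (helper78): a group of order 15, 30 or 45 has an element of order 15.
-/

set_option autoImplicit false

namespace Cfsg.Agent.Lib.helper78.AD

open scoped Pointwise
open Equiv MulAction

/-- A normal subgroup of order `5` in a group of order divisible by `3` gives an element of
order `15`. -/
theorem m6b_of_normal {G : Type*} [Group G] [Finite G] (P : Subgroup G) (hPn : P.Normal)
    (hP5 : Nat.card P = 5) (h3 : 3 ∣ Nat.card G) : ∃ g : G, orderOf g = 15 := by
  have : Fact (Nat.Prime 3) := ⟨by norm_num⟩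
  have : Fact (Nat.Prime 5) := ⟨by norm_num⟩
  obtain ⟨y, hy⟩ := exists_prime_orderOf_dvd_card' 3 h3
  have h5 : 5 ∣ Nat.card P := by rw [hP5]
  obtain ⟨c, hc⟩ := exists_prime_orderOf_dvd_card' 5 h5
  have : IsCyclic P := isCyclic_of_prime_card hP5
  have hAut : Nat.card (MulAut P) = 4 := by
    rw [IsCyclic.card_mulAut, hP5]
    decide
  have h1 : orderOf ((MulAut.conjNormal : G →* MulAut P) y) ∣ 3 :=
    hy ▸ orderOf_map_dvd (MulAut.conjNormal : G →* MulAut P) y
  have h2 : orderOf ((MulAut.conjNormal : G →* MulAut P) y) ∣ 4 :=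
    hAut ▸ orderOf_dvd_natCard ((MulAut.conjNormal : G →* MulAut P) y)
  have h3' : orderOf ((MulAut.conjNormal : G →* MulAut P) y) = 1 := by
    have := Nat.dvd_gcd h1 h2
    simpa using this
  have hφ : (MulAut.conjNormal : G →* MulAut P) y = 1 := orderOf_eq_one_iff.mp h3'
  have hcomm : Commute y (c : G) := by
    have h4 : (((MulAut.conjNormal : G →* MulAut P) y) c : G) = (c : G) := by
      rw [hφ]; rfl
    rw [MulAut.conjNormal_apply] at h4
    have : y * (c : G) = (c : G) * y := by
      calc y * (c : G) = y * (c : G) * y⁻¹ * y := by group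
        _ = (c : G) * y := by rw [h4]
    exact this
  refine ⟨y * c, ?_⟩
  have hc' : orderOf (c : G) = 5 := by rw [Subgroup.orderOf_coe, hc]
  rw [hcomm.orderOf_mul_eq_mul_orderOf_of_coprime (by rw [hy, hc']; norm_num), hy, hc']

/-- A group of order `5 * k` with `k ∈ {3, 9}` has a normal subgroup of order `5`. -/
theorem m6b_normal_sylow {G : Type*} [Group G] [Finite G] (k : ℕ) (hk : k = 3 ∨ k = 9)
    (hG : Nat.card G = 5 * k) : ∃ P : Subgroup G, P.Normal ∧ Nat.card P = 5 := by
  have : Fact (Nat.Prime 5) := ⟨by norm_num⟩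
  obtain ⟨P⟩ : Nonempty (Sylow 5 G) := inferInstance
  have hk5 : ¬ 5 ∣ k := by rcases hk with rfl | rfl <;> norm_num
  have hk0 : k ≠ 0 := by rcases hk with rfl | rfl <;> norm_num
  have hP : Nat.card P = 5 := by
    rw [Sylow.card_eq_multiplicity, hG, Nat.factorization_mul (by norm_num) hk0]
    simp [Nat.Prime.factorization_self (by norm_num : Nat.Prime 5),
      Nat.factorization_eq_zero_of_not_dvd hk5]
  have hidx : (P : Subgroup G).index = k := by
    have h := Subgroup.card_mul_index (P : Subgroup G)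
    rw [hP, hG] at h
    exact Nat.eq_of_mul_eq_mul_left (by norm_num) h
  have hd : Nat.card (Sylow 5 G) ∣ k := hidx ▸ Sylow.card_dvd_index P
  have hm : Nat.card (Sylow 5 G) ≡ 1 [MOD 5] := card_sylow_modEq_one 5 G
  have hone : Nat.card (Sylow 5 G) = 1 := by
    have hle : Nat.card (Sylow 5 G) ≤ k := Nat.le_of_dvd (Nat.pos_of_ne_zero hk0) hd
    have hpos : 0 < Nat.card (Sylow 5 G) := Nat.card_pos
    unfold Nat.ModEq at hm
    rcases hk with rfl | rfl
    · interval_cases (Nat.card (Sylow 5 G)) <;> simp_all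
    · interval_cases (Nat.card (Sylow 5 G)) <;> simp_all
  have : Subsingleton (Sylow 5 G) := (Nat.card_eq_one_iff_unique.mp hone).1
  exact ⟨P, Sylow.normal_of_subsingleton P, hP⟩

/-- Orders `15` and `45`. -/
theorem m6b_odd {G : Type*} [Group G] [Finite G]
    (h : Nat.card G = 15 ∨ Nat.card G = 45) : ∃ g : G, orderOf g = 15 := by
  rcases h with h | h
  · obtain ⟨P, hPn, hP⟩ := m6b_normal_sylow (G := G) 3 (Or.inl rfl) (by rw [h])
    exact m6b_of_normal P hPn hP (by rw [h]; norm_num)
  · obtain ⟨P, hPn, hP⟩ := m6b_normal_sylow (G := G) 9 (Or.inr rfl) (by rw [h])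
    exact m6b_of_normal P hPn hP (by rw [h]; norm_num)

/-- M6b -/
theorem exists_orderOf_fifteen {G : Type*} [Group G] [Finite G]
    (h : Nat.card G = 15 ∨ Nat.card G = 30 ∨ Nat.card G = 45) : ∃ g : G, orderOf g = 15 := by
  rcases h with h | h | h
  · exact m6b_odd (Or.inl h)
  · have : Fact (Nat.Prime 2) := ⟨by norm_num⟩
    have hmin : (Nat.card G).minFac = 2 := by
      rw [Nat.minFac_eq_two_iff, h]; norm_num
    obtain ⟨P⟩ : Nonempty (Sylow 2 G) := inferInstance
    have hP : Nat.card P = 2 := by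
      rw [Sylow.card_eq_multiplicity, h, show 30 = 2 * 15 from rfl,
        Nat.factorization_mul (by norm_num) (by norm_num)]
      simp [Nat.Prime.factorization_self (by norm_num : Nat.Prime 2),
        Nat.factorization_eq_zero_of_not_dvd (by norm_num : ¬ 2 ∣ 15)]
    have hcyc : IsCyclic P := isCyclic_of_prime_card hP
    have hcompl := IsCyclic.isComplement' hmin hcyc
    have hcard := hcompl.card_mul_card
    rw [hP, h] at hcard
    have hK : Nat.card (MonoidHom.transferSylow P (hcyc.normalizer_le_centralizer hmin)).ker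
        = 15 := by omega
    obtain ⟨g, hg⟩ := m6b_odd (G := (MonoidHom.transferSylow P
      (hcyc.normalizer_le_centralizer hmin)).ker) (Or.inl hK)
    exact ⟨(g : G), by rw [Subgroup.orderOf_coe, hg]⟩
  · exact m6b_odd (Or.inr h)

end Cfsg.Agent.Lib.helper78.AD
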