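import Mathlib
import Cfsg.Agent.Lib.helper7.ADGen
import Cfsg.Agent.Lib.helper56.ADC
import Cfsg.Agent.Lib.helper78.ADM6b

/-!
# S3571 piece M6 (helper78), core form: degree 6, with M6d as an explicit hypothesis.
-/

set_option autoImplicit false

namespace Cfsg.Agent.Lib.helper78.AD

open scoped Pointwise
open Equiv MulAction

/-- `K ⊓ A_6` cannot have order `15`, `30` or `45`. -/
theorem m6_card_inf_ne (K : Subgroup (Perm (Fin 6)))
    (h : Nat.card ↥(K ⊓ alternatingGroup (Fin 6)) = 15 ∨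
      Nat.card ↥(K ⊓ alternatingGroup (Fin 6)) = 30 ∨
      Nat.card ↥(K ⊓ alternatingGroup (Fin 6)) = 45) : False := by
  obtain ⟨g, hg⟩ := exists_orderOf_fifteen (G := ↥(K ⊓ alternatingGroup (Fin 6))) h
  apply Cfsg.Agent.Lib.helper56.AD.orderOf_ne_fifteen (g : Perm (Fin 6))
  rw [Subgroup.orderOf_coe, hg]

/-- M6 with M6d as a hypothesis. -/
theorem alt6_main_core
    (hM6d : ∀ K : Subgroup (Perm (Fin 6)), K.relIndex (alternatingGroup (Fin 6)) = 6 →
      ∃ x ∈ alternatingGroup (Fin 6), orderOf x = 3 ∧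
        ∀ g ∈ alternatingGroup (Fin 6), g * x * g⁻¹ ∉ K)
    (K : Subgroup (Perm (Fin 6)))
    (r : ℕ) (hr : r.Prime) (hrd : r ∣ K.relIndex (alternatingGroup (Fin 6)))
    (hmaxr : ∀ q : ℕ, q.Prime → q ∣ K.relIndex (alternatingGroup (Fin 6)) → q ≤ r) :
    ∃ x ∈ alternatingGroup (Fin 6), orderOf x = r ∧
      ∀ g ∈ alternatingGroup (Fin 6), g * x * g⁻¹ ∉ K := by
  by_cases hrK : r ∣ Nat.card ↥(K ⊓ alternatingGroup (Fin 6))
  swap
  · exact Cfsg.Agent.Lib.helper7.AD.gen_of_not_dvd 6 K r hr hrd hrK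
  have hcard : Nat.card ↥(alternatingGroup (Fin 6)) = 360 := by
    rw [nat_card_alternatingGroup]; simp [Nat.factorial]
  have hnk := Cfsg.Agent.Lib.helper7.AD.card_alt_eq 6 K
  rw [hcard] at hnk
  have hnotle : ¬ alternatingGroup (Fin 6) ≤ K := by
    intro hle
    have h1 : K.relIndex (alternatingGroup (Fin 6)) = 1 := Subgroup.relIndex_eq_one.mpr hle
    rw [h1] at hrd
    exact hr.one_lt.ne' (Nat.dvd_one.mp hrd)
  have hn6 := Cfsg.Agent.Lib.helper56.AD.alt6_relIndex_ge K hnotle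
  generalize hn : K.relIndex (alternatingGroup (Fin 6)) = n at hnk hrd hmaxr hn6
  have hK15 := m6_card_inf_ne K
  generalize Nat.card ↥(K ⊓ alternatingGroup (Fin 6)) = k at hnk hrK hK15
  -- `r ^ 2 ∣ 360`
  have hrr : r * r ∣ 360 := by rw [hnk]; exact Nat.mul_dvd_mul hrd hrK
  have hr23 : r = 2 ∨ r = 3 := by
    have hle : r * r ≤ 360 := Nat.le_of_dvd (by norm_num) hrr
    have hr19 : r < 19 := by nlinarith
    have h2 := hr.two_le
    interval_cases r <;>
      first | omega | exact absurd hrr (by decide) | exact absurd hr (by decide)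
  have h5n : ¬ 5 ∣ n := by
    intro h
    have := hmaxr 5 (by norm_num) h
    rcases hr23 with rfl | rfl <;> omega
  have h5k : 5 ∣ k := by
    have h : 5 ∣ n * k := by rw [← hnk]; norm_num
    exact ((Nat.Prime.dvd_mul (by norm_num)).1 h).resolve_left h5n
  rcases hr23 with rfl | rfl
  · -- `r = 2`: `n = 8`, `k = 45`
    have h3n : ¬ 3 ∣ n := by
      intro h
      have := hmaxr 3 (by norm_num) h
      omega
    have h9k : 9 ∣ k := by
      have hc : Nat.Coprime 9 n :=
        Nat.Coprime.pow_left 2 ((Nat.Prime.coprime_iff_not_dvd (by norm_num)).2 h3n)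
      have h : 9 ∣ n * k := by rw [← hnk]; norm_num
      exact hc.dvd_of_dvd_mul_left h
    obtain ⟨j, rfl⟩ : 45 ∣ k :=
      Nat.Coprime.mul_dvd_of_dvd_of_dvd (by norm_num : Nat.Coprime 9 5) h9k h5k
    have hnj : n * j = 8 := by nlinarith
    have hj1 : j = 1 := by
      have hj0 : j ≠ 0 := by rintro rfl; omega
      have : 6 * j ≤ 8 := by nlinarith
      omega
    subst hj1
    exact (hK15 (Or.inr (Or.inr rfl))).elim
  · -- `r = 3`: `n ∈ {6, 12, 24}`
    obtain ⟨j, rfl⟩ : 15 ∣ k :=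
      Nat.Coprime.mul_dvd_of_dvd_of_dvd (by norm_num : Nat.Coprime 3 5) hrK h5k
    have hnj : n * j = 24 := by nlinarith
    have hj0 : 1 ≤ j := by
      rcases Nat.eq_zero_or_pos j with rfl | h
      · omega
      · exact h
    have hj4 : j ≤ 4 := by
      have : 6 * j ≤ 24 := by nlinarith
      omega
    interval_cases j
    · exact (hK15 (Or.inl rfl)).elim
    · exact (hK15 (Or.inr (Or.inl rfl))).elim
    · omega
    · have h6 : n = 6 := by omega
      exact hM6d K (hn.trans h6)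

end Cfsg.Agent.Lib.helper78.AD
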