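import Mathlib
import Cfsg.Agent.Lib.helper61.ADM6d
import Cfsg.Agent.Lib.helper78.ADM6core

/-!
# S3571 piece M6 (helper78): the degree 6 case (assembly of GEN, M6a, M6b, M6c, M6d).
-/

set_option autoImplicit false

namespace Cfsg.Agent.Lib.helper78.AD

open scoped Pointwise
open Equiv MulAction

/-- M6 (assembly of degree 6; uses GEN, M6a, M6b, M6c, M6d) -/
theorem alt6_main (K : Subgroup (Perm (Fin 6)))
    (r : ℕ) (hr : r.Prime) (hrd : r ∣ K.relIndex (alternatingGroup (Fin 6)))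
    (hmaxr : ∀ q : ℕ, q.Prime → q ∣ K.relIndex (alternatingGroup (Fin 6)) → q ≤ r) :
    ∃ x ∈ alternatingGroup (Fin 6), orderOf x = r ∧
      ∀ g ∈ alternatingGroup (Fin 6), g * x * g⁻¹ ∉ K :=
  alt6_main_core Cfsg.Agent.Lib.helper61.AD.alt6_relIndex_six K r hr hrd hmaxr

end Cfsg.Agent.Lib.helper78.AD
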