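import Mathlib
import Cfsg.Agent.Lib.helper2.BGDefs
import Cfsg.Agent.Lib.helper20.D1EFinal
import Cfsg.Agent.Lib.helper4.CharDecomp
import Cfsg.Agent.Lib.helper81.Kernel

/-!
# S4504 split, sub-split of piece G, piece GA (helper78): decomposition of a character with
natural multiplicities, and the inner product of two decomposed functions.
-/

set_option autoImplicit false

open Cfsg Cfsg.Agent.Lib.helper20.D1E Cfsg.Agent.Lib.helper2.BF
open scoped ComplexConjugate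

namespace Cfsg.Agent.Lib.helper2.BG

variable {G : Type*} [Group G] [Fintype G]

/-- The value at `1` of a character is its degree. -/
theorem helper78_charDegree_cast (χ : G → ℂ) (hχ : IsCharacter G χ) :
    χ 1 = (charDegree χ : ℂ) := by
  obtain ⟨n, hn⟩ := Cfsg.Agent.Lib.helper4.exists_nat_degree hχ
  unfold charDegree
  rw [hn]
  simp

/-- The degree of a function whose value at `1` is a natural number. -/
theorem helper78_charDegree_eq (χ : G → ℂ) (n : ℕ) (h : χ 1 = (n : ℂ)) : charDegree χ = n := by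
  unfold charDegree
  rw [h]
  simp

/-- GA1 (decomposition of a character with natural multiplicities). -/
theorem helper21_char_decomp (Ξ : G → ℂ) (hΞ : IsCharacter G Ξ) :
    ∃ m : IrrCharacter G → ℕ,
      (∀ ξ : IrrCharacter G, classInner Ξ (ξ : G → ℂ) = (m ξ : ℂ)) ∧
      (∀ g : G, Ξ g = ∑ ξ : IrrCharacter G, (m ξ : ℂ) * (ξ : G → ℂ) g) ∧
      charDegree Ξ = ∑ ξ : IrrCharacter G, m ξ * charDegree (ξ : G → ℂ) := by
  choose m hm using fun ξ : IrrCharacter G =>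
    Cfsg.Agent.Lib.helper4.exists_nat_classInner_irr hΞ ξ.2
  have hexp : ∀ g : G, Ξ g = ∑ ξ : IrrCharacter G, (m ξ : ℂ) * (ξ : G → ℂ) g := by
    intro g
    have h1 := congrFun (Cfsg.Agent.Lib.helper4.classFunction_eq_sum_irr
      (Cfsg.Agent.Lib.helper4.isClassFunction_of_isCharacter hΞ)) g
    rw [Finset.sum_apply] at h1
    refine h1.trans (Finset.sum_congr rfl (fun ξ _ => ?_))
    rw [Pi.smul_apply, smul_eq_mul, hm ξ]
  refine ⟨m, hm, hexp, ?_⟩
  have h1 : Ξ 1 = ((∑ ξ : IrrCharacter G, m ξ * charDegree (ξ : G → ℂ) : ℕ) : ℂ) := by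
    rw [hexp 1]
    push_cast
    refine Finset.sum_congr rfl (fun ξ _ => ?_)
    rw [helper78_charDegree_cast (ξ : G → ℂ)
      (Cfsg.Agent.Lib.helper4.isCharacter_of_isIrrCharacter ξ.2)]
  exact helper78_charDegree_eq Ξ _ h1

/-- GA2 (inner product of two decomposed functions). -/
theorem helper21_char_decomp_inner (Ξ₁ Ξ₂ : G → ℂ) (m₁ m₂ : IrrCharacter G → ℕ)
    (h₁ : ∀ g : G, Ξ₁ g = ∑ ξ : IrrCharacter G, (m₁ ξ : ℂ) * (ξ : G → ℂ) g)
    (h₂ : ∀ g : G, Ξ₂ g = ∑ ξ : IrrCharacter G, (m₂ ξ : ℂ) * (ξ : G → ℂ) g) :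
    ∑ g : G, Ξ₁ g * conj (Ξ₂ g) =
      (Nat.card G : ℂ) * ∑ ξ : IrrCharacter G, ((m₁ ξ * m₂ ξ : ℕ) : ℂ) := by
  have e₁ : Ξ₁ = ∑ ξ : IrrCharacter G, (m₁ ξ : ℂ) • (ξ : G → ℂ) := by
    funext g
    rw [h₁ g, Finset.sum_apply]
    rfl
  have e₂ : Ξ₂ = ∑ ξ : IrrCharacter G, (m₂ ξ : ℂ) • (ξ : G → ℂ) := by
    funext g
    rw [h₂ g, Finset.sum_apply]
    rfl
  have key := Cfsg.Agent.Lib.helper4.classInner_sum_irr_smul (G := G)
    (fun ξ => (m₁ ξ : ℂ)) (fun ξ => (m₂ ξ : ℂ))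
  rw [← e₁, ← e₂] at key
  unfold classInner at key
  have hG : (Nat.card G : ℂ) ≠ 0 := by
    have hpos : 0 < Nat.card G := Nat.card_pos
    exact_mod_cast hpos.ne'
  have h3 : ∑ g : G, Ξ₁ g * conj (Ξ₂ g) =
      (Nat.card G : ℂ) * ((Nat.card G : ℂ)⁻¹ * ∑ g : G, Ξ₁ g * conj (Ξ₂ g)) := by
    field_simp
  rw [h3, key]
  congr 1
  refine Finset.sum_congr rfl (fun ξ _ => ?_)
  rw [Complex.conj_natCast]
  push_cast
  rfl

end Cfsg.Agent.Lib.helper2.BG
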