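import Mathlib
import Cfsg.Agent.Lib.helper2.BGDefs
import Cfsg.Agent.Lib.helper20.D1EFinal
import Cfsg.Agent.Lib.helper4.CharDecomp
import Cfsg.Agent.Lib.helper81.Kernel

/-!
# S4504 split, sub-split of piece G, piece GB (helper78): the trivial character lies in `X`
with sign `+1` when `2e + 1 = p ≥ 5`.
-/

set_option autoImplicit false

open Cfsg Cfsg.Agent.Lib.helper20.D1E Cfsg.Agent.Lib.helper2.BF
open scoped ComplexConjugate

namespace Cfsg.Agent.Lib.helper2.BG

variable {G : Type*} [Group G] [Fintype G]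

/-- GB (the trivial character is in `X` with sign `+1` when `2e + 1 = p ≥ 5`). -/
theorem helper21_one_mem_X (p : ℕ) [Fact p.Prime] (P : Sylow p G) (H : Subgroup (ZMod p)ˣ)
    (M : Ideal AlgInt) (hM : IsPModular p M) (X Y : Set (IrrCharacter G))
    (εX : IrrCharacter G → ℤ) (ε : ℤ) (hD : PBData p M P (Nat.card H) X Y εX ε)
    (hp5 : 5 ≤ p) (het : 2 * Nat.card H + 1 = p) :
    ∃ ξ₁ ∈ X, (∀ g : G, (ξ₁ : G → ℂ) g = 1) ∧ εX ξ₁ = 1 := by
  have hmem : Cfsg.Agent.Lib.helper81.trivChar G ∈ principalBlock M G :=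
    Cfsg.Agent.Lib.helper81.trivChar_mem_principalBlock hM.2.1.isPrime
  rw [hD.union] at hmem
  have hdeg1 : charDegree ((Cfsg.Agent.Lib.helper81.trivChar G : IrrCharacter G) : G → ℂ)
      = 1 := by
    unfold charDegree
    simp
  have hpe : (p : ℤ) = 2 * (Nat.card H : ℤ) + 1 := by exact_mod_cast het.symm
  have hp5' : (5 : ℤ) ≤ (p : ℤ) := by exact_mod_cast hp5
  rcases hmem with hX | hY
  · refine ⟨_, hX, fun g => rfl, ?_⟩
    have h1 := hD.degX _ hX
    rw [hdeg1, Nat.cast_one] at h1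
    rcases hD.signX _ hX with h | h
    · exact h
    · exfalso
      rw [h] at h1
      have h2 : (p : ℤ) ∣ -1 - 1 := Int.modEq_iff_dvd.1 h1
      have h3 : (p : ℤ) ∣ 2 := by
        have h4 : (2 : ℤ) = -(-1 - 1) := by norm_num
        rw [h4]
        exact (dvd_neg).2 h2
      have h5 := Int.le_of_dvd (by norm_num) h3
      omega
  · exfalso
    have h1 := hD.degY _ hY
    rw [hdeg1, Nat.cast_one] at h1
    rcases hD.signY with h | h
    · rw [h] at h1
      have h2 : (p : ℤ) ∣ 1 * (Nat.card H : ℤ) - 1 := Int.modEq_iff_dvd.1 h1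
      have h3 : (0 : ℤ) < 1 * (Nat.card H : ℤ) - 1 := by omega
      have h4 := Int.le_of_dvd h3 h2
      omega
    · rw [h] at h1
      have h2 : (p : ℤ) ∣ (-1) * (Nat.card H : ℤ) - 1 := Int.modEq_iff_dvd.1 h1
      have h3 : (p : ℤ) ∣ (Nat.card H : ℤ) + 1 := by
        have h4 : (Nat.card H : ℤ) + 1 = -((-1) * (Nat.card H : ℤ) - 1) := by ring
        rw [h4]
        exact (dvd_neg).2 h2
      have h5 := Int.le_of_dvd (by omega) h3
      omega

end Cfsg.Agent.Lib.helper2.BG
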