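import Mathlib
import Cfsg.Agent.Lib.helper78.KleinBlock
import Cfsg.Agent.Lib.helper79.BrauerFeit
import Cfsg.Agent.Lib.helper79.DefectDeg
import Cfsg.Agent.Lib.helper80.FMT2
import Cfsg.Agent.Lib.helper80.InducedBr
import Cfsg.Agent.Lib.helper84.MinMax

/-!
# `2`-blocks of defect one (helper78)

* `exists_two_of_defect_one` : a `2`-block of defect `1` consists of two characters, equal on the
  elements of odd order and opposite on the elements of even order.
* `induced_unique_of_defect_zpowers` : if `⟨x⟩` (`x` an involution) is a defect group of `B`, the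
  block of `C_G(x)` inducing `B` is unique and has defect group `⟨x⟩`.
* `defect_one_two_block` : Brauer's description of `B` on the section of `x`.
-/

set_option autoImplicit false
set_option linter.style.haveILetI false
set_option linter.unusedSectionVars false

namespace Cfsg.Agent.Lib.helper78

open Cfsg
open scoped ComplexConjugate

universe u

section DefectOne

open scoped Classical in
/-- A `2`-block of defect one consists of two characters, which agree on the elements of odd
order and are opposite on the elements of even order. -/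
theorem exists_two_of_defect_one {H : Type u} [Group H] [Finite H] {M : Ideal AlgInt}
    (hM : IsPModular 2 M) {B : Set (IrrCharacter H)} (hB : IsPBlock M B)
    (hd : blockDefect 2 B = 1) :
    ∃ χ₁ χ₂ : IrrCharacter H, χ₁ ≠ χ₂ ∧ B = {χ₁, χ₂} ∧
      (∀ g : H, ¬ 2 ∣ orderOf g → (χ₁ : H → ℂ) g = (χ₂ : H → ℂ) g) ∧
      (∀ g : H, 2 ∣ orderOf g → (χ₂ : H → ℂ) g = -(χ₁ : H → ℂ) g) := by
  haveI : Fintype H := Fintype.ofFinite H
  haveI : Fact (Nat.Prime 2) := ⟨Nat.prime_two⟩
  obtain ⟨χ₀, m, hχ₀, hm0, hmne, hexp, hsq, hmpos, hmle⟩ :=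
    Cfsg.Agent.Lib.helper79.exists_contribution_row hM hB
  rw [hd] at hexp hsq hmle
  have hsplit : ∑ ψ : IrrCharacter H, m ψ ^ 2
      = m χ₀ ^ 2 + ∑ ψ ∈ Finset.univ.erase χ₀, m ψ ^ 2 :=
    (Finset.add_sum_erase _ _ (Finset.mem_univ χ₀)).symm
  have hm12 : m χ₀ = 1 ∨ m χ₀ = 2 := by
    norm_num at hmle
    omega
  rcases hm12 with h1 | h2
  · have hrest : ∑ ψ ∈ Finset.univ.erase χ₀, m ψ ^ 2 = 1 := by
      rw [hsplit, h1] at hsq
      norm_num at hsq
      linarith
    have hex : ∃ ψ₀ ∈ Finset.univ.erase χ₀, m ψ₀ ≠ 0 := by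
      by_contra hcon
      push Not at hcon
      rw [Finset.sum_eq_zero (fun ψ hψ => by rw [hcon ψ hψ]; ring)] at hrest
      norm_num at hrest
    obtain ⟨ψ₀, hψ₀mem, hψ₀ne⟩ := hex
    have hψ₀χ₀ : ψ₀ ≠ χ₀ := (Finset.mem_erase.mp hψ₀mem).1
    have hsplit2 : ∑ ψ ∈ Finset.univ.erase χ₀, m ψ ^ 2
        = m ψ₀ ^ 2 + ∑ ψ ∈ (Finset.univ.erase χ₀).erase ψ₀, m ψ ^ 2 :=
      (Finset.add_sum_erase _ _ hψ₀mem).symm
    have hnn : 0 ≤ ∑ ψ ∈ (Finset.univ.erase χ₀).erase ψ₀, m ψ ^ 2 :=
      Finset.sum_nonneg (fun ψ _ => sq_nonneg _)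
    have hge : 1 ≤ m ψ₀ ^ 2 := by
      have h3 : m ψ₀ ≤ -1 ∨ 1 ≤ m ψ₀ := by omega
      rcases h3 with h | h <;> nlinarith
    have hψ₀sq : m ψ₀ ^ 2 = 1 := by linarith
    have hz : ∑ ψ ∈ (Finset.univ.erase χ₀).erase ψ₀, m ψ ^ 2 = 0 := by linarith
    have hothers : ∀ ψ : IrrCharacter H, ψ ≠ χ₀ → ψ ≠ ψ₀ → m ψ = 0 := by
      intro ψ h1' h2'
      have h3 := (Finset.sum_eq_zero_iff_of_nonneg (fun ψ _ => sq_nonneg (m ψ))).mp hz ψ
        (by simp [h1', h2'])
      exact pow_eq_zero_iff (two_ne_zero) |>.mp h3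
    have hψ₀B : ψ₀ ∈ B := by
      by_contra h
      exact hψ₀ne (hm0 ψ₀ h)
    have hBeq : B = {χ₀, ψ₀} := by
      ext ψ
      constructor
      · intro hψ
        by_contra hne
        rw [Set.mem_insert_iff, Set.mem_singleton_iff, not_or] at hne
        exact hmne ψ hψ (hothers ψ hne.1 hne.2)
      · rintro (rfl | rfl)
        · exact hχ₀
        · exact hψ₀B
    have hexp' : ∀ g : H, 2 * pRegularPart 2 (χ₀ : H → ℂ) g
        = (χ₀ : H → ℂ) g + (m ψ₀ : ℂ) * (ψ₀ : H → ℂ) g := by
      intro g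
      have h3 := hexp g
      rw [← Finset.add_sum_erase _ _ (Finset.mem_univ χ₀), ← Finset.add_sum_erase _ _ hψ₀mem,
        Finset.sum_eq_zero (fun ψ hψ => by
          rw [hothers ψ (Finset.mem_erase.mp (Finset.mem_erase.mp hψ).2).1
            (Finset.mem_erase.mp hψ).1]
          simp), h1] at h3
      simpa using h3
    have hc : m ψ₀ = 1 := by
      have h1' := hexp' 1
      rw [pRegularPart_apply_of_reg 2 _ (by simp)] at h1'
      have hc' : m ψ₀ = 1 ∨ m ψ₀ = -1 := by
        have h3 : (m ψ₀ - 1) * (m ψ₀ + 1) = 0 := by nlinarith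
        rcases mul_eq_zero.mp h3 with h | h
        · left; omega
        · right; omega
      rcases hc' with h | h
      · exact h
      · exfalso
        rw [h, Cfsg.Agent.Lib.helper81.irr_one_eq_charDegree χ₀,
          Cfsg.Agent.Lib.helper81.irr_one_eq_charDegree ψ₀] at h1'
        have h4 : ((charDegree (χ₀ : H → ℂ) + charDegree (ψ₀ : H → ℂ) : ℕ) : ℂ) = 0 := by
          push_cast
          push_cast at h1'
          linear_combination h1'
        have h5 := Cfsg.Agent.Lib.helper81.irr_charDegree_pos χ₀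
        have h6 : charDegree (χ₀ : H → ℂ) + charDegree (ψ₀ : H → ℂ) = 0 := by exact_mod_cast h4
        omega
    refine ⟨χ₀, ψ₀, hψ₀χ₀.symm, hBeq, ?_, ?_⟩
    · intro g hg
      have h3 := hexp' g
      rw [pRegularPart_apply_of_reg 2 _ hg, hc] at h3
      push_cast at h3
      linear_combination h3
    · intro g hg
      have h3 := hexp' g
      rw [pRegularPart_apply_of_sing 2 _ hg, hc] at h3
      push_cast at h3
      linear_combination -h3
  · exfalso
    have hrest : ∑ ψ ∈ Finset.univ.erase χ₀, m ψ ^ 2 = 0 := by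
      rw [hsplit, h2] at hsq
      norm_num at hsq
      linarith
    have hothers : ∀ ψ : IrrCharacter H, ψ ≠ χ₀ → m ψ = 0 := by
      intro ψ h1'
      have h3 := (Finset.sum_eq_zero_iff_of_nonneg (fun ψ _ => sq_nonneg (m ψ))).mp hrest ψ
        (by simp [h1'])
      exact pow_eq_zero_iff (two_ne_zero) |>.mp h3
    have hBeq : ∀ ψ ∈ B, ψ = χ₀ := by
      intro ψ hψ
      by_contra hne
      exact hmne ψ hψ (hothers ψ hne)
    have hvan : ∀ g : H, 2 ∣ orderOf g → (χ₀ : H → ℂ) g = 0 := by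
      intro g hg
      have h3 := hexp g
      rw [pRegularPart_apply_of_sing 2 _ hg, ← Finset.add_sum_erase _ _ (Finset.mem_univ χ₀),
        Finset.sum_eq_zero (fun ψ hψ => by
          rw [hothers ψ (Finset.mem_erase.mp hψ).1]
          simp), h2] at h3
      push_cast at h3
      linear_combination (-1 / 2 : ℂ) * h3
    obtain ⟨P⟩ : Nonempty (Sylow 2 H) := inferInstance
    haveI : Fintype (P : Subgroup H) := Fintype.ofFinite _
    obtain ⟨k, hk⟩ := Cfsg.Agent.Lib.helper80.sum_subgroup_irr (P : Subgroup H) χ₀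
    have hsumP : ∑ u : (P : Subgroup H), (χ₀ : H → ℂ) (u : H) = (χ₀ : H → ℂ) 1 := by
      rw [Finset.sum_eq_single (1 : (P : Subgroup H))]
      · simp
      · intro u _ hu
        apply hvan
        obtain ⟨j, hj⟩ := P.isPGroup' u
        obtain ⟨i, -, hi⟩ := (Nat.dvd_prime_pow Nat.prime_two).mp (orderOf_dvd_of_pow_eq_one hj)
        rw [Subgroup.orderOf_coe, hi]
        have hi0 : i ≠ 0 := by
          rintro rfl
          rw [pow_zero, orderOf_eq_one_iff] at hi
          exact hu hi
        exact dvd_pow_self 2 hi0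
      · intro h
        exact absurd (Finset.mem_univ _) h
    have hdeg : charDegree (χ₀ : H → ℂ) = 2 ^ (Nat.card H).factorization 2 * k := by
      have h3 : (χ₀ : H → ℂ) 1 = (Nat.card (P : Subgroup H) : ℂ) * k := by rw [← hsumP, hk]
      rw [Cfsg.Agent.Lib.helper81.irr_one_eq_charDegree, Sylow.card_eq_multiplicity] at h3
      exact_mod_cast h3
    obtain ⟨χ', hχ'B, hχ'eq, -⟩ := Cfsg.Agent.Lib.helper84.exists_height_zero (G := H) 2
      (B := B) ⟨χ₀, hχ₀⟩
    rw [hBeq χ' hχ'B, hd] at hχ'eq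
    have hle : (Nat.card H).factorization 2 ≤ (charDegree (χ₀ : H → ℂ)).factorization 2 :=
      (Nat.Prime.pow_dvd_iff_le_factorization Nat.prime_two
        (Cfsg.Agent.Lib.helper81.irr_charDegree_pos χ₀).ne').mp ⟨k, hdeg⟩
    omega

/-- If `⟨x⟩` (`x` an involution) is a defect group of the `2`-block `B`, then a block of `C_G(x)`
inducing `B` has defect group `⟨x⟩`, and it is the only block of `C_G(x)` inducing `B`. -/
theorem induced_unique_of_defect_zpowers {G : Type u} [Group G] [Finite G] {M : Ideal AlgInt}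
    (hM : IsPModular 2 M) (x : G) (hx : orderOf x = 2)
    {B : Set (IrrCharacter G)} (hB : IsPBlock M B)
    (hBD : IsDefectGroup 2 M B (Subgroup.zpowers x))
    {b : Set (IrrCharacter (Subgroup.centralizer ({x} : Set G)))}
    (hb : IsInducedBlock M (Subgroup.centralizer ({x} : Set G)) b B) :
    IsDefectGroup 2 M b
        ((Subgroup.zpowers x).subgroupOf (Subgroup.centralizer ({x} : Set G))) ∧
      ∀ b' : Set (IrrCharacter (Subgroup.centralizer ({x} : Set G))),
        IsInducedBlock M (Subgroup.centralizer ({x} : Set G)) b' B → b' = b := by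
  classical
  haveI : Fintype G := Fintype.ofFinite G
  haveI : Fact (Nat.Prime 2) := ⟨Nat.prime_two⟩
  haveI : Fintype (Subgroup.centralizer ({x} : Set G)) := Fintype.ofFinite _
  have hMp := Cfsg.Agent.Lib.helper20.isPrime_of_isPModular hM
  have hCeq : Subgroup.centralizer ((Subgroup.zpowers x : Subgroup G) : Set G)
      = Subgroup.centralizer ({x} : Set G) := by
    rw [Subgroup.zpowers_eq_closure, Subgroup.centralizer_closure]
  have hxC : x ∈ Subgroup.centralizer ({x} : Set G) :=
    Subgroup.mem_centralizer_singleton_iff.mpr rfl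
  have hP : IsPGroup 2 (Subgroup.zpowers x) :=
    IsPGroup.of_card (n := 1) (by rw [Nat.card_zpowers, hx, pow_one])
  have hPH : Subgroup.zpowers x ≤ Subgroup.centralizer ({x} : Set G) :=
    Subgroup.zpowers_le.mpr hxC
  have hHN : Subgroup.centralizer ({x} : Set G)
      ≤ Subgroup.normalizer ((Subgroup.zpowers x : Subgroup G) : Set G) := by
    rw [← hCeq]
    exact Subgroup.centralizer_le_normalizer _
  have hx1 : x ≠ 1 := by
    intro h
    rw [h, orderOf_one] at hx
    norm_num at hx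
  have hNH : Subgroup.normalizer ((Subgroup.zpowers x : Subgroup G) : Set G)
      ≤ Subgroup.centralizer ({x} : Set G) := by
    intro n hn
    rw [Subgroup.mem_normalizer_iff] at hn
    have h1 : n * x * n⁻¹ ∈ Subgroup.zpowers x := (hn x).mp (Subgroup.mem_zpowers x)
    obtain ⟨k, hk⟩ := Subgroup.mem_zpowers_iff.mp h1
    have h2 : x ^ (k % (orderOf x : ℤ)) = x ^ k := zpow_mod_orderOf x k
    rw [hx] at h2
    have h3 : n * x * n⁻¹ = x := by
      rcases Int.emod_two_eq_zero_or_one k with h | h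
      · exfalso
        have h4 : k % ((2 : ℕ) : ℤ) = 0 := by exact_mod_cast h
        rw [h4, zpow_zero] at h2
        rw [← h2] at hk
        apply hx1
        have : n * x * n⁻¹ = 1 := hk.symm
        calc x = n⁻¹ * (n * x * n⁻¹) * n := by group
          _ = 1 := by rw [this]; group
      · have h4 : k % ((2 : ℕ) : ℤ) = 1 := by exact_mod_cast h
        rw [h4, zpow_one] at h2
        rw [← h2] at hk
        exact hk.symm
    rw [Subgroup.mem_centralizer_singleton_iff]
    calc n * x = (n * x * n⁻¹) * n := by group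
      _ = x * n := by rw [h3]
  obtain ⟨c, hc, hDc, -, hcB, -⟩ := Cfsg.Agent.Lib.helper80.fmt_down hM (Subgroup.zpowers x)
    (Subgroup.centralizer ({x} : Set G)) hP hHN hNH hB hBD
  have huniq : ∀ b' : Set (IrrCharacter (Subgroup.centralizer ({x} : Set G))),
      IsInducedBlock M (Subgroup.centralizer ({x} : Set G)) b' B → b' = c := by
    intro b' hb'
    obtain ⟨θ', hθ'⟩ := Cfsg.Agent.Lib.helper81.isPBlock_nonempty hMp hb'.1
    obtain ⟨θ₀, hθ₀⟩ := Cfsg.Agent.Lib.helper81.isPBlock_nonempty hMp hc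
    obtain ⟨χ, hχ⟩ := Cfsg.Agent.Lib.helper81.isPBlock_nonempty hMp hB
    have h1 := (Cfsg.Agent.Lib.helper80.isInducedBlock_iff_brInd hM (Subgroup.zpowers x)
      (Subgroup.centralizer ({x} : Set G)) hP hPH hCeq.le hHN hb'.1 hB).mp hb' θ' hθ' χ hχ
    have h2 := hcB θ₀ hθ₀ χ hχ
    have h3 := Cfsg.Agent.Lib.helper80.BrInd.mem_of_defect hM (Subgroup.zpowers x)
      (Subgroup.centralizer ({x} : Set G)) hP hHN hNH hc hDc hθ₀ h2 h1
    exact Cfsg.Agent.Lib.helper81.isPBlock_eq_of_mem hMp hb'.1 hc hθ' h3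
  have hbc := huniq b hb
  rw [hbc]
  exact ⟨hDc, huniq⟩

/-- **Brauer's theorem on `2`-blocks of defect one.** If `⟨x⟩` (`x` an involution) is a defect
group of the `2`-block `B`, `b` is a block of `C = C_G(x)` inducing `B` and `θ ∈ b` has `x` in its
kernel, then `B = {χ₁, χ₂}`, the two characters agree on the elements of odd order, and
`χᵢ (x y) = εᵢ θ(y)` for `y ∈ C` of odd order, with signs `ε₁ = -ε₂`. -/
theorem defect_one_two_block {G : Type u} [Group G] [Finite G] (M : Ideal AlgInt)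
    (hM : IsPModular 2 M) (x : G) (hx : orderOf x = 2)
    (B : Set (IrrCharacter G)) (hB : IsPBlock M B)
    (hBD : IsDefectGroup 2 M B (Subgroup.zpowers x))
    (b : Set (IrrCharacter (Subgroup.centralizer ({x} : Set G))))
    (hb : IsInducedBlock M (Subgroup.centralizer ({x} : Set G)) b B)
    (θ : IrrCharacter (Subgroup.centralizer ({x} : Set G))) (hθ : θ ∈ b)
    (hθx : ∀ z : Subgroup.centralizer ({x} : Set G), (z : G) = x →
      (θ : Subgroup.centralizer ({x} : Set G) → ℂ) z
        = (θ : Subgroup.centralizer ({x} : Set G) → ℂ) 1) :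
    Nat.card B = 2 ∧
      (∀ χ ∈ B, ∀ ψ ∈ B, ∀ g : G, ¬ 2 ∣ orderOf g → (χ : G → ℂ) g = (ψ : G → ℂ) g) ∧
      ∃ χ₁ ∈ B, ∃ χ₂ ∈ B, χ₁ ≠ χ₂ ∧ ∃ ε₁ ε₂ : ℤ, (ε₁ = 1 ∨ ε₁ = -1) ∧ (ε₂ = 1 ∨ ε₂ = -1) ∧
        ε₁ * ε₂ = -1 ∧
        ∀ y : Subgroup.centralizer ({x} : Set G), ¬ 2 ∣ orderOf y →
          (χ₁ : G → ℂ) (x * y)
              = (ε₁ : ℂ) * (θ : Subgroup.centralizer ({x} : Set G) → ℂ) y ∧
            (χ₂ : G → ℂ) (x * y)
              = (ε₂ : ℂ) * (θ : Subgroup.centralizer ({x} : Set G) → ℂ) y := by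
  classical
  haveI : Fintype G := Fintype.ofFinite G
  haveI : Fact (Nat.Prime 2) := ⟨Nat.prime_two⟩
  haveI : Fintype (Subgroup.centralizer ({x} : Set G)) := Fintype.ofFinite _
  have hMp := Cfsg.Agent.Lib.helper20.isPrime_of_isPModular hM
  have hxpow : ∃ k : ℕ, orderOf x = 2 ^ k := ⟨1, by rw [hx, pow_one]⟩
  have hxC : x ∈ Subgroup.centralizer ({x} : Set G) :=
    Subgroup.mem_centralizer_singleton_iff.mpr rfl
  have hPH : Subgroup.zpowers x ≤ Subgroup.centralizer ({x} : Set G) :=
    Subgroup.zpowers_le.mpr hxC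
  obtain ⟨hDb, huniq⟩ := induced_unique_of_defect_zpowers hM x hx hB hBD hb
  have hbP : IsPBlock M b := hb.1
  have hdB : blockDefect 2 B = 1 := by
    have h1 := Cfsg.Agent.Lib.helper79.card_eq_of_isDefectGroup hM hB hBD
    rw [Nat.card_zpowers, hx] at h1
    have h2 : 2 ^ 1 = 2 ^ blockDefect 2 B := by rw [pow_one]; exact h1
    exact (Nat.pow_right_injective (le_refl 2) h2).symm
  have hdb : blockDefect 2 b = 1 := by
    have h1 := Cfsg.Agent.Lib.helper79.card_eq_of_isDefectGroup hM hbP hDb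
    rw [Nat.card_congr (Subgroup.subgroupOfEquivOfLe hPH).toEquiv, Nat.card_zpowers, hx] at h1
    have h2 : 2 ^ 1 = 2 ^ blockDefect 2 b := by rw [pow_one]; exact h1
    exact (Nat.pow_right_injective (le_refl 2) h2).symm
  obtain ⟨χ₁, χ₂, hne, hBeq, hodd, heven⟩ := exists_two_of_defect_one hM hB hdB
  obtain ⟨θ₁, θ₂, hneθ, hbeq, hoddθ, hevenθ⟩ := exists_two_of_defect_one hM hbP hdb
  obtain ⟨θ', hθ'ne, hbeq', hoddθ', hevenθ'⟩ :
      ∃ θ' : IrrCharacter (Subgroup.centralizer ({x} : Set G)), θ' ≠ θ ∧ b = {θ, θ'} ∧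
      (∀ y : Subgroup.centralizer ({x} : Set G), ¬ 2 ∣ orderOf y →
        (θ' : Subgroup.centralizer ({x} : Set G) → ℂ) y
          = (θ : Subgroup.centralizer ({x} : Set G) → ℂ) y) ∧
      (∀ y : Subgroup.centralizer ({x} : Set G), 2 ∣ orderOf y →
        (θ' : Subgroup.centralizer ({x} : Set G) → ℂ) y
          = -(θ : Subgroup.centralizer ({x} : Set G) → ℂ) y) := by
    rw [hbeq] at hθ
    rcases hθ with h | h
    · refine ⟨θ₂, ?_, ?_, ?_, ?_⟩
      · rw [h]; exact hneθ.symm
      · rw [h]; exact hbeq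
      · intro y hy; rw [h]; exact (hoddθ y hy).symm
      · intro y hy; rw [h]; exact hevenθ y hy
    · have h' : θ = θ₂ := h
      refine ⟨θ₁, ?_, ?_, ?_, ?_⟩
      · rw [h']; exact hneθ
      · rw [h', hbeq]; exact Set.pair_comm _ _
      · intro y hy; rw [h']; exact hoddθ y hy
      · intro y hy; rw [h', hevenθ y hy, neg_neg]
  -- the central involution of `C`
  obtain ⟨xC, hxCdef⟩ : ∃ xC : Subgroup.centralizer ({x} : Set G), (xC : G) = x :=
    ⟨⟨x, hxC⟩, rfl⟩
  have hcen : ∀ h : Subgroup.centralizer ({x} : Set G), h * xC = xC * h := by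
    intro h
    apply Subtype.ext
    rw [Subgroup.coe_mul, Subgroup.coe_mul, hxCdef]
    exact Subgroup.mem_centralizer_singleton_iff.mp h.2
  have hxCord : orderOf xC = 2 := by
    rw [← Subgroup.orderOf_coe, hxCdef, hx]
  have hθxC : (θ : Subgroup.centralizer ({x} : Set G) → ℂ) xC
      = (θ : Subgroup.centralizer ({x} : Set G) → ℂ) 1 := hθx xC hxCdef
  have hθ'xC : (θ' : Subgroup.centralizer ({x} : Set G) → ℂ) xC
      = -(θ : Subgroup.centralizer ({x} : Set G) → ℂ) 1 := by
    rw [hevenθ' xC (by rw [hxCord]), hθxC]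
  have h1odd : ¬ 2 ∣ orderOf (1 : Subgroup.centralizer ({x} : Set G)) := by
    rw [orderOf_one]; norm_num
  have hθ'1 : (θ' : Subgroup.centralizer ({x} : Set G) → ℂ) 1
      = (θ : Subgroup.centralizer ({x} : Set G) → ℂ) 1 := hoddθ' 1 h1odd
  have hθ10 : (θ : Subgroup.centralizer ({x} : Set G) → ℂ) 1 ≠ 0 :=
    Cfsg.Agent.Lib.helper81.irr_one_ne_zero θ
  -- the coefficient
  obtain ⟨a, ha⟩ : ∃ a : IrrCharacter G → ℂ, ∀ χ : IrrCharacter G,
      ∀ y : Subgroup.centralizer ({x} : Set G), ¬ 2 ∣ orderOf y →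
      uconv 2 x b (χ : G → ℂ) y
        = a χ * (θ : Subgroup.centralizer ({x} : Set G) → ℂ) y := by
    refine ⟨fun χ => classInner
        (fun c : Subgroup.centralizer ({x} : Set G) => (χ : G → ℂ) (c : G))
        (θ : Subgroup.centralizer ({x} : Set G) → ℂ)
      - classInner (fun c : Subgroup.centralizer ({x} : Set G) => (χ : G → ℂ) (c : G))
        (θ' : Subgroup.centralizer ({x} : Set G) → ℂ), ?_⟩
    intro χ y hy
    have hcf : IsClassFunction (Subgroup.centralizer ({x} : Set G))
        (fun c : Subgroup.centralizer ({x} : Set G) => (χ : G → ℂ) (c : G)) := by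
      intro g h
      exact Cfsg.Agent.Lib.helper81.irr_classFun χ (g : G) (h : G)
    have h1 := Cfsg.Agent.Lib.helper20.finsum_classInner_eq_sum b _ hcf (xC * y)
    have h1' : ∑ᶠ η ∈ b, classInner
          (fun c : Subgroup.centralizer ({x} : Set G) => (χ : G → ℂ) (c : G))
          (η : Subgroup.centralizer ({x} : Set G) → ℂ)
          * (η : Subgroup.centralizer ({x} : Set G) → ℂ) (xC * y)
        = classInner (fun c : Subgroup.centralizer ({x} : Set G) => (χ : G → ℂ) (c : G))
          (θ : Subgroup.centralizer ({x} : Set G) → ℂ)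
          * (θ : Subgroup.centralizer ({x} : Set G) → ℂ) (xC * y)
        + classInner (fun c : Subgroup.centralizer ({x} : Set G) => (χ : G → ℂ) (c : G))
          (θ' : Subgroup.centralizer ({x} : Set G) → ℂ)
          * (θ' : Subgroup.centralizer ({x} : Set G) → ℂ) (xC * y) := by
      rw [hbeq']
      exact finsum_mem_pair hθ'ne.symm
    rw [h1', irr_central_mul θ xC hcen y, irr_central_mul θ' xC hcen y, hθxC, hθ'xC, hθ'1,
      hoddθ' y hy, div_self hθ10] at h1
    rw [uconv_apply, if_pos hy]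
    have h2 : ∑ k : Subgroup.centralizer ({x} : Set G),
          blockCoeff b k * (χ : G → ℂ) ((k : G) * (x * (y : G)))
        = ∑ k : Subgroup.centralizer ({x} : Set G), blockCoeff b k *
          (fun c : Subgroup.centralizer ({x} : Set G) => (χ : G → ℂ) (c : G)) (k * (xC * y)) := by
      refine Finset.sum_congr rfl (fun k _ => ?_)
      show _ = blockCoeff b k
        * (χ : G → ℂ) (((k * (xC * y) : Subgroup.centralizer ({x} : Set G)) : G))
      rw [Subgroup.coe_mul, Subgroup.coe_mul, hxCdef]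
    rw [h2, ← h1]
    have hneg : -(θ : Subgroup.centralizer ({x} : Set G) → ℂ) 1
        / (θ : Subgroup.centralizer ({x} : Set G) → ℂ) 1 = -1 := by
      rw [neg_div, div_self hθ10]
    rw [hneg]
    ring
  have hBval : ∀ χ ∈ B, ∀ y : Subgroup.centralizer ({x} : Set G), ¬ 2 ∣ orderOf y →
      (χ : G → ℂ) (x * (y : G)) = uconv 2 x b (χ : G → ℂ) y := by
    intro χ hχ y hy
    have h1 := sum_blocks_uconv (p := 2) (M := M) hMp x (χ : G → ℂ) y hy
    rw [← h1]
    apply Finset.sum_eq_single_of_mem _ (Cfsg.Agent.Lib.helper80.mem_blocks.mpr hbP)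
    intro b' hb' hne'
    have hnot : ¬ IsInducedBlock M (Subgroup.centralizer ({x} : Set G)) b' B :=
      fun h => hne' (huniq b' h)
    rw [uconv_eq_zero_of_not_induced hM x hxpow b' (Cfsg.Agent.Lib.helper80.mem_blocks.mp hb')
      B hB hnot χ hχ]
    rfl
  have hnotB : ∀ χ : IrrCharacter G, χ ∉ B → uconv 2 x b (χ : G → ℂ) = 0 :=
    fun χ hχ => uconv_eq_zero_of_induced hM x hxpow b B hb χ hχ
  have hx1 : x * ((1 : Subgroup.centralizer ({x} : Set G)) : G) = x := by simp
  have hxx : x * x = 1 := by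
    have := pow_orderOf_eq_one x
    rw [hx, pow_two] at this
    exact this
  -- first evaluation of the norm
  have hS1 : ∑ χ : IrrCharacter G, uconv 2 x b (χ : G → ℂ) 1 * conj ((χ : G → ℂ) x)
      = (χ₁ : G → ℂ) x * conj ((χ₁ : G → ℂ) x)
        + (χ₂ : G → ℂ) x * conj ((χ₂ : G → ℂ) x) := by
    have e : ∀ χ : IrrCharacter G, uconv 2 x b (χ : G → ℂ) 1 * conj ((χ : G → ℂ) x)
        = if χ ∈ ({χ₁, χ₂} : Finset (IrrCharacter G)) then
            (χ : G → ℂ) x * conj ((χ : G → ℂ) x) else 0 := by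
      intro χ
      by_cases hχ : χ ∈ B
      · rw [if_pos (by rw [hBeq] at hχ; simpa using hχ), ← hBval χ hχ 1 h1odd, hx1]
      · rw [if_neg (by rw [hBeq] at hχ; simpa using hχ), hnotB χ hχ]
        simp
    simp_rw [e]
    rw [Finset.sum_ite_mem, Finset.univ_inter, Finset.sum_pair hne]
  -- second evaluation of the norm
  have hS2 : ∑ χ : IrrCharacter G, uconv 2 x b (χ : G → ℂ) 1 * conj ((χ : G → ℂ) x)
      = blockCoeff b 1 * (Nat.card (Subgroup.centralizer ({x} : Set G)) : ℂ) := by
    have e : ∀ χ : IrrCharacter G, uconv 2 x b (χ : G → ℂ) 1 * conj ((χ : G → ℂ) x)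
        = ∑ k : Subgroup.centralizer ({x} : Set G), blockCoeff b k *
          ((χ : G → ℂ) ((k : G) * x) * conj ((χ : G → ℂ) x)) := by
      intro χ
      rw [uconv_apply, if_pos h1odd, Finset.sum_mul]
      refine Finset.sum_congr rfl (fun k _ => ?_)
      rw [hx1, mul_assoc]
    simp_rw [e]
    rw [Finset.sum_comm]
    simp_rw [← Finset.mul_sum]
    have h2 : ∀ k : Subgroup.centralizer ({x} : Set G), blockCoeff b k *
          ∑ χ : IrrCharacter G, ((χ : G → ℂ) ((k : G) * x) * conj ((χ : G → ℂ) x))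
        = if k = 1 then
            blockCoeff b 1 * (Nat.card (Subgroup.centralizer ({x} : Set G)) : ℂ) else 0 := by
      intro k
      rw [Cfsg.Agent.Lib.helper81.irr_col_orth ((k : G) * x) x]
      by_cases hk1 : k = 1
      · rw [if_pos hk1, hk1]
        have e' : ((1 : Subgroup.centralizer ({x} : Set G)) : G) * x = x := by simp
        rw [e', if_pos (IsConj.refl x)]
      · rw [if_neg hk1]
        by_cases hk2 : 2 ∣ orderOf k
        · rw [Cfsg.Agent.Lib.helper20.blockCoeff_eq_zero_of_singular hM hbP k hk2, zero_mul]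
        · rw [if_neg, mul_zero]
          intro hconj
          apply hk1
          obtain ⟨t, ht⟩ := isConj_iff.mp hconj
          have hord : orderOf ((k : G) * x) = 2 := by
            have := orderOf_conj_kl t ((k : G) * x)
            rw [ht, hx] at this
            exact this.symm
          have hsq : ((k : G) * x) * ((k : G) * x) = 1 := by
            have := pow_orderOf_eq_one ((k : G) * x)
            rw [hord, pow_two] at this
            exact this
          have hcomm : (k : G) * x = x * (k : G) :=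
            Subgroup.mem_centralizer_singleton_iff.mp k.2
          have hkk : (k : G) * (k : G) = 1 := by
            have e'' : ((k : G) * x) * ((k : G) * x) = ((k : G) * (k : G)) * (x * x) := by
              calc ((k : G) * x) * ((k : G) * x) = (k : G) * (x * (k : G)) * x := by group
                _ = (k : G) * ((k : G) * x) * x := by rw [← hcomm]
                _ = ((k : G) * (k : G)) * (x * x) := by group
            rw [e'', hxx, mul_one] at hsq
            exact hsq
          have hkk' : k ^ 2 = 1 := by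
            apply Subtype.ext
            rw [pow_two]
            exact hkk
          have hd2 : orderOf k ∣ 2 := orderOf_dvd_of_pow_eq_one hkk'
          rcases (Nat.dvd_prime Nat.prime_two).mp hd2 with h | h
          · exact orderOf_eq_one_iff.mp h
          · exact absurd (by rw [h]) hk2
    simp_rw [h2]
    rw [Finset.sum_ite_eq' Finset.univ (1 : Subgroup.centralizer ({x} : Set G)),
      if_pos (Finset.mem_univ _)]
  have hb1 : blockCoeff b 1 * (Nat.card (Subgroup.centralizer ({x} : Set G)) : ℂ)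
      = 2 * ((θ : Subgroup.centralizer ({x} : Set G) → ℂ) 1
        * (θ : Subgroup.centralizer ({x} : Set G) → ℂ) 1) := by
    rw [Cfsg.Agent.Lib.helper80.blockCoeff_eq_sum]
    have e : ∀ η : IrrCharacter (Subgroup.centralizer ({x} : Set G)),
        (if η ∈ b then (η : Subgroup.centralizer ({x} : Set G) → ℂ) 1
          * conj ((η : Subgroup.centralizer ({x} : Set G) → ℂ) 1) else 0)
        = if η ∈ ({θ, θ'} : Finset (IrrCharacter (Subgroup.centralizer ({x} : Set G)))) then
            (η : Subgroup.centralizer ({x} : Set G) → ℂ) 1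
              * conj ((η : Subgroup.centralizer ({x} : Set G) → ℂ) 1) else 0 := by
      intro η
      have hiff : η ∈ b
          ↔ η ∈ ({θ, θ'} : Finset (IrrCharacter (Subgroup.centralizer ({x} : Set G)))) := by
        rw [hbeq']; simp
      by_cases hη : η ∈ b
      · rw [if_pos hη, if_pos (hiff.mp hη)]
      · rw [if_neg hη, if_neg (fun h => hη (hiff.mpr h))]
    rw [Finset.sum_congr rfl (fun η _ => e η), Finset.sum_ite_mem, Finset.univ_inter,
      Finset.sum_pair hθ'ne.symm, hθ'1]
    have hconj : conj ((θ : Subgroup.centralizer ({x} : Set G) → ℂ) 1)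
        = (θ : Subgroup.centralizer ({x} : Set G) → ℂ) 1 := by
      rw [Cfsg.Agent.Lib.helper81.irr_one_eq_charDegree, Complex.conj_natCast]
    rw [hconj]
    have hC0 : (Nat.card (Subgroup.centralizer ({x} : Set G)) : ℂ) ≠ 0 := by
      have : 0 < Nat.card (Subgroup.centralizer ({x} : Set G)) := Nat.card_pos
      exact_mod_cast this.ne'
    field_simp
    ring
  obtain ⟨z, hz⟩ := irr_involution_int χ₁ x hxx
  have hx2 : 2 ∣ orderOf x := by rw [hx]
  have hχ₂x : (χ₂ : G → ℂ) x = -(z : ℂ) := by rw [heven x hx2, hz]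
  obtain ⟨d, hd⟩ : ∃ d : ℕ, (θ : Subgroup.centralizer ({x} : Set G) → ℂ) 1 = d :=
    ⟨_, Cfsg.Agent.Lib.helper81.irr_one_eq_charDegree θ⟩
  have hdC : (d : ℂ) ≠ 0 := by
    rw [← hd]
    exact hθ10
  have hzd : z * z = (d : ℤ) * d := by
    have h1 := hS1.symm.trans (hS2.trans hb1)
    rw [hz, hχ₂x, hd] at h1
    simp only [map_neg, map_intCast] at h1
    have h2 : ((z * z : ℤ) : ℂ) = (((d : ℤ) * d : ℤ) : ℂ) := by
      push_cast
      linear_combination (1 / 2 : ℂ) * h1
    exact_mod_cast h2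
  have hzd' : z = d ∨ z = -d := by
    have h3 : (z - d) * (z + d) = 0 := by
      have : (z - d) * (z + d) = z * z - (d : ℤ) * d := by ring
      rw [this, hzd, sub_self]
    rcases mul_eq_zero.mp h3 with h | h
    · left; linarith
    · right; linarith
  have hχ₁B : χ₁ ∈ B := by rw [hBeq]; simp
  have hχ₂B : χ₂ ∈ B := by rw [hBeq]; simp
  have ha1 : a χ₁ * (d : ℂ) = z := by
    rw [← hd, ← ha χ₁ 1 h1odd, ← hBval χ₁ hχ₁B 1 h1odd, hx1, hz]
  have ha2 : a χ₂ * (d : ℂ) = -(z : ℂ) := by
    rw [← hd, ← ha χ₂ 1 h1odd, ← hBval χ₂ hχ₂B 1 h1odd, hx1, hχ₂x]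
  refine ⟨?_, ?_, χ₁, hχ₁B, χ₂, hχ₂B, hne, ?_⟩
  · rw [hBeq, Nat.card_coe_set_eq, Set.ncard_pair hne]
  · intro χ hχ ψ hψ g hg
    rw [hBeq] at hχ hψ
    rcases hχ with h1 | h1 <;> rcases hψ with h2 | h2
    · rw [h1, h2]
    · rw [h1, Set.mem_singleton_iff.mp h2]; exact hodd g hg
    · rw [Set.mem_singleton_iff.mp h1, h2]; exact (hodd g hg).symm
    · rw [Set.mem_singleton_iff.mp h1, Set.mem_singleton_iff.mp h2]
  · rcases hzd' with h | h
    · refine ⟨1, -1, Or.inl rfl, Or.inr rfl, by norm_num, ?_⟩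
      intro y hy
      have e1 : a χ₁ = 1 := by
        rw [h] at ha1
        push_cast at ha1
        exact mul_right_cancel₀ hdC (by rw [ha1, one_mul])
      have e2 : a χ₂ = -1 := by
        rw [h] at ha2
        push_cast at ha2
        exact mul_right_cancel₀ hdC (by rw [ha2]; ring)
      refine ⟨?_, ?_⟩
      · rw [hBval χ₁ hχ₁B y hy, ha χ₁ y hy, e1]
        push_cast
        ring
      · rw [hBval χ₂ hχ₂B y hy, ha χ₂ y hy, e2]
        push_cast
        ring
    · refine ⟨-1, 1, Or.inr rfl, Or.inl rfl, by norm_num, ?_⟩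
      intro y hy
      have e1 : a χ₁ = -1 := by
        rw [h] at ha1
        push_cast at ha1
        exact mul_right_cancel₀ hdC (by rw [ha1]; ring)
      have e2 : a χ₂ = 1 := by
        rw [h] at ha2
        push_cast at ha2
        exact mul_right_cancel₀ hdC (by rw [ha2]; ring)
      refine ⟨?_, ?_⟩
      · rw [hBval χ₁ hχ₁B y hy, ha χ₁ y hy, e1]
        push_cast
        ring
      · rw [hBval χ₂ hχ₂B y hy, ha χ₂ y hy, e2]
        push_cast
        ring

end DefectOne

end Cfsg.Agent.Lib.helper78
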