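import Mathlib
import Cfsg.Prelude.Def_FusionSystem
import Cfsg.Prelude.Def_CaseTheorems
import Cfsg.Agent.S5084

/-!
# S5213, piece F0 (helper78): an involution of `S` is moved by some map of a saturated fusion
system with trivial centre.
-/

set_option autoImplicit false

open Cfsg Cfsg.FusionSystem

namespace Cfsg.Agent.Lib.helper78.FS13

section fusion

variable {Ω : Type*} [Group Ω] {S : Subgroup Ω}

/-- PIECE F0: an involution of `S` is moved by some map of the system. -/
theorem central_moved [Finite S] (hS : IsPGroup 2 S) (F : FusionSystem S)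
    (hF : F.IsSaturated 2) (hZ : F.center = ⊥) (z : Ω) (hzS : z ∈ S) (hz : orderOf z = 2) :
    ∃ φ ∈ F.Hom (Subgroup.zpowers z), φ ⟨z, Subgroup.mem_zpowers z⟩ ≠ z := by
  by_contra hcon
  push Not at hcon
  have hz1 : z ≠ 1 := by
    intro h
    rw [h, orderOf_one] at hz
    omega
  have hzz : z * z = 1 := by
    rw [← pow_two, ← hz, pow_orderOf_eq_one]
  have hcent : F.IsCentral (Subgroup.zpowers z) := by
    rw [Cfsg.Agent.S5084.result 2 hS F hF (Subgroup.zpowers z)]
    refine ⟨(Subgroup.zpowers_le).2 hzS, ?_⟩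
    intro x hx y hxy
    have hx' : x = 1 ∨ x = z := by
      obtain ⟨k, rfl⟩ := Subgroup.mem_zpowers_iff.1 hx
      rcases Int.emod_two_eq_zero_or_one k with h | h
      · left
        have : k = 2 * (k / 2) := by omega
        rw [this, zpow_mul, zpow_ofNat, pow_two, hzz, one_zpow]
      · right
        have : k = 2 * (k / 2) + 1 := by omega
        rw [this, zpow_add, zpow_mul, zpow_ofNat, pow_two, hzz, one_zpow, one_mul, zpow_one]
    rcases hx' with rfl | rfl
    · obtain ⟨φ, -, rfl⟩ := hxy
      exact map_one φ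
    · obtain ⟨φ, hφ, rfl⟩ := hxy
      exact hcon φ hφ
  have hle : Subgroup.zpowers z ≤ F.center := le_sSup hcent
  rw [hZ] at hle
  exact hz1 ((Subgroup.mem_bot).1 (hle (Subgroup.mem_zpowers z)))

end fusion

end Cfsg.Agent.Lib.helper78.FS13
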