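import Mathlib
import Cfsg.Prelude.Def_FusionSystem
import Cfsg.Prelude.Def_CaseTheorems
import Cfsg.Agent.Lib.helper89.FusionSat

/-!
# S5213, piece F1 (helper78): Alperin-type statement -- if some map of a saturated fusion system
moves the central element `z` of `S`, then some `F`-automorphism of a fully automized receptive
subgroup containing `z` moves `z`.
-/

set_option autoImplicit false

open Cfsg Cfsg.FusionSystem

namespace Cfsg.Agent.Lib.helper78.FS13

section fusion

variable {Ω : Type*} [Group Ω] {S : Subgroup Ω}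

/-- The subsystem of the maps of `F` that send exactly `z` to `z` (for `z` central in `S`). -/
def helper78_fixSys (F : FusionSystem S) (z : Ω) (hzc : ∀ s ∈ S, s * z = z * s) :
    FusionSystem S where
  Hom := fun P => {φ | φ ∈ F.Hom P ∧ ∀ x : P, φ x = z ↔ (x : Ω) = z}
  le_of_mem := fun h => F.le_of_mem h.1
  injective_of_mem := fun h => F.injective_of_mem h.1
  conj_mem := by
    intro P g hP hg
    refine ⟨F.conj_mem hP hg, fun x => ?_⟩
    show g * (x : Ω) * g⁻¹ = z ↔ (x : Ω) = z
    constructor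
    · intro h
      have h1 : (x : Ω) = g⁻¹ * z * g := by rw [← h]; group
      rw [h1, mul_assoc, ← hzc g hg, inv_mul_cancel_left]
    · intro h
      rw [h, hzc g hg, mul_inv_cancel_right]
  comp_mem := by
    intro P Q φ ψ hφ hψ h
    refine ⟨F.comp_mem hφ.1 hψ.1 h, fun x => ?_⟩
    show ψ (φ.codRestrict Q h x) = z ↔ (x : Ω) = z
    rw [hψ.2]
    exact hφ.2 x
  inv_mem := by
    intro P φ hφ
    obtain ⟨ψ, hψ, hinv⟩ := F.inv_mem hφ.1
    refine ⟨ψ, ⟨hψ, ?_⟩, hinv⟩
    rintro ⟨_, x, rfl⟩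
    rw [hinv x]
    exact (hφ.2 x).symm

/-- PIECE F1 (Alperin): a fully automized receptive subgroup containing `z` with an
`F`-automorphism moving `z`. -/
theorem exists_moving_aut [Finite S] (hS : IsPGroup 2 S) (F : FusionSystem S)
    (hF : F.IsSaturated 2) (z : Ω) (hzS : z ∈ S) (hzc : ∀ s ∈ S, s * z = z * s)
    (φ₀ : Subgroup.zpowers z →* Ω) (hφ₀ : φ₀ ∈ F.Hom (Subgroup.zpowers z))
    (hmove : φ₀ ⟨z, Subgroup.mem_zpowers z⟩ ≠ z) :
    ∃ (R : Subgroup Ω) (hzR : z ∈ R) (α : MulAut R), F.IsFullyAutomized 2 R ∧ F.IsReceptive R ∧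
      α ∈ F.autGroup R ∧ ((α ⟨z, hzR⟩ : R) : Ω) ≠ z := by
  by_contra hcon
  push Not at hcon
  have key : ∀ P : Subgroup Ω, F.Hom P ⊆ (helper78_fixSys F z hzc).Hom P := by
    refine Cfsg.Agent.Lib.helper89.saturated_induction F (helper78_fixSys F z hzc) hS hF ?_
    intro R hfa hrec _ α hα
    refine ⟨(Cfsg.Agent.Lib.helper89.mem_autGroup_iff F hfa.1 α).1 hα, fun x => ?_⟩
    show ((α x : R) : Ω) = z ↔ (x : Ω) = z
    by_cases hzR : z ∈ R
    · have h1 := hcon R hzR α hfa hrec hα
      constructor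
      · intro h
        have h2 : α x = α ⟨z, hzR⟩ := Subtype.ext (h.trans h1.symm)
        have h3 := α.injective h2
        rw [h3]
      · intro h
        have h2 : x = ⟨z, hzR⟩ := Subtype.ext h
        rw [h2, h1]
    · constructor
      · intro h
        exact absurd (h ▸ (α x).2) hzR
      · intro h
        exact absurd (h ▸ x.2) hzR
  exact hmove (((key _ hφ₀).2 ⟨z, Subgroup.mem_zpowers z⟩).2 rfl)

end fusion

end Cfsg.Agent.Lib.helper78.FS13
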