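import Mathlib
import Cfsg.Prelude.Def_Characters
import Cfsg.Prelude.Def_Local
import Cfsg.Agent.Lib.helper78.FTDegree
import Cfsg.Agent.S4468

/-!
# Feit–Thompson: normal Sylow `p`-subgroups for faithful representations of small degree
(helper78 library)

`ft_normal_sylow_aux` : a finite group with a faithful complex representation of degree `n` such
that `(n+1)² ≤ p`, or `n + 1 < p` and every subgroup of order not divisible by `p²` is `p`-closed,
is `p`-closed.
-/

set_option autoImplicit false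
set_option linter.unusedSectionVars false
set_option linter.unusedVariables false
set_option linter.style.haveILetI false

namespace Cfsg.Agent.Lib.helper78

open Cfsg
open scoped ComplexConjugate

universe u

/-- `K` is `p`-closed: all its Sylow `p`-subgroups are normal. -/
def PClosed (p : ℕ) (K : Type*) [Group K] : Prop := ∀ Q : Sylow p K, (Q : Subgroup K).Normal

section PClosedLemmas

variable {G : Type u} [Group G]

theorem pClosed_of_equiv {p : ℕ} {A B : Type*} [Group A] [Group B] (e : A ≃* B)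
    (h : PClosed p A) : PClosed p B := by
  intro Q
  have hr : (Q : Subgroup B) ≤ e.toMonoidHom.range := by
    intro x _
    exact ⟨e.symm x, by simp⟩
  have h1 : ((Q : Subgroup B).comap e.toMonoidHom).Normal :=
    h (Q.comapOfInjective e.toMonoidHom e.injective hr)
  have h2 := h1.map e.toMonoidHom e.surjective
  rw [Subgroup.map_comap_eq_self_of_surjective e.surjective] at h2
  exact h2

theorem mem_sylow_smul_iff {p : ℕ} (g x : G) (P : Sylow p G) :
    x ∈ ((g • P : Sylow p G) : Subgroup G) ↔ g⁻¹ * x * g ∈ (P : Subgroup G) := by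
  rw [Sylow.coe_subgroup_smul, Subgroup.mem_pointwise_smul_iff_inv_smul_mem]
  simp [MulAut.smul_def]

theorem sylow_smul_coe_eq_map {p : ℕ} (g : G) (P : Sylow p G) :
    ((g • P : Sylow p G) : Subgroup G) = (P : Subgroup G).map (MulAut.conj g).toMonoidHom := by
  ext x
  rw [mem_sylow_smul_iff]
  constructor
  · intro hx
    exact ⟨g⁻¹ * x * g, hx, by simp [MulAut.conj_apply, mul_assoc]⟩
  · rintro ⟨y, hy, rfl⟩
    have : g⁻¹ * (MulAut.conj g).toMonoidHom y * g = y := by
      simp [MulAut.conj_apply, mul_assoc]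
    rw [this]
    exact hy

variable [Finite G] {p : ℕ} [hp : Fact p.Prime]

theorem pClosed_sylow_eq (K : Subgroup G) (hK : PClosed p K) (P₁ P₂ : Sylow p G)
    (h₁ : (P₁ : Subgroup G) ≤ K) (h₂ : (P₂ : Subgroup G) ≤ K) : P₁ = P₂ := by
  have := Sylow.unique_of_normal (P₁.subtype h₁) (hK _)
  exact Sylow.subtype_injective (Subsingleton.elim (P₁.subtype h₁) (P₂.subtype h₂))

theorem pClosed_exists_sylow_ge (K : Subgroup G) (hK : PClosed p K) (Q₁ Q₂ : Subgroup G)
    (hQ₁ : IsPGroup p Q₁) (hQ₂ : IsPGroup p Q₂) (h₁ : Q₁ ≤ K) (h₂ : Q₂ ≤ K) :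
    ∃ P₃ : Sylow p G, Q₁ ≤ (P₃ : Subgroup G) ∧ Q₂ ≤ (P₃ : Subgroup G) := by
  obtain ⟨S₁, hS₁⟩ := (hQ₁.comap_subtype (K := K)).exists_le_sylow
  obtain ⟨S₂, hS₂⟩ := (hQ₂.comap_subtype (K := K)).exists_le_sylow
  have := Sylow.unique_of_normal S₁ (hK _)
  have hS : S₂ = S₁ := Subsingleton.elim _ _
  rw [hS] at hS₂
  have hT : IsPGroup p ((S₁ : Subgroup K).map K.subtype) := S₁.isPGroup'.map _
  obtain ⟨P₃, hP₃⟩ := hT.exists_le_sylow
  refine ⟨P₃, fun x hx => hP₃ ⟨⟨x, h₁ hx⟩, hS₁ ?_, rfl⟩, fun x hx => hP₃ ⟨⟨x, h₂ hx⟩, hS₂ ?_, rfl⟩⟩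
  · exact hx
  · exact hx

theorem pClosed_normal_of_le (K : Subgroup G) [hKn : K.Normal] (hK : PClosed p K)
    (P : Sylow p G) (h : (P : Subgroup G) ≤ K) : (P : Subgroup G).Normal := by
  have h1 : ∀ g : G, g • P = P := by
    intro g
    refine pClosed_sylow_eq K hK (g • P) P ?_ h
    intro x hx
    rw [mem_sylow_smul_iff] at hx
    have := hKn.conj_mem _ (h hx) g
    have e : g * (g⁻¹ * x * g) * g⁻¹ = x := by group
    rw [e] at this
    exact this
  have h2 : Subgroup.normalizer ((P : Subgroup G) : Set G) = ⊤ := by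
    rw [eq_top_iff]
    intro g _
    exact Sylow.smul_eq_iff_mem_normalizer.mp (h1 g)
  exact Subgroup.normalizer_eq_top_iff.mp h2

theorem normal_pgroup_le_sylow' (T : Subgroup G) [hTn : T.Normal] (hT : IsPGroup p T)
    (Q : Sylow p G) : T ≤ (Q : Subgroup G) := by
  have hsup : IsPGroup p (T ⊔ (Q : Subgroup G) : Subgroup G) :=
    hT.to_sup_of_normal_left Q.isPGroup'
  have := Q.is_maximal' hsup le_sup_right
  rw [← this]
  exact le_sup_left

theorem pClosed_normal_inf_le (N : Subgroup G) [hNn : N.Normal] (hN : PClosed p N)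
    (P Q : Sylow p G) : ∀ x ∈ (P : Subgroup G), x ∈ N → x ∈ (Q : Subgroup G) := by
  let S : Sylow p N := default
  have := Sylow.unique_of_normal S (hN S)
  have ha : ∀ y : N, (∃ k : ℕ, y ^ (p ^ k) = 1) → y ∈ (S : Subgroup N) := by
    rintro y ⟨k, hk⟩
    have h1 : orderOf y ∣ p ^ k := orderOf_dvd_of_pow_eq_one hk
    obtain ⟨j, _, hj⟩ := (Nat.dvd_prime_pow hp.out).mp h1
    have h2 : IsPGroup p (Subgroup.zpowers y) :=
      IsPGroup.of_card (n := j) (by rw [Nat.card_zpowers, hj])
    obtain ⟨S', hS'⟩ := h2.exists_le_sylow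
    have hS'' : S' = S := Subsingleton.elim _ _
    rw [hS''] at hS'
    exact hS' (Subgroup.mem_zpowers y)
  set T : Subgroup G := (S : Subgroup N).map N.subtype with hTdef
  have hTn : T.Normal := by
    constructor
    rintro t ⟨s, hs, rfl⟩ g
    have hmem : g * (s : G) * g⁻¹ ∈ N := hNn.conj_mem _ s.2 g
    refine ⟨⟨g * (s : G) * g⁻¹, hmem⟩, ha _ ?_, rfl⟩
    obtain ⟨k, hk⟩ := S.isPGroup' ⟨s, hs⟩
    refine ⟨k, ?_⟩
    have hk' : s ^ (p ^ k) = 1 := by
      have := congrArg Subtype.val hk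
      simpa using this
    apply Subtype.ext
    have hk'' : (s : G) ^ (p ^ k) = 1 := by
      have := congrArg Subtype.val hk'
      simpa using this
    show (g * (s : G) * g⁻¹) ^ (p ^ k) = 1
    rw [conj_pow, hk'']
    group
  have hTp : IsPGroup p T := S.isPGroup'.map _
  have hTQ : T ≤ (Q : Subgroup G) := normal_pgroup_le_sylow' T hTp Q
  intro x hxP hxN
  apply hTQ
  refine ⟨⟨x, hxN⟩, ha _ ?_, rfl⟩
  obtain ⟨k, hk⟩ := P.isPGroup' ⟨x, hxP⟩
  refine ⟨k, ?_⟩
  apply Subtype.ext
  have := congrArg Subtype.val hk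
  simpa using this

end PClosedLemmas

section TransferLemma

open scoped IsMulCommutative in
/-- Transfer into an abelian subgroup `P` of finite index: a central element of the commutator
subgroup has `z ^ |G : P| = 1`. -/
theorem pow_index_eq_one_of_central_commutator {G : Type*} [Group G] (P : Subgroup G)
    [P.FiniteIndex] (hP : ∀ a ∈ P, ∀ b ∈ P, a * b = b * a) (z : G)
    (hzZ : z ∈ Subgroup.center G) (hzc : z ∈ commutator G) : z ^ P.index = 1 := by
  haveI : IsMulCommutative P := ⟨⟨fun a b => Subtype.ext (hP a a.2 b b.2)⟩⟩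
  have key : ∀ (k : ℕ) (g₀ : G), g₀⁻¹ * z ^ k * g₀ ∈ P → g₀⁻¹ * z ^ k * g₀ = z ^ k := by
    intro k g₀ _
    have h1 : z ^ k ∈ Subgroup.center G := (Subgroup.center G).pow_mem hzZ k
    rw [Subgroup.mem_center_iff] at h1
    rw [mul_assoc, ← h1 g₀, ← mul_assoc, inv_mul_cancel, one_mul]
  have h1 := MonoidHom.transfer_eq_pow (MonoidHom.id P) z key
  have h2 : MonoidHom.transfer (MonoidHom.id P) z = 1 :=
    Abelianization.commutator_subset_ker (MonoidHom.transfer (MonoidHom.id P)) hzc
  rw [h2] at h1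
  have h3 := congrArg Subtype.val h1
  simpa using h3.symm

theorem sylow_central_commutator_eq_one {G : Type*} [Group G] [Finite G] {p : ℕ}
    [hp : Fact p.Prime] (P : Sylow p G)
    (hab : ∀ a ∈ (P : Subgroup G), ∀ b ∈ (P : Subgroup G), a * b = b * a) {z : G}
    (hzP : z ∈ (P : Subgroup G)) (hzZ : z ∈ Subgroup.center G) (hzc : z ∈ commutator G) :
    z = 1 := by
  have h1 := pow_index_eq_one_of_central_commutator (P : Subgroup G) hab z hzZ hzc
  obtain ⟨k, hk⟩ := P.isPGroup' ⟨z, hzP⟩
  have hk' : z ^ (p ^ k) = 1 := by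
    have := congrArg Subtype.val hk
    simpa using this
  have h2 : orderOf z ∣ (P : Subgroup G).index := orderOf_dvd_of_pow_eq_one h1
  have h3 : orderOf z ∣ p ^ k := orderOf_dvd_of_pow_eq_one hk'
  have hcop : Nat.Coprime (p ^ k) (P : Subgroup G).index :=
    Nat.Coprime.pow_left k ((Nat.Prime.coprime_iff_not_dvd hp.out).mpr P.not_dvd_index)
  have h4 : orderOf z = 1 := Nat.eq_one_of_dvd_coprimes hcop h3 h2
  exact orderOf_eq_one_iff.mp h4

/-- A group with a normal `p'`-subgroup of `p`-power index is `p`-solvable. -/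
theorem ft_isPSolvable_of_complement {X : Type u} [Group X] (p : ℕ) (K : Subgroup X)
    [hKn : K.Normal] (hK : (Nat.card K).Coprime p) (m : ℕ) (hidx : K.index = p ^ m) :
    IsPSolvable p X := by
  refine ⟨2, ![⊥, K, ⊤], rfl, rfl, ?_, ?_, ?_⟩
  · intro i j hij
    fin_cases i <;> fin_cases j
    · exact le_rfl
    · exact bot_le
    · exact bot_le
    · exact absurd hij (by decide)
    · exact le_rfl
    · exact le_top
    · exact absurd hij (by decide)
    · exact absurd hij (by decide)
    · exact le_rfl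
  · intro i
    fin_cases i
    · show (⊥ : Subgroup X).Normal
      infer_instance
    · exact hKn
    · show (⊤ : Subgroup X).Normal
      infer_instance
  · intro i
    fin_cases i
    · right
      show ((⊥ : Subgroup X).relIndex K).Coprime p
      rw [Subgroup.relIndex_bot_left]
      exact hK
    · left
      refine ⟨m, ?_⟩
      show K.relIndex ⊤ = p ^ m
      rw [Subgroup.relIndex_top_right]
      exact hidx

theorem normal_of_commutator_le' {G : Type*} [Group G] (M : Subgroup G)
    (h : commutator G ≤ M) : M.Normal := by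
  constructor
  intro m hm g
  have h1 : g * m * g⁻¹ * m⁻¹ ∈ commutator G := by
    rw [commutator_def]
    exact Subgroup.commutator_mem_commutator (Subgroup.mem_top g) (Subgroup.mem_top m)
  have h2 : g * m * g⁻¹ = g * m * g⁻¹ * m⁻¹ * m := by
    group
  rw [h2]
  exact M.mul_mem (h h1) hm

end TransferLemma

section FTMainSylow

/-- The hypothesis of the Feit–Thompson reduction. -/
def FTHyp (p n : ℕ) (G : Type*) [Group G] : Prop :=
  (∃ ρ : Representation ℂ G (Fin n → ℂ), Function.Injective ρ) ∧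
  ((n + 1) ^ 2 ≤ p ∨ (n + 1 < p ∧ ∀ K : Subgroup G, ¬ p ^ 2 ∣ Nat.card K → PClosed p K))

theorem ftHyp_subgroup {p n : ℕ} {G : Type u} [Group G] (K : Subgroup G) (h : FTHyp p n G) :
    FTHyp p n K := by
  obtain ⟨⟨ρ, hρ⟩, hcase⟩ := h
  refine ⟨⟨(MonoidHom.comp ρ K.subtype : Representation ℂ K (Fin n → ℂ)), ?_⟩, ?_⟩
  · intro a b hab
    have : ρ (a : G) = ρ (b : G) := hab
    exact Subtype.ext (hρ this)
  · rcases hcase with hA | ⟨h1, hB⟩
    · exact Or.inl hA
    · refine Or.inr ⟨h1, ?_⟩
      intro K' hK'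
      have e := Subgroup.equivMapOfInjective K' K.subtype K.subtype_injective
      have hcard : Nat.card (K'.map K.subtype) = Nat.card K' := (Nat.card_congr e.toEquiv).symm
      exact pClosed_of_equiv e.symm (hB (K'.map K.subtype) (by rw [hcard]; exact hK'))

/-- **Feit–Thompson reduction**: a finite group satisfying `FTHyp p n` is `p`-closed. -/
theorem ft_normal_sylow_aux (p : ℕ) [hp : Fact p.Prime] (n : ℕ) :
    ∀ m : ℕ, ∀ (G : Type u) [Group G] [Finite G], Nat.card G = m → FTHyp p n G →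
      PClosed p G := by
  intro m
  induction m using Nat.strong_induction_on with
  | _ m ih =>
  intro G _ _ hm hyp P
  by_contra hPn
  classical
  letI : Fintype G := Fintype.ofFinite G
  -- proper subgroups are `p`-closed
  have hsub : ∀ K : Subgroup G, K ≠ ⊤ → PClosed p K := by
    intro K hK
    refine ih (Nat.card K) ?_ K rfl (ftHyp_subgroup K hyp)
    rw [← hm]
    exact lt_of_le_of_ne (Subgroup.card_le_card_group K)
      (fun h => hK (Subgroup.eq_top_of_card_eq K h))
  obtain ⟨⟨ρ, hρ⟩, hcase⟩ := hyp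
  set ψ : G → ℂ := ρ.character with hψ
  have hψc : IsCharacter G ψ := ⟨n, ρ, rfl⟩
  have hfaith : ∀ g : G, ψ g = ψ 1 → g = 1 := by
    intro g hg
    have h1 : g ∈ helper82.repKer ρ := (helper82.mem_repKer_iff_char ρ g).mpr hg
    rw [helper82.mem_repKer] at h1
    exact hρ (h1.trans (map_one ρ).symm)
  have hdegψ : charDegree ψ = n :=
    helper21.charDegree_of_one_eq (by rw [hψ, Representation.char_one]; simp)
  have hn1 : n + 1 < p := by
    rcases hcase with h | h
    · have h2 := hp.out.two_le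
      by_contra hcon
      push Not at hcon
      have h3 : (n + 1) * (n + 1) ≤ n + 1 := by
        calc (n + 1) * (n + 1) = (n + 1) ^ 2 := by ring
          _ ≤ p := h
          _ ≤ n + 1 := hcon
      have h4 : n + 1 ≤ 1 := by
        by_contra h5
        push Not at h5
        nlinarith
      have h6 : n = 0 := by omega
      subst h6
      omega
    · exact h.1
  have hab : ∀ Q : Sylow p G, ∀ a ∈ (Q : Subgroup G), ∀ b ∈ (Q : Subgroup G), a * b = b * a :=
    fun Q => Cfsg.Agent.S4468.pgroup_comm ψ hψc hfaith n hdegψ p (by omega) (Q : Subgroup G)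
      Q.isPGroup'
  -- distinct Sylow subgroups meet in the centre
  have hint : ∀ P₁ P₂ : Sylow p G, P₁ ≠ P₂ → ∀ x ∈ (P₁ : Subgroup G),
      x ∈ (P₂ : Subgroup G) → x ∈ Subgroup.center G := by
    intro P₁ P₂ hne
    set C := Subgroup.centralizer
      (((P₁ : Subgroup G) ⊓ (P₂ : Subgroup G) : Subgroup G) : Set G) with hC
    have h1 : (P₁ : Subgroup G) ≤ C := by
      intro x hx
      rw [hC, Subgroup.mem_centralizer_iff]
      intro d hd
      exact hab P₁ d hd.1 x hx
    have h2 : (P₂ : Subgroup G) ≤ C := by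
      intro x hx
      rw [hC, Subgroup.mem_centralizer_iff]
      intro d hd
      exact hab P₂ d hd.2 x hx
    have hCtop : C = ⊤ := by
      by_contra hCne
      exact hne (pClosed_sylow_eq C (hsub C hCne) P₁ P₂ h1 h2)
    intro x hx1 hx2
    rw [Subgroup.mem_center_iff]
    intro g
    have hg : g ∈ C := by
      rw [hCtop]
      exact Subgroup.mem_top g
    rw [hC, Subgroup.mem_centralizer_iff] at hg
    exact (hg x ⟨hx1, hx2⟩).symm
  have hexne : ∀ Q : Sylow p G, ∃ Q' : Sylow p G, Q' ≠ Q := by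
    intro Q
    by_contra hcon
    push Not at hcon
    have : Subsingleton (Sylow p G) := ⟨fun a b => (hcon a).trans (hcon b).symm⟩
    exact hPn (Sylow.normal_of_subsingleton P)
  have htr : ∀ Q : Sylow p G, ∀ z ∈ (Q : Subgroup G), z ∈ Subgroup.center G →
      z ∈ commutator G → z = 1 :=
    fun Q z hzQ hzZ hzc => sylow_central_commutator_eq_one Q (hab Q) hzQ hzZ hzc
  -- `G` is perfect
  have hperf : commutator G = ⊤ := by
    by_contra hne
    have hpc := hsub (commutator G) hne
    have h1 : ∀ Q : Sylow p G, ∀ x ∈ (Q : Subgroup G), x ∈ commutator G → x = 1 := by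
      intro Q x hxQ hxc
      obtain ⟨Q', hQ'⟩ := hexne Q
      have hxQ' : x ∈ (Q' : Subgroup G) :=
        pClosed_normal_inf_le (commutator G) hpc Q Q' x hxQ hxc
      exact htr Q x hxQ (hint Q Q' hQ'.symm x hxQ hxQ') hxc
    have h2 : ¬ p ∣ Nat.card (commutator G) := by
      intro hdvd
      obtain ⟨x, hx⟩ := exists_prime_orderOf_dvd_card' p hdvd
      have hxp : IsPGroup p (Subgroup.zpowers (x : G)) :=
        IsPGroup.of_card (n := 1) (by rw [Nat.card_zpowers, Subgroup.orderOf_coe, hx, pow_one])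
      obtain ⟨Q, hQ⟩ := hxp.exists_le_sylow
      have h3 := h1 Q (x : G) (hQ (Subgroup.mem_zpowers _)) x.2
      have hx1 : x = 1 := Subtype.ext h3
      rw [hx1, orderOf_one] at hx
      exact hp.out.one_lt.ne hx
    set M := commutator G ⊔ (P : Subgroup G) with hM
    haveI hMn : M.Normal := normal_of_commutator_le' M le_sup_left
    have hMtop : M = ⊤ := by
      by_contra hMne
      exact hPn (pClosed_normal_of_le M (hsub M hMne) P le_sup_right)
    have hidx : ∃ k, (commutator G).index = p ^ k := by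
      have e1 : (commutator G).relIndex (commutator G ⊔ (P : Subgroup G))
          = (commutator G).relIndex (P : Subgroup G) := Subgroup.relIndex_sup_left _ _
      rw [← hM, hMtop, Subgroup.relIndex_top_right] at e1
      have e2 : (commutator G).relIndex (P : Subgroup G) ∣ Nat.card (P : Subgroup G) :=
        Subgroup.relIndex_dvd_card _ _
      obtain ⟨j, hj⟩ := IsPGroup.iff_card.mp P.isPGroup'
      rw [hj] at e2
      obtain ⟨k, _, hk⟩ := (Nat.dvd_prime_pow hp.out).mp e2
      exact ⟨k, by rw [e1, hk]⟩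
    obtain ⟨k, hk⟩ := hidx
    have hsolv : IsPSolvable p G :=
      ft_isPSolvable_of_complement p (commutator G)
        (Nat.Coprime.symm ((Nat.Prime.coprime_iff_not_dvd hp.out).mpr h2)) k hk
    have h9 := Cfsg.Agent.S4468.result ψ hψc hfaith n hdegψ p hp.out hsolv (by omega) P hPn
    omega
  have hZ : ∀ Q : Sylow p G, (Q : Subgroup G) ⊓ Subgroup.center G = ⊥ := by
    intro Q
    rw [eq_bot_iff]
    intro z hz
    rw [Subgroup.mem_bot]
    exact htr Q z hz.1 hz.2 (by rw [hperf]; exact Subgroup.mem_top z)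
  have hTI : ∀ P₁ P₂ : Sylow p G, ∀ x ∈ (P₁ : Subgroup G), x ∈ (P₂ : Subgroup G) → x ≠ 1 →
      P₁ = P₂ := by
    intro P₁ P₂ x hx1 hx2 hx
    by_contra hne
    apply hx
    have hxZ := hint P₁ P₂ hne x hx1 hx2
    have h1 : x ∈ (P₁ : Subgroup G) ⊓ Subgroup.center G := ⟨hx1, hxZ⟩
    rw [hZ P₁, Subgroup.mem_bot] at h1
    exact h1
  -- the centralizer condition
  have hone : FTOne (P : Subgroup G) := by
    intro g hg a b ha hb
    set C := Subgroup.centralizer ({g} : Set G) with hC
    have hCne : C ≠ ⊤ := by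
      intro hCtop
      apply hg
      rw [Subgroup.mem_center_iff]
      intro x
      have hx : x ∈ C := by
        rw [hCtop]
        exact Subgroup.mem_top x
      rw [hC, Subgroup.mem_centralizer_iff] at hx
      exact (hx g (Set.mem_singleton g)).symm
    have hpc := hsub C hCne
    rw [← sylow_smul_coe_eq_map a P] at ha ⊢
    rw [← sylow_smul_coe_eq_map b P] at hb ⊢
    obtain ⟨x, hx1⟩ := (Subgroup.ne_bot_iff_exists_ne_one).mp ha
    obtain ⟨y, hy1⟩ := (Subgroup.ne_bot_iff_exists_ne_one).mp hb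
    obtain ⟨P₃, h3a, h3b⟩ := pClosed_exists_sylow_ge C hpc
      (C ⊓ ((a • P : Sylow p G) : Subgroup G)) (C ⊓ ((b • P : Sylow p G) : Subgroup G))
      ((a • P : Sylow p G).isPGroup'.to_le inf_le_right)
      ((b • P : Sylow p G).isPGroup'.to_le inf_le_right) inf_le_left inf_le_left
    have e1 : a • P = P₃ := hTI (a • P) P₃ (x : G) x.2.2 (h3a x.2)
      (fun h => hx1 (Subtype.ext h))
    have e2 : b • P = P₃ := hTI (b • P) P₃ (y : G) y.2.2 (h3b y.2)
      (fun h => hy1 (Subtype.ext h))
    rw [e1, e2]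
  have hnorm : ∀ M : Subgroup G, M.Normal → (P : Subgroup G) ≤ M → M = ⊤ := by
    intro M hMn hPM
    by_contra hMne
    haveI := hMn
    exact hPn (pClosed_normal_of_le M (hsub M hMne) P hPM)
  have hPne : ∃ h ∈ (P : Subgroup G), h ≠ 1 := by
    by_contra hcon
    push Not at hcon
    apply hPn
    have h1 : (P : Subgroup G) = ⊥ := by
      rw [eq_bot_iff]
      intro x hx
      rw [Subgroup.mem_bot]
      exact hcon x hx
    rw [h1]
    infer_instance
  obtain ⟨h₀, hh₀, hh₀1⟩ := hPne
  obtain ⟨l, hl0⟩ := helper4.exists_list_irr_of_isCharacter hψc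
  have hl : ψ = (l.map Subtype.val).sum := by
    rw [hl0]
    congr 1
    simp
  have hne0 : (l.map Subtype.val).sum h₀ ≠ (l.map Subtype.val).sum 1 := by
    rw [← hl]
    intro h
    exact hh₀1 (hfaith h₀ h)
  obtain ⟨χ, hχl, hχ⟩ := helper21.exists_mem_ne_of_sum_ne l hne0
  obtain ⟨n', hn', _, hdeg⟩ := helper21.list_sum_degree l
  have hnn' : n' = n := by
    have h1 : charDegree ψ = n' := helper21.charDegree_of_one_eq (by rw [hl]; exact hn')
    omega
  have hχn : charDegree (χ : G → ℂ) ≤ n := hnn' ▸ hdeg χ hχl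
  have hχ1 : charDegree (χ : G → ℂ) ≠ 1 := by
    intro h1
    apply hχ
    have h3 : (χ : G → ℂ) 1 = 1 := by
      rw [helper81.irr_one_eq_charDegree χ, h1]
      simp
    have h2 := (helper82.irr_linear_iff χ.2).mp h3
    exact h2 h₀ (by rw [hperf]; exact Subgroup.mem_top _)
  letI : Fintype (P : Subgroup G) := Fintype.ofFinite _
  have hbound := ft_degree_bound_two (P : Subgroup G) (hab P) (hZ P) hone χ hχ1 hnorm
  have hcardlt : Nat.card (P : Subgroup G) < (n + 1) ^ 2 := by
    have h1 : (Nat.card (P : Subgroup G) : ℝ) < ((n : ℝ) + 1) ^ 2 := by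
      refine lt_of_lt_of_le hbound ?_
      have h2 : (charDegree (χ : G → ℂ) : ℝ) ≤ n := by exact_mod_cast hχn
      have h0 : (0 : ℝ) ≤ charDegree (χ : G → ℂ) := Nat.cast_nonneg _
      nlinarith
    exact_mod_cast h1
  obtain ⟨j, hj⟩ := IsPGroup.iff_card.mp P.isPGroup'
  have hj1 : j ≠ 0 := by
    rintro rfl
    rw [pow_zero] at hj
    have h1 : (⟨h₀, hh₀⟩ : (P : Subgroup G)) = 1 := by
      haveI := (Nat.card_eq_one_iff_unique.mp hj).1
      exact Subsingleton.elim _ _
    exact hh₀1 (congrArg Subtype.val h1)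
  rcases hcase with hA | ⟨_, hB⟩
  · have h1 : p ≤ p ^ j := Nat.le_self_pow hj1 p
    omega
  · have hlt2 : p ^ j < p ^ 2 := by
      calc p ^ j = Nat.card (P : Subgroup G) := hj.symm
        _ < (n + 1) ^ 2 := hcardlt
        _ < p ^ 2 := Nat.pow_lt_pow_left hn1 (by norm_num)
    have hj2 : j < 2 := (Nat.pow_lt_pow_iff_right hp.out.one_lt).mp hlt2
    have hnd : ¬ p ^ 2 ∣ Nat.card (⊤ : Subgroup G) := by
      rw [Subgroup.card_top]
      intro hdvd
      have h1 := P.pow_dvd_card_of_pow_dvd_card hdvd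
      rw [hj] at h1
      have h2 := (Nat.pow_dvd_pow_iff_le_right hp.out.one_lt).mp h1
      omega
    have hpcT := hB ⊤ hnd
    have hpcG : PClosed p G := pClosed_of_equiv Subgroup.topEquiv hpcT
    exact hPn (hpcG P)

end FTMainSylow

end Cfsg.Agent.Lib.helper78
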