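import Mathlib
import Cfsg.Agent.Lib.helper3.GfDefs
import Cfsg.Agent.Lib.helper46.GfVQ
import Cfsg.Agent.Lib.helper69.StemSylow

/-! S4395 piece COVQ, racing copy (helper78): the quotient `V = P/N` of a cover with the commutator
pairing `κ` and the `p`-th power map `π` with values in `M = N`. -/

set_option autoImplicit false

namespace Cfsg.Agent.Lib.helper3.Gf

universe u

open scoped commutatorElement
open Cfsg.Agent.Lib.helper69

/-- the power formula in class two -/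
theorem h78_class_two_pow {K : Type*} [Group K] (u w : K) (hc : ⁅w, u⁆ ∈ Subgroup.center K)
    (n : ℕ) : (u * w) ^ n = u ^ n * w ^ n * ⁅w, u⁆ ^ (n.choose 2) := by
  obtain ⟨c, hcdef⟩ : ∃ c, c = ⁅w, u⁆ := ⟨_, rfl⟩
  rw [← hcdef] at hc ⊢
  have hcc : ∀ g : K, g * c = c * g := Subgroup.mem_center_iff.mp hc
  have hwu : w * u = c * (u * w) := by rw [hcdef, commutatorElement_def]; group
  have hcp : ∀ (k : ℕ) (g : K), g * c ^ k = c ^ k * g := by
    intro k g
    exact Commute.pow_right (hcc g) k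
  have h1 : ∀ k : ℕ, w ^ k * u = c ^ k * (u * w ^ k) := by
    intro k
    induction k with
    | zero => simp
    | succ k ih =>
      calc w ^ (k + 1) * u = w ^ k * (w * u) := by rw [pow_succ]; group
        _ = w ^ k * (c * (u * w)) := by rw [hwu]
        _ = (w ^ k * c) * (u * w) := by group
        _ = c * (w ^ k * u) * w := by rw [hcc (w ^ k)]; group
        _ = c * (c ^ k * (u * w ^ k)) * w := by rw [ih]
        _ = c ^ (k + 1) * (u * w ^ (k + 1)) := by group
  have h2 : ∀ m : ℕ, (u * w) ^ m = c ^ (m.choose 2) * (u ^ m * w ^ m) := by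
    intro m
    induction m with
    | zero => simp
    | succ m ih =>
      have hch : (m + 1).choose 2 = m.choose 2 + m := by
        have h3 : (m + 1).choose 2 = m.choose 1 + m.choose 2 := Nat.choose_succ_succ' m 1
        rw [Nat.choose_one_right] at h3
        omega
      calc (u * w) ^ (m + 1) = (u * w) ^ m * (u * w) := pow_succ _ _
        _ = c ^ (m.choose 2) * (u ^ m * w ^ m) * (u * w) := by rw [ih]
        _ = c ^ (m.choose 2) * u ^ m * (w ^ m * u) * w := by group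
        _ = c ^ (m.choose 2) * u ^ m * (c ^ m * (u * w ^ m)) * w := by rw [h1]
        _ = c ^ (m.choose 2) * (u ^ m * c ^ m) * (u * w ^ m) * w := by group
        _ = c ^ (m.choose 2) * (c ^ m * u ^ m) * (u * w ^ m) * w := by rw [hcp m (u ^ m)]
        _ = c ^ (m.choose 2 + m) * (u ^ (m + 1) * w ^ (m + 1)) := by group
        _ = c ^ ((m + 1).choose 2) * (u ^ (m + 1) * w ^ (m + 1)) := by rw [hch]
  rw [h2, ← hcp]

/-- COVQ (racing copy) -/
theorem h78_covq (p q r : ℕ) [Fact p.Prime] [Fact q.Prime] (hpq : p ≠ q) {K : Type u} [Group K] [Finite K]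
    (N P : Subgroup K) (y : K) (h : Cov p q r N P y)
    (hexp : ∀ n ∈ N, n ^ p = 1) (hgen : N ≤ Subgroup.closure (CP p P)) :
    ∃ (V : Type u) (_ : AddCommGroup V) (_ : Finite V) (M : Type u) (_ : AddCommGroup M) (_ : Finite M)
      (T : V ≃+ V) (κ : V → V → M) (π : V → M), Irr p q T ∧
      (∀ u u' v, κ (u + u') v = κ u v + κ u' v) ∧ (∀ u v v', κ u (v + v') = κ u v + κ u v') ∧
      (∀ v, κ v v = 0) ∧ (∀ u v, κ (T u) (T v) = κ u v) ∧
      (∀ u v, π (u + v) = π u + π v + (p.choose 2) • κ v u) ∧ (∀ v, π (T v) = π v) ∧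
      AddSubgroup.closure (Set.range (fun uv : V × V => κ uv.1 uv.2) ∪ Set.range π) = ⊤ ∧
      Nat.card ↥P = Nat.card V * Nat.card M := by
  classical
  obtain ⟨V, iV, fV, T, pr, hI, hsurj, hadd, hker, hT⟩ := vq p q r hpq N P y h
  have hNc : ∀ n ∈ N, n ∈ Subgroup.center K := fun n hn => h.N_central hn
  have hNcomm : ∀ n ∈ N, ∀ g : K, g * n = n * g :=
    fun n hn => Subgroup.mem_center_iff.mp (hNc n hn)
  let iN : CommGroup ↥N := { (inferInstance : Group ↥N) with
    mul_comm := fun a b => Subtype.ext (hNcomm b b.2 a) }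
  have hpr1 : pr 1 = 0 := by
    have h1 := hadd 1 1
    rw [mul_one] at h1
    exact add_eq_left.mp h1.symm
  have hprinv : ∀ u : ↥P, pr u⁻¹ = - pr u := by
    intro u
    have h1 := hadd u⁻¹ u
    rw [inv_mul_cancel, hpr1] at h1
    exact eq_neg_of_add_eq_zero_left h1.symm
  have hcls : ∀ u u' : ↥P, pr u = pr u' → ∃ n ∈ N, (u' : K) = (u : K) * n := by
    intro u u' huu
    refine ⟨((u⁻¹ * u' : ↥P) : K), ?_, ?_⟩
    · rw [← hker, hadd, hprinv, huu, neg_add_cancel]
    · simp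
  have hcomm_cls : ∀ u u' v v' : ↥P, pr u = pr u' → pr v = pr v' →
      ⁅(u' : K), (v' : K)⁆ = ⁅(u : K), (v : K)⁆ := by
    intro u u' v v' h1 h2
    obtain ⟨n, hn, e1⟩ := hcls u u' h1
    obtain ⟨n', hn', e2⟩ := hcls v v' h2
    rw [e1, e2, commutatorElement_mul_central_left _ _ _ (hNc n hn),
      commutatorElement_mul_central_right _ _ _ (hNc n' hn')]
  have hpow_cls : ∀ u u' : ↥P, pr u = pr u' → (u' : K) ^ p = (u : K) ^ p := by
    intro u u' h1
    obtain ⟨n, hn, e1⟩ := hcls u u' h1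
    have hcm : Commute (u : K) n := hNcomm n hn (u : K)
    rw [e1, hcm.mul_pow, hexp n hn, mul_one]
  have hcomm_mem : ∀ u v : ↥P, ⁅(u : K), (v : K)⁆ ∈ N := fun u v => by
    rw [commutatorElement_def]; exact h.comm_mem u u.2 v v.2
  have hcomm_cen : ∀ u v : ↥P, ⁅(u : K), (v : K)⁆ ∈ Subgroup.center K :=
    fun u v => hNc _ (hcomm_mem u v)
  choose lift hlift using hsurj
  let κ : V → V → Additive ↥N := fun v w =>
    Additive.ofMul ⟨⁅(lift v : K), (lift w : K)⁆, hcomm_mem _ _⟩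
  let π : V → Additive ↥N := fun v =>
    Additive.ofMul ⟨(lift v : K) ^ p, h.pow_mem _ (lift v).2⟩
  have hκ : ∀ u v : ↥P, κ (pr u) (pr v)
      = Additive.ofMul ⟨⁅(u : K), (v : K)⁆, hcomm_mem u v⟩ := by
    intro u v
    show Additive.ofMul (⟨⁅(lift (pr u) : K), (lift (pr v) : K)⁆, _⟩ : ↥N) = _
    congr 1
    apply Subtype.ext
    exact hcomm_cls u (lift (pr u)) v (lift (pr v)) (hlift _).symm (hlift _).symm
  have hπ : ∀ u : ↥P, π (pr u) = Additive.ofMul ⟨(u : K) ^ p, h.pow_mem _ u.2⟩ := by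
    intro u
    show Additive.ofMul (⟨(lift (pr u) : K) ^ p, _⟩ : ↥N) = _
    congr 1
    apply Subtype.ext
    exact hpow_cls u (lift (pr u)) (hlift _).symm
  have hsurj' : ∀ v : V, ∃ u : ↥P, pr u = v := fun v => ⟨lift v, hlift v⟩
  refine ⟨V, iV, fV, Additive ↥N, inferInstance, inferInstance, T, κ, π, hI, ?_, ?_, ?_, ?_, ?_,
    ?_, ?_, ?_⟩
  · intro v v' w
    obtain ⟨a, rfl⟩ := hsurj' v
    obtain ⟨a', rfl⟩ := hsurj' v'
    obtain ⟨b, rfl⟩ := hsurj' w
    rw [← hadd, hκ, hκ, hκ, ← ofMul_mul]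
    congr 1
    apply Subtype.ext
    show ⁅((a * a' : ↥P) : K), (b : K)⁆ = ⁅(a : K), (b : K)⁆ * ⁅(a' : K), (b : K)⁆
    rw [Subgroup.coe_mul]
    exact stem_commutatorElement_mul_left _ _ _ (hcomm_cen a' b)
  · intro v w w'
    obtain ⟨a, rfl⟩ := hsurj' v
    obtain ⟨b, rfl⟩ := hsurj' w
    obtain ⟨b', rfl⟩ := hsurj' w'
    rw [← hadd, hκ, hκ, hκ, ← ofMul_mul]
    congr 1
    apply Subtype.ext
    show ⁅(a : K), ((b * b' : ↥P) : K)⁆ = ⁅(a : K), (b : K)⁆ * ⁅(a : K), (b' : K)⁆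
    rw [Subgroup.coe_mul]
    exact stem_commutatorElement_mul_right _ _ _ (hcomm_cen a b')
  · intro v
    obtain ⟨a, rfl⟩ := hsurj' v
    rw [hκ]
    show Additive.ofMul (⟨⁅(a : K), (a : K)⁆, _⟩ : ↥N) = Additive.ofMul 1
    congr 1
    apply Subtype.ext
    exact commutatorElement_self _
  · intro v w
    obtain ⟨a, rfl⟩ := hsurj' v
    obtain ⟨b, rfl⟩ := hsurj' w
    have ha : y * (a : K) * y⁻¹ ∈ P := h.P_normal.conj_mem _ a.2 y
    have hb : y * (b : K) * y⁻¹ ∈ P := h.P_normal.conj_mem _ b.2 y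
    rw [← hT a ha, ← hT b hb, hκ, hκ]
    congr 1
    apply Subtype.ext
    show ⁅y * (a : K) * y⁻¹, y * (b : K) * y⁻¹⁆ = ⁅(a : K), (b : K)⁆
    exact commutatorElement_conj_of_central y _ _ (hcomm_cen a b)
  · intro v w
    obtain ⟨a, rfl⟩ := hsurj' v
    obtain ⟨b, rfl⟩ := hsurj' w
    rw [← hadd, hπ, hπ, hπ, hκ, ← ofMul_pow, ← ofMul_mul, ← ofMul_mul]
    congr 1
    apply Subtype.ext
    show ((a * b : ↥P) : K) ^ p = (a : K) ^ p * (b : K) ^ p * ⁅(b : K), (a : K)⁆ ^ (p.choose 2)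
    rw [Subgroup.coe_mul]
    exact h78_class_two_pow _ _ (hcomm_cen b a) p
  · intro v
    obtain ⟨a, rfl⟩ := hsurj' v
    have ha : y * (a : K) * y⁻¹ ∈ P := h.P_normal.conj_mem _ a.2 y
    rw [← hT a ha, hπ, hπ]
    congr 1
    apply Subtype.ext
    show (y * (a : K) * y⁻¹) ^ p = (a : K) ^ p
    rw [conj_pow]
    have hn := h.pow_mem _ a.2
    rw [hNcomm _ hn y]; group
  · rw [AddSubgroup.eq_top_iff']
    intro x
    let H' : Subgroup K :=
      { carrier := {g | ∃ hg : g ∈ N, Additive.ofMul (⟨g, hg⟩ : ↥N) ∈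
          AddSubgroup.closure (Set.range (fun uv : V × V => κ uv.1 uv.2) ∪ Set.range π)}
        mul_mem' := by
          rintro g g' ⟨hg, h1⟩ ⟨hg', h2⟩
          exact ⟨N.mul_mem hg hg', AddSubgroup.add_mem _ h1 h2⟩
        one_mem' := ⟨N.one_mem, AddSubgroup.zero_mem _⟩
        inv_mem' := by
          rintro g ⟨hg, h1⟩
          exact ⟨N.inv_mem hg, AddSubgroup.neg_mem _ h1⟩ }
    have hCP : CP p P ⊆ (H' : Set K) := by
      rintro g (⟨u, hu, v, hv, rfl⟩ | ⟨u, hu, rfl⟩)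
      · refine ⟨h.comm_mem u hu v hv, ?_⟩
        apply AddSubgroup.subset_closure
        left
        exact ⟨(pr ⟨u, hu⟩, pr ⟨v, hv⟩), hκ ⟨u, hu⟩ ⟨v, hv⟩⟩
      · refine ⟨h.pow_mem u hu, ?_⟩
        apply AddSubgroup.subset_closure
        right
        exact ⟨pr ⟨u, hu⟩, hπ ⟨u, hu⟩⟩
    have hle : N ≤ H' := hgen.trans ((Subgroup.closure_le H').mpr hCP)
    obtain ⟨hg, hx⟩ := hle (Additive.toMul x).2
    exact hx
  · have hcardM : Nat.card (Additive ↥N) = Nat.card ↥N := Nat.card_congr Additive.toMul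
    rw [hcardM, ← Nat.card_prod]
    apply Nat.card_congr
    exact
      { toFun := fun u => (pr u, ⟨((lift (pr u) : ↥P) : K)⁻¹ * (u : K), by
          have h1 : pr ((lift (pr u))⁻¹ * u) = 0 := by rw [hadd, hprinv, hlift, neg_add_cancel]
          exact (hker _).mp h1⟩)
        invFun := fun vn => lift vn.1 * ⟨(vn.2 : K), h.N_le_P vn.2.2⟩
        left_inv := by
          intro u
          apply Subtype.ext
          simp
        right_inv := by
          rintro ⟨v, n⟩
          have h1 : pr (lift v * ⟨(n : K), h.N_le_P n.2⟩) = v := by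
            rw [hadd, hlift, (hker _).mpr n.2, add_zero]
          apply Prod.ext
          · exact h1
          · apply Subtype.ext
            show ((lift (pr (lift v * ⟨(n : K), h.N_le_P n.2⟩)) : ↥P) : K)⁻¹ *
              ((lift v * ⟨(n : K), h.N_le_P n.2⟩ : ↥P) : K) = (n : K)
            rw [h1]
            simp }

end Cfsg.Agent.Lib.helper3.Gf
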