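import Mathlib
import Cfsg.Prelude.Def_BlockLocal
import Cfsg.Agent.Lib.helper78.KleinDefect
import Cfsg.Agent.Lib.helper80.RelPair
import Cfsg.Agent.Lib.helper80.AbelFusion
import Cfsg.Agent.Lib.helper80.Nilpotent
import Cfsg.Agent.Lib.helper80.CyclicInertial

/-!
# Block induction inside a subgroup and Brauer pairs of a centralizer (helper78)

* `inducedCentralCharIn_relCent`, `isInducedBlockIn_iff_relCent`: the induced block computed
  inside a subgroup `H` (`IsInducedBlockIn`) is the induced block of the group `H`;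
* `isBrauerPairOf_local_iff`: for `Q ≤ P` with `P` an abelian `p`-group and `H = C_G(Q)`:
  `(P, c)` is a Brauer pair of the block `f` of the group `H` iff `(Q, f) ⊴ (P, c)` in `G`;
* `isInducedBlockIn_iff_normalSubpair`: `c` induces `f` inside `C_G(Q)` iff `(Q, f) ⊴ (P, c)`;
* `isMaximal_local`, `stabilizes_local_iff`: the maximal pair and its stabilizer in `C_G(Q)`;
* `isNilpotentBlock_local_of_free`, `mem_centralizer_of_local_nilpotent`: nilpotency of the local
  block `f` versus elements of the stabilizer of `(P, c)` centralizing `Q`.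
-/

set_option autoImplicit false
set_option linter.style.haveILetI false
set_option linter.unusedSectionVars false

namespace Cfsg.Agent.Lib.helper78

open Cfsg

universe u

section Rel

variable {G : Type u} [Group G]

/-- The induced central character computed inside `H` is the induced central character of the
group `H`. -/
theorem inducedCentralCharIn_relCent (H : Subgroup G) (R' : Subgroup H) (R : Subgroup G)
    (hcr : Cfsg.Agent.Lib.helper80.CentRel H R' R)
    (ξ' : IrrCharacter (Subgroup.centralizer (R' : Set H))) (h : H) :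
    inducedCentralCharIn H (Subgroup.centralizer (R : Set G))
        (Cfsg.Agent.Lib.helper80.irrMap (Cfsg.Agent.Lib.helper80.relCent H R' R hcr) ξ'
          : Subgroup.centralizer (R : Set G) → ℂ) (h : G)
      = inducedCentralChar (Subgroup.centralizer (R' : Set H))
        (ξ' : Subgroup.centralizer (R' : Set H) → ℂ) h := by
  unfold inducedCentralCharIn inducedCentralChar
  symm
  apply finsum_mem_eq_of_bijOn (fun k' => Cfsg.Agent.Lib.helper80.relCent H R' R hcr k')
  · refine ⟨?_, ?_, ?_⟩
    · intro k' hk'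
      simp only [Set.mem_ofPred_eq] at hk' ⊢
      obtain ⟨c, hc⟩ := isConj_iff.mp hk'
      refine ⟨c⁻¹, ?_⟩
      show ((c⁻¹ : H) : G) * ((k' : H) : G) * ((c⁻¹ : H) : G)⁻¹ = (h : G)
      rw [← hc]
      push_cast
      group
    · intro a _ b _ hab
      exact (Cfsg.Agent.Lib.helper80.relCent H R' R hcr).injective hab
    · intro k hk
      simp only [Set.mem_ofPred_eq] at hk
      obtain ⟨x, hx⟩ := hk
      refine ⟨(Cfsg.Agent.Lib.helper80.relCent H R' R hcr).symm k, ?_, ?_⟩
      · simp only [Set.mem_ofPred_eq]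
        rw [isConj_iff]
        refine ⟨x⁻¹, ?_⟩
        apply Subtype.ext
        show ((x⁻¹ : H) : G) * (h : G) * ((x⁻¹ : H) : G)⁻¹ = (k : G)
        rw [← hx]
        push_cast
        group
      · exact MulEquiv.apply_symm_apply _ k
  · intro k' _
    rw [Cfsg.Agent.Lib.helper80.irrMap_apply', ← map_one
      (Cfsg.Agent.Lib.helper80.relCent H R' R hcr), Cfsg.Agent.Lib.helper80.irrMap_apply']

/-- Induction inside `H` is induction in the group `H`. -/
theorem isInducedBlockIn_iff_relCent {M : Ideal AlgInt} (H : Subgroup G) (R' : Subgroup H)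
    (R : Subgroup G) (hcr : Cfsg.Agent.Lib.helper80.CentRel H R' R)
    (c : Set (IrrCharacter (Subgroup.centralizer (R : Set G)))) (f : Set (IrrCharacter H)) :
    IsInducedBlockIn M H (Subgroup.centralizer (R : Set G)) c f ↔
      IsInducedBlock M (Subgroup.centralizer (R' : Set H))
        (Cfsg.Agent.Lib.helper80.blockMap (Cfsg.Agent.Lib.helper80.relCent H R' R hcr).symm c)
        f := by
  constructor
  · rintro ⟨hc, hf, hall⟩
    refine ⟨Cfsg.Agent.Lib.helper80.isPBlock_blockMap _ hc, hf, ?_⟩
    intro ξ' hξ' χ hχ h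
    rw [Cfsg.Agent.Lib.helper80.mem_blockMap, MulEquiv.symm_symm] at hξ'
    rw [← inducedCentralCharIn_relCent H R' R hcr ξ' h]
    exact hall _ hξ' χ hχ h
  · rintro ⟨hc, hf, hall⟩
    have hc' := Cfsg.Agent.Lib.helper80.isPBlock_blockMap
      (Cfsg.Agent.Lib.helper80.relCent H R' R hcr) hc
    rw [Cfsg.Agent.Lib.helper80.blockMap_blockMap_symm] at hc'
    refine ⟨hc', hf, ?_⟩
    intro ξ hξ χ hχ h
    have h1 := hall (Cfsg.Agent.Lib.helper80.irrMap
      (Cfsg.Agent.Lib.helper80.relCent H R' R hcr).symm ξ)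
      ((Cfsg.Agent.Lib.helper80.irrMap_mem_blockMap _ _ _).mpr hξ) χ hχ h
    rw [← inducedCentralCharIn_relCent H R' R hcr, Cfsg.Agent.Lib.helper80.irrMap_irrMap_symm]
      at h1
    exact h1

/-- Stabilizers: from `G` down to `H`. -/
theorem stabilizesBlock_down (H : Subgroup G) (R' : Subgroup H) (R : Subgroup G)
    (hcr : Cfsg.Agent.Lib.helper80.CentRel H R' R)
    {c : Set (IrrCharacter (Subgroup.centralizer (R : Set G)))} {x : H}
    (hx : StabilizesBlock (Subgroup.centralizer (R : Set G)) c (x : G)) :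
    StabilizesBlock (Subgroup.centralizer (R' : Set H))
      (Cfsg.Agent.Lib.helper80.blockMap (Cfsg.Agent.Lib.helper80.relCent H R' R hcr).symm c)
      x := by
  obtain ⟨hxN, hst⟩ := hx
  refine ⟨?_, ?_⟩
  · rw [Subgroup.mem_normalizer_iff]
    intro y
    have h1 := Subgroup.mem_normalizer_iff.mp hxN (y : G)
    constructor
    · intro hy
      have h2 : (y : G) ∈ Subgroup.centralizer (R : Set G) := (hcr _).mpr ⟨y.2, hy⟩
      obtain ⟨h3, h4⟩ := (hcr _).mp (h1.mp h2)
      exact h4
    · intro hy
      have h2 : (x : G) * (y : G) * (x : G)⁻¹ ∈ Subgroup.centralizer (R : Set G) :=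
        (hcr _).mpr ⟨(x * y * x⁻¹).2, hy⟩
      obtain ⟨h3, h4⟩ := (hcr _).mp (h1.mpr h2)
      exact h4
  · intro χ' hχ'
    rw [Cfsg.Agent.Lib.helper80.mem_blockMap, MulEquiv.symm_symm] at hχ'
    obtain ⟨ψ, hψ, hconj⟩ := hst _ hχ'
    refine ⟨Cfsg.Agent.Lib.helper80.irrMap (Cfsg.Agent.Lib.helper80.relCent H R' R hcr).symm ψ,
      (Cfsg.Agent.Lib.helper80.irrMap_mem_blockMap _ _ _).mpr hψ, ?_⟩
    intro k k' hkk
    rw [Cfsg.Agent.Lib.helper80.irrMap_apply, MulEquiv.symm_symm]
    have h1 := hconj (Cfsg.Agent.Lib.helper80.relCent H R' R hcr k)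
      (Cfsg.Agent.Lib.helper80.relCent H R' R hcr k') (by
        show ((k' : H) : G) = (x : G) * ((k : H) : G) * (x : G)⁻¹
        rw [hkk]
        rfl)
    rw [h1, Cfsg.Agent.Lib.helper80.irrMap_apply']

/-- The centralizers of `R` in `G` and of `R ∩ H` in `H` agree when `R ≤ H` and `C_G(R) ≤ H`. -/
theorem centRel_subgroupOf (H R : Subgroup G) (hRH : R ≤ H)
    (hC : Subgroup.centralizer (R : Set G) ≤ H) :
    Cfsg.Agent.Lib.helper80.CentRel H (R.subgroupOf H) R := by
  obtain ⟨h, -⟩ := Cfsg.Agent.Lib.helper80.up_of_le H R hRH hC ∅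
  exact h

end Rel

section Local

variable {G : Type u} [Group G] [Fintype G] {p : ℕ} [Fact p.Prime] {M : Ideal AlgInt}

/-- For `Q ≤ P`, `P` an abelian `p`-group: `(P, c)` is a Brauer pair of the block `f` of the
group `C_G(Q)` iff `(Q, f) ⊴ (P, c)` in `G`. -/
theorem isBrauerPairOf_local_iff {P Q : Subgroup G} (hP : IsPGroup p P) (hQP : Q ≤ P)
    (hPC : P ≤ Subgroup.centralizer (Q : Set G))
    (hcr : Cfsg.Agent.Lib.helper80.CentRel (Subgroup.centralizer (Q : Set G))
      (P.subgroupOf (Subgroup.centralizer (Q : Set G))) P)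
    (c : Set (IrrCharacter (Subgroup.centralizer (P : Set G))))
    (f : Set (IrrCharacter (Subgroup.centralizer (Q : Set G)))) :
    IsBrauerPairOf p M f (P.subgroupOf (Subgroup.centralizer (Q : Set G)))
        (Cfsg.Agent.Lib.helper80.blockMap (Cfsg.Agent.Lib.helper80.relCent
          (Subgroup.centralizer (Q : Set G)) (P.subgroupOf (Subgroup.centralizer (Q : Set G))) P
          hcr).symm c)
      ↔ IsNormalSubpair p M Q f P c := by
  have hβ : (fun t : Subgroup.centralizer (Q : Set G) =>
      subgroupBlockCoeff (Subgroup.centralizer (Q : Set G)) f (t : G)) = blockCoeff f :=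
    funext fun t => Cfsg.Agent.Lib.helper80.subgroupBlockCoeff_of_mem _ f t.2
  constructor
  · rintro ⟨⟨hP', hc'⟩, hf, hom⟩
    have hc := Cfsg.Agent.Lib.helper80.isPBlock_blockMap (Cfsg.Agent.Lib.helper80.relCent
      (Subgroup.centralizer (Q : Set G)) (P.subgroupOf (Subgroup.centralizer (Q : Set G))) P
      hcr) hc'
    rw [Cfsg.Agent.Lib.helper80.blockMap_blockMap_symm] at hc
    refine ⟨⟨hP.to_le hQP, hf⟩, ⟨hP, hc⟩, hQP,
      hPC.trans (Subgroup.centralizer_le_normalizer _),
      fun x hx => Cfsg.Agent.Lib.helper80.stabilizesBlock_of_mem_sup_centralizer Q f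
        (Subgroup.mem_sup_right (hPC hx)), ?_⟩
    intro ξ hξ
    have h1 := hom (Cfsg.Agent.Lib.helper80.irrMap (Cfsg.Agent.Lib.helper80.relCent
      (Subgroup.centralizer (Q : Set G)) (P.subgroupOf (Subgroup.centralizer (Q : Set G))) P
      hcr).symm ξ) ((Cfsg.Agent.Lib.helper80.irrMap_mem_blockMap _ _ _).mpr hξ)
    have h2 := Cfsg.Agent.Lib.helper80.brauerOmega_relCent (Subgroup.centralizer (Q : Set G))
      (P.subgroupOf (Subgroup.centralizer (Q : Set G))) P hcr
      (subgroupBlockCoeff (Subgroup.centralizer (Q : Set G)) f)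
      (Cfsg.Agent.Lib.helper80.irrMap (Cfsg.Agent.Lib.helper80.relCent
        (Subgroup.centralizer (Q : Set G)) (P.subgroupOf (Subgroup.centralizer (Q : Set G))) P
        hcr).symm ξ)
    rw [Cfsg.Agent.Lib.helper80.irrMap_irrMap_symm, hβ] at h2
    rw [h2]
    exact h1
  · rintro ⟨hQf, hPc, -, -, -, hom⟩
    refine ⟨⟨hP.comap_of_injective _ (Subgroup.subtype_injective _),
      Cfsg.Agent.Lib.helper80.isPBlock_blockMap _ hPc.2⟩, hQf.2, ?_⟩
    intro ξ' hξ'
    rw [Cfsg.Agent.Lib.helper80.mem_blockMap, MulEquiv.symm_symm] at hξ'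
    have h1 := hom _ hξ'
    have h2 := Cfsg.Agent.Lib.helper80.brauerOmega_relCent (Subgroup.centralizer (Q : Set G))
      (P.subgroupOf (Subgroup.centralizer (Q : Set G))) P hcr
      (subgroupBlockCoeff (Subgroup.centralizer (Q : Set G)) f) ξ'
    rw [hβ] at h2
    rw [← h2]
    exact h1

/-- `P ∩ H` is abelian when `P` is. -/
theorem subgroupOf_comm {P : Subgroup G} (H : Subgroup G)
    (hab : ∀ x ∈ P, ∀ y ∈ P, x * y = y * x) :
    ∀ x ∈ P.subgroupOf H, ∀ y ∈ P.subgroupOf H, x * y = y * x := by
  intro x hx y hy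
  rw [Subgroup.mem_subgroupOf] at hx hy
  exact Subtype.ext (hab _ hx _ hy)

/-- For `Q ≤ P`, `P` an abelian `p`-group: the block `c` of `C_G(P)` induces the block `f` of
`C_G(Q)` inside `C_G(Q)` iff `(Q, f) ⊴ (P, c)`. -/
theorem isInducedBlockIn_iff_normalSubpair (hM : IsPModular p M) {P Q : Subgroup G}
    (hP : IsPGroup p P) (hab : ∀ x ∈ P, ∀ y ∈ P, x * y = y * x) (hQP : Q ≤ P)
    (c : Set (IrrCharacter (Subgroup.centralizer (P : Set G))))
    (f : Set (IrrCharacter (Subgroup.centralizer (Q : Set G)))) :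
    IsInducedBlockIn M (Subgroup.centralizer (Q : Set G)) (Subgroup.centralizer (P : Set G)) c f
      ↔ IsNormalSubpair p M Q f P c := by
  classical
  have hPC : P ≤ Subgroup.centralizer (Q : Set G) := by
    intro u hu
    rw [Subgroup.mem_centralizer_iff]
    intro q hq
    exact hab q (hQP hq) u hu
  have hCC : Subgroup.centralizer (P : Set G) ≤ Subgroup.centralizer (Q : Set G) :=
    Subgroup.centralizer_le (SetLike.coe_subset_coe.mpr hQP)
  have hcr := centRel_subgroupOf (Subgroup.centralizer (Q : Set G)) P hPC hCC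
  haveI : Fintype (Subgroup.centralizer (Q : Set G)) := Fintype.ofFinite _
  have hP' : IsPGroup p (P.subgroupOf (Subgroup.centralizer (Q : Set G))) :=
    hP.comap_of_injective _ (Subgroup.subtype_injective _)
  have hab' := subgroupOf_comm (Subgroup.centralizer (Q : Set G)) hab
  have hP'C : P.subgroupOf (Subgroup.centralizer (Q : Set G))
      ≤ Subgroup.centralizer ((P.subgroupOf (Subgroup.centralizer (Q : Set G)) :
        Subgroup (Subgroup.centralizer (Q : Set G))) : Set (Subgroup.centralizer (Q : Set G))) := by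
    intro x hx
    rw [Subgroup.mem_centralizer_iff]
    intro y hy
    exact hab' y hy x hx
  rw [isInducedBlockIn_iff_relCent (Subgroup.centralizer (Q : Set G))
    (P.subgroupOf (Subgroup.centralizer (Q : Set G))) P hcr c f,
    ← isBrauerPairOf_iff_induced hM _ hP' hP'C,
    isBrauerPairOf_local_iff hP hQP hPC hcr c f]

/-- The maximal pair of the local block `f` in the group `C_G(Q)`. -/
theorem isMaximal_local (hM : IsPModular p M) {B : Set (IrrCharacter G)} {P Q : Subgroup G}
    {c : Set (IrrCharacter (Subgroup.centralizer (P : Set G)))}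
    {f : Set (IrrCharacter (Subgroup.centralizer (Q : Set G)))}
    (hmax : IsMaximalBrauerPair p M B P c) (hab : ∀ x ∈ P, ∀ y ∈ P, x * y = y * x)
    (hQP : Q ≤ P) (hns : IsNormalSubpair p M Q f P c)
    (hcr : Cfsg.Agent.Lib.helper80.CentRel (Subgroup.centralizer (Q : Set G))
      (P.subgroupOf (Subgroup.centralizer (Q : Set G))) P) :
    IsMaximalBrauerPair p M f (P.subgroupOf (Subgroup.centralizer (Q : Set G)))
      (Cfsg.Agent.Lib.helper80.blockMap (Cfsg.Agent.Lib.helper80.relCent
        (Subgroup.centralizer (Q : Set G)) (P.subgroupOf (Subgroup.centralizer (Q : Set G))) P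
        hcr).symm c) := by
  classical
  haveI : Fintype (Subgroup.centralizer (Q : Set G)) := Fintype.ofFinite _
  have hP : IsPGroup p P := hmax.1.1.1
  have hPC : P ≤ Subgroup.centralizer (Q : Set G) := by
    intro u hu
    rw [Subgroup.mem_centralizer_iff]
    intro q hq
    exact hab q (hQP hq) u hu
  have hpair := (isBrauerPairOf_local_iff (M := M) hP hQP hPC hcr c f).mpr hns
  have hD := Cfsg.Agent.Lib.helper80.isDefectGroup_centralizer_of_le hM hmax hQP hns.1.2
    (Relation.ReflTransGen.single hns) hPC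
  exact Cfsg.Agent.Lib.helper80.isMaximal_of_isDefectGroup hM hpair hD

/-- The stabilizer of the maximal pair of `f` in `C_G(Q)` is the stabilizer of `(P, c)`
intersected with `C_G(Q)`. -/
theorem stabilizes_local_iff {P Q : Subgroup G}
    (hPC : P ≤ Subgroup.centralizer (Q : Set G))
    (c : Set (IrrCharacter (Subgroup.centralizer (P : Set G))))
    (hcr : Cfsg.Agent.Lib.helper80.CentRel (Subgroup.centralizer (Q : Set G))
      (P.subgroupOf (Subgroup.centralizer (Q : Set G))) P)
    (x : Subgroup.centralizer (Q : Set G)) :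
    (x ∈ Subgroup.normalizer ((P.subgroupOf (Subgroup.centralizer (Q : Set G)) :
        Subgroup (Subgroup.centralizer (Q : Set G))) : Set (Subgroup.centralizer (Q : Set G))) ∧
      StabilizesBlock (Subgroup.centralizer ((P.subgroupOf (Subgroup.centralizer (Q : Set G)) :
        Subgroup (Subgroup.centralizer (Q : Set G))) : Set (Subgroup.centralizer (Q : Set G))))
        (Cfsg.Agent.Lib.helper80.blockMap (Cfsg.Agent.Lib.helper80.relCent
          (Subgroup.centralizer (Q : Set G)) (P.subgroupOf (Subgroup.centralizer (Q : Set G))) P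
          hcr).symm c) x)
      ↔ ((x : G) ∈ Subgroup.normalizer (P : Set G) ∧
        StabilizesBlock (Subgroup.centralizer (P : Set G)) c (x : G)) := by
  constructor
  · rintro ⟨hxN, hxS⟩
    refine ⟨?_, ?_⟩
    · apply Cfsg.Agent.Lib.helper80.mem_normalizer_of_forall_conj_mem
      intro u hu
      have h1 := (Subgroup.mem_normalizer_iff.mp hxN ⟨u, hPC hu⟩).mp
        (Subgroup.mem_subgroupOf.mpr hu)
      exact Subgroup.mem_subgroupOf.mp h1
    · have h1 := Cfsg.Agent.Lib.helper80.stabilizesBlock_upBlock _ _ P hcr hxS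
      unfold Cfsg.Agent.Lib.helper80.upBlock at h1
      rwa [Cfsg.Agent.Lib.helper80.blockMap_blockMap_symm] at h1
  · rintro ⟨hxN, hxS⟩
    refine ⟨?_, stabilizesBlock_down _ _ P hcr hxS⟩
    apply Cfsg.Agent.Lib.helper80.mem_normalizer_of_forall_conj_mem
    intro u hu
    rw [Subgroup.mem_subgroupOf] at hu ⊢
    exact (Subgroup.mem_normalizer_iff.mp hxN (u : G)).mp hu

/-- If no element of the stabilizer of `(P, c)` outside `C_G(P)` centralizes `Q`, the local block
`f` of `C_G(Q)` is nilpotent. -/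
theorem isNilpotentBlock_local_of_free (hM : IsPModular p M) {B : Set (IrrCharacter G)}
    {P Q : Subgroup G} {c : Set (IrrCharacter (Subgroup.centralizer (P : Set G)))}
    {f : Set (IrrCharacter (Subgroup.centralizer (Q : Set G)))}
    (hmax : IsMaximalBrauerPair p M B P c) (hab : ∀ x ∈ P, ∀ y ∈ P, x * y = y * x)
    (hQP : Q ≤ P) (hns : IsNormalSubpair p M Q f P c)
    (hfree : ∀ g : G, g ∈ Subgroup.normalizer (P : Set G) →
      StabilizesBlock (Subgroup.centralizer (P : Set G)) c g →
      g ∈ Subgroup.centralizer (Q : Set G) → g ∈ Subgroup.centralizer (P : Set G)) :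
    IsNilpotentBlock p M f := by
  classical
  haveI : Fintype (Subgroup.centralizer (Q : Set G)) := Fintype.ofFinite _
  have hPC : P ≤ Subgroup.centralizer (Q : Set G) := by
    intro u hu
    rw [Subgroup.mem_centralizer_iff]
    intro q hq
    exact hab q (hQP hq) u hu
  have hCC : Subgroup.centralizer (P : Set G) ≤ Subgroup.centralizer (Q : Set G) :=
    Subgroup.centralizer_le (SetLike.coe_subset_coe.mpr hQP)
  have hcr := centRel_subgroupOf (Subgroup.centralizer (Q : Set G)) P hPC hCC
  have hmax' := isMaximal_local hM hmax hab hQP hns hcr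
  have hab' := subgroupOf_comm (Subgroup.centralizer (Q : Set G)) hab
  refine Cfsg.Agent.Lib.helper80.isNilpotentBlock_of_abelian hM hmax' hab' ?_
  intro x hxN hxS
  obtain ⟨h1, h2⟩ := (stabilizes_local_iff hPC c hcr x).mp ⟨hxN, hxS⟩
  have h3 := hfree (x : G) h1 h2 x.2
  obtain ⟨h5, h4⟩ := (hcr _).mp h3
  exact h4

/-- If the local block `f` of `C_G(Q)` is nilpotent, every element of the stabilizer of `(P, c)`
centralizing `Q` centralizes `P`. -/
theorem mem_centralizer_of_local_nilpotent (hM : IsPModular p M) {B : Set (IrrCharacter G)}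
    {P Q : Subgroup G} {c : Set (IrrCharacter (Subgroup.centralizer (P : Set G)))}
    {f : Set (IrrCharacter (Subgroup.centralizer (Q : Set G)))}
    (hmax : IsMaximalBrauerPair p M B P c) (hab : ∀ x ∈ P, ∀ y ∈ P, x * y = y * x)
    (hQP : Q ≤ P) (hns : IsNormalSubpair p M Q f P c) (hnil : IsNilpotentBlock p M f)
    {g : G} (hgN : g ∈ Subgroup.normalizer (P : Set G))
    (hgS : StabilizesBlock (Subgroup.centralizer (P : Set G)) c g)
    (hgQ : g ∈ Subgroup.centralizer (Q : Set G)) : g ∈ Subgroup.centralizer (P : Set G) := by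
  classical
  haveI : Fintype (Subgroup.centralizer (Q : Set G)) := Fintype.ofFinite _
  have hPC : P ≤ Subgroup.centralizer (Q : Set G) := by
    intro u hu
    rw [Subgroup.mem_centralizer_iff]
    intro q hq
    exact hab q (hQP hq) u hu
  have hCC : Subgroup.centralizer (P : Set G) ≤ Subgroup.centralizer (Q : Set G) :=
    Subgroup.centralizer_le (SetLike.coe_subset_coe.mpr hQP)
  have hcr := centRel_subgroupOf (Subgroup.centralizer (Q : Set G)) P hPC hCC
  have hmax' := isMaximal_local hM hmax hab hQP hns hcr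
  have hab' := subgroupOf_comm (Subgroup.centralizer (Q : Set G)) hab
  obtain ⟨h1, h2⟩ := (stabilizes_local_iff hPC c hcr
    (⟨g, hgQ⟩ : Subgroup.centralizer (Q : Set G))).mpr ⟨hgN, hgS⟩
  have h3 := Cfsg.Agent.Lib.helper80.mem_centralizer_of_nilpotent hM hmax' hab' hnil h1 h2
  exact (hcr g).mpr ⟨hgQ, h3⟩

end Local

end Cfsg.Agent.Lib.helper78
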