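/-
Piece G of the characterisation of the rank-24 lattice (S0406): a binary code of length 24
with minimum weight at least 8 has at most 759 words of weight 8, and if it has exactly 759
then their supports form a Steiner system S(5,8,24).
-/
import Mathlib
import Cfsg.Agent.Lib.helper9.LcDefs

set_option autoImplicit false
open Matrix

namespace Cfsg.Agent.Lib.helper78
open Cfsg Cfsg.Agent.Lib.helper9

open scoped symmDiff

theorem lcg_support_add (s t : GolayPt → ZMod 2) :
    support₂ (s + t) = (support₂ s) ∆ (support₂ t) := by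
  ext a
  simp only [support₂, Finset.mem_filter, Finset.mem_univ, true_and, Finset.mem_symmDiff,
    Pi.add_apply]
  have h : ∀ x y : ZMod 2, (x + y ≠ 0 ↔ (x ≠ 0 ∧ ¬ y ≠ 0) ∨ (y ≠ 0 ∧ ¬ x ≠ 0)) := by decide
  exact h _ _

theorem lcg_card_symmDiff (A B : Finset GolayPt) :
    (A ∆ B).card + 2 * (A ∩ B).card = A.card + B.card := by
  have h1 : (A ∆ B).card = (A \ B).card + (B \ A).card := by
    rw [Finset.symmDiff_def]
    apply Finset.card_union_of_disjoint
    rw [Finset.disjoint_left]
    intro x hx hx'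
    rw [Finset.mem_sdiff] at hx hx'
    exact hx.2 hx'.1
  have h2 := Finset.card_sdiff_add_card_inter A B
  have h3 := Finset.card_sdiff_add_card_inter B A
  rw [Finset.inter_comm B A] at h3
  omega

theorem lcg_inter_le (C : Submodule (ZMod 2) (GolayPt → ZMod 2))
    (hmin : ∀ s ∈ C, s ≠ 0 → 8 ≤ (support₂ s).card) (b b' : Finset GolayPt)
    (hb : b ∈ wordsOfWeight (C : Set (GolayPt → ZMod 2)) 8)
    (hb' : b' ∈ wordsOfWeight (C : Set (GolayPt → ZMod 2)) 8) (hne : b ≠ b') :
    (b ∩ b').card ≤ 4 := by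
  obtain ⟨⟨s, hs, rfl⟩, hsc⟩ := hb
  obtain ⟨⟨t, ht, rfl⟩, htc⟩ := hb'
  have hst : s + t ≠ 0 := by
    intro h
    apply hne
    have h0 : support₂ (s + t) = ∅ := by
      rw [h]
      simp [support₂]
    rw [lcg_support_add] at h0
    exact Finset.symmDiff_eq_empty.mp h0
  have h8 := hmin (s + t) (C.add_mem hs ht) hst
  rw [lcg_support_add] at h8
  have := lcg_card_symmDiff (support₂ s) (support₂ t)
  omega

/-- A 5-set lies in at most one word of weight 8. -/
theorem lcg_unique (C : Submodule (ZMod 2) (GolayPt → ZMod 2))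
    (hmin : ∀ s ∈ C, s ≠ 0 → 8 ≤ (support₂ s).card) (b b' : Finset GolayPt)
    (hb : b ∈ wordsOfWeight (C : Set (GolayPt → ZMod 2)) 8)
    (hb' : b' ∈ wordsOfWeight (C : Set (GolayPt → ZMod 2)) 8) (s : Finset GolayPt)
    (hs : s.card = 5) (hsb : s ⊆ b) (hsb' : s ⊆ b') : b = b' := by
  by_contra hne
  have h4 := lcg_inter_le C hmin b b' hb hb' hne
  have h5 : s.card ≤ (b ∩ b').card := Finset.card_le_card (Finset.subset_inter hsb hsb')
  omega

theorem lcg_count (C : Submodule (ZMod 2) (GolayPt → ZMod 2))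
    (hmin : ∀ s ∈ C, s ≠ 0 → 8 ≤ (support₂ s).card) :
    ∃ O : Finset (Finset GolayPt), (O : Set (Finset GolayPt)) =
        wordsOfWeight (C : Set (GolayPt → ZMod 2)) 8 ∧
      (O.biUnion (Finset.powersetCard 5)).card = 56 * O.card ∧
      O.biUnion (Finset.powersetCard 5) ⊆ Finset.powersetCard 5 Finset.univ := by
  classical
  have hfin : (wordsOfWeight (C : Set (GolayPt → ZMod 2)) 8).Finite := Set.toFinite _
  refine ⟨hfin.toFinset, hfin.coe_toFinset, ?_, ?_⟩
  · rw [Finset.card_biUnion]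
    · rw [Finset.sum_const_nat (m := 56)]
      · ring
      · intro b hb
        rw [Set.Finite.mem_toFinset] at hb
        rw [Finset.card_powersetCard, hb.2]
        rfl
    · intro b hb b' hb' hne
      rw [Finset.mem_coe, Set.Finite.mem_toFinset] at hb hb'
      rw [Function.onFun, Finset.disjoint_left]
      intro s hs hs'
      rw [Finset.mem_powersetCard] at hs hs'
      exact hne (lcg_unique C hmin b b' hb hb' s hs.2 hs.1 hs'.1)
  · intro s hs
    rw [Finset.mem_biUnion] at hs
    obtain ⟨b, -, hs⟩ := hs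
    rw [Finset.mem_powersetCard] at hs ⊢
    exact ⟨Finset.subset_univ _, hs.2⟩

theorem lcg_card_five : (Finset.powersetCard 5 (Finset.univ : Finset GolayPt)).card = 56 * 759 := by
  rw [Finset.card_powersetCard]
  have : (Finset.univ : Finset GolayPt).card = 24 := by
    rw [Finset.card_univ]
    simp [Fintype.card_option, ZMod.card]
  rw [this]
  decide

theorem lc_octads_le (C : Submodule (ZMod 2) (GolayPt → ZMod 2))
    (hmin : ∀ s ∈ C, s ≠ 0 → 8 ≤ (support₂ s).card) :
    (wordsOfWeight (C : Set (GolayPt → ZMod 2)) 8).ncard ≤ 759 := by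
  obtain ⟨O, hO, hcard, hsub⟩ := lcg_count C hmin
  rw [← hO, Set.ncard_coe_finset]
  have h := Finset.card_le_card hsub
  rw [hcard, lcg_card_five] at h
  omega

theorem lc_steiner_of_card (C : Submodule (ZMod 2) (GolayPt → ZMod 2))
    (hmin : ∀ s ∈ C, s ≠ 0 → 8 ≤ (support₂ s).card)
    (h759 : (wordsOfWeight (C : Set (GolayPt → ZMod 2)) 8).ncard = 759) :
    IsSteinerSystem 5 8 (wordsOfWeight (C : Set (GolayPt → ZMod 2)) 8) := by
  obtain ⟨O, hO, hcard, hsub⟩ := lcg_count C hmin
  have hOc : O.card = 759 := by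
    rw [← hO, Set.ncard_coe_finset] at h759
    exact h759
  have heq : O.biUnion (Finset.powersetCard 5) = Finset.powersetCard 5 Finset.univ := by
    apply Finset.eq_of_subset_of_card_le hsub
    rw [hcard, lcg_card_five, hOc]
  refine ⟨fun b hb => hb.2, fun s hs => ?_⟩
  have hmem : s ∈ O.biUnion (Finset.powersetCard 5) := by
    rw [heq, Finset.mem_powersetCard]
    exact ⟨Finset.subset_univ _, hs⟩
  rw [Finset.mem_biUnion] at hmem
  obtain ⟨b, hb, hsb⟩ := hmem
  rw [Finset.mem_powersetCard] at hsb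
  have hb' : b ∈ wordsOfWeight (C : Set (GolayPt → ZMod 2)) 8 := by
    rw [← hO]
    exact hb
  refine ⟨b, ⟨hb', hsb.1⟩, ?_⟩
  rintro b2 ⟨hb2, hsb2⟩
  exact lcg_unique C hmin b2 b hb2 hb' s hs hsb2 hsb.1

end Cfsg.Agent.Lib.helper78
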