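/-
Piece I of the characterisation of the rank-24 lattice (S0406): the vectors of norm 32 with
all coordinates even, not all divisible by 4, number at most 128 per word of weight 8 of the
binary code of the lattice.
-/
import Mathlib
import Cfsg.Agent.Lib.helper9.LcDefs

set_option autoImplicit false
open Matrix

namespace Cfsg.Agent.Lib.helper78
open Cfsg Cfsg.Agent.Lib.helper9

/-- An even vector of norm 32 of the lattice, not divisible by 4: it is `±2` on a word of
weight 8 of the code and `0` elsewhere. -/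
theorem lci_shape (L : AddSubgroup (GolayPt → ℤ))
    (hW : ∀ s ∈ lcCode L, s ≠ 0 → 8 ≤ (support₂ s).card)
    (u : GolayPt → ℤ) (hu : u ∈ L) (h32 : sqNorm u = 32) (h2 : ∀ p, (2 : ℤ) ∣ u p)
    (h4 : ¬ ∀ p, (4 : ℤ) ∣ u p) :
    (Finset.univ.filter (fun p => ¬ (4 : ℤ) ∣ u p)) ∈
        wordsOfWeight (lcCode L : Set (GolayPt → ZMod 2)) 8 ∧
      (∀ p, ¬ (4 : ℤ) ∣ u p → (u p = 2 ∨ u p = -2)) ∧ (∀ p, (4 : ℤ) ∣ u p → u p = 0) := by
  classical
  set s : GolayPt → ZMod 2 := fun p => ((u p / 2 : ℤ) : ZMod 2) with hs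
  have hsL : s ∈ lcCode L := by
    rw [mem_lcCode]
    refine ⟨fun p => u p / 2, ?_, rfl⟩
    have : (2 : ℤ) • (fun p => u p / 2) = u := by
      funext p
      have h1 := h2 p
      simp only [Pi.smul_apply, smul_eq_mul]
      omega
    rw [this]
    exact hu
  have hsupp : support₂ s = Finset.univ.filter (fun p => ¬ (4 : ℤ) ∣ u p) := by
    ext p
    simp only [support₂, Finset.mem_filter, Finset.mem_univ, true_and, hs, ne_eq]
    rw [ZMod.intCast_zmod_eq_zero_iff_dvd]
    have h1 := h2 p
    push_cast
    constructor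
    · intro h h'
      apply h
      omega
    · intro h h'
      apply h
      omega
  have hs0 : s ≠ 0 := by
    intro h0
    apply h4
    intro p
    by_contra hp
    have : p ∈ support₂ s := by
      rw [hsupp]
      simp [hp]
    rw [h0] at this
    simp [support₂] at this
  have h8 := hW s hsL hs0
  rw [hsupp] at h8
  have hsum : ∑ p, (u p ^ 2 - if ¬ (4 : ℤ) ∣ u p then 4 else 0) =
      32 - 4 * ((Finset.univ.filter (fun p => ¬ (4 : ℤ) ∣ u p)).card : ℤ) := by
    rw [Finset.sum_sub_distrib]
    unfold sqNorm at h32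
    rw [h32, Finset.sum_ite]
    simp
    ring
  have hnn : ∀ p, 0 ≤ u p ^ 2 - if ¬ (4 : ℤ) ∣ u p then 4 else 0 := by
    intro p
    by_cases h : (4 : ℤ) ∣ u p
    · rw [if_neg (not_not.mpr h)]
      have := sq_nonneg (u p)
      omega
    · rw [if_pos h]
      have h1 := h2 p
      have h3 : 2 ≤ u p ∨ u p ≤ -2 := by omega
      rcases h3 with h3 | h3 <;> nlinarith
  have hsum_nn : 0 ≤ ∑ p, (u p ^ 2 - if ¬ (4 : ℤ) ∣ u p then 4 else 0) :=
    Finset.sum_nonneg (fun p _ => hnn p)
  have hsum0 : ∑ p, (u p ^ 2 - if ¬ (4 : ℤ) ∣ u p then 4 else 0) = 0 := by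
    rw [hsum] at hsum_nn ⊢
    omega
  have hcard : (Finset.univ.filter (fun p => ¬ (4 : ℤ) ∣ u p)).card = 8 := by
    rw [hsum] at hsum0
    omega
  have hterm := (Finset.sum_eq_zero_iff_of_nonneg (fun p _ => hnn p)).mp hsum0
  refine ⟨⟨⟨s, hsL, hsupp⟩, hcard⟩, fun p hp => ?_, fun p hp => ?_⟩
  · have h1 := hterm p (Finset.mem_univ p)
    rw [if_pos hp] at h1
    have h0 : (u p - 2) * (u p + 2) = 0 := by ring_nf; omega
    rcases mul_eq_zero.mp h0 with h | h
    · left; omega
    · right; omega
  · have h1 := hterm p (Finset.mem_univ p)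
    rw [if_neg (not_not.mpr hp)] at h1
    have h0 : u p ^ 2 = 0 := by omega
    exact pow_eq_zero_iff (two_ne_zero) |>.mp h0

theorem lc_count_even (L : AddSubgroup (GolayPt → ℤ)) (_hL : LcPre L)
    (hS : ∀ x ∈ L, (∀ p, (4 : ℤ) ∣ x p) → (8 : ℤ) ∣ ∑ p, x p)
    (hW : ∀ s ∈ lcCode L, s ≠ 0 → 8 ≤ (support₂ s).card) :
    {u : GolayPt → ℤ | u ∈ L ∧ sqNorm u = 32 ∧ (∀ p, (2 : ℤ) ∣ u p) ∧
        ¬ ∀ p, (4 : ℤ) ∣ u p}.ncard ≤
      128 * (wordsOfWeight (lcCode L : Set (GolayPt → ZMod 2)) 8).ncard := by
  classical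
  have hTfin : {u : GolayPt → ℤ | u ∈ L ∧ sqNorm u = 32 ∧ (∀ p, (2 : ℤ) ∣ u p) ∧
        ¬ ∀ p, (4 : ℤ) ∣ u p}.Finite :=
    (lc_finite_sqNorm 32).subset (fun u hu => hu.2.1)
  have hOfin : (wordsOfWeight (lcCode L : Set (GolayPt → ZMod 2)) 8).Finite := Set.toFinite _
  rw [Set.ncard_eq_toFinset_card _ hTfin, Set.ncard_eq_toFinset_card _ hOfin]
  apply Finset.card_le_mul_card_image_of_maps_to
    (f := fun u : GolayPt → ℤ => Finset.univ.filter (fun p => ¬ (4 : ℤ) ∣ u p))
  · intro u hu
    rw [Set.Finite.mem_toFinset] at hu ⊢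
    exact (lci_shape L hW u hu.1 hu.2.1 hu.2.2.1 hu.2.2.2).1
  · intro b hb
    rw [Set.Finite.mem_toFinset] at hb
    obtain ⟨p0, hp0⟩ : b.Nonempty := by
      rw [← Finset.card_pos, hb.2]
      norm_num
    have hle : (Finset.filter (fun u : GolayPt → ℤ =>
        Finset.univ.filter (fun p => ¬ (4 : ℤ) ∣ u p) = b) hTfin.toFinset).card ≤
        ((b.erase p0).powerset).card := by
      apply Finset.card_le_card_of_injOn
        (fun u : GolayPt → ℤ => (b.erase p0).filter (fun p => u p < 0))
      · intro u _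
        simp only [Finset.coe_powerset, Set.mem_preimage, Set.mem_powerset_iff, Finset.coe_subset]
        exact Finset.filter_subset _ _
      · intro u hu u' hu' hff
        simp only [Finset.coe_filter, Set.mem_ofPred_eq, Set.Finite.mem_toFinset] at hu hu'
        obtain ⟨⟨huL, hu32, hu2, hu4⟩, hub⟩ := hu
        obtain ⟨⟨huL', hu32', hu2', hu4'⟩, hub'⟩ := hu'
        obtain ⟨-, hA, hB⟩ := lci_shape L hW u huL hu32 hu2 hu4
        obtain ⟨-, hA', hB'⟩ := lci_shape L hW u' huL' hu32' hu2' hu4'
        have hmem : ∀ p, p ∈ b ↔ ¬ (4 : ℤ) ∣ u p := by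
          intro p
          rw [← hub]
          simp
        have hmem' : ∀ p, p ∈ b ↔ ¬ (4 : ℤ) ∣ u' p := by
          intro p
          rw [← hub']
          simp
        have hrest : ∀ p, p ≠ p0 → u p = u' p := by
          intro p hp
          by_cases hpb : p ∈ b
          · have h1 := hA p ((hmem p).mp hpb)
            have h1' := hA' p ((hmem' p).mp hpb)
            have hiff : u p < 0 ↔ u' p < 0 := by
              have e := congrArg (fun F : Finset GolayPt => p ∈ F) hff
              simp only [Finset.mem_filter, Finset.mem_erase, ne_eq, hp, not_false_eq_true, hpb,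
                and_self, true_and, eq_iff_iff] at e
              exact e
            omega
          · have h1 := hB p (not_not.mp (fun h => hpb ((hmem p).mpr h)))
            have h1' := hB' p (not_not.mp (fun h => hpb ((hmem' p).mpr h)))
            rw [h1, h1']
        funext p
        by_cases hp : p = p0
        · subst hp
          by_contra hne
          have h1 := hA p ((hmem p).mp hp0)
          have h1' := hA' p ((hmem' p).mp hp0)
          have hsum : ∑ q, (u - u') q = u p - u' p := by
            rw [Finset.sum_eq_single p]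
            · rfl
            · intro q _ hq
              simp [hrest q hq]
            · intro h
              exact absurd (Finset.mem_univ p) h
          have h8 := hS (u - u') (L.sub_mem huL huL') (by
            intro q
            by_cases hq : q = p
            · subst hq
              simp only [Pi.sub_apply]
              omega
            · simp [hrest q hq])
          rw [hsum] at h8
          omega
        · exact hrest p hp
    rw [Finset.card_powerset, Finset.card_erase_of_mem hp0, hb.2] at hle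
    exact hle

end Cfsg.Agent.Lib.helper78
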