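/-
Piece J of the characterisation of the rank-24 lattice (S0406): the vectors of norm 32 with
all coordinates odd number at most 24 times the size of the binary code of the lattice.
-/
import Mathlib
import Cfsg.Agent.Lib.helper9.LcDefs

set_option autoImplicit false
open Matrix

namespace Cfsg.Agent.Lib.helper78
open Cfsg Cfsg.Agent.Lib.helper9

theorem lcj_odd_sq (a : ℤ) (ha : ¬ (2 : ℤ) ∣ a) : a ^ 2 = 1 ∨ 9 ≤ a ^ 2 := by
  have h : a = 1 ∨ a = -1 ∨ 3 ≤ a ∨ a ≤ -3 := by omega
  rcases h with h | h | h | h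
  · left; rw [h]; norm_num
  · left; rw [h]; norm_num
  · right; nlinarith
  · right; nlinarith

theorem lcj_card_pt : (Finset.univ : Finset GolayPt).card = 24 := by
  rw [Finset.card_univ]
  simp [Fintype.card_option, ZMod.card]

/-- An odd vector of norm 32 has one coordinate `±3` and all others `±1`. -/
theorem lcj_shape (u : GolayPt → ℤ) (h32 : sqNorm u = 32) (hodd : ∀ p, ¬ (2 : ℤ) ∣ u p) :
    ∃ p, (u p = 3 ∨ u p = -3) ∧ ∀ q, q ≠ p → (u q = 1 ∨ u q = -1) := by
  classical
  have hsum : ∑ p, (u p ^ 2 - 1) = 8 := by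
    rw [Finset.sum_sub_distrib]
    unfold sqNorm at h32
    rw [h32]
    simp
  have hnn : ∀ p, 0 ≤ u p ^ 2 - 1 := by
    intro p
    rcases lcj_odd_sq (u p) (hodd p) with h | h <;> omega
  have hex : ∃ p, 9 ≤ u p ^ 2 := by
    by_contra hno
    push Not at hno
    have : ∑ p, (u p ^ 2 - 1) = 0 := by
      apply Finset.sum_eq_zero
      intro p _
      rcases lcj_odd_sq (u p) (hodd p) with h | h
      · omega
      · have := hno p
        omega
    omega
  obtain ⟨p, hp⟩ := hex
  have hsplit := Finset.add_sum_erase Finset.univ (fun p => u p ^ 2 - 1) (Finset.mem_univ p)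
  rw [hsum] at hsplit
  have hrest_nn : 0 ≤ ∑ q ∈ Finset.univ.erase p, (u q ^ 2 - 1) :=
    Finset.sum_nonneg (fun q _ => hnn q)
  have hrest0 : ∑ q ∈ Finset.univ.erase p, (u q ^ 2 - 1) = 0 := by omega
  have hp9 : u p ^ 2 = 9 := by omega
  have hq := (Finset.sum_eq_zero_iff_of_nonneg (fun q _ => hnn q)).mp hrest0
  refine ⟨p, ?_, fun q hqp => ?_⟩
  · have h0 : (u p - 3) * (u p + 3) = 0 := by ring_nf; omega
    rcases mul_eq_zero.mp h0 with h | h
    · left; omega
    · right; omega
  · have h1 := hq q (Finset.mem_erase.mpr ⟨hqp, Finset.mem_univ q⟩)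
    have h0 : (u q - 1) * (u q + 1) = 0 := by ring_nf; omega
    rcases mul_eq_zero.mp h0 with h | h
    · left; omega
    · right; omega

theorem lc_count_odd (L : AddSubgroup (GolayPt → ℤ)) :
    {u : GolayPt → ℤ | u ∈ L ∧ sqNorm u = 32 ∧ ∀ p, ¬ (2 : ℤ) ∣ u p}.ncard ≤
      24 * Nat.card (lcCode L) := by
  classical
  rcases Set.eq_empty_or_nonempty
      {u : GolayPt → ℤ | u ∈ L ∧ sqNorm u = 32 ∧ ∀ p, ¬ (2 : ℤ) ∣ u p} with h | ⟨u0, hu0⟩
  · rw [h]
    simp
  · let f : (GolayPt → ℤ) → GolayPt × (GolayPt → ZMod 2) := fun u =>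
      (if h : ∃ p, u p = 3 ∨ u p = -3 then h.choose else none,
        fun p => (((u p - u0 p) / 2 : ℤ) : ZMod 2))
    have hT : ((Set.univ : Set GolayPt) ×ˢ (lcCode L : Set (GolayPt → ZMod 2))).ncard =
        24 * Nat.card (lcCode L) := by
      rw [Set.ncard_prod, Set.ncard_univ, ← Nat.card_coe_set_eq]
      congr 1
      simp [Nat.card_eq_fintype_card, Fintype.card_option, ZMod.card]
    rw [← hT]
    have hfst : ∀ u : GolayPt → ℤ, ∀ p, (u p = 3 ∨ u p = -3) →
        (∀ q, q ≠ p → (u q = 1 ∨ u q = -1)) → (f u).1 = p := by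
      intro u p hp hq
      have hex : ∃ p, u p = 3 ∨ u p = -3 := ⟨p, hp⟩
      show (if h : ∃ p, u p = 3 ∨ u p = -3 then h.choose else none) = p
      rw [dif_pos hex]
      by_contra hne
      have h1 := hex.choose_spec
      have h2 := hq _ hne
      omega
    apply Set.ncard_le_ncard_of_injOn f
    · intro u hu
      refine ⟨Set.mem_univ _, ?_⟩
      show (fun p => (((u p - u0 p) / 2 : ℤ) : ZMod 2)) ∈ lcCode L
      rw [mem_lcCode]
      refine ⟨fun p => (u p - u0 p) / 2, ?_, rfl⟩
      have : (2 : ℤ) • (fun p => (u p - u0 p) / 2) = u - u0 := by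
        funext p
        have h1 := hu.2.2 p
        have h2 := hu0.2.2 p
        simp only [Pi.smul_apply, smul_eq_mul, Pi.sub_apply]
        omega
      rw [this]
      exact L.sub_mem hu.1 hu0.1
    · intro u hu u' hu' hff
      obtain ⟨p, hp, hq⟩ := lcj_shape u hu.2.1 hu.2.2
      obtain ⟨p', hp', hq'⟩ := lcj_shape u' hu'.2.1 hu'.2.2
      have e1 := hfst u p hp hq
      have e2 := hfst u' p' hp' hq'
      have hpp : p = p' := by rw [← e1, ← e2, hff]
      subst hpp
      have hsnd : ∀ q, (((u q - u0 q) / 2 : ℤ) : ZMod 2) = (((u' q - u0 q) / 2 : ℤ) : ZMod 2) :=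
        fun q => congrFun (congrArg Prod.snd hff) q
      funext q
      have h1 := (ZMod.intCast_eq_intCast_iff_dvd_sub _ _ 2).mp (hsnd q)
      have ho := hu.2.2 q
      have ho' := hu'.2.2 q
      have ho0 := hu0.2.2 q
      push_cast at h1
      by_cases hqp : q = p
      · subst hqp
        omega
      · have a1 := hq q hqp
        have a2 := hq' q hqp
        omega

end Cfsg.Agent.Lib.helper78
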