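import Mathlib
import Cfsg.Agent.Lib.helper79.SubsectionGalois
import Cfsg.Agent.Lib.helper79.SubsectionHt
import Cfsg.Agent.Lib.helper78.KLCount

/-!
# Major subsections with a single Brauer character (helper78)

Let `(y, b)` be a major subsection of the block `B` (`H = C_G(y)`, `b^G = B`, `d(b) = d(B)`).

* `gram_ne_zero_of_major`: the contribution `gram χ ψ` is nonzero for `χ ∈ B` and `ψ ∈ B` of
  height zero (no assumption on the height of `χ`);
* `card_sq_le_of_major_of_ne_zero`: `k(B)^2 ≤ p^(2d) l(b)` as soon as all contributions are nonzero;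
* `card_le_of_major_rank_one`: if `l(b) = 1` then `k(B) ≤ p^d`.
-/

set_option autoImplicit false
set_option linter.unusedSectionVars false
set_option linter.unusedSimpArgs false

namespace Cfsg.Agent.Lib.helper78

open Cfsg
open scoped ComplexConjugate

universe u

section MajorOne

variable {G : Type u} [Group G] [Fintype G] {p : ℕ} [Fact p.Prime] {M : Ideal AlgInt}

/-- For a major subsection `(z, b)` of `B`, the contribution of `χ ∈ B` and a height zero
character `ψ ∈ B` does not vanish. -/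
theorem gram_ne_zero_of_major (hM : IsPModular p M) (H : Subgroup G) [Fintype H]
    {b : Set (IrrCharacter H)} {B : Set (IrrCharacter G)} (hind : IsInducedBlock M H b B) (z : G)
    (hH : ∀ g : G, g ∈ H ↔ g * z = z * g) (hz : ∃ k : ℕ, orderOf z = p ^ k)
    (hdd : blockDefect p b = blockDefect p B)
    {χ ψ : IrrCharacter G} (hχ : χ ∈ B) (hψ : ψ ∈ B)
    (hψ0 : blockHeight p B (ψ : G → ℂ) = 0) :
    Cfsg.Agent.Lib.helper79.gram p H b z (χ : G → ℂ) (ψ : G → ℂ) ≠ 0 := by
  intro h0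
  have hprime : M.IsPrime := Cfsg.Agent.Lib.helper79.isPModular_isPrime hM
  have hb : IsPBlock M b := hind.1
  have hB : IsPBlock M B := hind.2.1
  have hs : SameBlock M (χ : G → ℂ) (ψ : G → ℂ) :=
    Cfsg.Agent.Lib.helper81.sameBlock_of_mem hprime hB hχ hψ
  have hcol := Cfsg.Agent.Lib.helper79.memLocalIdeal_gram_col hM H hb z hH ψ hs
  rw [h0, mul_zero, zero_div, zero_sub] at hcol
  obtain ⟨u, v, hu, hv, hvu, hcard⟩ :=
    Cfsg.Agent.Lib.helper79.exists_unit_card_div_degree hM hB hψ hψ0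
  have h1 : (Nat.card G : ℂ) * Cfsg.Agent.Lib.helper79.gram p H b z (ψ : G → ℂ) (ψ : G → ℂ)
        / (ψ : G → ℂ) 1
      = u * ((p ^ blockDefect p B : ℂ)
        * Cfsg.Agent.Lib.helper79.gram p H b z (ψ : G → ℂ) (ψ : G → ℂ)) := by
    rw [mul_div_right_comm, hcard]
    ring
  have h2 : MemLocalIdeal M (u * ((p ^ blockDefect p B : ℂ)
        * Cfsg.Agent.Lib.helper79.gram p H b z (ψ : G → ℂ) (ψ : G → ℂ))) := by
    rw [← h1]
    have := Cfsg.Agent.Lib.helper20.memLocalIdeal_neg hcol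
    rwa [neg_neg] at this
  have h3 := Cfsg.Agent.Lib.helper20.memLocalIdeal_mul_left hprime hv h2
  rw [← mul_assoc, hvu, one_mul, ← hdd] at h3
  exact Cfsg.Agent.Lib.helper79.gram_not_memLocalIdeal_of_heights_zero hM H hind z hH hz hψ hψ0
    hψ hψ0 h3

open Classical in
/-- **Major subsections with nonvanishing contributions.**  Let `(y, b)` be a major subsection of
`B` all of whose contributions `gram χ ψ` (`χ, ψ ∈ B`) are nonzero.  Then `k(B)^2 ≤ p^(2d) l(b)`. -/
theorem card_sq_le_of_major_of_ne_zero (hM : IsPModular p M) (H : Subgroup G) [Fintype H]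
    {b : Set (IrrCharacter H)} {B : Set (IrrCharacter G)}
    (hB : IsPBlock M B) (hind : IsInducedBlock M H b B) (y : G)
    (hH : ∀ g : G, g ∈ H ↔ g * y = y * g) (hy : ∃ k : ℕ, orderOf y = p ^ k)
    (hdd : blockDefect p b = blockDefect p B)
    (hne0 : ∀ χ ∈ B, ∀ ψ ∈ B,
      Cfsg.Agent.Lib.helper79.gram p H b y (χ : G → ℂ) (ψ : G → ℂ) ≠ 0) :
    Nat.card B ^ 2 ≤ p ^ (2 * blockDefect p B) * blockRank p b := by
  have hp : p.Prime := Fact.out
  have hprime : M.IsPrime := Cfsg.Agent.Lib.helper79.isPModular_isPrime hM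
  have hb : IsPBlock M b := hind.1
  obtain ⟨hyH, hyc⟩ := Cfsg.Agent.Lib.helper79.central_of_centralizer H y hH
  have hN : 0 < orderOf y := orderOf_pos y
  have hyN : y ^ orderOf y = 1 := pow_orderOf_eq_one y
  have hζ : IsPrimitiveRoot (Complex.exp (2 * Real.pi * Complex.I / (orderOf y : ℂ))) (orderOf y) :=
    Complex.isPrimitiveRoot_exp (orderOf y) hN.ne'
  generalize Complex.exp (2 * Real.pi * Complex.I / (orderOf y : ℂ)) = ζ at hζ
  generalize hNdef : orderOf y = N at hN hyN hζ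
  set S := (Finset.range N).filter (fun k => k.Coprime N) with hS
  -- each power of `y` prime to its order has the same centralizer
  have hHj : ∀ j ∈ S, ∀ g : G, g ∈ H ↔ g * y ^ j = y ^ j * g := by
    intro j hj g
    rw [hS, Finset.mem_filter] at hj
    rw [hH g]
    constructor
    · intro h
      exact (Commute.pow_right (show Commute g y from h) j).eq
    · intro h
      obtain ⟨m, hm⟩ := exists_pow_eq_self_of_coprime (x := y) (hNdef ▸ hj.2)
      have := (Commute.pow_right (show Commute g (y ^ j) from h) m).eq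
      rwa [hm] at this
  have hzj : ∀ j ∈ S, ∃ k : ℕ, orderOf (y ^ j) = p ^ k := by
    intro j hj
    rw [hS, Finset.mem_filter] at hj
    obtain ⟨k, hk⟩ := hy
    refine ⟨k, ?_⟩
    rw [Nat.Coprime.orderOf_pow (hNdef ▸ hj.2.symm), hk]
  -- the number of Galois conjugates
  have hScard : (S.card : ℝ) = ((primitiveRoots N ℂ).card : ℝ) := by
    have := Cfsg.Agent.Lib.helper79.sum_primitiveRoots_eq_sum_coprime hN hζ (fun _ => (1 : ℝ))
    simpa using this
  have hSpos : (0 : ℝ) < S.card := by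
    rw [hScard, Complex.card_primitiveRoots]
    exact_mod_cast Nat.totient_pos.mpr hN
  -- the key inequality for a pair of characters of `B`
  have hpair : ∀ χ ∈ B, ∀ ψ ∈ B, (S.card : ℝ) ≤ ∑ j ∈ S,
      (p : ℝ) ^ (2 * blockDefect p B) *
        ‖Cfsg.Agent.Lib.helper79.gram p H b (y ^ j) (χ : G → ℂ) (ψ : G → ℂ)‖ ^ 2 := by
    intro χ hχ ψ hψ
    obtain ⟨F, hF⟩ := Cfsg.Agent.Lib.helper79.exists_poly_gram hM H hb y hyH hyc N hN hyN ζ hζ χ ψ
    have hne : Polynomial.aeval ζ F ≠ 0 := by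
      have h1 := hF 1
      rw [pow_one, pow_one] at h1
      rw [← h1]
      exact mul_ne_zero (pow_ne_zero _ (Nat.cast_ne_zero.mpr hp.ne_zero)) (hne0 χ hχ ψ hψ)
    have h1 := Cfsg.Agent.Lib.helper79.one_le_prod_norm_aeval_primitiveRoots hN hζ F hne
    have h2 := Cfsg.Agent.Lib.helper79.card_le_sum_sq_of_one_le_prod (primitiveRoots N ℂ)
      (fun ξ => ‖Polynomial.aeval ξ F‖) (fun _ _ => norm_nonneg _) h1
    rw [← hScard,
      ← Cfsg.Agent.Lib.helper79.sum_primitiveRoots_eq_sum_coprime hN hζ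
        (fun ξ => ‖Polynomial.aeval ξ F‖ ^ 2)] at h2
    refine h2.trans (le_of_eq ?_)
    apply Finset.sum_congr rfl
    intro j _
    rw [← hF j, hdd, norm_mul, mul_pow, norm_pow, Complex.norm_natCast, ← pow_mul, mul_comm 2]
  -- the Gram matrix at `y ^ j` has square norm `l(b)`
  have hrow : ∀ j ∈ S, ∑ χ : IrrCharacter G, ∑ ψ : IrrCharacter G,
      ‖Cfsg.Agent.Lib.helper79.gram p H b (y ^ j) (χ : G → ℂ) (ψ : G → ℂ)‖ ^ 2
        = (blockRank p b : ℝ) := by
    intro j hj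
    have h1 := Cfsg.Agent.Lib.helper79.gram_trace hM H hb (y ^ j) (hHj j hj) (hzj j hj)
    have h2 : ((∑ χ : IrrCharacter G, ∑ ψ : IrrCharacter G,
        ‖Cfsg.Agent.Lib.helper79.gram p H b (y ^ j) (χ : G → ℂ) (ψ : G → ℂ)‖ ^ 2 : ℝ) : ℂ)
        = (blockRank p b : ℂ) := by
      rw [← h1, Complex.ofReal_sum]
      apply Finset.sum_congr rfl
      intro χ _
      rw [Complex.ofReal_sum]
      exact Cfsg.Agent.Lib.helper79.gram_sum_sq hM H hb (y ^ j) (hHj j hj) (hzj j hj) χ
    exact_mod_cast h2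
  have hk : Nat.card B = B.toFinset.card := by
    rw [Nat.card_eq_fintype_card, Set.toFinset_card]
  have hsum : ((B.toFinset.card : ℝ)) ^ 2 * S.card ≤
      ((p : ℝ) ^ (2 * blockDefect p B) * blockRank p b) * S.card := by
    calc ((B.toFinset.card : ℝ)) ^ 2 * S.card
        = ∑ χ ∈ B.toFinset, ∑ ψ ∈ B.toFinset, (S.card : ℝ) := by
          simp only [Finset.sum_const, nsmul_eq_mul]
          ring
      _ ≤ ∑ χ ∈ B.toFinset, ∑ ψ ∈ B.toFinset, ∑ j ∈ S,
            (p : ℝ) ^ (2 * blockDefect p B) *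
              ‖Cfsg.Agent.Lib.helper79.gram p H b (y ^ j) (χ : G → ℂ) (ψ : G → ℂ)‖ ^ 2 := by
          apply Finset.sum_le_sum
          intro χ hχ
          apply Finset.sum_le_sum
          intro ψ hψ
          exact hpair χ (Set.mem_toFinset.mp hχ) ψ (Set.mem_toFinset.mp hψ)
      _ = ∑ χ ∈ B.toFinset, ∑ j ∈ S, ∑ ψ ∈ B.toFinset,
            (p : ℝ) ^ (2 * blockDefect p B) *
              ‖Cfsg.Agent.Lib.helper79.gram p H b (y ^ j) (χ : G → ℂ) (ψ : G → ℂ)‖ ^ 2 :=
          Finset.sum_congr rfl (fun χ _ => Finset.sum_comm)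
      _ = ∑ j ∈ S, ∑ χ ∈ B.toFinset, ∑ ψ ∈ B.toFinset,
            (p : ℝ) ^ (2 * blockDefect p B) *
              ‖Cfsg.Agent.Lib.helper79.gram p H b (y ^ j) (χ : G → ℂ) (ψ : G → ℂ)‖ ^ 2 :=
          Finset.sum_comm
      _ = ∑ j ∈ S, (p : ℝ) ^ (2 * blockDefect p B) * ∑ χ ∈ B.toFinset, ∑ ψ ∈ B.toFinset,
              ‖Cfsg.Agent.Lib.helper79.gram p H b (y ^ j) (χ : G → ℂ) (ψ : G → ℂ)‖ ^ 2 := by
          simp_rw [Finset.mul_sum]
      _ ≤ ∑ j ∈ S, (p : ℝ) ^ (2 * blockDefect p B) * (blockRank p b : ℝ) := by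
          apply Finset.sum_le_sum
          intro j hj
          apply mul_le_mul_of_nonneg_left _ (by positivity)
          rw [← hrow j hj]
          refine le_trans ?_ (Finset.sum_le_sum_of_subset_of_nonneg (Finset.subset_univ B.toFinset)
            (fun _ _ _ => Finset.sum_nonneg (fun _ _ => by positivity)))
          apply Finset.sum_le_sum
          intro χ _
          exact Finset.sum_le_sum_of_subset_of_nonneg (Finset.subset_univ _)
            (fun _ _ _ => by positivity)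
      _ = ((p : ℝ) ^ (2 * blockDefect p B) * blockRank p b) * S.card := by
          rw [Finset.sum_const, nsmul_eq_mul, mul_comm]
  have hfin : ((B.toFinset.card : ℝ)) ^ 2 ≤ (p : ℝ) ^ (2 * blockDefect p B) * blockRank p b :=
    le_of_mul_le_mul_right hsum hSpos
  rw [hk]
  exact_mod_cast hfin

/-- The contribution of two characters whose generalized decomposition vectors are multiples of
a common vector. -/
theorem gram_of_smul (H : Subgroup G) [Fintype H] (b : Set (IrrCharacter H)) (z : G)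
    (χ ψ : G → ℂ) (v : H → ℂ) (a c : ℂ)
    (h1 : Cfsg.Agent.Lib.helper79.gdm p H b z χ = a • v)
    (h2 : Cfsg.Agent.Lib.helper79.gdm p H b z ψ = c • v) :
    Cfsg.Agent.Lib.helper79.gram p H b z χ ψ
      = a * conj c * ((Nat.card H : ℂ)⁻¹ * ∑ s : H, v s * conj (v s)) := by
  unfold Cfsg.Agent.Lib.helper79.gram
  rw [h1, h2, Finset.mul_sum, Finset.mul_sum, Finset.mul_sum]
  apply Finset.sum_congr rfl
  intro s _
  simp only [Pi.smul_apply, smul_eq_mul, map_mul]
  ring

/-- For a major subsection `(z, b)` of `B` with `l(b) = 1`, all contributions of members of `B`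
are nonzero. -/
theorem gram_ne_zero_of_rank_one (hM : IsPModular p M) (H : Subgroup G) [Fintype H]
    {b : Set (IrrCharacter H)} {B : Set (IrrCharacter G)} (hind : IsInducedBlock M H b B) (z : G)
    (hH : ∀ g : G, g ∈ H ↔ g * z = z * g) (hz : ∃ k : ℕ, orderOf z = p ^ k)
    (hdd : blockDefect p b = blockDefect p B) (hl : blockRank p b = 1)
    {χ ψ : IrrCharacter G} (hχ : χ ∈ B) (hψ : ψ ∈ B) :
    Cfsg.Agent.Lib.helper79.gram p H b z (χ : G → ℂ) (ψ : G → ℂ) ≠ 0 := by
  have hB : IsPBlock M B := hind.2.1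
  obtain ⟨ψ₀, hψ₀, hψ₀0⟩ := Cfsg.Agent.Lib.helper79.exists_height_zero (p := p) hM hB
  have hn1 := gram_ne_zero_of_major hM H hind z hH hz hdd hχ hψ₀ hψ₀0
  have hn2 := gram_ne_zero_of_major hM H hind z hH hz hdd hψ hψ₀ hψ₀0
  obtain ⟨hzH, hzc⟩ := Cfsg.Agent.Lib.helper79.central_of_centralizer H z hH
  have hmem : ∀ θ : IrrCharacter G,
      Cfsg.Agent.Lib.helper79.gdm p H b z (θ : G → ℂ) ∈ regSpan p b :=
    fun θ => Cfsg.Agent.Lib.helper79.gdm_mem_regSpan p H b z hzH hzc (θ : G → ℂ)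
      (Cfsg.Agent.Lib.helper81.irr_classFun θ)
  have hfr : Module.finrank ℂ (regSpan p b) = 1 := by
    rw [← blockRank_eq_finrank_regSpan, hl]
  obtain ⟨v, -, hv⟩ := finrank_eq_one_iff'.mp hfr
  have hex : ∀ θ : IrrCharacter G, ∃ a : ℂ,
      Cfsg.Agent.Lib.helper79.gdm p H b z (θ : G → ℂ) = a • (v : H → ℂ) := by
    intro θ
    obtain ⟨a, ha⟩ := hv ⟨_, hmem θ⟩
    exact ⟨a, (congrArg Subtype.val ha).symm⟩
  obtain ⟨a, ha⟩ := hex χ
  obtain ⟨c, hc⟩ := hex ψ
  obtain ⟨c₀, hc₀⟩ := hex ψ₀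
  rw [gram_of_smul H b z _ _ (v : H → ℂ) a c₀ ha hc₀] at hn1
  rw [gram_of_smul H b z _ _ (v : H → ℂ) c c₀ hc hc₀] at hn2
  rw [gram_of_smul H b z _ _ (v : H → ℂ) a c ha hc]
  have ha0 : a ≠ 0 := fun h => hn1 (by rw [h]; ring)
  have hc0 : c ≠ 0 := fun h => hn2 (by rw [h]; ring)
  have hN0 : (Nat.card H : ℂ)⁻¹ * ∑ s : H, (v : H → ℂ) s * conj ((v : H → ℂ) s) ≠ 0 :=
    fun h => hn1 (by rw [h]; ring)
  exact mul_ne_zero (mul_ne_zero ha0 ((map_ne_zero _).mpr hc0)) hN0

/-- **Major subsections with one Brauer character.**  If `(y, b)` is a major subsection of `B`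
with `l(b) = 1`, then `k(B) ≤ p^d`. -/
theorem card_le_of_major_rank_one (hM : IsPModular p M) (H : Subgroup G) [Fintype H]
    {b : Set (IrrCharacter H)} {B : Set (IrrCharacter G)} (hind : IsInducedBlock M H b B) (y : G)
    (hH : ∀ g : G, g ∈ H ↔ g * y = y * g) (hy : ∃ k : ℕ, orderOf y = p ^ k)
    (hdd : blockDefect p b = blockDefect p B) (hl : blockRank p b = 1) :
    Nat.card B ≤ p ^ blockDefect p B := by
  have hB : IsPBlock M B := hind.2.1
  have h1 := card_sq_le_of_major_of_ne_zero hM H hB hind y hH hy hdd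
    (fun χ hχ ψ hψ => gram_ne_zero_of_rank_one hM H hind y hH hy hdd hl hχ hψ)
  rw [hl, mul_one, mul_comm 2, pow_mul] at h1
  exact (Nat.pow_le_pow_iff_left (by norm_num : (2 : ℕ) ≠ 0)).mp h1

end MajorOne

end Cfsg.Agent.Lib.helper78
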