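import Mathlib

/-!
# Group-theoretic lemmas around 2-groups of maximal class (helper78 library)

* `conj_pow_eq_pow_pow`: iterating a conjugation that raises `g` to a power.
* `commutator_index_four`: a group of order `4K` with an element `g` of order `2K` such that
  `g ^ 2` lies in the cyclic group generated by a commutator `[x, g]` has `|S : S'| = 4`.
* `normalizer_cyclic_sylow_two`: if a Sylow 2-subgroup has order `2 ^ n` and `g` has order
  `2 ^ (n - 1)` and is conjugate to another element of `⟨g⟩`, then the conjugates of `g` inside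
  `⟨g⟩` are exactly two and the class of `g` has even size.
* `conj_mem_zpowers_of_card`: a cyclic subgroup of index two is normalized.
* `commutator_index_of_card_prime_cube`: nonabelian groups of order `p ^ 3` have `|S : S'| = p ^ 2`.
-/

set_option autoImplicit false
set_option linter.unusedSectionVars false
set_option linter.unusedVariables false
set_option linter.style.haveILetI false

namespace Cfsg.Agent.Lib.helper78

open Subgroup

/-- If `w g w⁻¹ = g ^ j` then `w ^ m g w ^ (-m) = g ^ (j ^ m)`. -/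
theorem conj_pow_eq_pow_pow {G : Type*} [Group G] (g w : G) (j : ℕ) (h : w * g * w⁻¹ = g ^ j)
    (m : ℕ) : w ^ m * g * (w ^ m)⁻¹ = g ^ (j ^ m) := by
  induction m with
  | zero => simp
  | succ m ih =>
    have h1 : w ^ (m + 1) * g * (w ^ (m + 1))⁻¹ = w * (w ^ m * g * (w ^ m)⁻¹) * w⁻¹ := by
      rw [pow_succ']; group
    rw [h1, ih, ← conj_pow, h, ← pow_mul, pow_succ']

/-- A group of order `4K` with an element `g` of order `2K` such that `g ^ 2` is a power of a
commutator `x g x⁻¹ g⁻¹` has commutator subgroup of index `4`. -/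
theorem commutator_index_four {S : Type*} [Group S] [Finite S] (K : ℕ) (hK : 0 < K) (g x : S)
    (hg : orderOf g = 2 * K) (hcard : Nat.card S = 4 * K)
    (hc : g ^ 2 ∈ Subgroup.zpowers (x * g * x⁻¹ * g⁻¹)) : (commutator S).index = 4 := by
  classical
  haveI : Fact (Nat.Prime 2) := ⟨Nat.prime_two⟩
  have hidx : (zpowers g).index = 2 := by
    have h1 := (zpowers g).card_mul_index
    rw [Nat.card_zpowers, hg, hcard] at h1
    nlinarith
  haveI hnorm : (zpowers g).Normal := normal_of_index_eq_two hidx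
  obtain ⟨V, hV⟩ : ∃ V : Subgroup S, V = zpowers (g ^ 2) := ⟨_, rfl⟩
  have hVcard : Nat.card V = K := by
    rw [hV, Nat.card_zpowers, orderOf_pow, hg]
    have : Nat.gcd (2 * K) 2 = 2 := by simp
    rw [this]; omega
  haveI hVn : V.Normal := by
    constructor
    intro v hv y
    rw [hV] at hv ⊢
    obtain ⟨k, rfl⟩ := mem_zpowers_iff.mp hv
    have hy : y * g * y⁻¹ ∈ zpowers g := hnorm.conj_mem g (mem_zpowers g) y
    obtain ⟨l, hl⟩ := mem_zpowers_iff.mp hy
    have h2 : y * (g ^ 2) ^ k * y⁻¹ = ((g ^ 2) ^ l) ^ k := by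
      rw [← conj_zpow, ← conj_pow, ← hl]
      congr 1
      rw [← zpow_natCast, ← zpow_natCast, ← zpow_mul, ← zpow_mul, mul_comm]
    rw [h2]
    exact zpow_mem (zpow_mem (mem_zpowers _) l) k
  have hVidx : V.index = 4 := by
    have h1 := V.card_mul_index
    rw [hVcard, hcard] at h1
    nlinarith
  have hq : Nat.card (S ⧸ V) = 2 ^ 2 := by
    rw [← Subgroup.index_eq_card, hVidx]; norm_num
  have hcomm : ∀ a b : S ⧸ V, a * b = b * a := IsPGroup.commutative_of_card_eq_prime_sq hq
  have hle : commutator S ≤ V := by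
    rw [commutator_eq_closure, closure_le]
    rintro _ ⟨a, b, rfl⟩
    rw [SetLike.mem_coe, ← QuotientGroup.eq_one_iff, commutatorElement_def]
    simp only [QuotientGroup.mk_mul, QuotientGroup.mk_inv]
    rw [hcomm (a : S ⧸ V) (b : S ⧸ V)]
    group
  have hge : V ≤ commutator S := by
    rw [hV, zpowers_le]
    have hcm : x * g * x⁻¹ * g⁻¹ ∈ commutator S := by
      rw [commutator_eq_closure]; exact subset_closure ⟨x, g, rfl⟩
    exact (zpowers_le.mpr hcm) hc
  rw [le_antisymm hle hge, hVidx]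

/-- A cyclic subgroup of index two is normalized by every element. -/
theorem conj_mem_zpowers_of_card {S : Type*} [Group S] [Finite S] (γ π : S)
    (hcard : Nat.card S = 2 * orderOf γ) : π * γ * π⁻¹ ∈ zpowers γ := by
  have hpos : 0 < orderOf γ := orderOf_pos γ
  have hidx : (zpowers γ).index = 2 := by
    have h1 := (zpowers γ).card_mul_index
    rw [Nat.card_zpowers, hcard] at h1
    nlinarith
  haveI hnorm : (zpowers γ).Normal := normal_of_index_eq_two hidx
  exact hnorm.conj_mem γ (mem_zpowers γ) π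

/-- Let the Sylow 2-subgroups of `G` have order `2 ^ n`, and let `g` have order `2 ^ (n - 1)` and
be conjugate (by `x`) to an element of `⟨g⟩` different from `g`.  Then `g` and `x g x⁻¹` are the
only conjugates of `g` in `⟨g⟩`, and the class of `g` has even size. -/
theorem normalizer_cyclic_sylow_two {G : Type*} [Group G] [Finite G] (P : Sylow 2 G) (n : ℕ)
    (hP : Nat.card P = 2 ^ n) (g x : G) (hg : orderOf g = 2 ^ (n - 1))
    (hx : x * g * x⁻¹ ∈ Subgroup.zpowers g) (hxg : x * g * x⁻¹ ≠ g) :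
    (∀ w : G, w * g * w⁻¹ ∈ Subgroup.zpowers g →
        w * g * w⁻¹ = g ∨ w * g * w⁻¹ = x * g * x⁻¹) ∧
      2 ∣ (Subgroup.centralizer ({g} : Set G)).index := by
  classical
  haveI : Fact (Nat.Prime 2) := ⟨Nat.prime_two⟩
  obtain ⟨C, hC⟩ : ∃ C, C = Subgroup.centralizer ({g} : Set G) := ⟨_, rfl⟩
  obtain ⟨N1, hN1⟩ : ∃ N1, N1 = Subgroup.normalizer (Subgroup.zpowers g : Set G) := ⟨_, rfl⟩
  rw [← hC]
  have hmemC : ∀ w : G, w ∈ C ↔ w * g * w⁻¹ = g := by
    intro w
    rw [hC, Subgroup.mem_centralizer_iff]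
    constructor
    · intro h
      have h1 := h g (Set.mem_singleton g)
      rw [← h1]; group
    · intro h y hy
      rw [Set.mem_singleton_iff] at hy; subst hy
      nth_rewrite 1 [← h]; group
  have hmemN : ∀ w : G, w ∈ N1 ↔ w * g * w⁻¹ ∈ Subgroup.zpowers g := by
    intro w
    rw [hN1]
    constructor
    · intro h; exact (Subgroup.mem_normalizer_iff.mp h g).mp (Subgroup.mem_zpowers g)
    · intro h
      apply Subgroup.mem_normalizer_fintype
      intro y hy
      obtain ⟨k, rfl⟩ := Subgroup.mem_zpowers_iff.mp hy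
      rw [SetLike.mem_coe, ← conj_zpow]
      exact Subgroup.zpow_mem _ h k
  have hCN : C ≤ N1 := by
    intro w hw
    rw [hmemN, (hmemC w).mp hw]; exact Subgroup.mem_zpowers g
  -- `n - 1 = t + 1`
  obtain ⟨t, ht⟩ : ∃ t, n - 1 = t + 1 := by
    rcases Nat.eq_zero_or_pos (n - 1) with h0 | h0
    · exfalso
      rw [h0, pow_zero, orderOf_eq_one_iff] at hg
      apply hxg; rw [hg]; group
    · exact ⟨n - 1 - 1, by omega⟩
  have hpowC : ∀ w ∈ N1, w ^ (2 ^ t) ∈ C := by
    intro w hw
    have h1 : w * g * w⁻¹ ∈ Submonoid.powers g := by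
      rw [mem_powers_iff_mem_zpowers]; exact (hmemN w).mp hw
    obtain ⟨j, hj⟩ := (Submonoid.mem_powers_iff _ _).mp h1
    have hord : orderOf (g ^ j) = orderOf g := by
      rw [hj]
      exact (MulAut.conj w).orderOf_eq g
    have hcop : Nat.Coprime j (2 ^ (n - 1)) := by
      rw [orderOf_pow, hg] at hord
      have hd : Nat.gcd (2 ^ (n - 1)) j ∣ 2 ^ (n - 1) := Nat.gcd_dvd_left _ _
      have h3 := Nat.div_mul_cancel hd
      rw [hord] at h3
      have hpos : 0 < 2 ^ (n - 1) := by positivity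
      have h4 : Nat.gcd (2 ^ (n - 1)) j = 1 := by
        have : 2 ^ (n - 1) * Nat.gcd (2 ^ (n - 1)) j = 2 ^ (n - 1) * 1 := by rw [h3, mul_one]
        exact Nat.eq_of_mul_eq_mul_left hpos this
      rw [Nat.coprime_comm]; exact h4
    have htot : Nat.totient (2 ^ (n - 1)) = 2 ^ t := by
      rw [ht, Nat.totient_prime_pow_succ Nat.prime_two]; simp
    have hmod : j ^ (2 ^ t) ≡ 1 [MOD orderOf g] := by
      rw [hg, ← htot]; exact Nat.ModEq.pow_totient hcop
    rw [hmemC, conj_pow_eq_pow_pow g w j hj.symm (2 ^ t)]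
    have := (pow_eq_pow_iff_modEq (x := g)).mpr hmod
    rw [this, pow_one]
  haveI hCn : (C.subgroupOf N1).Normal := by
    constructor
    intro c hc w
    rw [Subgroup.mem_subgroupOf] at hc ⊢
    rw [hmemC]
    have hw : (w : G)⁻¹ * g * ((w : G)⁻¹)⁻¹ ∈ zpowers g := (hmemN _).mp (N1.inv_mem w.2)
    obtain ⟨k, hk⟩ := Subgroup.mem_zpowers_iff.mp hw
    have hcg : (c : G) * g * (c : G)⁻¹ = g := (hmemC _).mp hc
    have hck : (c : G) * g ^ k * (c : G)⁻¹ = g ^ k := by rw [← conj_zpow, hcg]
    push_cast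
    calc (w : G) * c * (w : G)⁻¹ * g * ((w : G) * c * (w : G)⁻¹)⁻¹
        = (w : G) * (c * ((w : G)⁻¹ * g * ((w : G)⁻¹)⁻¹) * (c : G)⁻¹) * (w : G)⁻¹ := by group
      _ = (w : G) * (c * g ^ k * (c : G)⁻¹) * (w : G)⁻¹ := by rw [hk]
      _ = (w : G) * g ^ k * (w : G)⁻¹ := by rw [hck]
      _ = (w : G) * ((w : G)⁻¹ * g * ((w : G)⁻¹)⁻¹) * (w : G)⁻¹ := by rw [hk]
      _ = g := by group
  have hPq : IsPGroup 2 (↥N1 ⧸ C.subgroupOf N1) := by
    intro q
    induction q using QuotientGroup.induction_on with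
    | H w =>
      refine ⟨t, ?_⟩
      rw [← QuotientGroup.mk_pow, QuotientGroup.eq_one_iff, Subgroup.mem_subgroupOf]
      push_cast
      exact hpowC w w.2
  obtain ⟨b, hb⟩ := IsPGroup.iff_card.mp hPq
  have hrel : C.relIndex N1 = 2 ^ b := by
    rw [← hb]; exact Subgroup.index_eq_card _
  have hCidx : C.index = 2 ^ b * N1.index := by
    rw [← hrel, Subgroup.relIndex_mul_index hCN]
  have hgC : g ∈ C := by rw [hmemC]; group
  have hdvdC : 2 ^ (n - 1) ∣ Nat.card C := by
    rw [← hg]; exact Subgroup.orderOf_dvd_natCard C hgC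
  have hb1 : b = 1 := by
    have hb0 : b ≠ 0 := by
      rintro rfl
      rw [pow_zero, Subgroup.relIndex_eq_one] at hrel
      exact hxg ((hmemC x).mp (hrel ((hmemN x).mpr hx)))
    have hb2 : b ≤ 1 := by
      by_contra hcon
      push Not at hcon
      have h1 : 2 ^ (n - 1) * 2 ^ b ∣ Nat.card C * C.index := by
        rw [hCidx]
        exact Nat.mul_dvd_mul hdvdC (Dvd.intro _ rfl)
      rw [Subgroup.card_mul_index, ← (P : Subgroup G).card_mul_index] at h1
      have hPc : Nat.card (P : Subgroup G) = 2 ^ n := hP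
      rw [hPc] at h1
      have h2 : 2 ^ (n + 1) ∣ 2 ^ (n - 1) * 2 ^ b := by
        rw [← pow_add]; exact pow_dvd_pow 2 (by omega)
      have h3 : 2 ^ n * 2 ∣ 2 ^ n * (P : Subgroup G).index := by
        rw [← pow_succ]; exact h2.trans h1
      have h4 : 2 ∣ (P : Subgroup G).index :=
        (Nat.mul_dvd_mul_iff_left (by positivity)).mp h3
      exact P.not_dvd_index h4
    omega
  subst hb1
  rw [pow_one] at hrel hCidx
  refine ⟨?_, ?_⟩
  · intro w hw
    by_cases hwC : w ∈ C
    · left; exact (hmemC w).mp hwC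
    · right
      have hwN : w ∈ N1 := (hmemN w).mpr hw
      have hxN : x ∈ N1 := (hmemN x).mpr hx
      have hxC : x ∉ C := fun h => hxg ((hmemC x).mp h)
      have hidx2 : (C.subgroupOf N1).index = 2 := hrel
      have h1 : (⟨x, hxN⟩ : N1)⁻¹ * ⟨w, hwN⟩ ∈ C.subgroupOf N1 := by
        rw [Subgroup.mul_mem_iff_of_index_two hidx2, Subgroup.inv_mem_iff,
          Subgroup.mem_subgroupOf, Subgroup.mem_subgroupOf]
        simp only [hxC, hwC]
      rw [Subgroup.mem_subgroupOf] at h1
      have h2 : (x⁻¹ * w) * g * (x⁻¹ * w)⁻¹ = g := (hmemC _).mp (by simpa using h1)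
      calc w * g * w⁻¹ = x * ((x⁻¹ * w) * g * (x⁻¹ * w)⁻¹) * x⁻¹ := by group
        _ = x * g * x⁻¹ := by rw [h2]
  · rw [hCidx]; exact Dvd.intro _ rfl

/-- A nonabelian group of order `p ^ 3` has commutator subgroup of index `p ^ 2`. -/
theorem commutator_index_of_card_prime_cube {S : Type*} [Group S] [Finite S] (p : ℕ)
    [hp : Fact p.Prime] (hcard : Nat.card S = p ^ 3) (hna : ∃ a b : S, a * b ≠ b * a) :
    (commutator S).index = p ^ 2 := by
  classical
  obtain ⟨a0, b0, hab0⟩ := hna
  have hpG : IsPGroup p S := IsPGroup.of_card hcard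
  haveI : Nontrivial S := ⟨⟨a0 * b0, b0 * a0, hab0⟩⟩
  obtain ⟨Z, hZ⟩ : ∃ Z : Subgroup S, Z = Subgroup.center S := ⟨_, rfl⟩
  haveI hZn : Z.Normal := by rw [hZ]; infer_instance
  have hZdvd : Nat.card Z ∣ p ^ 3 := hcard ▸ Subgroup.card_subgroup_dvd_card Z
  obtain ⟨j, hj3, hj⟩ := (Nat.dvd_prime_pow hp.out).mp hZdvd
  have hZidx : Nat.card Z * Z.index = p ^ 3 := hcard ▸ Z.card_mul_index
  have hpos : 0 < p := hp.out.pos
  have hj0 : j ≠ 0 := by
    rintro rfl
    rw [pow_zero] at hj
    have h1 : Z = ⊥ := Subgroup.card_eq_one.mp hj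
    have h2 : Nontrivial (Subgroup.center S) := hpG.center_nontrivial
    rw [← hZ] at h2
    rw [h1] at h2
    exact not_nontrivial _ h2
  have hj3' : j ≠ 3 := by
    rintro rfl
    have h1 : Z = ⊤ := Subgroup.eq_top_of_card_eq Z (by rw [hj, hcard])
    apply hab0
    have : a0 ∈ Subgroup.center S := by rw [← hZ, h1]; trivial
    exact (Subgroup.mem_center_iff.mp this b0).symm
  have hj2 : j ≠ 2 := by
    rintro rfl
    have hidx : Z.index = p := by
      rw [hj] at hZidx
      have : p ^ 2 * Z.index = p ^ 2 * p := by rw [hZidx]; ring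
      exact Nat.eq_of_mul_eq_mul_left (by positivity) this
    have hq : Nat.card (S ⧸ Z) = p := by rw [← Subgroup.index_eq_card, hidx]
    haveI : IsCyclic (S ⧸ Z) := isCyclic_of_prime_card hq
    have hker : (QuotientGroup.mk' Z).ker ≤ Subgroup.center S := by
      rw [QuotientGroup.ker_mk', hZ]
    have := commutative_of_cyclic_center_quotient (QuotientGroup.mk' Z) hker
    exact hab0 (this a0 b0)
  have hj1 : j = 1 := by omega
  subst hj1
  rw [pow_one] at hj
  have hidx : Z.index = p ^ 2 := by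
    rw [hj] at hZidx
    have : p * Z.index = p * p ^ 2 := by rw [hZidx]; ring
    exact Nat.eq_of_mul_eq_mul_left hpos this
  have hq : Nat.card (S ⧸ Z) = p ^ 2 := by rw [← Subgroup.index_eq_card, hidx]
  have hcomm : ∀ a b : S ⧸ Z, a * b = b * a := IsPGroup.commutative_of_card_eq_prime_sq hq
  have hle : commutator S ≤ Z := by
    rw [commutator_eq_closure, closure_le]
    rintro _ ⟨a, b, rfl⟩
    rw [SetLike.mem_coe, ← QuotientGroup.eq_one_iff, commutatorElement_def]
    simp only [QuotientGroup.mk_mul, QuotientGroup.mk_inv]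
    rw [hcomm (a : S ⧸ Z) (b : S ⧸ Z)]
    group
  have hne : commutator S ≠ ⊥ := by
    intro h
    have hcm : a0 * b0 * a0⁻¹ * b0⁻¹ ∈ commutator S := by
      rw [commutator_eq_closure]; exact subset_closure ⟨a0, b0, rfl⟩
    rw [h, Subgroup.mem_bot] at hcm
    apply hab0
    calc a0 * b0 = (a0 * b0 * a0⁻¹ * b0⁻¹) * (b0 * a0) := by group
      _ = b0 * a0 := by rw [hcm, one_mul]
  have hcd : Nat.card (commutator S) ∣ p := hj ▸ Subgroup.card_dvd_of_le hle
  have hc1 : Nat.card (commutator S) ≠ 1 := fun h => hne (Subgroup.card_eq_one.mp h)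
  have hcp : Nat.card (commutator S) = p := ((Nat.dvd_prime hp.out).mp hcd).resolve_left hc1
  have h1 := (commutator S).card_mul_index
  rw [hcp, hcard] at h1
  have : p * (commutator S).index = p * p ^ 2 := by rw [h1]; ring
  exact Nat.eq_of_mul_eq_mul_left hpos this

end Cfsg.Agent.Lib.helper78
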