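import Mathlib
import Cfsg.Prelude.Def_Characters
import Cfsg.Agent.Lib.helper82.CharDeg
import Cfsg.Agent.Lib.helper82.CharQuot
import Cfsg.Agent.Lib.helper82.CharMore
import Cfsg.Agent.Lib.helper83.CharBasic
import Cfsg.Agent.Lib.helper4.CharDecomp
import Cfsg.Agent.Lib.helper4.Induction
import Cfsg.Agent.Lib.helper19.LinChar
import Cfsg.Agent.Lib.helper81.CharOrtho
import Cfsg.Agent.Lib.helper81.CharBasic

/-!
# Fields of character values at an element generating a self-conjugate cyclic subgroup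
(helper78 library)

* `aeval_eq_zero_of_primitiveRoots`: rational polynomials vanish simultaneously at all primitive
  `N`-th roots of unity.
* `pow_add_pow_mem_adjoin`, `aeval_add_aeval_mem_adjoin`: if `a * b ∈ ℚ`, then `f(a) + f(b) ∈ ℚ(a+b)`.
* `irr_pow_eq_aeval`: `χ(g ^ e) = T(ζ ^ e)` for a rational polynomial `T`.
* `primitive_sum_mem_adjoin`: `ζ + ζ ^ e` lies in the field of values at `g` when `g` has exactly
  the two conjugates `g`, `g ^ e` in `⟨g⟩`.
* `adjoin_irr_values_eq`: the field of values is then `ℚ(ζ + ζ ^ e)`.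
* `exists_conj_of_adjoin_le`: conversely, if all values at `g` lie in `ℚ(ζ + ζ ^ e)`, then `g`
  and `g ^ e` are conjugate.
* `sum_eq_zero_of_order_dvd_half`: if `g ^ M = 1` and `ζ` is a primitive `2M`-th root, `M` even,
  then `ζ + ε ζ⁻¹` is in the field of values only if it is zero.
-/

set_option autoImplicit false
set_option linter.unusedSectionVars false
set_option linter.unusedVariables false
set_option linter.style.haveILetI false

namespace Cfsg.Agent.Lib.helper78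

open Cfsg

universe u

/-- A rational polynomial vanishing at one primitive `N`-th root of unity vanishes at all. -/
theorem aeval_eq_zero_of_primitiveRoots {N : ℕ} (hN : 0 < N) {ζ τ : ℂ}
    (hζ : IsPrimitiveRoot ζ N) (hτ : IsPrimitiveRoot τ N) (Q : Polynomial ℚ)
    (h : Polynomial.aeval ζ Q = 0) : Polynomial.aeval τ Q = 0 := by
  have h1 : minpoly ℚ ζ ∣ Q := minpoly.dvd ℚ ζ h
  rw [← Polynomial.cyclotomic_eq_minpoly_rat hζ hN,
    Polynomial.cyclotomic_eq_minpoly_rat hτ hN] at h1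
  obtain ⟨R, rfl⟩ := h1
  rw [map_mul, minpoly.aeval, zero_mul]

/-- If `a * b` is rational then all power sums `a ^ j + b ^ j` lie in `ℚ(a + b)`. -/
theorem pow_add_pow_mem_adjoin (a b : ℂ) (c : ℚ) (hab : a * b = (c : ℂ)) (j : ℕ) :
    a ^ j + b ^ j ∈ IntermediateField.adjoin ℚ ({a + b} : Set ℂ) := by
  have hs : a + b ∈ IntermediateField.adjoin ℚ ({a + b} : Set ℂ) :=
    IntermediateField.subset_adjoin ℚ _ (Set.mem_singleton _)
  have hc : (c : ℂ) ∈ IntermediateField.adjoin ℚ ({a + b} : Set ℂ) := by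
    have := (IntermediateField.adjoin ℚ ({a + b} : Set ℂ)).algebraMap_mem c
    simpa only [eq_ratCast] using this
  have key : ∀ j : ℕ, a ^ j + b ^ j ∈ IntermediateField.adjoin ℚ ({a + b} : Set ℂ) ∧
      a ^ (j + 1) + b ^ (j + 1) ∈ IntermediateField.adjoin ℚ ({a + b} : Set ℂ) := by
    intro j
    induction j with
    | zero =>
      refine ⟨?_, by simpa using hs⟩
      simp only [pow_zero]
      exact add_mem (one_mem _) (one_mem _)
    | succ j ih =>
      refine ⟨ih.2, ?_⟩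
      have h1 : a ^ (j + 1 + 1) + b ^ (j + 1 + 1)
          = (a + b) * (a ^ (j + 1) + b ^ (j + 1)) - (c : ℂ) * (a ^ j + b ^ j) := by
        rw [← hab]; ring
      rw [h1]
      exact sub_mem (mul_mem hs ih.2) (mul_mem hc ih.1)
  exact (key j).1

/-- If `a * b` is rational then `T(a) + T(b) ∈ ℚ(a + b)` for every rational polynomial `T`. -/
theorem aeval_add_aeval_mem_adjoin (a b : ℂ) (c : ℚ) (hab : a * b = (c : ℂ))
    (T : Polynomial ℚ) :
    Polynomial.aeval a T + Polynomial.aeval b T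
      ∈ IntermediateField.adjoin ℚ ({a + b} : Set ℂ) := by
  rw [Polynomial.aeval_eq_sum_range, Polynomial.aeval_eq_sum_range, ← Finset.sum_add_distrib]
  refine sum_mem fun i _ => ?_
  rw [← smul_add, Algebra.smul_def]
  exact mul_mem ((IntermediateField.adjoin ℚ ({a + b} : Set ℂ)).algebraMap_mem _)
    (pow_add_pow_mem_adjoin a b c hab i)

/-- Elements of a simple algebraic extension are polynomials in the generator. -/
theorem exists_aeval_of_mem_adjoin_simple {v x : ℂ} (hv : IsIntegral ℚ v)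
    (hx : x ∈ IntermediateField.adjoin ℚ ({v} : Set ℂ)) :
    ∃ R : Polynomial ℚ, x = Polynomial.aeval v R := by
  have h1 : x ∈ (IntermediateField.adjoin ℚ ({v} : Set ℂ)).toSubalgebra := hx
  rw [IntermediateField.adjoin_simple_toSubalgebra_of_isAlgebraic hv.isAlgebraic,
    Algebra.adjoin_singleton_eq_range_aeval] at h1
  obtain ⟨R, hR⟩ := h1
  exact ⟨R, hR.symm⟩

/-- The values of an irreducible character on the powers of `g` (with `g ^ N = 1`) are the values
of one rational polynomial at the powers of a primitive `N`-th root of unity. -/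
theorem irr_pow_eq_aeval {G : Type u} [Group G] [Finite G] (χ : IrrCharacter G) (g : G) (N : ℕ)
    (hN : 0 < N) (hg : g ^ N = 1) (ζ : ℂ) (hζ : IsPrimitiveRoot ζ N) :
    ∃ T : Polynomial ℚ, ∀ e : ℕ, (χ : G → ℂ) (g ^ e) = Polynomial.aeval (ζ ^ e) T := by
  classical
  haveI : Fintype G := Fintype.ofFinite G
  obtain ⟨H, hH⟩ : ∃ H : Subgroup G, H = Subgroup.zpowers g := ⟨_, rfl⟩
  haveI : Fintype H := Fintype.ofFinite H
  have hχc : IsCharacter G (χ : G → ℂ) := helper83.isCharacter_of_irr χ.2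
  have hφ : IsCharacter H (fun h : H => (χ : G → ℂ) h) := helper4.isCharacter_restrict H hχc
  obtain ⟨a, ha1, ha2, ha3⟩ := helper82.exists_nat_decomp hφ
  have hab : ∀ x y : H, x * y = y * x := by
    intro x y
    have hx : (x : G) ∈ Subgroup.zpowers g := by rw [← hH]; exact x.2
    have hy : (y : G) ∈ Subgroup.zpowers g := by rw [← hH]; exact y.2
    obtain ⟨k, hk⟩ := Subgroup.mem_zpowers_iff.mp hx
    obtain ⟨l, hl⟩ := Subgroup.mem_zpowers_iff.mp hy
    apply Subtype.ext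
    rw [Subgroup.coe_mul, Subgroup.coe_mul, ← hk, ← hl, ← zpow_add, ← zpow_add, add_comm]
  have hlin : ∀ lam : IrrCharacter H, ∃ f : H →* ℂˣ, ∀ h, (lam : H → ℂ) h = (f h : ℂ) := by
    intro lam
    have h1 := helper82.irr_one_of_commutative (G := H) hab lam.2
    exact helper82.exists_hom_of_linear (helper83.isCharacter_of_irr lam.2) h1
  choose f hf using hlin
  have hgH : g ∈ H := by rw [hH]; exact Subgroup.mem_zpowers g
  haveI : NeZero N := ⟨hN.ne'⟩
  have hj : ∀ lam : IrrCharacter H, ∃ j < N, ζ ^ j = ((f lam ⟨g, hgH⟩ : ℂˣ) : ℂ) := by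
    intro lam
    apply hζ.eq_pow_of_pow_eq_one
    rw [← Units.val_pow_eq_pow_val, ← map_pow]
    have h1 : (⟨g, hgH⟩ : H) ^ N = 1 := Subtype.ext (by simpa using hg)
    rw [h1, map_one, Units.val_one]
  choose j hjN hj using hj
  refine ⟨∑ lam : IrrCharacter H, Polynomial.C (a lam : ℚ) * Polynomial.X ^ (j lam), ?_⟩
  intro e
  have h1 : (χ : G → ℂ) (g ^ e)
      = ∑ lam : IrrCharacter H, (a lam : ℂ) * (lam : H → ℂ) (⟨g, hgH⟩ ^ e) := by
    rw [← ha2 (⟨g, hgH⟩ ^ e)]
    simp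
  rw [h1, map_sum]
  refine Finset.sum_congr rfl fun lam _ => ?_
  rw [hf lam, map_pow, Units.val_pow_eq_pow_val, ← hj lam]
  simp only [map_mul, Polynomial.aeval_C, map_pow, Polynomial.aeval_X, eq_ratCast,
    Rat.cast_natCast]
  ring

/-- If `g` (of order `N`) has exactly the conjugates `g` and `g ^ e ≠ g` inside `⟨g⟩`, then
`ζ + ζ ^ e` lies in the field generated by the irreducible character values at `g`. -/
theorem primitive_sum_mem_adjoin {G : Type u} [Group G] [Finite G] (g x : G) (N : ℕ)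
    (hN : 0 < N) (hg : orderOf g = N) (ζ : ℂ) (hζ : IsPrimitiveRoot ζ N) (e : ℕ)
    (hx : x * g * x⁻¹ = g ^ e) (hne : g ^ e ≠ g)
    (hall : ∀ w : G, w * g * w⁻¹ ∈ Subgroup.zpowers g →
      w * g * w⁻¹ = g ∨ w * g * w⁻¹ = g ^ e) :
    ζ + ζ ^ e ∈ IntermediateField.adjoin ℚ
      {z : ℂ | ∃ χ : IrrCharacter G, (χ : G → ℂ) g = z} := by
  classical
  haveI : Fintype G := Fintype.ofFinite G
  obtain ⟨F, hF⟩ : ∃ F, F = IntermediateField.adjoin ℚ
      {z : ℂ | ∃ χ : IrrCharacter G, (χ : G → ℂ) g = z} := ⟨_, rfl⟩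
  rw [← hF]
  obtain ⟨H, hH⟩ : ∃ H : Subgroup G, H = Subgroup.zpowers g := ⟨_, rfl⟩
  have hgH : g ∈ H := by rw [hH]; exact Subgroup.mem_zpowers g
  obtain ⟨γ, hγ⟩ : ∃ γ : H, γ = ⟨g, hgH⟩ := ⟨_, rfl⟩
  have hgen : ∀ y : H, y ∈ Subgroup.zpowers γ := by
    intro y
    have hy : (y : G) ∈ Subgroup.zpowers g := by rw [← hH]; exact y.2
    obtain ⟨k, hk⟩ := Subgroup.mem_zpowers_iff.mp hy
    exact Subgroup.mem_zpowers_iff.mpr ⟨k, Subtype.ext (by rw [hγ]; simpa using hk)⟩
  have hζ0 : ζ ≠ 0 := hζ.ne_zero hN.ne'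
  obtain ⟨u, hu⟩ : ∃ u : ℂˣ, (u : ℂ) = ζ := ⟨Units.mk0 ζ hζ0, rfl⟩
  have hord : orderOf u ∣ orderOf γ := by
    have h1 : orderOf γ = N := by
      rw [hγ, ← hg]; exact Subgroup.orderOf_mk g hgH
    have h2 : orderOf u = N := by
      rw [← orderOf_units, hu]; exact hζ.eq_orderOf.symm
    rw [h1, h2]
  obtain ⟨lam, hlam⟩ : ∃ lam : H →* ℂˣ, lam γ = u :=
    ⟨monoidHomOfForallMemZpowers hgen hord, monoidHomOfForallMemZpowers_apply_gen hgen hord⟩
  obtain ⟨θ, hθ⟩ : ∃ θ : H → ℂ, θ = fun h : H => ((lam h : ℂˣ) : ℂ) := ⟨_, rfl⟩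
  have hθc : IsCharacter H θ := by rw [hθ]; exact helper19.isCharacter_of_hom lam
  have hΘ : IsCharacter G (indFun H θ) := helper4.isCharacter_indFun H hθc
  have hθg : θ ⟨g, hgH⟩ = ζ := by rw [hθ, ← hγ]; show ((lam γ : ℂˣ) : ℂ) = ζ; rw [hlam, hu]
  have hgeH : g ^ e ∈ H := H.pow_mem hgH e
  have hθge : θ ⟨g ^ e, hgeH⟩ = ζ ^ e := by
    have h1 : (⟨g ^ e, hgeH⟩ : H) = γ ^ e := Subtype.ext (by rw [hγ]; simp)
    rw [hθ, h1]
    show ((lam (γ ^ e) : ℂˣ) : ℂ) = ζ ^ e
    rw [map_pow, hlam, Units.val_pow_eq_pow_val, hu]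
  -- pointwise value of the extension by zero on conjugates of `g`
  have hpt : ∀ y : G, extendByZero H θ (y⁻¹ * g * y)
      = (if y⁻¹ * g * y = g then ζ else 0)
        + (if (y * x)⁻¹ * g * (y * x) = g then ζ ^ e else 0) := by
    intro y
    have hyx : (y * x)⁻¹ * g * (y * x) = x⁻¹ * (y⁻¹ * g * y) * x := by group
    by_cases h1 : y⁻¹ * g * y = g
    · have h2 : ¬ ((y * x)⁻¹ * g * (y * x) = g) := by
        rw [hyx, h1]
        intro h3
        apply hne
        rw [← hx]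
        calc x * g * x⁻¹ = x * (x⁻¹ * g * x) * x⁻¹ := by rw [h3]
          _ = g := by group
      rw [if_pos h1, if_neg h2, add_zero, h1, helper4.extendByZero_apply_mem H θ hgH, hθg]
    · rw [if_neg h1, zero_add]
      by_cases h2 : y⁻¹ * g * y ∈ H
      · have h3 : y⁻¹ * g * y = g ^ e := by
          have h4 := hall y⁻¹ (by rw [inv_inv, ← hH]; exact h2)
          rw [inv_inv] at h4
          exact h4.resolve_left h1
        have h5 : (y * x)⁻¹ * g * (y * x) = g := by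
          rw [hyx, h3, ← hx]; group
        rw [if_pos h5, h3, helper4.extendByZero_apply_mem H θ hgeH, hθge]
      · have h5 : ¬ ((y * x)⁻¹ * g * (y * x) = g) := by
          rw [hyx]
          intro h6
          apply h2
          have h7 : y⁻¹ * g * y = g ^ e := by
            rw [← hx]
            calc y⁻¹ * g * y = x * (x⁻¹ * (y⁻¹ * g * y) * x) * x⁻¹ := by group
              _ = x * g * x⁻¹ := by rw [h6]
          rw [h7]; exact hgeH
        rw [if_neg h5, helper4.extendByZero_apply_of_not_mem H θ h2]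
  obtain ⟨k, hk⟩ : ∃ k : ℕ, k = (Finset.univ.filter (fun y : G => y⁻¹ * g * y = g)).card :=
    ⟨_, rfl⟩
  have hkpos : 0 < k := by
    rw [hk, Finset.card_pos]
    exact ⟨1, by simp⟩
  have hsum1 : ∀ c : ℂ, ∑ y : G, (if y⁻¹ * g * y = g then c else 0) = (k : ℂ) * c := by
    intro c
    rw [← Finset.sum_filter, Finset.sum_const, hk, nsmul_eq_mul]
  have hsum2 : ∑ y : G, (if (y * x)⁻¹ * g * (y * x) = g then ζ ^ e else 0) = (k : ℂ) * ζ ^ e := by
    rw [← hsum1 (ζ ^ e)]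
    exact Equiv.sum_comp (Equiv.mulRight x) (fun y : G => if y⁻¹ * g * y = g then ζ ^ e else 0)
  have hval : indFun H θ g = (Nat.card H : ℂ)⁻¹ * ((k : ℂ) * (ζ + ζ ^ e)) := by
    rw [helper4.indFun_apply]
    congr 1
    rw [Finset.sum_congr rfl fun y _ => hpt y, Finset.sum_add_distrib, hsum1 ζ, hsum2]
    ring
  have hmem : indFun H θ g ∈ F := by
    obtain ⟨m, hm1, hm2, hm3⟩ := helper82.exists_nat_decomp hΘ
    rw [hm2 g]
    refine sum_mem fun ψ _ => mul_mem (natCast_mem F _) ?_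
    rw [hF]
    exact IntermediateField.subset_adjoin ℚ _ ⟨ψ, rfl⟩
  have hk0 : (k : ℂ) ≠ 0 := by exact_mod_cast hkpos.ne'
  have hH0 : (Nat.card H : ℂ) ≠ 0 := by exact_mod_cast Nat.card_pos.ne'
  have hfin : ζ + ζ ^ e = (Nat.card H : ℂ) * (k : ℂ)⁻¹ * indFun H θ g := by
    rw [hval]; field_simp
  rw [hfin]
  exact mul_mem (mul_mem (natCast_mem F _) (inv_mem (natCast_mem F _))) hmem

/-- If `g` (of order `N`) has exactly the conjugates `g` and `g ^ e ≠ g` inside `⟨g⟩`, and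
`ζ * ζ ^ e` is rational, then the field of character values at `g` is `ℚ(ζ + ζ ^ e)`. -/
theorem adjoin_irr_values_eq {G : Type u} [Group G] [Finite G] (g x : G) (N : ℕ) (hN : 0 < N)
    (hg : orderOf g = N) (ζ : ℂ) (hζ : IsPrimitiveRoot ζ N) (e : ℕ) (c : ℚ)
    (hc : ζ * ζ ^ e = (c : ℂ)) (hx : x * g * x⁻¹ = g ^ e) (hne : g ^ e ≠ g)
    (hall : ∀ w : G, w * g * w⁻¹ ∈ Subgroup.zpowers g →
      w * g * w⁻¹ = g ∨ w * g * w⁻¹ = g ^ e) :
    IntermediateField.adjoin ℚ {z : ℂ | ∃ χ : IrrCharacter G, (χ : G → ℂ) g = z}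
      = IntermediateField.adjoin ℚ ({ζ + ζ ^ e} : Set ℂ) := by
  apply le_antisymm
  · rw [IntermediateField.adjoin_le_iff]
    rintro z ⟨χ, rfl⟩
    obtain ⟨T, hT⟩ := irr_pow_eq_aeval χ g N hN (by rw [← hg]; exact pow_orderOf_eq_one g) ζ hζ
    have h1 := hT 1
    rw [pow_one, pow_one] at h1
    have h2 := hT e
    have h3 : (χ : G → ℂ) (g ^ e) = (χ : G → ℂ) g := by
      rw [← hx]; exact helper81.irr_classFun χ g x
    have h4 := aeval_add_aeval_mem_adjoin ζ (ζ ^ e) c hc T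
    rw [← h1, ← h2, h3] at h4
    have h5 : (χ : G → ℂ) g = (((2 : ℕ) : ℂ))⁻¹ * ((χ : G → ℂ) g + (χ : G → ℂ) g) := by
      push_cast; ring
    rw [SetLike.mem_coe, h5]
    exact mul_mem (inv_mem (natCast_mem _ 2)) h4
  · rw [IntermediateField.adjoin_le_iff]
    rintro z hz
    rw [Set.mem_singleton_iff] at hz
    subst hz
    exact primitive_sum_mem_adjoin g x N hN hg ζ hζ e hx hne hall

/-- If all irreducible character values at `g` (of order `N`) lie in `ℚ(ζ + ζ ^ e)` with `e`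
prime to `N` and `e ^ 2 ≡ 1`, then `g` is conjugate to `g ^ e`. -/
theorem exists_conj_of_adjoin_le {G : Type u} [Group G] [Finite G] (g : G) (N : ℕ) (hN : 0 < N)
    (hg : g ^ N = 1) (ζ : ℂ) (hζ : IsPrimitiveRoot ζ N) (e : ℕ) (hcop : Nat.Coprime e N)
    (hee : ζ ^ (e * e) = ζ)
    (hF : ∀ χ : IrrCharacter G,
      (χ : G → ℂ) g ∈ IntermediateField.adjoin ℚ ({ζ + ζ ^ e} : Set ℂ)) :
    ∃ x : G, x * g * x⁻¹ = g ^ e := by
  have hint : IsIntegral ℚ ζ :=
    IsIntegral.of_pow hN (by rw [hζ.pow_eq_one]; exact isIntegral_one)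
  have hu : IsIntegral ℚ (ζ + ζ ^ e) := hint.add (hint.pow e)
  have hτ : IsPrimitiveRoot (ζ ^ e) N := hζ.pow_of_coprime e hcop
  have hconj : IsConj g (g ^ e) := by
    apply helper82.isConj_of_forall_irr_eq
    intro χ
    obtain ⟨T, hT⟩ := irr_pow_eq_aeval χ g N hN hg ζ hζ
    obtain ⟨R, hR⟩ := exists_aeval_of_mem_adjoin_simple hu (hF χ)
    have h1 := hT 1
    rw [pow_one, pow_one] at h1
    have hQ : Polynomial.aeval ζ (T - R.comp (Polynomial.X + Polynomial.X ^ e)) = 0 := by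
      rw [map_sub, Polynomial.aeval_comp, ← h1, hR]
      simp
    have hQ' := aeval_eq_zero_of_primitiveRoots hN hζ hτ _ hQ
    rw [map_sub, Polynomial.aeval_comp, ← hT e] at hQ'
    simp only [map_add, Polynomial.aeval_X, map_pow] at hQ'
    rw [← pow_mul, hee, add_comm (ζ ^ e) ζ, ← hR] at hQ'
    exact (sub_eq_zero.mp hQ').symm
  obtain ⟨x, hx⟩ := isConj_iff.mp hconj
  exact ⟨x, hx⟩

/-- If `g ^ M = 1` with `M` even and `ζ` is a primitive `2M`-th root of unity, then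
`ζ + ε ζ ^ (2M - 1)` can only lie in the field of character values at `g` if it vanishes. -/
theorem sum_eq_zero_of_order_dvd_half {G : Type u} [Group G] [Finite G] (g : G) (M : ℕ)
    (hM : 0 < M) (hMe : Even M) (hg : g ^ M = 1) (ζ : ℂ) (hζ : IsPrimitiveRoot ζ (2 * M))
    (ε : ℚ)
    (hF : ζ + (ε : ℂ) * ζ ^ (2 * M - 1) ∈ IntermediateField.adjoin ℚ
      {z : ℂ | ∃ χ : IrrCharacter G, (χ : G → ℂ) g = z}) :
    ζ + (ε : ℂ) * ζ ^ (2 * M - 1) = 0 := by
  have h2M : 0 < 2 * M := by positivity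
  have hζ2 : IsPrimitiveRoot (ζ ^ 2) M := IsPrimitiveRoot.pow h2M hζ rfl
  have hint : IsIntegral ℚ (ζ ^ 2) :=
    IsIntegral.of_pow hM (by rw [hζ2.pow_eq_one]; exact isIntegral_one)
  have hle : IntermediateField.adjoin ℚ {z : ℂ | ∃ χ : IrrCharacter G, (χ : G → ℂ) g = z}
      ≤ IntermediateField.adjoin ℚ ({ζ ^ 2} : Set ℂ) := by
    rw [IntermediateField.adjoin_le_iff]
    rintro z ⟨χ, rfl⟩
    obtain ⟨T, hT⟩ := irr_pow_eq_aeval χ g M hM hg (ζ ^ 2) hζ2
    have h1 := hT 1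
    rw [pow_one, pow_one] at h1
    rw [SetLike.mem_coe, h1]
    exact IntermediateField.algebra_adjoin_le_adjoin ℚ _
      (Polynomial.aeval_mem_adjoin_singleton ℚ (ζ ^ 2))
  obtain ⟨R, hR⟩ := exists_aeval_of_mem_adjoin_simple hint (hle hF)
  have hζM : ζ ^ M = -1 :=
    (IsPrimitiveRoot.pow h2M hζ (mul_comm 2 M)).eq_neg_one_of_two_right
  have hcop : Nat.Coprime (M + 1) (2 * M) := by
    apply Nat.Coprime.mul_right
    · rw [Nat.coprime_two_right]; exact hMe.add_one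
    · simp
  have hneg : IsPrimitiveRoot (-ζ) (2 * M) := by
    have h1 := hζ.pow_of_coprime (M + 1) hcop
    have h2 : ζ ^ (M + 1) = -ζ := by rw [pow_succ, hζM]; ring
    rwa [h2] at h1
  have hodd : Odd (2 * M - 1) := ⟨M - 1, by omega⟩
  have hQ : Polynomial.aeval ζ (Polynomial.X + Polynomial.C ε * Polynomial.X ^ (2 * M - 1)
      - R.comp (Polynomial.X ^ 2)) = 0 := by
    rw [map_sub, Polynomial.aeval_comp, map_add, map_mul, Polynomial.aeval_C]
    simp only [Polynomial.aeval_X, map_pow, eq_ratCast]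
    rw [← hR, sub_self]
  have hQ' := aeval_eq_zero_of_primitiveRoots h2M hζ hneg _ hQ
  rw [map_sub, Polynomial.aeval_comp, map_add, map_mul, Polynomial.aeval_C] at hQ'
  simp only [Polynomial.aeval_X, map_pow, eq_ratCast] at hQ'
  rw [neg_sq, hodd.neg_pow, ← hR] at hQ'
  linear_combination (-1 / 2 : ℂ) * hQ'

end Cfsg.Agent.Lib.helper78
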