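import Mathlib
import Cfsg.Agent.Lib.helper78.MajorOne
import Cfsg.Agent.Lib.helper78.KleinDefect
import Cfsg.Agent.Lib.helper78.KleinDefect2
import Cfsg.Agent.Lib.helper84.CentralDefect
import Cfsg.Agent.Lib.helper80.NilpFusion
import Cfsg.Agent.S4658

/-!
# Nilpotent blocks with abelian defect groups have one Brauer character (helper78)

* `rank_add_card_le`: `l(B) + #(nontrivial subsections) ≤ k(B)`;
* `conj_eq_self_of_nilpotent`: in a nilpotent block with abelian defect group, conjugate
  subsections inside the maximal pair are equal elementwise;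
* `exists_maximal_pair`: every block has a maximal Brauer pair;
* `blockRank_eq_one_of_nilpotent_abelian`: a nilpotent block with abelian defect groups has
  `l(B) = 1` (induction on the group order, using a major subsection at a noncentral element of
  the defect group and the central defect case).
-/

set_option autoImplicit false
set_option linter.style.haveILetI false
set_option linter.unusedSectionVars false

namespace Cfsg.Agent.Lib.helper78

open Cfsg

universe u

section NilAb

variable {G : Type u} [Group G] [Fintype G] {p : ℕ} [Fact p.Prime] {M : Ideal AlgInt}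

/-- Brauer's formula as an inequality: every nontrivial subsection contributes at least one. -/
theorem rank_add_card_le [DecidableEq G] (hM : IsPModular p M) {B : Set (IrrCharacter G)}
    (hB : IsPBlock M B) (X : Finset G) (hX : ∀ x ∈ X, ∃ k : ℕ, orderOf x = p ^ k)
    (hXrep : ∀ g : G, (∃ k : ℕ, orderOf g = p ^ k) → ∃! x, x ∈ X ∧ IsConj g x) :
    blockRank p B + Nat.card (Σ x : (X.erase 1 : Finset G),
      {b : Set (IrrCharacter (Subgroup.centralizer ({(x : G)} : Set G))) //
        IsInducedBlock M (Subgroup.centralizer ({(x : G)} : Set G)) b B}) ≤ Nat.card B := by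
  classical
  have hMp := Cfsg.Agent.Lib.helper20.isPrime_of_isPModular hM
  have hp : p.Prime := Fact.out
  haveI : ∀ x : G, Fintype (Subgroup.centralizer ({x} : Set G)) := fun x => Fintype.ofFinite _
  rw [card_block_eq_sum_blockRank hM B hB X hX hXrep]
  have h1X : (1 : G) ∈ X := by
    obtain ⟨x, ⟨hx, hc⟩, -⟩ := hXrep 1 ⟨0, by simp⟩
    have hx1 : x = 1 := by
      obtain ⟨c, hc⟩ := isConj_iff.mp hc
      rw [← hc]
      group
    rwa [hx1] at hx
  rw [← Finset.add_sum_erase X _ h1X, finsum_induced_one hMp p hB]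
  apply Nat.add_le_add_left
  rw [Nat.card_sigma, ← Finset.sum_coe_sort (X.erase 1)]
  refine Finset.sum_le_sum (fun x _ => ?_)
  rw [finsum_mem_eq_finite_toFinset_sum _ (Set.toFinite _)]
  have h1 : Nat.card {b : Set (IrrCharacter (Subgroup.centralizer ({(x : G)} : Set G))) //
        IsInducedBlock M (Subgroup.centralizer ({(x : G)} : Set G)) b B}
      = ∑ _b ∈ (Set.toFinite {b : Set (IrrCharacter (Subgroup.centralizer ({(x : G)} : Set G))) |
        IsInducedBlock M (Subgroup.centralizer ({(x : G)} : Set G)) b B}).toFinset, 1 := by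
    simp only [Finset.sum_const, smul_eq_mul, mul_one]
    rw [← Set.ncard_eq_toFinset_card _ (Set.toFinite _)]
    exact Nat.card_coe_set_eq _
  rw [h1]
  apply Finset.sum_le_sum
  intro b hb
  rw [Set.Finite.mem_toFinset] at hb
  exact blockRank_pos_of_isPBlock hMp p hp hb.1

/-- Control of fusion for nilpotent blocks with abelian defect group, elementwise. -/
theorem conj_eq_self_of_nilpotent (hM : IsPModular p M) {B : Set (IrrCharacter G)}
    {P : Subgroup G} {e : Set (IrrCharacter (Subgroup.centralizer (P : Set G)))}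
    (hmax : IsMaximalBrauerPair p M B P e) (hnil : IsNilpotentBlock p M B)
    (hab : ∀ x ∈ P, ∀ y ∈ P, x * y = y * x) {W W' : BrauerPairIdx G} (v : G) (hv : v ∈ P)
    (hW1 : W.1 = Subgroup.zpowers v)
    (hW : Relation.ReflTransGen (NormalSubpairRel p M) W ⟨P, e⟩)
    (hW' : Relation.ReflTransGen (NormalSubpairRel p M) W' ⟨P, e⟩) (g : G)
    (hg : Cfsg.Agent.Lib.helper80.conjPair g W = W') : g * v * g⁻¹ = v := by
  have hle' : SubpairLE p M (W.1.map (MulAut.conj g).toMonoidHom) (conjBlock W.1 g W.2) P e := by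
    have h1 : Relation.ReflTransGen (NormalSubpairRel p M)
        (Cfsg.Agent.Lib.helper80.conjPair g W) ⟨P, e⟩ := by
      rw [hg]
      exact hW'
    exact h1
  obtain ⟨u, hu, c, hc, hgc⟩ := Cfsg.Agent.Lib.helper80.exists_mul_of_nilpotent_conj hM hmax hnil
    _ W.1 W.2 g rfl hW hle'
  have hvW : v ∈ W.1 := by
    rw [hW1]
    exact Subgroup.mem_zpowers v
  have hcv : v * c = c * v := Subgroup.mem_centralizer_iff.mp hc v hvW
  have huv : u * v = v * u := hab u hu v hv
  rw [hgc]
  calc u * c * v * (u * c)⁻¹ = u * (c * v) * c⁻¹ * u⁻¹ := by group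
    _ = u * (v * c) * c⁻¹ * u⁻¹ := by rw [hcv]
    _ = (u * v) * u⁻¹ := by group
    _ = v := by rw [huv]; group

/-- Every block has a maximal Brauer pair. -/
theorem exists_maximal_pair (hM : IsPModular p M) {B : Set (IrrCharacter G)}
    (hB : IsPBlock M B) :
    ∃ (P : Subgroup G) (e : Set (IrrCharacter (Subgroup.centralizer (P : Set G)))),
      IsMaximalBrauerPair p M B P e := by
  classical
  have hMp := Cfsg.Agent.Lib.helper20.isPrime_of_isPModular hM
  have hH : Subgroup.centralizer ({(1 : G)} : Set G) = ⊤ := by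
    rw [Subgroup.centralizer_eq_top_iff_subset]
    intro y hy
    rw [Set.mem_singleton_iff] at hy
    rw [hy]
    exact Subgroup.one_mem _
  have hind := isInducedBlock_topIso hMp _ hH hB
  have h1 : ∃ k : ℕ, orderOf (1 : G) = p ^ k := ⟨0, by simp⟩
  have hpair := (induced_iff_pairOf hM (1 : G) h1 _ B).1 hind
  obtain ⟨P, e, hmax, -⟩ := Cfsg.Agent.Lib.helper80.exists_maximal_above hM _ _ _ rfl hpair
  exact ⟨P, e, hmax⟩

/-- Representatives of the conjugacy classes of `p`-elements. -/
theorem exists_pClass_reps (G : Type u) [Group G] [Fintype G] (p : ℕ) :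
    ∃ X : Finset G, (∀ x ∈ X, ∃ k : ℕ, orderOf x = p ^ k) ∧
      (∀ g : G, (∃ k : ℕ, orderOf g = p ^ k) → ∃! x, x ∈ X ∧ IsConj g x) := by
  classical
  obtain ⟨X, hXdef⟩ : ∃ X : Finset G, X = (Set.toFinite {x : G | (∃ k : ℕ, orderOf x = p ^ k)
      ∧ Quotient.out (ConjClasses.mk x) = x}).toFinset := ⟨_, rfl⟩
  have hmemX : ∀ x : G, x ∈ X ↔ (∃ k : ℕ, orderOf x = p ^ k)
      ∧ Quotient.out (ConjClasses.mk x) = x := by
    intro x
    rw [hXdef, Set.Finite.mem_toFinset]
    rfl
  refine ⟨X, fun x hx => ((hmemX x).mp hx).1, ?_⟩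
  intro g hg
  have hconj : IsConj (Quotient.out (ConjClasses.mk g)) g := isConj_out_mk g
  refine ⟨Quotient.out (ConjClasses.mk g), ⟨?_, hconj.symm⟩, ?_⟩
  · rw [hmemX]
    refine ⟨?_, ?_⟩
    · obtain ⟨t, ht⟩ := isConj_iff.mp hconj.symm
      rw [← ht, orderOf_conj_kl]
      exact hg
    · rw [ConjClasses.mk_eq_mk_iff_isConj.mpr hconj]
  · rintro y ⟨hy, hgy⟩
    rw [← ((hmemX y).mp hy).2, ConjClasses.mk_eq_mk_iff_isConj.mpr hgy]

theorem card_nontrivial_subgroup (P : Subgroup G) :
    Nat.card {v : G // v ∈ P ∧ v ≠ 1} = Nat.card P - 1 := by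
  classical
  rw [Nat.card_eq_fintype_card, Fintype.card_subtype]
  have h1 : Finset.univ.filter (fun g : G => g ∈ P ∧ g ≠ 1)
      = (Finset.univ.filter (fun g : G => g ∈ P)).erase 1 := by
    ext g
    simp only [Finset.mem_erase, Finset.mem_filter, Finset.mem_univ, true_and]
    tauto
  rw [h1, Finset.card_erase_of_mem (by simp)]
  have : (Finset.univ.filter (fun g : G => g ∈ P)).card = Nat.card P := by
    rw [Nat.card_eq_fintype_card, Fintype.card_subtype]
  rw [this]

/-- The subsections of `B` attached to the nontrivial elements of the subgroup of a maximal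
pair. -/
theorem exists_subsection_of_mem [DecidableEq G] (hM : IsPModular p M) {B : Set (IrrCharacter G)}
    {P : Subgroup G} {e : Set (IrrCharacter (Subgroup.centralizer (P : Set G)))}
    (hmax : IsMaximalBrauerPair p M B P e) (X : Finset G)
    (hXrep : ∀ g : G, (∃ k : ℕ, orderOf g = p ^ k) → ∃! x, x ∈ X ∧ IsConj g x)
    (v : G) (hv : v ∈ P) (hv1 : v ≠ 1) :
    ∃ s : (Σ x : (X.erase 1 : Finset G),
      {b : Set (IrrCharacter (Subgroup.centralizer ({(x : G)} : Set G))) //
        IsInducedBlock M (Subgroup.centralizer ({(x : G)} : Set G)) b B}),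
      ∃ (g : G) (W : BrauerPairIdx G),
        Relation.ReflTransGen (NormalSubpairRel p M) W ⟨P, e⟩ ∧ W.1 = Subgroup.zpowers v ∧
        pairOf (s.1 : G) s.2.1 = Cfsg.Agent.Lib.helper80.conjPair g W ∧
        g * v * g⁻¹ = (s.1 : G) := by
  have hpair := hmax.1
  have hPe : IsBrauerPair p M P e := hpair.1
  obtain ⟨f, -, hle⟩ := Cfsg.Agent.Lib.helper80.exists_subpairLE hM _ P (Subgroup.zpowers v) e hPe
    (Subgroup.zpowers_le.mpr hv) rfl
  have hv2 : ∃ k : ℕ, orderOf v = p ^ k := by
    obtain ⟨k, hk⟩ := (IsPGroup.iff_orderOf.mp hPe.1) ⟨v, hv⟩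
    exact ⟨k, by rw [← hk, Subgroup.orderOf_mk]⟩
  obtain ⟨x, ⟨hxX, hconj⟩, -⟩ := hXrep v hv2
  obtain ⟨g, hg⟩ := isConj_iff.mp hconj
  have hx1 : x ≠ 1 := by
    intro h
    apply hv1
    have : v = g⁻¹ * (g * v * g⁻¹) * g := by group
    rw [this, hg, h]
    group
  obtain ⟨b, hbind, hbpair⟩ := exists_induced_of_le hM hpair
    (W := ⟨Subgroup.zpowers v, f⟩) hle v rfl hv2 g x hg
  exact ⟨⟨⟨x, Finset.mem_erase.mpr ⟨hx1, hxX⟩⟩, ⟨b, hbind⟩⟩, g, ⟨Subgroup.zpowers v, f⟩, hle,
    rfl, hbpair, hg⟩

end NilAb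

section Main

variable {p : ℕ} [Fact p.Prime] {M : Ideal AlgInt}

/-- **Nilpotent blocks with abelian defect groups have a single Brauer character.** -/
theorem blockRank_eq_one_of_nilpotent_abelian (hM : IsPModular p M) :
    ∀ (n : ℕ) (G : Type u) [Group G] [Fintype G] (B : Set (IrrCharacter G)) (P : Subgroup G),
      Nat.card G = n → IsNilpotentBlock p M B → IsDefectGroup p M B P →
      (∀ x ∈ P, ∀ y ∈ P, x * y = y * x) → blockRank p B = 1 := by
  intro n
  induction n using Nat.strong_induction_on with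
  | _ n ih =>
  intro G _ _ B P hn hnil hD hab
  classical
  have hMp := Cfsg.Agent.Lib.helper20.isPrime_of_isPModular hM
  have hp : p.Prime := Fact.out
  have hB : IsPBlock M B := hnil.1
  obtain ⟨P₁, e₁, hmax⟩ := exists_maximal_pair hM hB
  have hD₁ := Cfsg.Agent.Lib.helper80.isDefectGroup_of_maximal hM hmax
  have hPe : IsBrauerPair p M P₁ e₁ := hmax.1.1
  have hP₁ : IsPGroup p P₁ := hPe.1
  -- `P₁` is abelian
  have hab₁ : ∀ x ∈ P₁, ∀ y ∈ P₁, x * y = y * x := by
    obtain ⟨c, hc⟩ := Cfsg.Agent.Lib.helper80.IsDefectGroup.exists_conj_eq hM hB hD hD₁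
    intro x hx y hy
    rw [hc] at hx hy
    obtain ⟨x', hx', rfl⟩ := hx
    obtain ⟨y', hy', rfl⟩ := hy
    rw [← map_mul, ← map_mul, hab x' hx' y' hy']
  by_cases hcen : P₁ ≤ Subgroup.center G
  · -- central defect group
    have hG : P₁ ⊔ Subgroup.centralizer (P₁ : Set G) = ⊤ := by
      have h1 : Subgroup.centralizer (P₁ : Set G) = ⊤ :=
        Subgroup.centralizer_eq_top_iff_subset.mpr hcen
      rw [h1, sup_top_eq]
    exact Cfsg.Agent.Lib.helper84.blockRank_eq_one_of_sup_centralizer hM hB hD₁ hG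
  · -- a noncentral element of the defect group
    obtain ⟨u₀, hu₀P, hu₀c⟩ := SetLike.not_le_iff_exists.mp hcen
    have hu₀ord : ∃ k : ℕ, orderOf u₀ = p ^ k := by
      obtain ⟨k, hk⟩ := (IsPGroup.iff_orderOf.mp hP₁) ⟨u₀, hu₀P⟩
      exact ⟨k, by rw [← hk, Subgroup.orderOf_mk]⟩
    obtain ⟨f₀, hf₀, hle₀⟩ := Cfsg.Agent.Lib.helper80.exists_subpairLE hM _ P₁
      (Subgroup.zpowers u₀) e₁ hPe (Subgroup.zpowers_le.mpr hu₀P) rfl
    have hQf₀ : IsBrauerPair p M (Subgroup.zpowers u₀) f₀ :=
      ⟨isPGroup_zpowers_of_orderOf u₀ hu₀ord, hf₀⟩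
    have hQf : IsBrauerPairOf p M B (Subgroup.zpowers u₀) f₀ :=
      (Cfsg.Agent.S4658.result p M hM P₁ (Subgroup.zpowers u₀) e₁ f₀ hPe hQf₀ hle₀ B hB).1 hmax.1
    have hnil₀ : IsNilpotentBlock p M f₀ :=
      Cfsg.Agent.Lib.helper80.isNilpotentBlock_centralizer hM hnil hQf
    have hD₀ := Cfsg.Agent.Lib.helper80.isDefectGroup_centralizer_of_nilpotent hM hmax hnil hle₀
    -- the centralizer is a proper subgroup
    have hKlt : Nat.card (Subgroup.centralizer ((Subgroup.zpowers u₀ : Subgroup G) : Set G))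
        < n := by
      rw [← hn]
      refine lt_of_le_of_ne (Subgroup.card_le_card_group _) ?_
      intro hcard
      have htop := Subgroup.eq_top_of_card_eq _ hcard
      apply hu₀c
      rw [Subgroup.mem_center_iff]
      intro g
      have hg : g ∈ Subgroup.centralizer ((Subgroup.zpowers u₀ : Subgroup G) : Set G) := by
        rw [htop]
        exact Subgroup.mem_top g
      exact (Subgroup.mem_centralizer_iff.mp hg u₀ (Subgroup.mem_zpowers u₀)).symm
    have hPK : P₁ ≤ Subgroup.centralizer ((Subgroup.zpowers u₀ : Subgroup G) : Set G) := by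
      intro x hx
      rw [Subgroup.mem_centralizer_iff]
      intro y hy
      exact hab₁ y (Subgroup.zpowers_le.mpr hu₀P hy) x hx
    have habK : ∀ x ∈ (P₁ ⊓ Subgroup.centralizer ((Subgroup.zpowers u₀ : Subgroup G) : Set G)).subgroupOf
        (Subgroup.centralizer ((Subgroup.zpowers u₀ : Subgroup G) : Set G)),
        ∀ y ∈ (P₁ ⊓ Subgroup.centralizer ((Subgroup.zpowers u₀ : Subgroup G) : Set G)).subgroupOf
        (Subgroup.centralizer ((Subgroup.zpowers u₀ : Subgroup G) : Set G)), x * y = y * x := by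
      intro x hx y hy
      rw [Subgroup.mem_subgroupOf] at hx hy
      exact Subtype.ext (hab₁ _ hx.1 _ hy.1)
    have hl₀ : blockRank p f₀ = 1 :=
      ih _ hKlt (Subgroup.centralizer ((Subgroup.zpowers u₀ : Subgroup G) : Set G)) f₀ _ rfl
        hnil₀ hD₀ habK
    -- the subsection at `u₀`
    haveI : ∀ x : G, Fintype (Subgroup.centralizer ({x} : Set G)) := fun x => Fintype.ofFinite _
    have hind₀ : IsInducedBlock M (Subgroup.centralizer ({u₀} : Set G))
        (castBlk (centralizer_singleton_eq_zpowers u₀).symm f₀) B := by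
      rw [induced_iff_pairOf hM u₀ hu₀ord]
      show IsBrauerPairOf p M B (Subgroup.zpowers u₀)
        (castBlk (centralizer_singleton_eq_zpowers u₀)
          (castBlk (centralizer_singleton_eq_zpowers u₀).symm f₀))
      rw [castBlk_castBlk_symm]
      exact hQf
    have hl₀' : blockRank p (castBlk (centralizer_singleton_eq_zpowers u₀).symm f₀) = 1 := by
      rw [blockRank_castBlk]
      exact hl₀
    have hcardP : Nat.card P₁ = p ^ blockDefect p B :=
      Cfsg.Agent.Lib.helper79.card_eq_of_isDefectGroup hM hB hD₁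
    have hdd : blockDefect p (castBlk (centralizer_singleton_eq_zpowers u₀).symm f₀)
        = blockDefect p B := by
      rw [blockDefect_castBlk]
      have h1 := Cfsg.Agent.Lib.helper79.card_eq_of_isDefectGroup hM hf₀ hD₀
      have h2 : Nat.card ((P₁ ⊓ Subgroup.centralizer
          ((Subgroup.zpowers u₀ : Subgroup G) : Set G)).subgroupOf
          (Subgroup.centralizer ((Subgroup.zpowers u₀ : Subgroup G) : Set G))) = Nat.card P₁ := by
        rw [inf_eq_left.mpr hPK]
        exact Nat.card_congr (Subgroup.subgroupOfEquivOfLe hPK).toEquiv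
      rw [h2, hcardP] at h1
      exact (Nat.pow_right_injective hp.two_le h1).symm
    have hH₀ : ∀ g : G, g ∈ Subgroup.centralizer ({u₀} : Set G) ↔ g * u₀ = u₀ * g :=
      fun g => Subgroup.mem_centralizer_singleton_iff
    have hupper := card_le_of_major_rank_one hM (Subgroup.centralizer ({u₀} : Set G)) hind₀ u₀
      hH₀ hu₀ord hdd hl₀'
    rw [← hcardP] at hupper
    -- the lower bound
    obtain ⟨X, hX, hXrep⟩ := exists_pClass_reps G p
    have hlower := rank_add_card_le hM hB X hX hXrep
    choose s g W hW hW1 hπ hgv using fun v : {v : G // v ∈ P₁ ∧ v ≠ 1} =>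
      exists_subsection_of_mem hM hmax X hXrep v.1 v.2.1 v.2.2
    have hinj : Function.Injective s := by
      intro v v' hvv
      have h1 : Cfsg.Agent.Lib.helper80.conjPair (g v) (W v)
          = Cfsg.Agent.Lib.helper80.conjPair (g v') (W v') := by
        rw [← hπ v, ← hπ v', hvv]
      have h2 : Cfsg.Agent.Lib.helper80.conjPair ((g v')⁻¹ * g v) (W v) = W v' := by
        rw [← Cfsg.Agent.Lib.helper80.conjPair_mul, h1,
          Cfsg.Agent.Lib.helper80.conjPair_inv_conjPair]
      have h3 := conj_eq_self_of_nilpotent hM hmax hnil hab₁ (v : G) v.2.1 (hW1 v) (hW v)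
        (hW v') _ h2
      have h4 : g v * (v : G) * (g v)⁻¹ = g v' * (v' : G) * (g v')⁻¹ := by
        rw [hgv v, hgv v', hvv]
      apply Subtype.ext
      have h5 : (v' : G) = (g v')⁻¹ * g v * (v : G) * ((g v')⁻¹ * g v)⁻¹ := by
        have : (v' : G) = (g v')⁻¹ * (g v' * (v' : G) * (g v')⁻¹) * g v' := by group
        rw [this, ← h4]
        group
      rw [h5, h3]
    have hcard := Nat.card_le_card_of_injective s hinj
    rw [card_nontrivial_subgroup P₁] at hcard
    have hpos := blockRank_pos_of_isPBlock hMp p hp hB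
    have hP1 : 0 < Nat.card P₁ := Nat.card_pos
    omega

end Main

end Cfsg.Agent.Lib.helper78
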