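import Mathlib
import Cfsg.Agent.Lib.helper4.BlockNormal
import Cfsg.Agent.Lib.helper80.Brauer
import Cfsg.Agent.Lib.helper20.OrbitSum
import Cfsg.Agent.Lib.helper20.NilCentral
import Cfsg.Agent.Lib.helper20.DefectCentral
import Cfsg.Agent.Lib.helper79.PPartCong

/-!
# Principal blocks and subgroups containing the centralizer of a `p`-subgroup (helper78)

* `memLocalIdeal_sum_blockCoeff_sub_one`: the coefficients of the principal block idempotent of
  `G` on a subgroup `Ν ≥ P C_G(P)` (`P` a `p`-subgroup) add up to `1` modulo the local ideal.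
* `exists_principal_classInner_ne_zero`: every member of the principal block of such a `Ν` is a
  constituent of the restriction of a member of the principal block of `G`.
* `mem_principalBlock_of_trivial_on_regular`: with `S` a normal `p`-subgroup, an irreducible
  character of degree prime to `p` that is trivial on the `p`-regular elements of `C(S)` lies in
  the principal block.
-/

set_option autoImplicit false

namespace Cfsg.Agent.Lib.helper78

open Cfsg
open scoped ComplexConjugate

universe u

section PLenBlock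

variable {G : Type u} [Group G] [Fintype G] {p : ℕ} [Fact p.Prime] {M : Ideal AlgInt}

/-- The coefficients of the principal block idempotent on a subgroup containing `P C_G(P)` add up
to `1` modulo the local ideal. -/
theorem memLocalIdeal_sum_blockCoeff_sub_one (hM : IsPModular p M) (P Ν : Subgroup G)
    [Fintype Ν] (hP : IsPGroup p P) (hPΝ : P ≤ Ν)
    (hC : Subgroup.centralizer (P : Set G) ≤ Ν) :
    MemLocalIdeal M ((∑ n : Ν, blockCoeff (principalBlock M G) (n : G)) - 1) := by
  classical
  have hMp := Cfsg.Agent.Lib.helper20.isPrime_of_isPModular hM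
  set bc := blockCoeff (principalBlock M G) with hbc
  have hcf : IsClassFunction G bc := Cfsg.Agent.Lib.helper80.blockCoeff_classFun _
  have hloc : ∀ g, MemLocalRing M (bc g) := fun g =>
    Cfsg.Agent.Lib.helper81.memLocalRing_blockCoeff hMp
      Cfsg.Agent.Lib.helper81.isPBlock_principalBlock g
  have hinv : ∀ u ∈ P, ∀ x : G, bc (u * x * u⁻¹) = bc x := fun u _ x => hcf x u
  have h1 : ∑ g : G, bc g = 1 := by
    have h := Cfsg.Agent.Lib.helper80.sum_blockCoeff_mul_irr (principalBlock M G)
      (Cfsg.Agent.Lib.helper81.trivChar G)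
    rw [if_pos (Cfsg.Agent.Lib.helper81.trivChar_mem_principalBlock hMp)] at h
    simpa using h
  have h2 := Cfsg.Agent.Lib.helper80.sum_not_centralizer_memLocalIdeal hM P hP bc hinv hloc
  set S : Finset G := Finset.univ.filter
    (fun x : G => x ∈ Ν ∧ x ∉ Subgroup.centralizer (P : Set G)) with hS
  have h3 : MemLocalIdeal M (∑ x ∈ S, bc x) := by
    apply Cfsg.Agent.Lib.helper20.sum_memLocalIdeal_of_conj hM P hP S _ _ bc
      (fun x u hu => hinv u hu x) (fun x _ => hloc x)
    · intro x hx u hu
      rw [hS, Finset.mem_filter] at hx ⊢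
      refine ⟨Finset.mem_univ _, Ν.mul_mem (Ν.mul_mem (hPΝ hu) hx.2.1) (Ν.inv_mem (hPΝ hu)), ?_⟩
      intro hcen
      apply hx.2.2
      rw [Subgroup.mem_centralizer_iff] at hcen ⊢
      intro v hv
      have hv' : u * v * u⁻¹ ∈ P := P.mul_mem (P.mul_mem hu hv) (P.inv_mem hu)
      have h4 := hcen _ hv'
      have h5 : u * (v * x) * u⁻¹ = u * (x * v) * u⁻¹ := by
        calc u * (v * x) * u⁻¹ = u * v * u⁻¹ * (u * x * u⁻¹) := by group
          _ = u * x * u⁻¹ * (u * v * u⁻¹) := h4
          _ = u * (x * v) * u⁻¹ := by group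
      exact mul_left_cancel (mul_right_cancel h5)
    · intro x hx
      rw [hS, Finset.mem_filter] at hx
      exact hx.2.2
  have h5 : ∑ n : Ν, bc (n : G) = ∑ x ∈ Finset.univ.filter (fun x : G => x ∈ Ν), bc x :=
    (Finset.sum_subtype (Finset.univ.filter (fun x : G => x ∈ Ν)) (by simp) bc).symm
  have h6 : ∑ x ∈ Finset.univ.filter (fun x : G => x ∈ Ν), bc x
      = ∑ x ∈ Finset.univ.filter (fun x : G => x ∈ Subgroup.centralizer (P : Set G)), bc x
        + ∑ x ∈ S, bc x := by
    rw [← Finset.sum_union]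
    · congr 1
      ext x
      simp only [hS, Finset.mem_filter, Finset.mem_univ, true_and, Finset.mem_union]
      constructor
      · intro hx
        by_cases hxc : x ∈ Subgroup.centralizer (P : Set G)
        · exact Or.inl hxc
        · exact Or.inr ⟨hx, hxc⟩
      · rintro (hx | hx)
        · exact hC hx
        · exact hx.1
    · rw [Finset.disjoint_left]
      intro x hx hx'
      rw [Finset.mem_filter] at hx
      rw [hS, Finset.mem_filter] at hx'
      exact hx'.2.2 hx.2
  have h7 : ∑ g : G, bc g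
      = ∑ x ∈ Finset.univ.filter (fun x : G => x ∈ Subgroup.centralizer (P : Set G)), bc x
        + ∑ x ∈ Finset.univ.filter (fun x : G => x ∉ Subgroup.centralizer (P : Set G)), bc x :=
    (Finset.sum_filter_add_sum_filter_not _ _ _).symm
  have h8 : (∑ n : Ν, bc (n : G)) - 1 = ∑ x ∈ S, bc x
      - ∑ x ∈ Finset.univ.filter (fun x : G => x ∉ Subgroup.centralizer (P : Set G)), bc x := by
    rw [h5, h6, ← h1, h7]
    ring
  rw [h8]
  exact Cfsg.Agent.Lib.helper20.memLocalIdeal_sub hMp h3 h2

/-- Every member of the principal block of a subgroup `Ν ≥ P C_G(P)` is a constituent of the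
restriction of a member of the principal block of `G`. -/
theorem exists_principal_classInner_ne_zero (hM : IsPModular p M) (P Ν : Subgroup G)
    [Fintype Ν] (hP : IsPGroup p P) (hPΝ : P ≤ Ν)
    (hC : Subgroup.centralizer (P : Set G) ≤ Ν) (θ : IrrCharacter Ν)
    (hθ : θ ∈ principalBlock M Ν) :
    ∃ χ ∈ principalBlock M G, classInner (θ : Ν → ℂ) (fun n : Ν => (χ : G → ℂ) n) ≠ 0 := by
  classical
  have hMp := Cfsg.Agent.Lib.helper20.isPrime_of_isPModular hM
  by_contra hcon
  push Not at hcon
  set f := Cfsg.Agent.Lib.helper80.resFun Ν (blockCoeff (principalBlock M G)) with hf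
  have hfc : IsClassFunction Ν f := by
    intro g h
    have := Cfsg.Agent.Lib.helper80.blockCoeff_classFun (principalBlock M G) (g : G) (h : G)
    simpa [hf, Cfsg.Agent.Lib.helper80.resFun] using this
  have hfR : ∀ n, MemLocalRing M (f n) := fun n =>
    Cfsg.Agent.Lib.helper81.memLocalRing_blockCoeff' hMp
      Cfsg.Agent.Lib.helper81.isPBlock_principalBlock _
  have h1 := Cfsg.Agent.Lib.helper80.memLocalIdeal_om_sub hMp
    (Cfsg.Agent.Lib.helper81.trivChar Ν) θ hθ f hfc hfR
  have h2 : Cfsg.Agent.Lib.helper80.om (θ : Ν → ℂ) f = 0 := by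
    rw [hf, Cfsg.Agent.Lib.helper4.om_resFun_blockCoeff]
    have h3 : ∀ χ : IrrCharacter G, (if χ ∈ principalBlock M G then
        (χ : G → ℂ) 1 * classInner (θ : Ν → ℂ) (fun n : Ν => (χ : G → ℂ) n) else 0) = 0 := by
      intro χ
      split_ifs with h
      · rw [hcon χ h, mul_zero]
      · rfl
    rw [Finset.sum_congr rfl (fun χ _ => h3 χ), Finset.sum_const_zero, mul_zero]
  have h4 : Cfsg.Agent.Lib.helper80.om
      ((Cfsg.Agent.Lib.helper81.trivChar Ν : IrrCharacter Ν) : Ν → ℂ) f
      = ∑ n : Ν, blockCoeff (principalBlock M G) (n : G) := by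
    unfold Cfsg.Agent.Lib.helper80.om
    simp [hf, Cfsg.Agent.Lib.helper80.resFun]
  rw [h2, h4, sub_zero] at h1
  have h5 := memLocalIdeal_sum_blockCoeff_sub_one hM P Ν hP hPΝ hC
  have h6 := Cfsg.Agent.Lib.helper20.memLocalIdeal_sub hMp h1 h5
  rw [sub_sub_cancel] at h6
  exact Cfsg.Agent.Lib.helper20.not_memLocalIdeal_one h6

end PLenBlock

section PLenBlockC

variable {H : Type u} [Group H] [Fintype H] {p : ℕ} [Fact p.Prime] {M : Ideal AlgInt}

/-- With `S` a normal `p`-subgroup, an irreducible character of degree prime to `p` that is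
trivial on the `p`-regular elements of `C(S)` lies in the principal block. -/
theorem mem_principalBlock_of_trivial_on_regular (hM : IsPModular p M) (S : Subgroup H)
    [S.Normal] (hS : IsPGroup p S) (θ : IrrCharacter H)
    (hdeg : ¬ p ∣ charDegree (θ : H → ℂ))
    (hθ : ∀ c ∈ Subgroup.centralizer (S : Set H), ¬ p ∣ orderOf c →
      (θ : H → ℂ) c = (θ : H → ℂ) 1) :
    θ ∈ principalBlock M H := by
  have hMp := Cfsg.Agent.Lib.helper20.isPrime_of_isPModular hM
  have hp : p.Prime := Fact.out
  rw [Cfsg.Agent.Lib.helper81.mem_principalBlock_iff]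
  intro n
  by_cases hn : n ∈ Subgroup.centralizer (S : Set H)
  · obtain ⟨a, y, hxy, hcomm, hk, hy⟩ := Cfsg.Agent.Lib.helper20.exists_isPPart_zpow hp n
    have hy' : (n ^ a)⁻¹ * n = y := by rw [inv_mul_eq_iff_eq_mul]; exact hxy.symm
    have hyc : y ∈ Subgroup.centralizer (S : Set H) := by
      rw [← hy']
      exact Subgroup.mul_mem _ (Subgroup.inv_mem _ (Subgroup.zpow_mem _ hn a)) hn
    have h1 := Cfsg.Agent.Lib.helper79.memLocalIdeal_char_ppart hM
      (Cfsg.Agent.Lib.helper81.irr_isCharacter θ) n (n ^ a) ⟨y, hxy, hcomm, hk, hy⟩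
    rw [hy', hθ y hyc hy] at h1
    apply Cfsg.Agent.Lib.helper4.memLocalIdeal_of_natCast_mul hM hdeg
    have hd0 : ((charDegree (θ : H → ℂ) : ℕ) : ℂ) ≠ 0 := by
      have : charDegree (θ : H → ℂ) ≠ 0 := fun h0 => hdeg (h0 ▸ dvd_zero p)
      exact_mod_cast this
    have h2 : ((charDegree (θ : H → ℂ) : ℕ) : ℂ)
        * (((Subgroup.centralizer ({n} : Set H)).index : ℂ) - centralChar (θ : H → ℂ) n)
        = ((Subgroup.centralizer ({n} : Set H)).index : ℂ)
          * (-((θ : H → ℂ) n - (θ : H → ℂ) 1)) := by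
      unfold centralChar
      rw [Cfsg.Agent.Lib.helper81.irr_one_eq_charDegree θ]
      field_simp
      ring
    rw [h2]
    exact Cfsg.Agent.Lib.helper20.memLocalIdeal_mul_left hMp
      (Cfsg.Agent.Lib.helper20.memLocalRing_natCast hMp _)
      (Cfsg.Agent.Lib.helper20.memLocalIdeal_neg h1)
  · have h1 := Cfsg.Agent.Lib.helper20.memLocalIdeal_centralChar_of_not_mem_centralizer hM S hS
      (θ : H → ℂ) θ.2 n hn
    have h2 := Cfsg.Agent.Lib.helper20.memLocalIdeal_centralChar_of_not_mem_centralizer hM S hS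
      (fun _ => (1 : ℂ)) (Cfsg.Agent.Lib.helper81.trivChar H).2 n hn
    rw [Cfsg.Agent.Lib.helper81.centralChar_const_one] at h2
    exact Cfsg.Agent.Lib.helper20.memLocalIdeal_sub hMp h2 h1

end PLenBlockC

end Cfsg.Agent.Lib.helper78
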