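import Mathlib
import Cfsg.Agent.Lib.helper43.NormalizerExt
import Cfsg.Agent.Lib.helper66.PLengthSeries

/-!
# Extending characters of a Sylow normalizer that are trivial on `O_{p'}(C_G(P))` (helper78)

A variant of `helper43.exists_normal_complement_of_extend` (whose proof this file follows):
if every irreducible character of `N = N_G(P)` of degree prime to `p` that is trivial on the
`p`-regular elements of `C_G(P)` extends to `G`, then the normal closure of `P` has a normal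
`p`-complement, hence `G` has `p`-length one.
-/

set_option autoImplicit false

namespace Cfsg.Agent.Lib.helper78

open Cfsg Cfsg.Agent.Lib.helper81 Cfsg.Agent.Lib.helper82
open scoped ComplexConjugate commutatorElement

universe u

section SepGen

variable {H : Type u} [Group H] [Finite H]

/-- An element outside a normal subgroup `U` containing the derived subgroup of a normal subgroup
`S` of index prime to `p` is moved by an irreducible character of degree prime to `p` that is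
trivial on `U`. -/
theorem exists_irr_ne_of_commutator_le {p : ℕ} (S : Subgroup H) [S.Normal] (hS : ¬ p ∣ S.index)
    (U : Subgroup H) [U.Normal] (hSU : ⁅S, S⁆ ≤ U) {x : H} (hx : x ∉ U) :
    ∃ θ : IrrCharacter H, ¬ p ∣ charDegree (θ : H → ℂ) ∧
      (∀ u ∈ U, (θ : H → ℂ) u = (θ : H → ℂ) 1) ∧ (θ : H → ℂ) x ≠ (θ : H → ℂ) 1 := by
  obtain ⟨ψ, hψ⟩ := Cfsg.Agent.Lib.helper43.exists_irr_quot_ne U hx
  refine ⟨Cfsg.Agent.Lib.helper43.inflIrr U ψ, ?_, ?_, hψ⟩
  · rw [Cfsg.Agent.Lib.helper43.charDegree_inflIrr]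
    let A : Subgroup (H ⧸ U) := S.map (QuotientGroup.mk' U)
    have : A.Normal :=
      Subgroup.Normal.map inferInstance _ (QuotientGroup.mk'_surjective U)
    have hA : ∀ a ∈ A, ∀ b ∈ A, a * b = b * a := by
      rintro _ ⟨u, hu, rfl⟩ _ ⟨v, hv, rfl⟩
      show ((u : H) : H ⧸ U) * ((v : H) : H ⧸ U)
        = ((v : H) : H ⧸ U) * ((u : H) : H ⧸ U)
      rw [← QuotientGroup.mk_mul, ← QuotientGroup.mk_mul, QuotientGroup.eq]
      have h1 : (u * v)⁻¹ * (v * u) = ⁅v⁻¹, u⁻¹⁆ := by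
        rw [commutatorElement_def]; group
      rw [h1]
      exact hSU (Subgroup.commutator_mem_commutator (S.inv_mem hv) (S.inv_mem hu))
    obtain ⟨d, hd1, hd2⟩ := ito_char A hA ψ.2
    have hdeg : charDegree (ψ : H ⧸ U → ℂ) = d := by
      have h2 := irr_one_eq_charDegree ψ
      rw [hd1] at h2
      exact_mod_cast h2.symm
    rw [hdeg]
    intro hp
    exact hS (hp.trans (hd2.trans
      (Subgroup.index_map_dvd S (QuotientGroup.mk'_surjective U))))
  · intro u hu
    rw [Cfsg.Agent.Lib.helper43.inflIrr_apply, Cfsg.Agent.Lib.helper43.inflIrr_apply,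
      (QuotientGroup.eq_one_iff u).mpr hu]
    rfl

/-- In a finite group with a normal Sylow `p`-subgroup `S`, the `p`-regular elements of the
centralizer of `S` lie in a normal subgroup of order prime to `p`. -/
theorem exists_pprime_centralizer {p : ℕ} [Fact p.Prime] (S : Sylow p H)
    (hSn : (S : Subgroup H).Normal) :
    ∃ W : Subgroup H, W.Normal ∧ (Nat.card W).Coprime p ∧
      ∀ c ∈ Subgroup.centralizer ((S : Subgroup H) : Set H), ¬ p ∣ orderOf c → c ∈ W := by
  classical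
  have hp : p.Prime := Fact.out
  set A : Subgroup H := Subgroup.centralizer ((S : Subgroup H) : Set H) with hA
  have hAconj : ∀ (h : H) (a : H), a ∈ A → h * a * h⁻¹ ∈ A := by
    intro h a ha
    rw [hA, Subgroup.mem_centralizer_iff] at ha ⊢
    intro s hs
    have hs' : h⁻¹ * s * h ∈ (S : Subgroup H) := by
      have := hSn.conj_mem s hs h⁻¹
      rwa [inv_inv] at this
    have h1 := ha _ hs'
    calc s * (h * a * h⁻¹) = h * ((h⁻¹ * s * h) * a) * h⁻¹ := by group
      _ = h * (a * (h⁻¹ * s * h)) * h⁻¹ := by rw [h1]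
      _ = h * a * h⁻¹ * s := by group
  obtain ⟨Q⟩ : Nonempty (Sylow p ↥A) := inferInstance
  -- elements of `Q` lie in `S`
  have hQS : ∀ q : ↥A, q ∈ (Q : Subgroup ↥A) → (q : H) ∈ (S : Subgroup H) := by
    intro q hq
    have hQ' : IsPGroup p ((Q : Subgroup ↥A).map A.subtype) := Q.2.map _
    obtain ⟨S', hS'⟩ := hQ'.exists_le_sylow
    have hU : Unique (Sylow p H) := Sylow.unique_of_normal S hSn
    have hSS : S' = S := Subsingleton.elim _ _
    rw [hSS] at hS'
    exact hS' ⟨q, hq, rfl⟩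
  have hQc : Subgroup.normalizer ((Q : Subgroup ↥A) : Set ↥A) ≤
      Subgroup.centralizer ((Q : Subgroup ↥A) : Set ↥A) := by
    intro a _
    rw [Subgroup.mem_centralizer_iff]
    intro q hq
    have h1 := (Subgroup.mem_centralizer_iff.mp a.2) (q : H) (hQS q hq)
    exact Subtype.ext h1
  let W₀ : Subgroup ↥A := (MonoidHom.transferSylow Q hQc).ker
  have hc : W₀.IsComplement' (Q : Subgroup ↥A) :=
    MonoidHom.ker_transferSylow_isComplement' Q hQc
  have hidx : (Q : Subgroup ↥A).index = Nat.card W₀ := hc.index_eq_card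
  have hW₀cop : (Nat.card W₀).Coprime p := by
    rw [Nat.coprime_comm, hp.coprime_iff_not_dvd, ← hidx]
    exact Q.not_dvd_index
  have hW₀reg : ∀ a : ↥A, a ∈ W₀ ↔ ¬ p ∣ orderOf a := by
    intro a
    constructor
    · intro ha hdvd
      have h1 : orderOf a ∣ Nat.card W₀ := by
        have h2 := orderOf_dvd_natCard (⟨a, ha⟩ : ↥W₀)
        rwa [Subgroup.orderOf_mk] at h2
      exact (hp.coprime_iff_not_dvd.mp hW₀cop.symm) (hdvd.trans h1)
    · intro ha
      have := Fintype.ofFinite ↥A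
      exact Cfsg.Agent.Lib.helper43.mem_of_isComplement'_of_regular Q W₀ hc ha
  refine ⟨W₀.map A.subtype, ?_, ?_, ?_⟩
  · constructor
    rintro _ ⟨w, hw, rfl⟩ h
    have hmem : h * (w : H) * h⁻¹ ∈ A := hAconj h _ w.2
    refine ⟨⟨h * (w : H) * h⁻¹, hmem⟩, ?_, rfl⟩
    rw [SetLike.mem_coe, hW₀reg]
    have h1 : orderOf (⟨h * (w : H) * h⁻¹, hmem⟩ : ↥A) = orderOf w := by
      rw [← Subgroup.orderOf_coe, ← Subgroup.orderOf_coe w]
      exact (MulAut.conj h).orderOf_eq (w : H)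
    rw [h1]
    exact (hW₀reg w).mp hw
  · have h1 : Nat.card (W₀.map A.subtype) = Nat.card W₀ :=
      Subgroup.card_map_of_injective (Subgroup.subtype_injective A)
    rw [h1]
    exact hW₀cop
  · intro c hc' hreg
    refine ⟨⟨c, hc'⟩, ?_, rfl⟩
    rw [SetLike.mem_coe, hW₀reg, ← Subgroup.orderOf_coe]
    exact hreg

end SepGen

section MainP

variable {G : Type u} [Group G]

/-- **Extension of the `p'`-degree characters of a Sylow normalizer that are trivial on the
`p`-regular elements of `C_G(P)` forces a normal `p`-complement in the normal closure of `P`.** -/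
theorem hasNormalPComplement_normalClosure_of_extend [Finite G] {p : ℕ} [Fact p.Prime]
    (P : Sylow p G)
    (hext : ∀ θ : IrrCharacter ↥(Subgroup.normalizer ((P : Subgroup G) : Set G)),
      ¬ p ∣ charDegree (θ : ↥(Subgroup.normalizer ((P : Subgroup G) : Set G)) → ℂ) →
      (∀ c : ↥(Subgroup.normalizer ((P : Subgroup G) : Set G)),
        (∀ u ∈ (P : Subgroup G), (c : G) * u = u * (c : G)) → ¬ p ∣ orderOf c →
        (θ : ↥(Subgroup.normalizer ((P : Subgroup G) : Set G)) → ℂ) c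
          = (θ : ↥(Subgroup.normalizer ((P : Subgroup G) : Set G)) → ℂ) 1) →
      ∃ χ : IrrCharacter G, ∀ x : ↥(Subgroup.normalizer ((P : Subgroup G) : Set G)),
        (χ : G → ℂ) x = (θ : ↥(Subgroup.normalizer ((P : Subgroup G) : Set G)) → ℂ) x) :
    HasNormalPComplement p ↥(Subgroup.normalClosure ((P : Subgroup G) : Set G)) := by
  classical
  have hp : p.Prime := Fact.out
  set N : Subgroup G := Subgroup.normalizer ((P : Subgroup G) : Set G) with hN
  have hPN : (P : Subgroup G) ≤ N := Subgroup.le_normalizer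
  let PS : Sylow p ↥N := P.subtype hPN
  set PN : Subgroup ↥N := (P : Subgroup G).subgroupOf N with hPNdef
  have hPSeq : (PS : Subgroup ↥N) = PN := rfl
  have hPNn : PN.Normal := Subgroup.normal_in_normalizer
  have hPNp : IsPGroup p PN := PS.2
  have hPNidx : ¬ p ∣ PN.index := fun h =>
    P.not_dvd_index (h.trans (Subgroup.relIndex_dvd_index_of_le hPN))
  have hmapPN : PN.map N.subtype = (P : Subgroup G) := by
    rw [hPNdef, Subgroup.subgroupOf_map_subtype, inf_of_le_left hPN]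
  have hcomm : ∀ u : ↥N, u ∈ ⁅PN, PN⁆ ↔
      (u : G) ∈ ⁅(P : Subgroup G), (P : Subgroup G)⁆ := by
    intro u
    have h1 : (⁅PN, PN⁆).map N.subtype = ⁅(P : Subgroup G), (P : Subgroup G)⁆ := by
      rw [Subgroup.map_commutator, hmapPN]
    rw [← h1]
    exact (Subgroup.mem_map_iff_mem (Subgroup.subtype_injective N)).symm
  -- the centralizer of `P` in `N` and its `p`-regular part
  set Cn : Subgroup ↥N := Subgroup.centralizer ((PS : Subgroup ↥N) : Set ↥N) with hCn
  have hcent : ∀ c : ↥N, (∀ u ∈ (P : Subgroup G), (c : G) * u = u * (c : G)) → c ∈ Cn := by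
    intro c hc
    rw [hCn, Subgroup.mem_centralizer_iff]
    intro s hs
    have hs' : (s : G) ∈ (P : Subgroup G) := Subgroup.mem_subgroupOf.mp hs
    exact Subtype.ext (hc (s : G) hs').symm
  have hcent' : ∀ c : ↥N, c ∈ Cn → ∀ u ∈ (P : Subgroup G), (c : G) * u = u * (c : G) := by
    intro c hc u hu
    rw [hCn, Subgroup.mem_centralizer_iff] at hc
    have h1 := hc ⟨u, hPN hu⟩ (Subgroup.mem_subgroupOf.mpr hu)
    exact (congrArg Subtype.val h1).symm
  obtain ⟨W, hWn, hWcop, hWmem⟩ := exists_pprime_centralizer PS (hPSeq ▸ hPNn)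
  have hcommN : (⁅PN, PN⁆ : Subgroup ↥N).Normal := Subgroup.commutator_normal PN PN
  set U : Subgroup ↥N := ⁅PN, PN⁆ ⊔ W with hU
  have hUn : U.Normal := Subgroup.sup_normal _ _
  -- the centralizer of `PN` is normal in `N`
  have hCnconj : ∀ (h a : ↥N), a ∈ Cn → h * a * h⁻¹ ∈ Cn := by
    intro h a ha
    rw [hCn, Subgroup.mem_centralizer_iff] at ha ⊢
    intro s hs
    have hs' : h⁻¹ * s * h ∈ PN := by
      have := hPNn.conj_mem s hs h⁻¹
      rwa [inv_inv] at this
    have h1 := ha _ hs'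
    calc s * (h * a * h⁻¹) = h * ((h⁻¹ * s * h) * a) * h⁻¹ := by group
      _ = h * (a * (h⁻¹ * s * h)) * h⁻¹ := by rw [h1]
      _ = h * a * h⁻¹ * s := by group
  have hCnn : Cn.Normal := ⟨fun a ha h => hCnconj h a ha⟩
  set Sn : Subgroup ↥N := PN ⊔ Cn with hSn
  have hSnn : Sn.Normal := Subgroup.sup_normal _ _
  have hSnidx : ¬ p ∣ Sn.index := fun h =>
    hPNidx (h.trans (Subgroup.index_dvd_of_le le_sup_left))
  -- the characters restricting irreducibly to `N`, trivially on `P'` and on the `p`-regular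
  -- elements of `C_G(P)`, and their common kernel
  let S : Set (IrrCharacter G) := {χ |
    (∀ y ∈ ⁅(P : Subgroup G), (P : Subgroup G)⁆, (χ : G → ℂ) y = (χ : G → ℂ) 1) ∧
      IsIrrCharacter ↥N (fun n : ↥N => (χ : G → ℂ) n) ∧
      ∀ c : ↥N, (∀ u ∈ (P : Subgroup G), (c : G) * u = u * (c : G)) → ¬ p ∣ orderOf c →
        (χ : G → ℂ) c = (χ : G → ℂ) 1}
  let K : Subgroup G := ⨅ χ : S,
    charKer ((χ : IrrCharacter G) : G → ℂ) (irr_isCharacter (χ : IrrCharacter G))
  have hKn : K.Normal := Subgroup.normal_iInf_normal (fun χ => inferInstance)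
  have hK_mem : ∀ g : G, g ∈ K ↔ ∀ χ ∈ S, (χ : G → ℂ) g = (χ : G → ℂ) 1 := by
    intro g
    simp only [K, Subgroup.mem_iInf, mem_charKer, Subtype.forall]
  have hS_of_ext : ∀ (θ : IrrCharacter ↥N) (χ : IrrCharacter G),
      (∀ x : ↥N, (χ : G → ℂ) x = (θ : ↥N → ℂ) x) →
      (∀ u ∈ ⁅PN, PN⁆, (θ : ↥N → ℂ) u = (θ : ↥N → ℂ) 1) →
      (∀ c : ↥N, (∀ u ∈ (P : Subgroup G), (c : G) * u = u * (c : G)) → ¬ p ∣ orderOf c →
        (θ : ↥N → ℂ) c = (θ : ↥N → ℂ) 1) → χ ∈ S := by
    intro θ χ hχ hθ hθ2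
    refine ⟨?_, ?_, ?_⟩
    · intro y hy
      have hyP : y ∈ (P : Subgroup G) := Subgroup.commutator_le_self _ hy
      have hyN : y ∈ N := hPN hyP
      have h1 := hχ ⟨y, hyN⟩
      have h2 := hχ 1
      rw [show ((⟨y, hyN⟩ : ↥N) : G) = y from rfl] at h1
      rw [h1, show (χ : G → ℂ) 1 = (χ : G → ℂ) ((1 : ↥N) : G) from rfl, h2]
      exact hθ _ ((hcomm _).mpr hy)
    · have h3 : (fun n : ↥N => (χ : G → ℂ) n) = (θ : ↥N → ℂ) := funext hχ
      rw [h3]; exact θ.2
    · intro c hc hreg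
      have h1 := hχ c
      have h2 := hχ 1
      rw [h1, show (χ : G → ℂ) 1 = (χ : G → ℂ) ((1 : ↥N) : G) from rfl, h2]
      exact hθ2 c hc hreg
  have hK1 : ⁅(P : Subgroup G), (P : Subgroup G)⁆ ≤ K := by
    intro y hy
    rw [hK_mem]
    intro χ hχ
    exact hχ.1 y hy
  have hK2 : K ⊓ (P : Subgroup G) ≤ ⁅(P : Subgroup G), (P : Subgroup G)⁆ := by
    rintro x ⟨hxK, hxP⟩
    by_contra hx
    have hxN : x ∈ N := hPN hxP
    have hx' : (⟨x, hxN⟩ : ↥N) ∉ U := by
      intro hxU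
      obtain ⟨y, hy, w, hw, hyw⟩ := Subgroup.mem_sup_of_normal_right.mp hxU
      have hyP : y ∈ PN := Subgroup.commutator_le_self PN hy
      have hwP : w ∈ PN := by
        have h1 : w = y⁻¹ * ⟨x, hxN⟩ := by rw [← hyw]; group
        rw [h1]
        exact PN.mul_mem (PN.inv_mem hyP) (Subgroup.mem_subgroupOf.mpr hxP)
      have h1 : orderOf w ∣ Nat.card W := by
        have h2 := orderOf_dvd_natCard (⟨w, hw⟩ : ↥W)
        rwa [Subgroup.orderOf_mk] at h2
      obtain ⟨j, hj⟩ := (IsPGroup.iff_orderOf.mp hPNp) ⟨w, hwP⟩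
      rw [Subgroup.orderOf_mk] at hj
      have hw1 : w = 1 := by
        cases j with
        | zero => rw [pow_zero] at hj; exact orderOf_eq_one_iff.mp hj
        | succ j =>
          exact absurd ((hj ▸ dvd_pow_self p (Nat.succ_ne_zero j)).trans h1)
            (hp.coprime_iff_not_dvd.mp hWcop.symm)
      rw [hw1, mul_one] at hyw
      have h5 := (hcomm y).mp hy
      rw [hyw] at h5
      exact hx h5
    obtain ⟨θ, hdeg, htriv, hne⟩ := exists_irr_ne_of_commutator_le PN hPNidx U le_sup_left hx'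
    have hA : ∀ c : ↥N, (∀ u ∈ (P : Subgroup G), (c : G) * u = u * (c : G)) → ¬ p ∣ orderOf c →
        (θ : ↥N → ℂ) c = (θ : ↥N → ℂ) 1 := fun c hc hreg =>
      htriv c (Subgroup.mem_sup_right (hWmem c (hcent c hc) hreg))
    obtain ⟨χ, hχ⟩ := hext θ hdeg hA
    have hχS : χ ∈ S := hS_of_ext θ χ hχ (fun u hu => htriv u (Subgroup.mem_sup_left hu)) hA
    have h1 := (hK_mem x).mp hxK χ hχS
    apply hne
    rw [← hχ ⟨x, hxN⟩, ← hχ 1]
    exact h1
  set R : Subgroup G := Subgroup.normalClosure ((P : Subgroup G) : Set G) with hRdef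
  have hPR : (P : Subgroup G) ≤ R := Subgroup.le_normalClosure
  have hK3 : ∀ x : G, x ∈ N → x ∈ R ⊔ K → ∃ u ∈ (P : Subgroup G), ∃ a : G,
      (∀ v ∈ (P : Subgroup G), a * v = v * a) ∧ x = u * a := by
    intro x hxN hxRK
    by_contra hx
    have hx' : (⟨x, hxN⟩ : ↥N) ∉ Sn := by
      intro h
      obtain ⟨u, hu, a, ha, hua⟩ := Subgroup.mem_sup_of_normal_left.mp h
      apply hx
      refine ⟨(u : G), Subgroup.mem_subgroupOf.mp hu, (a : G), hcent' a ha, ?_⟩
      exact (congrArg Subtype.val hua).symm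
    obtain ⟨θ, hdeg, htriv, hne⟩ := Cfsg.Agent.Lib.helper43.exists_irr_normal_ne Sn hSnidx hx'
    have hA : ∀ c : ↥N, (∀ u ∈ (P : Subgroup G), (c : G) * u = u * (c : G)) → ¬ p ∣ orderOf c →
        (θ : ↥N → ℂ) c = (θ : ↥N → ℂ) 1 := fun c hc _ =>
      htriv c (Subgroup.mem_sup_right (hcent c hc))
    obtain ⟨χ, hχ⟩ := hext θ hdeg hA
    have hχS : χ ∈ S := hS_of_ext θ χ hχ
      (fun u hu => htriv u (Subgroup.mem_sup_left (Subgroup.commutator_le_self PN hu))) hA
    have hPker : (P : Subgroup G) ≤ charKer (χ : G → ℂ) (irr_isCharacter χ) := by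
      intro u hu
      rw [mem_charKer]
      have h1 := hχ ⟨u, hPN hu⟩
      have h2 := hχ 1
      rw [show ((⟨u, hPN hu⟩ : ↥N) : G) = u from rfl] at h1
      rw [h1, show (χ : G → ℂ) 1 = (χ : G → ℂ) ((1 : ↥N) : G) from rfl, h2]
      exact htriv _ (Subgroup.mem_sup_left (Subgroup.mem_subgroupOf.mpr hu))
    have hRker : R ≤ charKer (χ : G → ℂ) (irr_isCharacter χ) :=
      Subgroup.normalClosure_le_normal hPker
    have hKker : K ≤ charKer (χ : G → ℂ) (irr_isCharacter χ) := by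
      intro g hg
      rw [mem_charKer]
      exact (hK_mem g).mp hg χ hχS
    have hxker : x ∈ charKer (χ : G → ℂ) (irr_isCharacter χ) := (sup_le hRker hKker) hxRK
    rw [mem_charKer] at hxker
    apply hne
    rw [← hχ ⟨x, hxN⟩, ← hχ 1]
    exact hxker
  -- the quotient by `K`
  let mk : G →* G ⧸ K := QuotientGroup.mk' K
  have hmk : Function.Surjective mk := QuotientGroup.mk'_surjective K
  let Pb : Sylow p (G ⧸ K) := P.mapSurjective hmk
  have hPbmem : ∀ a : G ⧸ K, a ∈ (Pb : Subgroup (G ⧸ K)) ↔ ∃ u ∈ (P : Subgroup G), mk u = a :=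
    fun a => Iff.rfl
  set Rb : Subgroup (G ⧸ K) := R.map mk with hRb
  have hPbRb : (Pb : Subgroup (G ⧸ K)) ≤ Rb := by
    intro a ha
    obtain ⟨u, hu, rfl⟩ := (hPbmem a).mp ha
    exact Subgroup.mem_map_of_mem mk (hPR hu)
  let Pb' : Sylow p ↥Rb := Pb.subtype hPbRb
  have hmemPb' : ∀ w : ↥Rb, w ∈ (Pb' : Subgroup ↥Rb) ↔
      ∃ u ∈ (P : Subgroup G), mk u = (w : G ⧸ K) := fun w => Iff.rfl
  have hPbcomm : ∀ a b : G ⧸ K, a ∈ (Pb : Subgroup (G ⧸ K)) → b ∈ (Pb : Subgroup (G ⧸ K)) →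
      a * b = b * a := by
    intro a b ha hb
    obtain ⟨u, hu, rfl⟩ := (hPbmem a).mp ha
    obtain ⟨v, hv, rfl⟩ := (hPbmem b).mp hb
    rw [← map_mul, ← map_mul]
    show ((u * v : G) : G ⧸ K) = ((v * u : G) : G ⧸ K)
    rw [QuotientGroup.eq]
    have h1 : (u * v)⁻¹ * (v * u) = ⁅v⁻¹, u⁻¹⁆ := by
      rw [commutatorElement_def]; group
    rw [h1]
    exact hK1 (Subgroup.commutator_mem_commutator (Subgroup.inv_mem _ hv)
      (Subgroup.inv_mem _ hu))
  have hNC : Subgroup.normalizer ((Pb' : Subgroup ↥Rb) : Set ↥Rb) ≤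
      Subgroup.centralizer ((Pb' : Subgroup ↥Rb) : Set ↥Rb) := by
    intro z hz
    obtain ⟨r, hrR, hrz⟩ : ∃ r ∈ R, mk r = (z : G ⧸ K) := z.2
    have hconj : ∀ u ∈ (P : Subgroup G), r * u * r⁻¹ ∈ (P : Subgroup G) ⊔ K := by
      intro u hu
      have hw : (⟨mk u, Subgroup.mem_map_of_mem mk (hPR hu)⟩ : ↥Rb) ∈
          (Pb' : Subgroup ↥Rb) := (hmemPb' _).mpr ⟨u, hu, rfl⟩
      have h1 := (Subgroup.mem_normalizer_iff.mp hz _).mp hw
      obtain ⟨v, hv, hvz⟩ := (hmemPb' _).mp h1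
      have h2 : mk v = mk (r * u * r⁻¹) := by
        rw [hvz, map_mul, map_mul, map_inv, hrz]; rfl
      have h3 : v⁻¹ * (r * u * r⁻¹) ∈ K := QuotientGroup.eq.mp h2
      have h4 : r * u * r⁻¹ = v * (v⁻¹ * (r * u * r⁻¹)) := by group
      rw [h4]
      exact Subgroup.mul_mem_sup hv h3
    obtain ⟨m, hm, hmP⟩ := Cfsg.Agent.Lib.helper26.exists_conj_le_sylow_of_le P
      ((P : Subgroup G) ⊔ K) le_sup_left
      ((P : Subgroup G).map (MulAut.conj r).toMonoidHom) (by
        rintro _ ⟨u, hu, rfl⟩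
        exact hconj u hu) (P.2.map _)
    have hmrN : m * r ∈ N := by
      apply Cfsg.Agent.Lib.helper13.mem_normalizer_of_forall_conj_mem
      intro u hu
      have h1 := hmP (r * u * r⁻¹) ⟨u, hu, rfl⟩
      have h2 : m * r * u * (m * r)⁻¹ = m * (r * u * r⁻¹) * m⁻¹ := by group
      rw [h2]; exact h1
    have hmRK : m ∈ R ⊔ K := (sup_le_sup_right hPR K) hm
    obtain ⟨u₀, hu₀, a₀, ha₀, hmr⟩ := hK3 (m * r) hmrN
      (Subgroup.mul_mem _ hmRK (Subgroup.mem_sup_left hrR))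
    have hmkm : mk m ∈ (Pb : Subgroup (G ⧸ K)) := by
      obtain ⟨a, ha, k, hk, rfl⟩ := Subgroup.mem_sup_of_normal_right.mp hm
      have h5 : mk (a * k) = mk a := by
        rw [map_mul, show mk k = 1 from (QuotientGroup.eq_one_iff k).mpr hk, mul_one]
      rw [h5]
      exact (hPbmem _).mpr ⟨a, ha, rfl⟩
    have h6 : (z : G ⧸ K) = (mk m)⁻¹ * (mk u₀ * mk a₀) := by
      rw [← map_mul, ← hmr, map_mul, inv_mul_cancel_left, hrz]
    rw [Subgroup.mem_centralizer_iff]
    intro w hw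
    obtain ⟨v, hv, hvw⟩ := (hmemPb' w).mp hw
    have hwP : (w : G ⧸ K) ∈ (Pb : Subgroup (G ⧸ K)) := (hPbmem _).mpr ⟨v, hv, hvw⟩
    have c1 : Commute (w : G ⧸ K) (mk m)⁻¹ := hPbcomm _ _ hwP (Subgroup.inv_mem _ hmkm)
    have c2 : Commute (w : G ⧸ K) (mk u₀) := hPbcomm _ _ hwP ((hPbmem _).mpr ⟨u₀, hu₀, rfl⟩)
    have c3 : Commute (w : G ⧸ K) (mk a₀) := by
      show (w : G ⧸ K) * mk a₀ = mk a₀ * (w : G ⧸ K)
      rw [← hvw, ← map_mul, ← map_mul, ha₀ v hv]
    apply Subtype.ext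
    show (w : G ⧸ K) * (z : G ⧸ K) = (z : G ⧸ K) * (w : G ⧸ K)
    rw [h6]
    exact (c1.mul_right (c2.mul_right c3)).eq
  let F : ↥Rb →* ↥(Pb' : Subgroup ↥Rb) := MonoidHom.transferSylow Pb' hNC
  let f : ↥R →* ↥Rb := mk.subgroupMap R
  have hstep3 : ∀ y : ↥R, y ∈ commutator ↥R → (y : G) ∈ (P : Subgroup G) → (y : G) ∈ K := by
    intro y hyc hyP
    have hker : commutator ↥R ≤ (F.comp f).ker := by
      rw [commutator_def, Subgroup.commutator_le]
      intro a _ b _
      rw [MonoidHom.mem_ker, map_commutatorElement, commutatorElement_eq_one_iff_mul_comm]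
      have hb := hNC (Subgroup.le_normalizer ((F.comp f) b).2)
      rw [Subgroup.mem_centralizer_iff] at hb
      exact Subtype.ext (hb _ ((F.comp f) a).2)
    have h1 : F (f y) = 1 := MonoidHom.mem_ker.mp (hker hyc)
    have h2 : f y ∈ (Pb' : Subgroup ↥Rb) := (hmemPb' _).mpr ⟨(y : G), hyP, rfl⟩
    have h3 : f y = 1 := by
      have hd := MonoidHom.ker_transferSylow_disjoint Pb' hNC (Pb' : Subgroup ↥Rb) Pb'.2
      exact Subgroup.disjoint_def.mp hd (MonoidHom.mem_ker.mpr h1) h2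
    have h4 : mk (y : G) = 1 := congrArg Subtype.val h3
    exact (QuotientGroup.eq_one_iff (y : G)).mp h4
  -- Tate's theorem on the normal closure `R` of `P`
  let PR : Sylow p ↥R := P.subtype hPR
  have hmemPR : ∀ y : ↥R, y ∈ (PR : Subgroup ↥R) ↔ (y : G) ∈ (P : Subgroup G) :=
    fun y => Iff.rfl
  have hPRmap : (PR : Subgroup ↥R).map R.subtype = (P : Subgroup G) := by
    rw [Sylow.coe_subtype, Subgroup.subgroupOf_map_subtype, inf_of_le_left hPR]
  apply Cfsg.Agent.Lib.helper67.tate_commutator PR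
  rintro y ⟨hyP, hyc⟩
  have hyP' : (y : G) ∈ (P : Subgroup G) := (hmemPR y).mp hyP
  have hyK : (y : G) ∈ K := hstep3 y hyc hyP'
  have hyD : (y : G) ∈ ⁅(P : Subgroup G), (P : Subgroup G)⁆ := hK2 ⟨hyK, hyP'⟩
  have hyc' : (⟨y, hyP⟩ : ↥(PR : Subgroup ↥R)) ∈ commutator ↥(PR : Subgroup ↥R) := by
    apply Cfsg.Agent.Lib.helper43.mem_commutator_of_coe_mem R (PR : Subgroup ↥R)
    rw [hPRmap]; exact hyD
  exact ⟨⟨y, hyP⟩, Cfsg.Agent.Lib.helper3.commutator_le_frattini PR.2 hyc', rfl⟩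

/-- If the normal closure of a Sylow `p`-subgroup has a normal `p`-complement, the group has
`p`-length at most one. -/
theorem pLengthLE_one_of_normalClosure [Finite G] {p : ℕ} [Fact p.Prime] (P : Sylow p G)
    (h : HasNormalPComplement p ↥(Subgroup.normalClosure ((P : Subgroup G) : Set G))) :
    PLengthLE p 1 G := by
  have hp : p.Prime := Fact.out
  set R : Subgroup G := Subgroup.normalClosure ((P : Subgroup G) : Set G) with hRdef
  have hRn : R.Normal := Subgroup.normalClosure_normal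
  have hPR : (P : Subgroup G) ≤ R := Subgroup.le_normalClosure
  obtain ⟨P₁, K₀, hK₀n, hc⟩ := h
  have hidx : (P₁ : Subgroup ↥R).index = Nat.card K₀ := hc.index_eq_card
  have h0 : PLengthLE p 0 ↥K₀ := by
    apply Cfsg.Agent.Lib.helper66.PLengthLE.zero_of_coprime
    rw [Nat.coprime_comm, hp.coprime_iff_not_dvd, ← hidx]
    exact P₁.not_dvd_index
  have h1 : PLengthLE p 1 (↥R ⧸ K₀) := by
    obtain ⟨m, hm⟩ := P₁.2.exists_card_eq
    apply Cfsg.Agent.Lib.helper66.PLengthLE.one_of_card_eq_pow (m := m)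
    rw [← Subgroup.index_eq_card, ← hm]
    have e1 := hc.card_mul_card
    have e2 := Subgroup.card_mul_index K₀
    exact Nat.eq_of_mul_eq_mul_left Nat.card_pos (e2.trans e1.symm)
  have hR1 : PLengthLE p 1 ↥R :=
    Cfsg.Agent.Lib.helper66.PLengthLE.of_normal_of_quotient K₀ h0 h1
  have hQ : PLengthLE p 0 (G ⧸ R) := by
    apply Cfsg.Agent.Lib.helper66.PLengthLE.zero_of_coprime
    rw [← Subgroup.index_eq_card, Nat.coprime_comm, hp.coprime_iff_not_dvd]
    intro hd
    exact P.not_dvd_index (hd.trans (Subgroup.index_dvd_of_le hPR))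
  exact Cfsg.Agent.Lib.helper66.PLengthLE.of_normal_of_quotient R hR1 hQ

end MainP

end Cfsg.Agent.Lib.helper78
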