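import Mathlib
import Cfsg.Prelude.Def_Characters
import Cfsg.Prelude.Def_CharExt
import Cfsg.Prelude.Def_Blocks
import Cfsg.Prelude.Def_Transfer
import Cfsg.Agent.Lib.helper19.CanonExt
import Cfsg.Agent.Lib.helper19.Gallagher
import Cfsg.Agent.Lib.helper19.AbelianOver
import Cfsg.Agent.Lib.helper19.CoprimeOver
import Cfsg.Agent.Lib.helper84.ThirdMain
import Cfsg.Agent.Lib.helper82.Clifford
import Cfsg.Agent.Lib.helper82.Ito
import Cfsg.Agent.Lib.helper79.GaloisSum
import Cfsg.Agent.Lib.helper26.PResidual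
import Cfsg.Agent.Lib.helper40.PResidual
import Cfsg.Agent.Lib.helper81.CharOrtho
import Cfsg.Agent.Lib.helper4.CharTheory

/-!
# Characters of `p'`-degree over `O^p(G)` (helper78 library)

* `orderOf_hom_pResidual_coprime` : linear characters of `O^p(G)` have order prime to `p`.
* `mem_principalBlock_iff_of_extension_pReg` : if all `p`-regular elements of `G` lie in `N` and
  `χ ∈ Irr(G)` extends `θ ∈ Irr(N)`, then `χ ∈ B₀(G) ↔ θ ∈ B₀(N)`.
* `isIrr_restrict_of_pPrime_degree` : restriction of a `p'`-degree irreducible character to a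
  normal subgroup of `p`-power index with abelian quotient and no linear characters of order
  divisible by `p` is irreducible.
* `exists_canon_ext`, `canon_ext_pow_fixed` : the canonical extension and its Galois invariance.
* `card_pow_fixed_principal_pResidual` : the count of Galois-fixed `p'`-degree characters in the
  principal block when `G / O^p(G)` is cyclic.
-/

set_option autoImplicit false

namespace Cfsg.Agent.Lib.helper78

open Cfsg
open scoped ComplexConjugate

universe u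

/-- Every homomorphism from `O^p(G)` to `ℂˣ` has order prime to `p`. -/
theorem orderOf_hom_pResidual_coprime {G : Type u} [Group G] [Finite G] (p : ℕ)
    [hp : Fact p.Prime] (f : ↥(Cfsg.pResidual p G) →* ℂˣ) : (orderOf f).Coprime p := by
  classical
  set m := ordCompl[p] (Nat.card G) with hm
  have hcard : p ^ (Nat.card G).factorization p * m = Nat.card G :=
    Nat.ordProj_mul_ordCompl_eq_self (Nat.card G) p
  have hmcop : m.Coprime p := (Nat.coprime_ordCompl hp.out (Nat.card_pos.ne')).symm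
  have key : ∀ (x : G) (hx : x ∈ Subgroup.closure {g : G | Nat.Coprime (orderOf g) p}),
      f ⟨x, hx⟩ ^ m = 1 := by
    intro x hx
    induction hx using Subgroup.closure_induction with
    | mem x hx =>
      have h1 : orderOf x ∣ m := by
        have h2 : orderOf x ∣ p ^ (Nat.card G).factorization p * m := by
          rw [hcard]; exact orderOf_dvd_natCard x
        exact (Nat.Coprime.pow_right _ hx).dvd_of_dvd_mul_left h2
      have h3 : x ^ m = 1 := orderOf_dvd_iff_pow_eq_one.mp h1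
      rw [← map_pow]
      have h4 : (⟨x, Subgroup.subset_closure hx⟩ : ↥(Cfsg.pResidual p G)) ^ m = 1 :=
        Subtype.ext (by simpa using h3)
      rw [h4, map_one]
    | one =>
      have h4 : (⟨1, Subgroup.one_mem _⟩ : ↥(Cfsg.pResidual p G)) = 1 := rfl
      rw [h4, map_one, one_pow]
    | mul x y hx hy ihx ihy =>
      have h4 : (⟨x * y, Subgroup.mul_mem _ hx hy⟩ : ↥(Cfsg.pResidual p G)) =
          (⟨x, hx⟩ : ↥(Cfsg.pResidual p G)) * ⟨y, hy⟩ := rfl
      rw [h4, map_mul, mul_pow, ihx, ihy, one_mul]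
    | inv x hx ih =>
      have h4 : (⟨x⁻¹, Subgroup.inv_mem _ hx⟩ : ↥(Cfsg.pResidual p G)) =
          (⟨x, hx⟩ : ↥(Cfsg.pResidual p G))⁻¹ := rfl
      rw [h4, map_inv, inv_pow, ih, inv_one]
  have hfm : f ^ m = 1 := by
    apply MonoidHom.ext
    intro n
    rw [MonoidHom.pow_apply, MonoidHom.one_apply]
    exact key n.1 n.2
  exact Nat.Coprime.coprime_dvd_left (orderOf_dvd_of_pow_eq_one hfm) hmcop

open Classical in
/-- If every `p`-regular element of `G` lies in the subgroup `N` and `χ ∈ Irr(G)` extends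
`θ ∈ Irr(N)`, then `χ` lies in the principal block of `G` iff `θ` lies in that of `N`. -/
theorem mem_principalBlock_iff_of_extension_pReg {G : Type u} [Group G] [Fintype G] {p : ℕ}
    [Fact p.Prime] {M : Ideal AlgInt} (hM : IsPModular p M) (N : Subgroup G) [Fintype N]
    (hreg : ∀ g : G, ¬ p ∣ orderOf g → g ∈ N) (χ : IrrCharacter G) (θ : IrrCharacter N)
    (hext : ∀ n : N, (χ : G → ℂ) n = (θ : N → ℂ) n) :
    χ ∈ principalBlock M G ↔ θ ∈ principalBlock M N := by
  rw [helper84.mem_principalBlock_iff_pRegSum hM χ, helper84.mem_principalBlock_iff_pRegSum hM θ]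
  have h1 : (χ : G → ℂ) 1 = (θ : N → ℂ) 1 := by
    have := hext 1
    simpa using this
  have h2 : ∑ x : G, (if ¬ p ∣ orderOf x then (χ : G → ℂ) x else 0) =
      ∑ n : N, (if ¬ p ∣ orderOf n then (θ : N → ℂ) n else 0) := by
    have h3 : ∑ n : N, (if ¬ p ∣ orderOf n then (θ : N → ℂ) n else 0) =
        ∑ n : N, (fun x : G => if ¬ p ∣ orderOf x then (χ : G → ℂ) x else 0) (n : G) := by
      refine Finset.sum_congr rfl fun n _ => ?_
      simp only [Subgroup.orderOf_coe, hext]
    rw [h3, ← Finset.sum_subtype (Finset.univ.filter (fun x : G => x ∈ N)) (by simp)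
      (fun x : G => if ¬ p ∣ orderOf x then (χ : G → ℂ) x else 0), Finset.sum_filter]
    refine Finset.sum_congr rfl fun x _ => ?_
    by_cases hx : x ∈ N
    · simp [hx]
    · have hdvd : p ∣ orderOf x := by
        by_contra h
        exact hx (hreg x h)
      simp [hx, hdvd]
  rw [h1, h2]

/-- Restriction of a `p'`-degree irreducible character to a normal subgroup of `p`-power index
with abelian quotient, all of whose linear characters have order prime to `p`, is irreducible. -/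
theorem isIrr_restrict_of_pPrime_degree {G : Type u} [Group G] [Fintype G] (p : ℕ)
    [hp : Fact p.Prime] (N : Subgroup G) [hN : N.Normal] [Fintype N] (a : ℕ)
    (hidx : N.index = p ^ a) (hab : ∀ x y : G, x * y * x⁻¹ * y⁻¹ ∈ N)
    (hlin : ∀ f : N →* ℂˣ, (orderOf f).Coprime p)
    (χ : IrrCharacter G) (hdeg : ¬ p ∣ charDegree (χ : G → ℂ)) :
    IsIrrCharacter N (fun n : N => (χ : G → ℂ) n) := by
  classical
  have : Fintype (IrrCharacter N) := Fintype.ofFinite _
  obtain ⟨θ, hθ, e, he, he0⟩ := helper82.exists_constituent_restrict N χ.2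
  have hdegree := helper82.clifford_degree N χ.2 hθ e he he0
  have hχ1 := helper81.irr_one_eq_charDegree χ
  have hθ1 : θ 1 = (charDegree θ : ℂ) := helper81.irr_one_eq_charDegree (⟨θ, hθ⟩ : IrrCharacter N)
  have hnat : charDegree (χ : G → ℂ) = e * (helper82.inertia N θ).index * charDegree θ := by
    have h1 : ((charDegree (χ : G → ℂ) : ℕ) : ℂ) =
        ((e * (helper82.inertia N θ).index * charDegree θ : ℕ) : ℂ) := by
      push_cast
      rw [← hχ1, ← hθ1]
      exact hdegree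
    exact_mod_cast h1
  have hle : N ≤ helper82.inertia N θ :=
    helper82.le_inertia N (helper4.isClassFunction_of_isIrrCharacter hθ)
  have hdvd : (helper82.inertia N θ).index ∣ p ^ a := hidx ▸ Subgroup.index_dvd_of_le hle
  obtain ⟨b, -, hbe⟩ := (Nat.dvd_prime_pow hp.out).1 hdvd
  have hb0 : b = 0 := by
    by_contra hne
    apply hdeg
    rw [hnat, hbe]
    exact Dvd.dvd.mul_right (Dvd.dvd.mul_left (dvd_pow_self p hne) e) _
  have htop : helper82.inertia N θ = ⊤ := by
    rw [← Subgroup.index_eq_one, hbe, hb0, pow_zero]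
  have hinv : ∀ (g : G) (n : N), θ ⟨g * n * g⁻¹, hN.conj_mem (n : G) n.2 g⟩ = θ n := by
    intro g
    exact (helper82.mem_inertia_iff N θ g).1 (htop ▸ Subgroup.mem_top g)
  have hdθ : ¬ p ∣ charDegree θ := fun h => hdeg (hnat ▸ Dvd.dvd.mul_left h _)
  obtain ⟨fdet, hfdet⟩ := helper19.exists_detChar_hom (helper19.isCharacter_of_isIrr hθ)
  have hord : detOrder θ = orderOf fdet := helper19.detOrder_eq_orderOf fdet hfdet
  have hcop : Nat.Coprime N.index (detOrder θ * charDegree θ) := by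
    rw [hidx, hord]
    apply Nat.Coprime.pow_left
    exact Nat.Coprime.mul_right (hlin fdet).symm ((Nat.Prime.coprime_iff_not_dvd hp.out).2 hdθ)
  obtain ⟨χh, ⟨hχh, hχhN, -⟩, -⟩ :=
    helper19.exists_canonical_extension N θ hθ hinv (charDegree θ) hθ1 hcop
  have hres : (fun n : N => χh n) = θ := funext hχhN
  have hχhN' : IsIrrCharacter N (fun n : N => χh n) := by rw [hres]; exact hθ
  have hne : classInner (fun n : N => (χ : G → ℂ) n) (fun n : N => χh n) ≠ 0 := by
    rw [hres, he]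
    exact_mod_cast he0
  obtain ⟨β, hβ, hβN, hχβ⟩ := helper19.gallagher N χh hχh hχhN' (χ : G → ℂ) χ.2 hne
  have hβ1 : β 1 = 1 := helper19.linear_of_abelian_quot N hab β hβ hβN
  have hfin : (fun n : N => (χ : G → ℂ) n) = θ := by
    funext n
    rw [hχβ, Pi.mul_apply, hχhN n, hβN n n.2, hβ1, mul_one]
  rw [hfin]
  exact hθ

/-- The canonical extension of an invariant `p'`-degree irreducible character of a normal subgroup
of `p`-power index all of whose linear characters have order prime to `p`. -/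
theorem exists_canon_ext {G : Type u} [Group G] [Fintype G] (p : ℕ) [hp : Fact p.Prime]
    (N : Subgroup G) [hN : N.Normal] [Fintype N] (a : ℕ) (hidx : N.index = p ^ a)
    (hlin : ∀ f : N →* ℂˣ, (orderOf f).Coprime p)
    (θ : IrrCharacter N) (hdeg : ¬ p ∣ charDegree (θ : N → ℂ))
    (hinv : ∀ (g : G) (n : N),
      (θ : N → ℂ) ⟨g * n * g⁻¹, hN.conj_mem (n : G) n.2 g⟩ = (θ : N → ℂ) n) :
    ∃ χh : IrrCharacter G, (∀ n : N, (χh : G → ℂ) n = (θ : N → ℂ) n) ∧
      Nat.Coprime N.index (detOrder (χh : G → ℂ)) ∧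
      ∀ χ' : IrrCharacter G, (∀ n : N, (χ' : G → ℂ) n = (θ : N → ℂ) n) →
        Nat.Coprime N.index (detOrder (χ' : G → ℂ)) → χ' = χh := by
  have hθ1 : (θ : N → ℂ) 1 = (charDegree (θ : N → ℂ) : ℂ) := helper81.irr_one_eq_charDegree θ
  obtain ⟨fdet, hfdet⟩ := helper19.exists_detChar_hom (helper19.isCharacter_of_isIrr θ.2)
  have hord : detOrder (θ : N → ℂ) = orderOf fdet := helper19.detOrder_eq_orderOf fdet hfdet
  have hcop : Nat.Coprime N.index (detOrder (θ : N → ℂ) * charDegree (θ : N → ℂ)) := by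
    rw [hidx, hord]
    apply Nat.Coprime.pow_left
    exact Nat.Coprime.mul_right (hlin fdet).symm ((Nat.Prime.coprime_iff_not_dvd hp.out).2 hdeg)
  obtain ⟨χh, ⟨hχh, hχhN, hdo⟩, huniq⟩ :=
    helper19.exists_canonical_extension N (θ : N → ℂ) θ.2 hinv (charDegree (θ : N → ℂ)) hθ1 hcop
  refine ⟨⟨χh, hχh⟩, hχhN, ?_, ?_⟩
  · show Nat.Coprime N.index (detOrder χh)
    rw [hdo, hord, hidx]
    exact Nat.Coprime.pow_left _ (hlin fdet).symm
  · intro χ' h1 h2
    exact Subtype.ext (huniq (χ' : G → ℂ) χ'.2 h1 h2)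

/-- The canonical extension of a character fixed by `χ ↦ χ (· ^ k)` is fixed as well. -/
theorem canon_ext_pow_fixed {G : Type u} [Group G] [Fintype G]
    (N : Subgroup G) (k : ℕ) (hk : k.Coprime (Nat.card G))
    (θ : IrrCharacter N) (hθk : ∀ n : N, (θ : N → ℂ) (n ^ k) = (θ : N → ℂ) n)
    (χh : IrrCharacter G) (hext : ∀ n : N, (χh : G → ℂ) n = (θ : N → ℂ) n)
    (hcop : Nat.Coprime N.index (detOrder (χh : G → ℂ)))
    (huniq : ∀ χ' : IrrCharacter G, (∀ n : N, (χ' : G → ℂ) n = (θ : N → ℂ) n) →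
        Nat.Coprime N.index (detOrder (χ' : G → ℂ)) → χ' = χh) (g : G) :
    (χh : G → ℂ) (g ^ k) = (χh : G → ℂ) g := by
  have hχc : IsCharacter G (χh : G → ℂ) := helper19.isCharacter_of_isIrr χh.2
  obtain ⟨fd, hfd⟩ := helper19.exists_detChar_hom hχc
  have h1 : ∀ n : N, (helper79.irrPow k hk χh : G → ℂ) n = (θ : N → ℂ) n := by
    intro n
    rw [helper79.irrPow_apply, ← Subgroup.coe_pow, hext, hθk]
  have h2 : ∀ x : G, detChar (helper79.irrPow k hk χh : G → ℂ) x = (((fd ^ k) x : ℂˣ) : ℂ) := by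
    intro x
    have h3 := helper19.detChar_pow_coprime k hk hχc
    have h4 : (helper79.irrPow k hk χh : G → ℂ) = fun g => (χh : G → ℂ) (g ^ k) := rfl
    rw [h4, h3]
    show detChar (χh : G → ℂ) (x ^ k) = _
    rw [hfd, MonoidHom.pow_apply, map_pow]
  have h5 : detOrder (helper79.irrPow k hk χh : G → ℂ) = orderOf (fd ^ k) :=
    helper19.detOrder_eq_orderOf (fd ^ k) h2
  have h6 : detOrder (χh : G → ℂ) = orderOf fd := helper19.detOrder_eq_orderOf fd hfd
  have h7 : Nat.Coprime N.index (detOrder (helper79.irrPow k hk χh : G → ℂ)) := by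
    rw [h5]
    rw [h6] at hcop
    exact Nat.Coprime.coprime_dvd_right (orderOf_pow_dvd k) hcop
  have h8 := huniq (helper79.irrPow k hk χh) h1 h7
  have h9 := congrFun (congrArg Subtype.val h8) g
  rw [helper79.irrPow_apply] at h9
  exact h9

/-- Every extension of `θ` is a twist of a given one by a linear character of `G / N`. -/
theorem exists_quot_hom_of_extension {G : Type u} [Group G] [Fintype G]
    (N : Subgroup G) [hN : N.Normal] [Fintype N] (hab : ∀ x y : G, x * y * x⁻¹ * y⁻¹ ∈ N)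
    (θ : IrrCharacter N) (χh χ : IrrCharacter G)
    (hh : ∀ n : N, (χh : G → ℂ) n = (θ : N → ℂ) n)
    (hχ : ∀ n : N, (χ : G → ℂ) n = (θ : N → ℂ) n) :
    ∃ f : (G ⧸ N) →* ℂˣ, ∀ g : G,
      (χ : G → ℂ) g = (χh : G → ℂ) g * ((f (g : G ⧸ N) : ℂˣ) : ℂ) := by
  have hres : (fun n : N => (χh : G → ℂ) n) = (θ : N → ℂ) := funext hh
  have hres' : (fun n : N => (χ : G → ℂ) n) = (θ : N → ℂ) := funext hχ
  have hχhN' : IsIrrCharacter N (fun n : N => (χh : G → ℂ) n) := by rw [hres]; exact θ.2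
  have hne : classInner (fun n : N => (χ : G → ℂ) n) (fun n : N => (χh : G → ℂ) n) ≠ 0 := by
    rw [hres, hres', helper4.classInner_irr_self θ.2]
    exact one_ne_zero
  obtain ⟨β, hβ, hβN, hχβ⟩ := helper19.gallagher N (χh : G → ℂ) χh.2 hχhN' (χ : G → ℂ) χ.2 hne
  have hβ1 : β 1 = 1 := helper19.linear_of_abelian_quot N hab β hβ hβN
  obtain ⟨f, hf⟩ := helper19.exists_hom_of_linear β (helper19.isCharacter_of_isIrr hβ) hβ1
  have hfN : N ≤ f.ker := by
    intro n hn
    rw [MonoidHom.mem_ker]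
    apply Units.ext
    rw [← hf, hβN n hn, hβ1]
    rfl
  refine ⟨QuotientGroup.lift N f hfN, fun g => ?_⟩
  rw [QuotientGroup.lift_mk, ← hf, hχβ]
  rfl

/-- Twists of a character irreducible on `N` by distinct linear characters trivial on `N` are
distinct. -/
theorem hom_eq_of_twist_eq {G : Type u} [Group G] [Fintype G]
    (N : Subgroup G) [N.Normal] [Fintype N] (χh : IrrCharacter G)
    (hirr : IsIrrCharacter N (fun n : N => (χh : G → ℂ) n)) (f₁ f₂ : G →* ℂˣ)
    (h₁ : ∀ n ∈ N, f₁ n = 1) (h₂ : ∀ n ∈ N, f₂ n = 1)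
    (h : ∀ g : G, (χh : G → ℂ) g * ((f₁ g : ℂˣ) : ℂ) = (χh : G → ℂ) g * ((f₂ g : ℂˣ) : ℂ)) :
    f₁ = f₂ := by
  have hb₁ : ∀ x ∈ N, (fun g => ((f₁ g : ℂˣ) : ℂ)) x = (fun g => ((f₁ g : ℂˣ) : ℂ)) 1 := by
    intro x hx
    simp [h₁ x hx]
  have hb₂ : ∀ x ∈ N, (fun g => ((f₂ g : ℂˣ) : ℂ)) x = (fun g => ((f₂ g : ℂˣ) : ℂ)) 1 := by
    intro x hx
    simp [h₂ x hx]
  have key := helper19.mul_injective_of_trivial N (χh : G → ℂ) χh.2 hirr
    (fun g => ((f₁ g : ℂˣ) : ℂ)) (fun g => ((f₂ g : ℂˣ) : ℂ))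
    (helper82.isIrrCharacter_of_hom f₁) hb₁ (helper82.isIrrCharacter_of_hom f₂) hb₂
    (funext fun g => h g)
  apply MonoidHom.ext
  intro g
  apply Units.ext
  exact congrFun key g

/-- The number of homomorphisms of order dividing `p` from a cyclic quotient of order divisible
by `p` to `ℂˣ` is `p`. -/
theorem card_quot_hom_pow_eq_one {G : Type u} [Group G] [Finite G] (p : ℕ) [hp : Fact p.Prime]
    (N : Subgroup G) [N.Normal] (hcyc : IsCyclic (G ⧸ N)) (hdvd : p ∣ Nat.card (G ⧸ N)) :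
    Nat.card {f : (G ⧸ N) →* ℂˣ // f ^ p = 1} = p := by
  classical
  obtain ⟨c, hc⟩ := hcyc.exists_generator
  have : NeZero p := ⟨hp.out.ne_zero⟩
  have hcard : orderOf c = Nat.card (G ⧸ N) := orderOf_eq_card_of_forall_mem_zpowers hc
  have hbij : Function.Bijective
      (fun f : {f : (G ⧸ N) →* ℂˣ // f ^ p = 1} =>
        (⟨f.1 c, by
          rw [mem_rootsOfUnity]
          have h1 := DFunLike.congr_fun f.2 c
          rw [MonoidHom.pow_apply, MonoidHom.one_apply] at h1
          exact h1⟩ : rootsOfUnity p ℂ)) := by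
    constructor
    · intro f₁ f₂ h
      have h1 : f₁.1 c = f₂.1 c := congrArg Subtype.val h
      apply Subtype.ext
      apply MonoidHom.ext
      intro x
      obtain ⟨i, rfl⟩ := Subgroup.mem_zpowers_iff.1 (hc x)
      rw [map_zpow, map_zpow, h1]
    · intro ζ
      have hζ : (ζ : ℂˣ) ^ p = 1 := (mem_rootsOfUnity p _).1 ζ.2
      have hord : orderOf (ζ : ℂˣ) ∣ orderOf c := by
        rw [hcard]
        exact dvd_trans (orderOf_dvd_of_pow_eq_one hζ) hdvd
      refine ⟨⟨monoidHomOfForallMemZpowers hc hord, ?_⟩, ?_⟩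
      · apply MonoidHom.ext
        intro x
        obtain ⟨i, rfl⟩ := Subgroup.mem_zpowers_iff.1 (hc x)
        rw [MonoidHom.pow_apply, MonoidHom.one_apply, map_zpow,
          monoidHomOfForallMemZpowers_apply_gen, ← zpow_natCast, ← zpow_mul, mul_comm, zpow_mul,
          zpow_natCast, hζ, one_zpow]
      · apply Subtype.ext
        exact monoidHomOfForallMemZpowers_apply_gen hc hord
  rw [Nat.card_congr (Equiv.ofBijective _ hbij), Complex.card_rootsOfUnity]

/-- The characters counted on the `G`-side. -/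
abbrev PowFixG (p : ℕ) (M : Ideal AlgInt) (k : ℕ) (G : Type u) [Group G] : Type u :=
  {χ : IrrCharacter G // χ ∈ principalBlock M G ∧ ¬ p ∣ charDegree (χ : G → ℂ) ∧
    ∀ g : G, (χ : G → ℂ) (g ^ k) = (χ : G → ℂ) g}

/-- The characters counted on the `N`-side. -/
abbrev PowFixN (p : ℕ) (M : Ideal AlgInt) (k : ℕ) {G : Type u} [Group G] (P : Sylow p G)
    (N : Subgroup G) [hN : N.Normal] : Type u :=
  {θ : IrrCharacter ↥N // θ ∈ principalBlock M ↥N ∧ ¬ p ∣ charDegree (θ : ↥N → ℂ) ∧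
    (∀ x ∈ (P : Subgroup G), ∀ n : ↥N,
      (θ : ↥N → ℂ) ⟨x * n * x⁻¹, hN.conj_mem n n.2 x⟩ = (θ : ↥N → ℂ) n) ∧
    ∀ n : ↥N, (θ : ↥N → ℂ) (n ^ k) = (θ : ↥N → ℂ) n}

/-- If `N = O^p(G)` has nontrivial cyclic quotient and `σ` is the Galois automorphism raising
`p`-power roots of unity to the power `1 + p` and fixing `p'`-roots of unity, then the number of
`σ`-fixed `p'`-degree characters in the principal block of `G` is `p` times the number of
`P`-invariant `σ`-fixed `p'`-degree characters in the principal block of `N`. -/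
theorem card_pow_fixed_principal_pResidual {G : Type u} [Group G] [Finite G] (p : ℕ)
    [hp : Fact p.Prime] (M : Ideal Cfsg.AlgInt) (hM : Cfsg.IsPModular p M) (P : Sylow p G)
    (N : Subgroup G) [hN : N.Normal] (hNres : N = Cfsg.pResidual p G) (hcyc : IsCyclic (G ⧸ N))
    (hnt : N ≠ ⊤) (k : ℕ)
    (hk₁ : ∀ g : G, (∃ j : ℕ, orderOf g = p ^ j) → g ^ k = g ^ (1 + p))
    (hk₂ : ∀ g : G, Nat.Coprime (orderOf g) p → g ^ k = g) :
    Nat.card {χ : Cfsg.IrrCharacter G // χ ∈ Cfsg.principalBlock M G ∧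
        ¬ p ∣ Cfsg.charDegree (χ : G → ℂ) ∧ ∀ g : G, (χ : G → ℂ) (g ^ k) = (χ : G → ℂ) g} =
      p * Nat.card {θ : Cfsg.IrrCharacter ↥N // θ ∈ Cfsg.principalBlock M ↥N ∧
        ¬ p ∣ Cfsg.charDegree (θ : ↥N → ℂ) ∧
        (∀ x ∈ (P : Subgroup G), ∀ n : ↥N,
          (θ : ↥N → ℂ) ⟨x * n * x⁻¹, hN.conj_mem n n.2 x⟩ = (θ : ↥N → ℂ) n) ∧
        ∀ n : ↥N, (θ : ↥N → ℂ) (n ^ k) = (θ : ↥N → ℂ) n} := by
  classical
  have := Fintype.ofFinite G
  have hreg : ∀ g : G, ¬ p ∣ orderOf g → g ∈ N := by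
    intro g hg
    rw [hNres]
    exact helper26.mem_pResidual_of_coprime ((Nat.Prime.coprime_iff_not_dvd hp.out).2 hg).symm
  obtain ⟨a, ha⟩ : ∃ a : ℕ, N.index = p ^ a := by
    rw [hNres]
    exact helper40.pResidual_index
  have ha0 : a ≠ 0 := by
    intro h0
    rw [h0, pow_zero] at ha
    exact hnt (Subgroup.index_eq_one.1 ha)
  have hlin : ∀ f : N →* ℂˣ, (orderOf f).Coprime p := by
    subst hNres
    exact orderOf_hom_pResidual_coprime p
  have hcomm : ∀ x y : G ⧸ N, x * y = y * x := by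
    obtain ⟨c, hc⟩ := hcyc.exists_generator
    intro x y
    obtain ⟨i, rfl⟩ := Subgroup.mem_zpowers_iff.1 (hc x)
    obtain ⟨j, rfl⟩ := Subgroup.mem_zpowers_iff.1 (hc y)
    exact (Commute.refl c).zpow_zpow i j
  have hab : ∀ x y : G, x * y * x⁻¹ * y⁻¹ ∈ N := by
    intro x y
    rw [← QuotientGroup.eq_one_iff]
    simp only [QuotientGroup.mk_mul, QuotientGroup.mk_inv]
    rw [hcomm (x : G ⧸ N) (y : G ⧸ N)]
    group
  have hpdvd : p ∣ Nat.card (G ⧸ N) := by
    rw [← Subgroup.index_eq_card, ha]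
    exact dvd_pow_self p ha0
  have hpG : p ∣ Nat.card G := by
    have h1 : p ∣ N.index := by rw [ha]; exact dvd_pow_self p ha0
    exact dvd_trans h1 (Subgroup.index_dvd_card N)
  have hkcop : k.Coprime (Nat.card G) := by
    apply Nat.coprime_of_dvd
    intro q hq hqk hqG
    have : Fact q.Prime := ⟨hq⟩
    obtain ⟨x, hx⟩ := exists_prime_orderOf_dvd_card' q hqG
    have hxk : x ^ k = 1 := by
      rw [← orderOf_dvd_iff_pow_eq_one, hx]
      exact hqk
    have hx1 : x ≠ 1 := by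
      intro h
      rw [h, orderOf_one] at hx
      exact hq.one_lt.ne hx
    have hxq : x ^ q = 1 := by rw [← hx]; exact pow_orderOf_eq_one x
    by_cases hqp : q = p
    · have h1 := hk₁ x ⟨1, by rw [hx, hqp, pow_one]⟩
      rw [hxk, pow_add, pow_one, ← hqp, hxq, mul_one] at h1
      exact hx1 h1.symm
    · have h1 := hk₂ x (by rw [hx]; exact (Nat.coprime_primes hq hp.out).2 hqp)
      rw [hxk] at h1
      exact hx1 h1.symm
  have hkmod : k ≡ 1 [MOD p] := by
    obtain ⟨x, hx⟩ := exists_prime_orderOf_dvd_card' p hpG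
    have hxp : x ^ p = 1 := by
      have := pow_orderOf_eq_one x
      rwa [hx] at this
    have h1 := hk₁ x ⟨1, by rw [hx, pow_one]⟩
    have h2 : x ^ k = x ^ 1 := by
      rw [h1, pow_add, hxp, mul_one]
    have h3 := pow_eq_pow_iff_modEq.1 h2
    rwa [hx] at h3
  have hPN : ∀ g : G, ∃ s ∈ (P : Subgroup G), ∃ u ∈ N, g = s * u := by
    intro g
    subst hNres
    exact helper40.exists_mul_pResidual (P : Subgroup G) P.not_dvd_index g
  show Nat.card (PowFixG p M k G) = p * Nat.card (PowFixN p M k P N)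
  have hGinv : ∀ θ : IrrCharacter N, (∀ x ∈ (P : Subgroup G), ∀ n : N,
      (θ : N → ℂ) ⟨x * n * x⁻¹, hN.conj_mem n n.2 x⟩ = (θ : N → ℂ) n) →
      ∀ (g : G) (n : N),
        (θ : N → ℂ) ⟨g * n * g⁻¹, hN.conj_mem (n : G) n.2 g⟩ = (θ : N → ℂ) n := by
    intro θ hθP g n
    obtain ⟨s, hs, u, hu, rfl⟩ := hPN g
    have hcf := helper81.irr_classFun θ
    have h1 := hθP s hs ⟨u * n * u⁻¹, hN.conj_mem n n.2 u⟩
    have h2 := hcf n ⟨u, hu⟩
    have h3 : (⟨s * u * (n : G) * (s * u)⁻¹, hN.conj_mem (n : G) n.2 (s * u)⟩ : N) =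
        ⟨s * ((⟨u * n * u⁻¹, hN.conj_mem n n.2 u⟩ : N) : G) * s⁻¹,
          hN.conj_mem _ (hN.conj_mem n n.2 u) s⟩ :=
      Subtype.ext (by simp [mul_assoc])
    have h4 : (⟨u * n * u⁻¹, hN.conj_mem n n.2 u⟩ : N) = ⟨u, hu⟩ * n * (⟨u, hu⟩ : N)⁻¹ :=
      Subtype.ext rfl
    rw [h3, h1, h4, h2]
  have hcan : ∀ t : PowFixN p M k P N, ∃ χh : IrrCharacter G,
      (∀ n : N, (χh : G → ℂ) n = (t.1 : N → ℂ) n) ∧
      Nat.Coprime N.index (detOrder (χh : G → ℂ)) ∧
      ∀ χ' : IrrCharacter G, (∀ n : N, (χ' : G → ℂ) n = (t.1 : N → ℂ) n) →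
        Nat.Coprime N.index (detOrder (χ' : G → ℂ)) → χ' = χh :=
    fun t => exists_canon_ext p N a ha hlin t.1 t.2.2.1 (hGinv t.1 t.2.2.2.1)
  choose ch hch1 hch2 hch3 using hcan
  have hchfix : ∀ (t : PowFixN p M k P N) (g : G),
      (ch t : G → ℂ) (g ^ k) = (ch t : G → ℂ) g :=
    fun t g => canon_ext_pow_fixed N k hkcop t.1 t.2.2.2.2 (ch t) (hch1 t) (hch2 t) (hch3 t) g
  have hchirr : ∀ t : PowFixN p M k P N, IsIrrCharacter N (fun n : N => (ch t : G → ℂ) n) := by
    intro t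
    have h1 : (fun n : N => (ch t : G → ℂ) n) = (t.1 : N → ℂ) := funext (hch1 t)
    rw [h1]
    exact t.1.2
  have hval : ∀ (t : PowFixN p M k P N) (f : (G ⧸ N) →* ℂˣ) (g : G),
      (helper19.linMulIrr (f.comp (QuotientGroup.mk' N)) (ch t) : G → ℂ) g =
        (ch t : G → ℂ) g * ((f (g : G ⧸ N) : ℂˣ) : ℂ) := fun t f g => rfl
  have hvalN : ∀ (t : PowFixN p M k P N) (f : (G ⧸ N) →* ℂˣ) (n : N),
      (helper19.linMulIrr (f.comp (QuotientGroup.mk' N)) (ch t) : G → ℂ) n =
        (t.1 : N → ℂ) n := by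
    intro t f n
    rw [hval, hch1, (QuotientGroup.eq_one_iff (n : G)).2 n.2, map_one, Units.val_one, mul_one]
  have hmem : ∀ (t : PowFixN p M k P N) (f : {f : (G ⧸ N) →* ℂˣ // f ^ p = 1}),
      helper19.linMulIrr (f.1.comp (QuotientGroup.mk' N)) (ch t) ∈ principalBlock M G ∧
      ¬ p ∣ charDegree (helper19.linMulIrr (f.1.comp (QuotientGroup.mk' N)) (ch t) : G → ℂ) ∧
      ∀ g : G, (helper19.linMulIrr (f.1.comp (QuotientGroup.mk' N)) (ch t) : G → ℂ) (g ^ k) =
        (helper19.linMulIrr (f.1.comp (QuotientGroup.mk' N)) (ch t) : G → ℂ) g := by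
    intro t f
    refine ⟨?_, ?_, ?_⟩
    · exact (mem_principalBlock_iff_of_extension_pReg hM N hreg _ t.1 (hvalN t f.1)).2 t.2.1
    · have h1 : (helper19.linMulIrr (f.1.comp (QuotientGroup.mk' N)) (ch t) : G → ℂ) 1 =
          (t.1 : N → ℂ) 1 := by
        have := hvalN t f.1 1
        simpa using this
      have h2 : charDegree (helper19.linMulIrr (f.1.comp (QuotientGroup.mk' N)) (ch t) : G → ℂ) =
          charDegree (t.1 : N → ℂ) := by
        unfold charDegree
        rw [h1]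
      rw [h2]
      exact t.2.2.1
    · intro g
      rw [hval, hval, hchfix t g]
      have h3 : f.1 ((g ^ k : G) : G ⧸ N) = f.1 (g : G ⧸ N) := by
        rw [QuotientGroup.mk_pow, map_pow]
        have h4 : (f.1 (g : G ⧸ N)) ^ p = 1 := by
          have := DFunLike.congr_fun f.2 (g : G ⧸ N)
          rwa [MonoidHom.pow_apply, MonoidHom.one_apply] at this
        have h5 : orderOf (f.1 (g : G ⧸ N)) ∣ p := orderOf_dvd_of_pow_eq_one h4
        have h6 : f.1 (g : G ⧸ N) ^ k = f.1 (g : G ⧸ N) ^ 1 :=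
          pow_eq_pow_iff_modEq.2 (hkmod.of_dvd h5)
        rw [h6, pow_one]
      rw [h3]
  let Φ : PowFixN p M k P N × {f : (G ⧸ N) →* ℂˣ // f ^ p = 1} → PowFixG p M k G :=
    fun q => ⟨helper19.linMulIrr (q.2.1.comp (QuotientGroup.mk' N)) (ch q.1), hmem q.1 q.2⟩
  have hΦ : Function.Bijective Φ := by
    constructor
    · rintro ⟨t₁, f₁⟩ ⟨t₂, f₂⟩ h
      have h0 : helper19.linMulIrr (f₁.1.comp (QuotientGroup.mk' N)) (ch t₁) =
          helper19.linMulIrr (f₂.1.comp (QuotientGroup.mk' N)) (ch t₂) := congrArg Subtype.val h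
      have ht : t₁ = t₂ := by
        apply Subtype.ext
        apply Subtype.ext
        funext n
        rw [← hvalN t₁ f₁.1 n, ← hvalN t₂ f₂.1 n, h0]
      subst ht
      have hf : f₁.1.comp (QuotientGroup.mk' N) = f₂.1.comp (QuotientGroup.mk' N) := by
        apply hom_eq_of_twist_eq N (ch t₁) (hchirr t₁)
        · intro n hn
          show f₁.1 ((n : G) : G ⧸ N) = 1
          rw [(QuotientGroup.eq_one_iff n).2 hn, map_one]
        · intro n hn
          show f₂.1 ((n : G) : G ⧸ N) = 1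
          rw [(QuotientGroup.eq_one_iff n).2 hn, map_one]
        · intro g
          exact congrFun (congrArg Subtype.val h0) g
      have hff : f₁ = f₂ := by
        apply Subtype.ext
        apply MonoidHom.ext
        intro x
        obtain ⟨g, rfl⟩ := QuotientGroup.mk_surjective x
        exact DFunLike.congr_fun hf g
      rw [hff]
    · rintro ⟨χ, hχB, hχd, hχk⟩
      have hirr := isIrr_restrict_of_pPrime_degree p N a ha hab hlin χ hχd
      let θ : IrrCharacter N := ⟨fun n : N => (χ : G → ℂ) n, hirr⟩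
      have hθB : θ ∈ principalBlock M N :=
        (mem_principalBlock_iff_of_extension_pReg hM N hreg χ θ (fun n => rfl)).1 hχB
      have hθd : ¬ p ∣ charDegree (θ : N → ℂ) := by
        have h2 : charDegree (θ : N → ℂ) = charDegree (χ : G → ℂ) := rfl
        rw [h2]
        exact hχd
      have hθP : ∀ x ∈ (P : Subgroup G), ∀ n : N,
          (θ : N → ℂ) ⟨x * n * x⁻¹, hN.conj_mem n n.2 x⟩ = (θ : N → ℂ) n := by
        intro x _ n
        exact helper81.irr_classFun χ (n : G) x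
      have hθk : ∀ n : N, (θ : N → ℂ) (n ^ k) = (θ : N → ℂ) n := by
        intro n
        show (χ : G → ℂ) ((n ^ k : N) : G) = (χ : G → ℂ) n
        rw [Subgroup.coe_pow]
        exact hχk n
      let t : PowFixN p M k P N := ⟨θ, hθB, hθd, hθP, hθk⟩
      obtain ⟨f, hf⟩ := exists_quot_hom_of_extension N hab θ (ch t) χ (hch1 t) (fun n => rfl)
      have hfk : ∀ x : G ⧸ N, f x ^ k = f x := by
        have hf2 : (f ^ k).comp (QuotientGroup.mk' N) = f.comp (QuotientGroup.mk' N) := by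
          apply hom_eq_of_twist_eq N (ch t) (hchirr t)
          · intro n hn
            show (f ^ k) ((n : G) : G ⧸ N) = 1
            rw [(QuotientGroup.eq_one_iff n).2 hn, map_one]
          · intro n hn
            show f ((n : G) : G ⧸ N) = 1
            rw [(QuotientGroup.eq_one_iff n).2 hn, map_one]
          · intro g
            show (ch t : G → ℂ) g * (((f ^ k) (g : G ⧸ N) : ℂˣ) : ℂ) =
              (ch t : G → ℂ) g * ((f (g : G ⧸ N) : ℂˣ) : ℂ)
            rw [← hf g, MonoidHom.pow_apply, ← map_pow, ← QuotientGroup.mk_pow, ← hchfix t g,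
              ← hf (g ^ k), hχk g]
        intro x
        obtain ⟨g, rfl⟩ := QuotientGroup.mk_surjective x
        have h1 := DFunLike.congr_fun hf2 g
        exact h1
      have hfp : f ^ p = 1 := by
        apply MonoidHom.ext
        intro x
        obtain ⟨g, rfl⟩ := QuotientGroup.mk_surjective x
        obtain ⟨s, hs, u, hu, rfl⟩ := hPN g
        have hmk : ((s * u : G) : G ⧸ N) = (s : G ⧸ N) := by
          rw [QuotientGroup.mk_mul, (QuotientGroup.eq_one_iff u).2 hu, mul_one]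
        rw [MonoidHom.pow_apply, MonoidHom.one_apply, hmk]
        obtain ⟨j, hj⟩ : ∃ j : ℕ, orderOf s = p ^ j := by
          obtain ⟨j, hj⟩ := (IsPGroup.iff_orderOf.1 P.isPGroup') ⟨s, hs⟩
          exact ⟨j, by rw [← hj, Subgroup.orderOf_mk]⟩
        have h1 := hk₁ s ⟨j, hj⟩
        have h2 : f (s : G ⧸ N) ^ k = f (s : G ⧸ N) ^ (1 + p) := by
          rw [← map_pow, ← QuotientGroup.mk_pow, h1, QuotientGroup.mk_pow, map_pow]
        rw [hfk, pow_add, pow_one] at h2
        exact left_eq_mul.1 h2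
      refine ⟨(t, ⟨f, hfp⟩), ?_⟩
      apply Subtype.ext
      apply Subtype.ext
      funext g
      show (ch t : G → ℂ) g * ((f (g : G ⧸ N) : ℂˣ) : ℂ) = (χ : G → ℂ) g
      exact (hf g).symm
  rw [← Nat.card_congr (Equiv.ofBijective Φ hΦ), Nat.card_prod,
    card_quot_hom_pow_eq_one p N hcyc hpdvd, mul_comm]

end Cfsg.Agent.Lib.helper78
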