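import Mathlib

/-!
# S2279 split (architect helper45), piece GB: `abs_GB`

Abstract bookkeeping with the sets `Ω k`: the set `{x | c * x ∈ Ω 0}` is closed under products.
-/

set_option autoImplicit false

namespace Cfsg.Agent.Lib.helper45.RU

variable {F : Type*} [Field F]

/-- GB -/
theorem abs_GB (n : ℕ) (hn : 4 ≤ n) (Ω : ℕ → Set F) (c : F) (m : ℕ) (hm : 0 < m)
    (hcm : c ^ m = 1) (hA : c ^ (n - 1) ∈ Ω (n - 2))
    (hB : ∀ y, y ∈ Ω 0 → c ^ n * y ∈ Ω 0)
    (hwrap : ∀ i i', i + 2 ≤ n → i' + 2 ≤ n → n ≤ i + i' + 1 →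
      ∀ x y, x ∈ Ω i → y ∈ Ω i' → x * y ∈ Ω (i + i' + 1 - n))
    (hshift1 : ∀ x y, x ∈ Ω 0 → y ∈ Ω 0 → x * y ∈ Ω 1) :
    ∀ x y, c * x ∈ Ω 0 → c * y ∈ Ω 0 → c * (x * y) ∈ Ω 0 := by
  intro x y hx hy
  have hpow : c ^ (n - 1) * c = c ^ n := by
    rw [← pow_succ]; congr 1; omega
  have h1 : c * x * (c * y) ∈ Ω 1 := hshift1 _ _ hx hy
  have h2 : c ^ n * (c * (x * y)) ∈ Ω 0 := by
    have h := hwrap (n - 2) 1 (by omega) (by omega) (by omega) _ _ hA h1
    have e1 : n - 2 + 1 + 1 - n = 0 := by omega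
    rw [e1] at h
    have e2 : c ^ (n - 1) * (c * x * (c * y)) = c ^ n * (c * (x * y)) := by
      rw [← hpow]; ring
    rw [e2] at h
    exact h
  have h3 : ∀ j : ℕ, ∀ w, w ∈ Ω 0 → c ^ (n * j) * w ∈ Ω 0 := by
    intro j
    induction j with
    | zero => intro w hw; simpa using hw
    | succ j ih =>
      intro w hw
      have h := hB _ (ih w hw)
      have e : c ^ n * (c ^ (n * j) * w) = c ^ (n * (j + 1)) * w := by
        rw [← mul_assoc, ← pow_add]; congr 2; ring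
      rw [e] at h
      exact h
  have h4 := h3 (m - 1) _ h2
  have e : c ^ (n * (m - 1)) * (c ^ n * (c * (x * y))) = c * (x * y) := by
    rw [← mul_assoc, ← pow_add]
    have e' : n * (m - 1) + n = m * n := by
      have e'' : m - 1 + 1 = m := by omega
      calc n * (m - 1) + n = n * (m - 1 + 1) := by ring
        _ = n * m := by rw [e'']
        _ = m * n := by ring
    rw [e', pow_mul, hcm, one_pow, one_mul]
  rw [e] at h4
  exact h4

end Cfsg.Agent.Lib.helper45.RU
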