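import Mathlib
import Cfsg.Prelude.Def_Characters
import Cfsg.Prelude.Def_Blocks
import Cfsg.Agent.Lib.helper78.RealOddE

/-!
# A non-real character of odd degree over a linear character `μ` of `P` with `μ ^ 2 ≠ 1` (helper78)

`exists_nonreal_over_hom` : `G` finite solvable, `ι : P₀ →* G` a homomorphism from a `2`-group
whose image has odd index, `μ` a linear character of `P₀` trivial on `ker ι` with `μ ^ 2 ≠ 1`;
then `G` has an irreducible character of odd degree, not real-valued, lying over `μ`.
-/

set_option autoImplicit false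
set_option linter.style.haveILetI false
set_option linter.unusedSectionVars false

namespace Cfsg.Agent.Lib.helper78

open Cfsg
open Cfsg.Agent.Lib Cfsg.Agent.Lib.helper83 Cfsg.Agent.Lib.helper82
open scoped ComplexConjugate commutatorElement

universe u

/-- The statement proved by induction on the order. -/
def MStatement (n : ℕ) : Prop :=
  ∀ (G : Type u) [Group G] [Finite G], Nat.card G = n → Group.IsSolvable G →
    ∀ (P₀ : Type u) [Group P₀] [Fintype P₀] (ι : P₀ →* G) (μ : P₀ →* ℂˣ),
      IsPGroup 2 P₀ → ¬ 2 ∣ ι.range.index → ι.ker ≤ μ.ker → (∃ x, μ x ^ 2 ≠ 1) →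
      ∃ χ : IrrCharacter G, Odd (charDegree (χ : G → ℂ)) ∧
        (¬ ∀ g : G, ((χ : G → ℂ) g).im = 0) ∧
        ∑ x : P₀, (χ : G → ℂ) (ι x) * conj ((μ x : ℂˣ) : ℂ) ≠ 0

theorem mstatement_quotient {G : Type u} [Group G] [Finite G] [Group.IsSolvable G]
    (ih : ∀ m < Nat.card G, MStatement.{u} m) (K : Subgroup G) [K.Normal] (hK : K ≠ ⊥)
    {P₀ : Type u} [Group P₀] [Fintype P₀] (ι : P₀ →* G) (μ : P₀ →* ℂˣ)
    (hP₀ : IsPGroup 2 P₀) (hidx : ¬ 2 ∣ ι.range.index)
    (hker : ∀ x : P₀, ι x ∈ K → μ x = 1) (hμ : ∃ x, μ x ^ 2 ≠ 1) :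
    ∃ χ : IrrCharacter G, Odd (charDegree (χ : G → ℂ)) ∧
      (¬ ∀ g : G, ((χ : G → ℂ) g).im = 0) ∧
      ∑ x : P₀, (χ : G → ℂ) (ι x) * conj ((μ x : ℂˣ) : ℂ) ≠ 0 := by
  have hidx' : ¬ 2 ∣ ((QuotientGroup.mk' K).comp ι).range.index := by
    rw [← MonoidHom.map_range]
    exact fun h => hidx (dvd_trans h (Subgroup.index_map_dvd _ (QuotientGroup.mk'_surjective K)))
  have hker' : ((QuotientGroup.mk' K).comp ι).ker ≤ μ.ker := by
    intro x hx
    rw [MonoidHom.mem_ker, MonoidHom.comp_apply, QuotientGroup.mk'_apply,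
      QuotientGroup.eq_one_iff] at hx
    exact MonoidHom.mem_ker.mpr (hker x hx)
  obtain ⟨ψ, hψo, hψn, hψs⟩ := ih _ (card_quotient_lt_of_ne_bot K hK) (G ⧸ K) rfl inferInstance
    P₀ ((QuotientGroup.mk' K).comp ι) μ hP₀ hidx' hker' hμ
  refine ⟨⟨fun g => (ψ : G ⧸ K → ℂ) (g : G ⧸ K), isIrrCharacter_inflation K ψ.2⟩, hψo, ?_, hψs⟩
  intro h
  apply hψn
  intro gb
  obtain ⟨g, rfl⟩ := QuotientGroup.mk_surjective gb
  exact h g

theorem mstatement_aux : ∀ n : ℕ, MStatement.{u} n := by
  intro n
  induction n using Nat.strong_induction_on with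
  | _ n ih =>
  intro G _ _ hcard hsolv P₀ _ _ ι μ hP₀ hidx hker hμ
  classical
  haveI := hsolv
  letI : Fintype G := Fintype.ofFinite G
  subst hcard
  haveI : Fact (Nat.Prime 2) := ⟨Nat.prime_two⟩
  have hnorm : ∀ x : P₀, ‖((μ x : ℂˣ) : ℂ)‖ = 1 := by
    intro x
    apply Complex.norm_eq_one_of_pow_eq_one (n := Fintype.card P₀) ?_ Fintype.card_ne_zero
    rw [← Units.val_pow_eq_pow_val, ← map_pow, pow_card_eq_one, map_one, Units.val_one]
  set R : Subgroup G := ι.range with hRdef
  have hR2 : IsPGroup 2 R := hP₀.of_surjective ι.rangeRestrict ι.rangeRestrict_surjective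
  by_cases hA : ∃ A : Subgroup G, A.Normal ∧ Odd (Nat.card A) ∧ A ≠ ⊥
  · obtain ⟨A, hAn, hAodd, hA0⟩ := hA
    haveI := hAn
    have hRA : R ⊓ A = ⊥ := by
      apply Disjoint.eq_bot
      apply Subgroup.disjoint_of_coprime_natCard
      obtain ⟨k, hk⟩ := hR2.exists_card_eq
      rw [hk]
      exact Nat.Coprime.pow_left k (Nat.coprime_two_left.mpr hAodd)
    refine mstatement_quotient ih A hA0 ι μ hP₀ hidx ?_ hμ
    intro x hx
    have h1 : ι x ∈ R ⊓ A := ⟨⟨x, rfl⟩, hx⟩
    rw [hRA, Subgroup.mem_bot] at h1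
    exact MonoidHom.mem_ker.mp (hker (MonoidHom.mem_ker.mpr h1))
  · push Not at hA
    set Q : Subgroup G := R.normalCore with hQdef
    haveI hQn : Q.Normal := Subgroup.normalCore_normal _
    have hQR : Q ≤ R := Subgroup.normalCore_le _
    have hQ2 : IsPGroup 2 Q := hR2.to_le hQR
    have hmax : ∀ M : Subgroup G, M.Normal → IsPGroup 2 M → M ≤ Q := by
      intro M hMn hM2
      haveI := hMn
      exact Subgroup.normal_le_normalCore.mpr
        (Cfsg.Agent.Lib.helper79.le_of_normal_of_not_dvd_index 2 M R hM2 hidx)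
    obtain ⟨ν, hν⟩ := exists_hom_descent ι.rangeRestrict ι.rangeRestrict_surjective μ
      (by rw [MonoidHom.ker_rangeRestrict]; exact hker)
    set νQ : Q →* ℂˣ := ν.comp (Subgroup.inclusion hQR) with hνQ
    set θ : Q → ℂ := fun q => ((νQ q : ℂˣ) : ℂ) with hθdef
    have hθ : IsIrrCharacter Q θ := isIrrCharacter_of_hom νQ
    have hRT' : ∀ r ∈ R, ∀ q : Q,
        νQ ⟨r * q * r⁻¹, hQn.conj_mem q q.2 r⟩ = νQ q := by
      intro r hr q
      have e : (Subgroup.inclusion hQR ⟨r * q * r⁻¹, hQn.conj_mem q q.2 r⟩ : R) =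
          (⟨r, hr⟩ : R) * Subgroup.inclusion hQR q * (⟨r, hr⟩ : R)⁻¹ := by
        apply Subtype.ext
        simp
      rw [hνQ, MonoidHom.comp_apply, MonoidHom.comp_apply, e, map_mul, map_mul, map_inv,
        mul_comm, inv_mul_cancel_left]
    set T : Subgroup G := inertia Q θ with hTdef
    have hRT : R ≤ T := by
      intro r hr
      rw [hTdef, mem_inertia_iff]
      intro q
      show ((νQ ⟨r * q * r⁻¹, hQn.conj_mem q q.2 r⟩ : ℂˣ) : ℂ) = ((νQ q : ℂˣ) : ℂ)
      rw [hRT' r hr q]
    have hQT : Q ≤ T := le_trans hQR hRT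
    have hμν : ∀ (x : P₀) (hx : ι x ∈ Q), νQ ⟨ι x, hx⟩ = μ x := by
      intro x hx
      rw [← hν x]
      rfl
    by_cases hT : T = ⊤
    · -- θ is G-invariant
      have hinv : ∀ g : G, cconj Q g θ = θ := fun g =>
        (mem_inertia Q θ g).mp (by rw [← hTdef, hT]; trivial)
      have hθinv : ∀ (g : G) (q : Q),
          νQ ⟨g * q * g⁻¹, hQn.conj_mem q q.2 g⟩ = νQ q := by
        intro g q
        have h1 := (cconj_eq_iff Q g θ).mp (hinv g) q
        exact Units.ext h1
      set K : Subgroup G := νQ.ker.map Q.subtype with hKdef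
      have hKmem : ∀ k : G, k ∈ K ↔ ∃ hk : k ∈ Q, νQ ⟨k, hk⟩ = 1 := by
        intro k
        rw [hKdef, Subgroup.mem_map]
        constructor
        · rintro ⟨q, hq, rfl⟩
          exact ⟨q.2, MonoidHom.mem_ker.mp hq⟩
        · rintro ⟨hk, h1⟩
          exact ⟨⟨k, hk⟩, MonoidHom.mem_ker.mpr h1, rfl⟩
      have hKn : K.Normal := by
        refine ⟨fun k hk g => ?_⟩
        obtain ⟨hkQ, hk1⟩ := (hKmem k).mp hk
        rw [hKmem]
        refine ⟨hQn.conj_mem k hkQ g, ?_⟩
        have h1 := hθinv g ⟨k, hkQ⟩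
        rw [hk1] at h1
        exact h1
      by_cases hK : K = ⊥
      · have hfinj : Function.Injective νQ := by
          rw [← MonoidHom.ker_eq_bot_iff]
          rw [hKdef] at hK
          exact (Subgroup.map_eq_bot_iff_of_injective _ Q.subtype_injective).mp hK
        have hcent : Q ≤ Subgroup.center G := by
          intro q hq
          rw [Subgroup.mem_center_iff]
          intro g
          have h1 := hθinv g ⟨q, hq⟩
          have h2 : (⟨g * q * g⁻¹, hQn.conj_mem q hq g⟩ : Q) = ⟨q, hq⟩ := hfinj h1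
          have h3 : g * q * g⁻¹ = q := congrArg Subtype.val h2
          calc g * q = (g * q * g⁻¹) * g := by group
            _ = q * g := by rw [h3]
        have hQtop : Q = ⊤ := eq_top_of_core_central Q hQ2 hmax hA hcent
        have hRtop : R = ⊤ := top_le_iff.mp (hQtop ▸ hQR)
        have hsurj : Function.Surjective ι := MonoidHom.range_eq_top.mp hRtop
        obtain ⟨F, hF⟩ := exists_hom_descent ι hsurj μ hker
        refine ⟨⟨fun g => ((F g : ℂˣ) : ℂ), isIrrCharacter_of_hom F⟩, ?_, ?_, ?_⟩
        · have h1 : charDegree (fun g => ((F g : ℂˣ) : ℂ)) = 1 := by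
            unfold charDegree
            simp
          rw [h1]
          exact odd_one
        · intro hreal
          obtain ⟨x, hx⟩ := hμ
          apply hx
          have h1 := hreal (ι x)
          simp only [hF] at h1
          have h2 := sq_eq_one_of_norm_of_im _ (hnorm x) h1
          apply Units.ext
          rw [Units.val_pow_eq_pow_val, Units.val_one]
          exact h2
        · have h1 : ∀ x : P₀, ((F (ι x) : ℂˣ) : ℂ) * conj ((μ x : ℂˣ) : ℂ) = 1 := by
            intro x
            rw [hF, Complex.mul_conj, Complex.normSq_eq_norm_sq, hnorm x]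
            simp
          simp only
          rw [Finset.sum_congr rfl (fun x _ => h1 x)]
          simp
      · haveI := hKn
        refine mstatement_quotient ih K hK ι μ hP₀ hidx ?_ hμ
        intro x hx
        obtain ⟨hxQ, hx1⟩ := (hKmem _).mp hx
        rw [← hμν x hxQ]
        exact hx1
    · -- Clifford correspondence
      have hιT : ∀ x, ι x ∈ T := fun x => hRT ⟨x, rfl⟩
      set ιT : P₀ →* T := ι.codRestrict T hιT with hιTdef
      have hidxT : ¬ 2 ∣ ιT.range.index := by
        intro h
        apply hidx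
        have h1 : ιT.range.map T.subtype = R := by
          rw [hRdef, MonoidHom.map_range]
          rfl
        rw [← h1, Subgroup.index_map_subtype]
        exact Dvd.dvd.mul_right h _
      have hkerT : ιT.ker ≤ μ.ker := by
        intro x hx
        apply hker
        rw [MonoidHom.mem_ker] at hx ⊢
        exact congrArg Subtype.val hx
      obtain ⟨ψ, hψo, hψn, hψs⟩ := ih _ (card_subgroup_lt_of_ne_top T hT) T rfl inferInstance
        P₀ ιT μ hP₀ hidxT hkerT hμ
      -- ψ lies over θ
      have hψθ : classInner (fun q : Q => (ψ : T → ℂ) ⟨q, hQT q.2⟩) θ ≠ 0 := by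
        have hch : IsCharacter P₀ (fun x => (ψ : T → ℂ) (ιT x)) :=
          helper4.isCharacter_comp ιT (isCharacter_of_irr ψ.2)
        have h1 : classInner (fun x => (ψ : T → ℂ) (ιT x)) (fun x => ((μ x : ℂˣ) : ℂ)) ≠ 0 := by
          rw [classInner_def]
          exact mul_ne_zero (inv_ne_zero (by exact_mod_cast (Nat.card_pos (α := P₀)).ne')) hψs
        set Q₀ : Subgroup P₀ := Q.comap ι with hQ₀
        have h2 := classInner_restrict_hom_ne_zero Q₀ hch μ h1
        rw [classInner_def] at h2
        have h3 : ∑ y : Q₀, (ψ : T → ℂ) (ιT y) * conj ((μ y : ℂˣ) : ℂ) ≠ 0 :=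
          fun h0 => h2 (by rw [h0, mul_zero])
        set π : Q₀ →* Q := ι.subgroupComap Q with hπ
        have hπs : Function.Surjective π := by
          intro q
          obtain ⟨x, hx⟩ := hQR q.2
          exact ⟨⟨x, by rw [hQ₀, Subgroup.mem_comap, hx]; exact q.2⟩, Subtype.ext hx⟩
        have h4 := sum_comp_surjective π hπs
          (fun q : Q => (ψ : T → ℂ) ⟨q, hQT q.2⟩ * conj (θ q))
        have h5 : ∑ y : Q₀, (fun q : Q => (ψ : T → ℂ) ⟨q, hQT q.2⟩ * conj (θ q)) (π y) =
            ∑ y : Q₀, (ψ : T → ℂ) (ιT y) * conj ((μ y : ℂˣ) : ℂ) := by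
          refine Finset.sum_congr rfl fun y _ => ?_
          have e1 : θ (π y) = ((μ y : ℂˣ) : ℂ) := by
            show ((νQ (π y) : ℂˣ) : ℂ) = _
            rw [← hμν (y : P₀) (y.2)]
            rfl
          show (ψ : T → ℂ) ⟨(π y : G), _⟩ * conj (θ (π y)) = _
          rw [e1]
          rfl
        rw [h5] at h4
        rw [classInner_def]
        intro h0
        apply h3
        rw [h4]
        have h6 : ∑ q : Q, (ψ : T → ℂ) ⟨q, hQT q.2⟩ * conj (θ q) = 0 := by
          rcases mul_eq_zero.mp h0 with h | h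
          · exfalso
            exact (inv_ne_zero (by exact_mod_cast (Nat.card_pos (α := Q)).ne')) h
          · exact h
        rw [h6, mul_zero]
      obtain ⟨hχirr, hχθ⟩ := clifford_corr_irr Q T hQT hθ hTdef ψ.2 hψθ
      set χ : IrrCharacter G := ⟨indFun T (ψ : T → ℂ), hχirr⟩ with hχdef
      have hχodd : Odd (charDegree (χ : G → ℂ)) := by
        have h1 := helper4.indFun_one T (ψ : T → ℂ)
        have h2 : (χ : G → ℂ) 1 = (T.index : ℂ) * (ψ : T → ℂ) 1 := h1
        rw [helper82.irr_one_eq χ, helper82.irr_one_eq ψ] at h2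
        have h3 : charDegree (χ : G → ℂ) = T.index * charDegree (ψ : T → ℂ) := by
          exact_mod_cast h2
        rw [h3]
        have h4 : Odd T.index := by
          have h5 : T.index ∣ R.index := Subgroup.index_dvd_of_le hRT
          have h6 : Odd R.index := by
            rw [← Nat.not_even_iff_odd, even_iff_two_dvd]
            exact hidx
          exact Odd.of_dvd_nat h6 h5
        exact Odd.mul h4 hψo
      have hχθ' : classInner (fun q : Q => (χ : G → ℂ) q) θ ≠ 0 := by
        have h1 : classInner (fun q : Q => (χ : G → ℂ) q) θ =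
            classInner (fun q : Q => (ψ : T → ℂ) ⟨q, hQT q.2⟩) θ := hχθ
        rw [h1]
        exact hψθ
      refine ⟨χ, hχodd, ?_, ?_⟩
      · -- χ is not real
        intro hreal
        obtain ⟨θ', hθ'r, hθ'c⟩ := exists_real_under_of_odd Q χ hreal hχodd
        obtain ⟨x, hx⟩ := clifford_conj Q χ.2 θ'.2 hθ hθ'c hχθ'
        have hθreal : ∀ q, conj (θ q) = θ q := by
          intro q
          rw [hx, cconj_def]
          exact Complex.conj_eq_iff_im.mpr (hθ'r _)
        have h1 : classInner (fun q : Q => (conjIrr ψ : T → ℂ) ⟨q, hQT q.2⟩) θ ≠ 0 := by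
          have h2 : classInner (fun q : Q => (conjIrr ψ : T → ℂ) ⟨q, hQT q.2⟩) θ =
              conj (classInner (fun q : Q => (ψ : T → ℂ) ⟨q, hQT q.2⟩) θ) := by
            rw [classInner_def, classInner_def, map_mul, map_inv₀, Complex.conj_natCast, map_sum]
            congr 1
            refine Finset.sum_congr rfl fun q _ => ?_
            rw [conjIrr_apply, map_mul, Complex.conj_conj, hθreal q]
          rw [h2]
          exact (map_ne_zero _).mpr hψθ
        have heq : indFun T (conjIrr ψ : T → ℂ) = indFun T (ψ : T → ℂ) := by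
          funext g
          have h3 : (conjIrr ψ : T → ℂ) = fun t => conj ((ψ : T → ℂ) t) :=
            funext (conjIrr_apply ψ)
          rw [h3, indFun_conj T (ψ : T → ℂ) g]
          exact Complex.conj_eq_iff_im.mpr (hreal g)
        have h4 := clifford_corr_inj Q T hQT hθ hTdef (conjIrr ψ).2 ψ.2 h1 hψθ heq
        apply hψn
        intro t
        have h5 := congrFun h4 t
        rw [conjIrr_apply] at h5
        exact Complex.conj_eq_iff_im.mp h5
      · -- χ lies over μ
        letI : Fintype (IrrCharacter T) := Fintype.ofFinite _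
        have hcf : IsClassFunction G (χ : G → ℂ) := isClassFunction_irr χ
        have hfr := helper4.frobenius_reciprocity T (ψ : T → ℂ) hcf
        have h11 : classInner (χ : G → ℂ) (χ : G → ℂ) = 1 := by
          rw [classInner_irr]; simp
        have h12 : classInner (ψ : T → ℂ) (fun t : T => (χ : G → ℂ) t) = 1 := by
          rw [← hfr]
          exact h11
        have hres : IsCharacter T (fun t : T => (χ : G → ℂ) t) :=
          helper84.isCharacter_restrict T (isCharacter_of_irr χ.2)
        obtain ⟨N, hN, hNg, -⟩ := exists_nat_decomp hres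
        have hNψ : N ψ = 1 := by
          have h1 : classInner (fun t : T => (χ : G → ℂ) t) (ψ : T → ℂ) =
              conj (classInner (ψ : T → ℂ) (fun t : T => (χ : G → ℂ) t)) := by
            rw [classInner_def, classInner_def, map_mul, map_inv₀, Complex.conj_natCast, map_sum]
            congr 1
            refine Finset.sum_congr rfl fun t _ => ?_
            rw [map_mul, Complex.conj_conj, mul_comm]
          rw [h12, map_one, hN ψ] at h1
          exact_mod_cast h1
        have hmult : ∀ φ : IrrCharacter T, ∃ n : ℕ,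
            ∑ x : P₀, (φ : T → ℂ) (ιT x) * conj ((μ x : ℂˣ) : ℂ) = (Nat.card P₀ : ℂ) * n :=
          fun φ => exists_nat_mult_hom ιT μ (isCharacter_of_irr φ.2)
        choose nn hnn using hmult
        have hcard0 : (Nat.card P₀ : ℂ) ≠ 0 := by
          exact_mod_cast (Nat.card_pos (α := P₀)).ne'
        have hnnψ : nn ψ ≠ 0 := by
          intro h0
          apply hψs
          rw [hnn ψ, h0, Nat.cast_zero, mul_zero]
        have hS : ∑ x : P₀, (χ : G → ℂ) (ι x) * conj ((μ x : ℂˣ) : ℂ) =
            (Nat.card P₀ : ℂ) * ((∑ φ : IrrCharacter T, N φ * nn φ : ℕ) : ℂ) := by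
          have h1 : ∀ x : P₀, (χ : G → ℂ) (ι x) =
              ∑ φ : IrrCharacter T, (N φ : ℂ) * (φ : T → ℂ) (ιT x) := fun x => hNg (ιT x)
          simp only [h1, Finset.sum_mul]
          rw [Finset.sum_comm]
          push_cast
          rw [Finset.mul_sum]
          refine Finset.sum_congr rfl fun φ _ => ?_
          have h2 : ∑ x : P₀, (N φ : ℂ) * (φ : T → ℂ) (ιT x) * conj ((μ x : ℂˣ) : ℂ) =
              (N φ : ℂ) * ∑ x : P₀, (φ : T → ℂ) (ιT x) * conj ((μ x : ℂˣ) : ℂ) := by
            rw [Finset.mul_sum]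
            refine Finset.sum_congr rfl fun x _ => ?_
            ring
          rw [h2, hnn φ]
          ring
        rw [hS]
        have hpos : 0 < ∑ φ : IrrCharacter T, N φ * nn φ := by
          have h1 : N ψ * nn ψ ≤ ∑ φ : IrrCharacter T, N φ * nn φ :=
            Finset.single_le_sum (f := fun φ => N φ * nn φ) (fun _ _ => Nat.zero_le _)
              (Finset.mem_univ ψ)
          rw [hNψ, one_mul] at h1
          exact lt_of_lt_of_le (Nat.pos_of_ne_zero hnnψ) h1
        exact mul_ne_zero hcard0 (by exact_mod_cast hpos.ne')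

/-- `G` finite solvable, `P` a Sylow `2`-subgroup, `μ` a linear character of `P` with
`μ ^ 2 ≠ 1`: then `G` has an irreducible character of odd degree which is not real-valued. -/
theorem exists_nonreal_of_hom {G : Type u} [Group G] [Finite G] [Group.IsSolvable G]
    (P : Sylow 2 G) (μ : (P : Subgroup G) →* ℂˣ) (hμ : ∃ x, μ x ^ 2 ≠ 1) :
    ∃ χ : IrrCharacter G, Odd (charDegree (χ : G → ℂ)) ∧
      ¬ ∀ g : G, ((χ : G → ℂ) g).im = 0 := by
  classical
  haveI : Fact (Nat.Prime 2) := ⟨Nat.prime_two⟩
  letI : Fintype (P : Subgroup G) := Fintype.ofFinite _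
  have hidx : ¬ 2 ∣ ((P : Subgroup G).subtype).range.index := by
    rw [Subgroup.range_subtype]
    exact P.not_dvd_index
  have hker : ((P : Subgroup G).subtype).ker ≤ μ.ker := by
    rw [Subgroup.ker_subtype]
    exact bot_le
  obtain ⟨χ, h1, h2, -⟩ := mstatement_aux (Nat.card G) G rfl inferInstance (P : Subgroup G)
    (P : Subgroup G).subtype μ P.isPGroup' hidx hker hμ
  exact ⟨χ, h1, h2⟩

end Cfsg.Agent.Lib.helper78
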