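import Mathlib
import Cfsg.Prelude.Def_Characters
import Cfsg.Prelude.Def_Blocks
import Cfsg.Agent.Lib.helper78.RealOddF

/-!
# Odd-degree characters of solvable groups are all real iff `P' = Φ(P)` and `N_G(P) = P` (helper78)

`real_odd_iff` : for a finite solvable group `G` with Sylow `2`-subgroup `P`, every irreducible
character of odd degree is real-valued if and only if the derived subgroup of `P` equals its
Frattini subgroup and `P` is self-normalizing.
-/

set_option autoImplicit false
set_option linter.style.haveILetI false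
set_option linter.unusedSectionVars false

namespace Cfsg.Agent.Lib.helper78

open Cfsg
open Cfsg.Agent.Lib Cfsg.Agent.Lib.helper83 Cfsg.Agent.Lib.helper82
open scoped ComplexConjugate commutatorElement

universe u

theorem real_odd_iff {G : Type u} [Group G] [Finite G] [Group.IsSolvable G] (P : Sylow 2 G) :
    (∀ χ : Cfsg.IrrCharacter G, Odd (Cfsg.charDegree (χ : G → ℂ)) →
        ∀ g : G, ((χ : G → ℂ) g).im = 0) ↔
      (commutator (P : Subgroup G) = frattini (P : Subgroup G) ∧
        Subgroup.normalizer ((P : Subgroup G) : Set G) = (P : Subgroup G)) := by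
  classical
  haveI : Fact (Nat.Prime 2) := ⟨Nat.prime_two⟩
  constructor
  · intro h
    have hN : Subgroup.normalizer ((P : Subgroup G) : Set G) = (P : Subgroup G) := by
      by_contra hN
      obtain ⟨χ, hχo, hχn⟩ := exists_nonreal_of_normalizer_ne P hN
      exact hχn (h χ hχo)
    refine ⟨?_, hN⟩
    rw [commutator_eq_frattini_iff P.isPGroup']
    intro x
    by_contra hx
    have ha : (QuotientGroup.mk (x ^ 2) : (P : Subgroup G) ⧸ commutator (P : Subgroup G)) ≠ 1 := by
      intro h1
      exact hx ((QuotientGroup.eq_one_iff _).mp h1)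
    obtain ⟨φ, hφ⟩ := exists_hom_apply_ne_one
      (G := (P : Subgroup G) ⧸ commutator (P : Subgroup G)) quot_commutator_comm ha
    set μ : (P : Subgroup G) →* ℂˣ :=
      φ.comp (QuotientGroup.mk' (commutator (P : Subgroup G))) with hμ
    have hμx : μ x ^ 2 ≠ 1 := by
      rw [← map_pow]
      exact hφ
    obtain ⟨χ, hχo, hχn⟩ := exists_nonreal_of_hom P μ ⟨x, hμx⟩
    exact hχn (h χ hχo)
  · rintro ⟨hcf, hN⟩ χ hχ
    have hsq' := (commutator_eq_frattini_iff P.isPGroup').mp hcf
    have hsq : ∀ x ∈ (P : Subgroup G), x ^ 2 ∈ ⁅(P : Subgroup G), (P : Subgroup G)⁆ := by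
      intro x hx
      rw [← Subgroup.map_subtype_commutator]
      exact ⟨(⟨x, hx⟩ : (P : Subgroup G)) ^ 2, hsq' ⟨x, hx⟩, rfl⟩
    exact real_of_selfNormalizing P hN hsq χ hχ

end Cfsg.Agent.Lib.helper78
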