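import Mathlib
import Cfsg.Agent.Lib.helper78.FrobSchur

/-!
# Real representations and the Frobenius–Schur indicator (helper78)

An irreducible complex representation with a nonzero symmetric invariant bilinear form is
equivalent to a real representation; conversely the complexification of a real representation
with irreducible character carries a symmetric invariant form, so its indicator is `1`.
-/

set_option autoImplicit false

namespace Cfsg.Agent.Lib.helper78

open scoped ComplexConjugate Matrix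
open Cfsg.Agent.Lib.helper83

universe u

/-- Entrywise complex conjugation of a square matrix, as a ring homomorphism. -/
noncomputable def cjM (n : ℕ) : Matrix (Fin n) (Fin n) ℂ →+* Matrix (Fin n) (Fin n) ℂ :=
  (starRingEnd ℂ).mapMatrix

theorem cjM_apply {n : ℕ} (A : Matrix (Fin n) (Fin n) ℂ) (i j : Fin n) :
    cjM n A i j = conj (A i j) := rfl

theorem cjM_cjM {n : ℕ} (A : Matrix (Fin n) (Fin n) ℂ) : cjM n (cjM n A) = A := by
  ext i j
  simp [cjM_apply]

theorem cjM_smul {n : ℕ} (c : ℂ) (A : Matrix (Fin n) (Fin n) ℂ) :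
    cjM n (c • A) = conj c • cjM n A := by
  ext i j
  simp [cjM_apply]

theorem cjM_transpose {n : ℕ} (A : Matrix (Fin n) (Fin n) ℂ) : cjM n Aᵀ = Aᴴ := by
  ext i j
  simp [cjM_apply, Matrix.conjTranspose_apply]

theorem transpose_conjTranspose' {n : ℕ} (A : Matrix (Fin n) (Fin n) ℂ) : Aᴴᵀ = cjM n A := by
  ext i j
  simp [cjM_apply, Matrix.conjTranspose_apply]

theorem cjM_conjTranspose {n : ℕ} (A : Matrix (Fin n) (Fin n) ℂ) : cjM n Aᴴ = Aᵀ := by
  ext i j
  simp [cjM_apply, Matrix.conjTranspose_apply]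

/-- A matrix form of Hilbert's Theorem 90 for `ℂ/ℝ`: if `A * conj A = 1` then `A = S * (conj S)⁻¹`
for some invertible `S`. -/
theorem exists_isUnit_hilbert90 {n : ℕ} (A : Matrix (Fin n) (Fin n) ℂ)
    (hA : A * cjM n A = 1) :
    ∃ S : Matrix (Fin n) (Fin n) ℂ, IsUnit S ∧ A * cjM n S = S := by
  classical
  have hq : (-A).charpoly ≠ 0 := (Matrix.charpoly_monic (-A)).ne_zero
  have hfin : {x | (-A).charpoly.IsRoot x}.Finite := Polynomial.finite_setOfPred_isRoot hq
  let z : ℝ → ℂ := fun s => (1 + s * Complex.I) / (1 - s * Complex.I)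
  have hden : ∀ s : ℝ, (1 - s * Complex.I : ℂ) ≠ 0 := by
    intro s h
    have := congrArg Complex.re h
    simp at this
  have hz : Function.Injective z := by
    intro s t hst
    simp only [z] at hst
    rw [div_eq_div_iff (hden s) (hden t)] at hst
    have := congrArg Complex.im hst
    simp at this
    linarith
  obtain ⟨s, hs⟩ := (hfin.preimage (hz.injOn)).exists_notMem
  have hs' : ((-A).charpoly).eval (z s) ≠ 0 := hs
  rw [Matrix.eval_charpoly] at hs'
  set μ : ℂ := 1 + s * Complex.I with hμ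
  have hcμ : conj μ = 1 - s * Complex.I := by
    simp [hμ, sub_eq_add_neg]
  have hcμ0 : conj μ ≠ 0 := by rw [hcμ]; exact hden s
  refine ⟨μ • 1 + conj μ • A, ?_, ?_⟩
  · rw [Matrix.isUnit_iff_isUnit_det, isUnit_iff_ne_zero]
    have h1 : μ • (1 : Matrix (Fin n) (Fin n) ℂ) + conj μ • A
        = conj μ • (Matrix.scalar (Fin n) (z s) - -A) := by
      rw [sub_neg_eq_add, smul_add]
      refine congrArg (fun x => x + conj μ • A) ?_
      ext i j
      by_cases hij : i = j
      · subst hij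
        simp only [Matrix.smul_apply, Matrix.one_apply_eq, smul_eq_mul, mul_one,
          Matrix.scalar_apply, Matrix.diagonal_apply_eq, z]
        rw [hcμ, mul_div_cancel₀ _ (hden s)]
      · simp [Matrix.one_apply_ne hij, Matrix.diagonal_apply_ne _ hij]
    rw [h1, Matrix.det_smul]
    exact mul_ne_zero (pow_ne_zero _ hcμ0) hs'
  · rw [map_add, cjM_smul, cjM_smul, map_one, Complex.conj_conj, Matrix.mul_add,
      Matrix.mul_smul, Matrix.mul_smul, Matrix.mul_one, hA, add_comm]

/-- If the matrices `X g` of a matrix representation commute with an antilinear involution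
`v ↦ A * conj v`, the representation is conjugate to a real one. -/
theorem exists_real_matrices {G : Type u} [Group G] {n : ℕ}
    (X : G → Matrix (Fin n) (Fin n) ℂ) (hX1 : X 1 = 1)
    (hXmul : ∀ g h, X (g * h) = X g * X h)
    (A : Matrix (Fin n) (Fin n) ℂ) (hA : A * cjM n A = 1)
    (hAX : ∀ g, X g * A = A * cjM n (X g)) :
    ∃ R : G → Matrix (Fin n) (Fin n) ℝ, R 1 = 1 ∧ (∀ g h, R (g * h) = R g * R h) ∧
      ∀ g, ((R g).trace : ℂ) = (X g).trace := by
  classical
  obtain ⟨S, hSu, hAS⟩ := exists_isUnit_hilbert90 A hA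
  have hdet : IsUnit S.det := (Matrix.isUnit_iff_isUnit_det S).mp hSu
  have hSi : S⁻¹ * S = 1 := Matrix.nonsing_inv_mul S hdet
  have hiS : S * S⁻¹ = 1 := Matrix.mul_nonsing_inv S hdet
  let Y : G → Matrix (Fin n) (Fin n) ℂ := fun g => S⁻¹ * X g * S
  have hSY : ∀ g, S * Y g = X g * S := by
    intro g
    simp only [Y]
    rw [← Matrix.mul_assoc, ← Matrix.mul_assoc, hiS, Matrix.one_mul]
  have hY : ∀ g, cjM n (Y g) = Y g := by
    intro g
    have h1 : cjM n S * cjM n (Y g) = cjM n (X g) * cjM n S := by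
      rw [← map_mul, ← map_mul, hSY]
    have h2 : S * cjM n (Y g) = S * Y g := by
      calc S * cjM n (Y g) = A * (cjM n S * cjM n (Y g)) := by
            rw [← Matrix.mul_assoc, hAS]
        _ = A * cjM n (X g) * cjM n S := by rw [h1, Matrix.mul_assoc]
        _ = X g * (A * cjM n S) := by rw [← hAX g, Matrix.mul_assoc]
        _ = S * Y g := by rw [hAS, hSY]
    calc cjM n (Y g) = S⁻¹ * (S * cjM n (Y g)) := by
          rw [← Matrix.mul_assoc, hSi, Matrix.one_mul]
      _ = Y g := by rw [h2, ← Matrix.mul_assoc, hSi, Matrix.one_mul]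
  let R : G → Matrix (Fin n) (Fin n) ℝ := fun g => (Y g).map Complex.re
  have hR : ∀ g, Complex.ofRealHom.mapMatrix (R g) = Y g := by
    intro g
    ext i j
    have h := congrFun (congrFun (hY g) i) j
    rw [cjM_apply, Complex.conj_eq_iff_im] at h
    apply Complex.ext
    · simp [R]
    · simp [R, h]
  have hinj : Function.Injective
      (Complex.ofRealHom.mapMatrix : Matrix (Fin n) (Fin n) ℝ →+* Matrix (Fin n) (Fin n) ℂ) :=
    Matrix.map_injective Complex.ofReal_injective
  have hYmul : ∀ g h, Y (g * h) = Y g * Y h := by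
    intro g h
    simp only [Y]
    rw [hXmul]
    calc S⁻¹ * (X g * X h) * S = S⁻¹ * X g * 1 * X h * S := by
          simp only [Matrix.mul_assoc, Matrix.one_mul]
      _ = S⁻¹ * X g * S * (S⁻¹ * X h * S) := by
          rw [← hiS]; simp only [Matrix.mul_assoc]
  refine ⟨R, ?_, ?_, ?_⟩
  · apply hinj
    rw [hR, map_one]
    simp only [Y]
    rw [hX1, Matrix.mul_one, hSi]
  · intro g h
    apply hinj
    rw [map_mul, hR, hR, hR, hYmul]
  · intro g
    have h1 : ((R g).trace : ℂ) = (Complex.ofRealHom.mapMatrix (R g)).trace :=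
      AddMonoidHom.map_trace Complex.ofRealHom (R g)
    rw [h1, hR]
    simp only [Y]
    rw [Matrix.trace_mul_cycle, hiS, Matrix.one_mul]

section RealStructure

open scoped ComplexOrder

variable {G : Type u} [Group G] [Fintype G] {n : ℕ} (ρ : Representation ℂ G (Fin n → ℂ))

/-- An irreducible representation with a nonzero symmetric invariant bilinear form commutes
with an antilinear involution `v ↦ A * conj v`. -/
theorem exists_conj_structure (hρ : ρ.IsIrreducible) {M : Matrix (Fin n) (Fin n) ℂ}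
    (hM : M ∈ fsForms ρ) (hM0 : M ≠ 0) (hsym : Mᵀ = M) :
    ∃ A : Matrix (Fin n) (Fin n) ℂ, A * cjM n A = 1 ∧
      ∀ g, repMat ρ g * A = A * cjM n (repMat ρ g) := by
  classical
  rcases Nat.eq_zero_or_pos n with rfl | hn
  · exact ⟨1, Subsingleton.elim _ _, fun g => Subsingleton.elim _ _⟩
  have : Nonempty (Fin n) := ⟨⟨0, hn⟩⟩
  have hMu : IsUnit M := isUnit_of_mem_fsForms ρ hρ hM hM0
  have hMdet : IsUnit M.det := (Matrix.isUnit_iff_isUnit_det M).mp hMu
  set N : Matrix (Fin n) (Fin n) ℂ := M⁻¹ with hN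
  have hNM : N * M = 1 := Matrix.nonsing_inv_mul M hMdet
  have hMN : M * N = 1 := Matrix.mul_nonsing_inv M hMdet
  have hNsym : Nᵀ = N := by rw [hN, Matrix.transpose_nonsing_inv, hsym]
  set H : Matrix (Fin n) (Fin n) ℂ := invForm ρ with hH
  have hHpd : H.PosDef := invForm_posDef ρ
  have hHh : Hᴴ = H := hHpd.isHermitian
  -- (b') `X g * N = N * (X g⁻¹)ᵀ`
  have hb : ∀ g, repMat ρ g * N = N * (repMat ρ g⁻¹)ᵀ := by
    intro g
    calc repMat ρ g * N = N * (M * repMat ρ g) * N := by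
          rw [← Matrix.mul_assoc, hNM, Matrix.one_mul]
      _ = N * (repMat ρ g⁻¹)ᵀ * (M * N) := by
          rw [fsForms_mul_repMat ρ hM g]; simp only [Matrix.mul_assoc]
      _ = N * (repMat ρ g⁻¹)ᵀ := by rw [hMN, Matrix.mul_one]
  -- (a') `Hᵀ * conj (X g) = (X g⁻¹)ᵀ * Hᵀ`
  have ha : ∀ g, Hᵀ * cjM n (repMat ρ g) = (repMat ρ g⁻¹)ᵀ * Hᵀ := by
    intro g
    have h1 := congrArg Matrix.transpose (invForm_invariant ρ g)
    rw [Matrix.transpose_mul, Matrix.transpose_mul, transpose_conjTranspose',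
      ← Matrix.mul_assoc] at h1
    have h2 : (repMat ρ g⁻¹)ᵀ * (repMat ρ g)ᵀ = 1 := by
      rw [← Matrix.transpose_mul, repMat_mul_inv, Matrix.transpose_one]
    calc Hᵀ * cjM n (repMat ρ g)
        = (repMat ρ g⁻¹)ᵀ * (repMat ρ g)ᵀ * Hᵀ * cjM n (repMat ρ g) := by
          rw [h2, Matrix.one_mul]
      _ = (repMat ρ g⁻¹)ᵀ * ((repMat ρ g)ᵀ * Hᵀ * cjM n (repMat ρ g)) := by
          simp only [Matrix.mul_assoc]
      _ = (repMat ρ g⁻¹)ᵀ * Hᵀ := by rw [h1]
  obtain ⟨A₀, hA₀⟩ : ∃ A₀ : Matrix (Fin n) (Fin n) ℂ, A₀ = N * Hᵀ := ⟨_, rfl⟩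
  have hA₀X : ∀ g, repMat ρ g * A₀ = A₀ * cjM n (repMat ρ g) := by
    intro g
    rw [hA₀, ← Matrix.mul_assoc, hb g, Matrix.mul_assoc, ← ha g, Matrix.mul_assoc]
  have hT : ∀ g, (A₀ * cjM n A₀) * repMat ρ g = repMat ρ g * (A₀ * cjM n A₀) := by
    intro g
    calc (A₀ * cjM n A₀) * repMat ρ g = A₀ * cjM n (A₀ * cjM n (repMat ρ g)) := by
          rw [map_mul, cjM_cjM, Matrix.mul_assoc]
      _ = A₀ * cjM n (repMat ρ g * A₀) := by rw [hA₀X g]
      _ = (A₀ * cjM n (repMat ρ g)) * cjM n A₀ := by rw [map_mul, Matrix.mul_assoc]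
      _ = repMat ρ g * (A₀ * cjM n A₀) := by rw [← hA₀X g, Matrix.mul_assoc]
  obtain ⟨c, hc⟩ := schur_matrix ρ hρ _ hT
  -- positivity of `c`
  have hBu : IsUnit (H * N) := hHpd.isUnit.mul ((Matrix.isUnit_nonsing_inv_iff).mpr hMu)
  have hQ : (H * N * Hᵀ * star (H * N)).PosDef :=
    (Matrix.IsUnit.posDef_star_right_conjugate_iff hBu).mpr hHpd.transpose
  have hQeq : H * N * Hᵀ * star (H * N) = c • H := by
    have h1 : cjM n A₀ = star (H * N) := by
      rw [Matrix.star_eq_conjTranspose, Matrix.conjTranspose_mul, hHh, hA₀, map_mul,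
        cjM_transpose, hHh]
      refine congrArg (fun x => x * H) ?_
      conv_lhs => rw [← hNsym]
      rw [cjM_transpose]
    calc H * N * Hᵀ * star (H * N) = H * (A₀ * cjM n A₀) := by
          rw [h1, hA₀]; simp only [Matrix.mul_assoc]
      _ = c • H := by rw [hc, Matrix.mul_smul, Matrix.mul_one]
  have htr1 : 0 < H.trace := hHpd.trace_pos
  have htr2 : 0 < c * H.trace := by
    have := hQ.trace_pos
    rwa [hQeq, Matrix.trace_smul, smul_eq_mul] at this
  obtain ⟨ha1, ha2⟩ := Complex.pos_iff.mp htr1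
  obtain ⟨hb1, hb2⟩ := Complex.pos_iff.mp htr2
  set a : ℝ := H.trace.re with ha_def
  set b : ℝ := (c * H.trace).re with hb_def
  have hta : H.trace = (a : ℂ) := Complex.ext (by simp [ha_def]) (by simp [← ha2])
  have htb : c * H.trace = (b : ℂ) := Complex.ext (by simp [hb_def]) (by simp [← hb2])
  have hane : (a : ℂ) ≠ 0 := by exact_mod_cast ha1.ne'
  have hcr : c = ((b / a : ℝ) : ℂ) := by
    rw [Complex.ofReal_div, ← htb, hta, mul_div_cancel_right₀ _ hane]
  have hr : 0 < b / a := div_pos hb1 ha1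
  set r : ℝ := b / a with hr_def
  set t : ℝ := (Real.sqrt r)⁻¹ with ht_def
  have htt : (t : ℂ) * (t : ℂ) * c = 1 := by
    rw [hcr, ← Complex.ofReal_mul, ← Complex.ofReal_mul]
    have : t * t * r = 1 := by
      rw [ht_def, ← mul_inv, Real.mul_self_sqrt hr.le, inv_mul_cancel₀ hr.ne']
    rw [this, Complex.ofReal_one]
  refine ⟨(t : ℂ) • A₀, ?_, ?_⟩
  · rw [cjM_smul, Complex.conj_ofReal, Matrix.smul_mul, Matrix.mul_smul, smul_smul, hc,
      smul_smul, htt, one_smul]
  · intro g
    rw [Matrix.mul_smul, hA₀X g, Matrix.smul_mul]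

end RealStructure

section Main

variable {G : Type u} [Group G]

/-- A matrix representation over `ℝ` as a `Representation`. -/
noncomputable def realRepOfMat {n : ℕ} (R : G → Matrix (Fin n) (Fin n) ℝ) (hR1 : R 1 = 1)
    (hRmul : ∀ g h, R (g * h) = R g * R h) : Representation ℝ G (Fin n → ℝ) where
  toFun g := Matrix.toLin' (R g)
  map_one' := by rw [hR1, Matrix.toLin'_one]; rfl
  map_mul' g h := by rw [hRmul, Matrix.toLin'_mul]; rfl

theorem trace_realRepOfMat {n : ℕ} (R : G → Matrix (Fin n) (Fin n) ℝ) (hR1 : R 1 = 1)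
    (hRmul : ∀ g h, R (g * h) = R g * R h) (g : G) :
    LinearMap.trace ℝ (Fin n → ℝ) (realRepOfMat R hR1 hRmul g) = (R g).trace := by
  rw [LinearMap.trace_eq_matrix_trace ℝ (Pi.basisFun ℝ (Fin n))]
  simp [realRepOfMat, LinearMap.toMatrix_eq_toMatrix']

variable [Fintype G]

/-- **Frobenius–Schur**: an irreducible representation with indicator `1` is afforded by a
real representation. -/
theorem exists_real_rep_of_indicator_one {n : ℕ} (ρ : Representation ℂ G (Fin n → ℂ))
    (hρ : ρ.IsIrreducible)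
    (h1 : (Nat.card G : ℂ)⁻¹ * ∑ g : G, ρ.character (g * g) = 1) :
    ∃ σ : Representation ℝ G (Fin n → ℝ),
      ∀ g : G, ((LinearMap.trace ℝ (Fin n → ℝ) (σ g) : ℝ) : ℂ) = ρ.character g := by
  rcases fs_trichotomy ρ hρ with ⟨-, h0⟩ | ⟨-, ⟨M₀, hM0, hM⟩, c, -, hall, hν⟩
  · rw [h1] at h0
    exact absurd h0 one_ne_zero
  · have hc1 : c = 1 := by rw [← hν, h1]
    have hsym : M₀ᵀ = M₀ := by rw [hall M₀ hM, hc1, one_smul]
    obtain ⟨A, hA, hAX⟩ := exists_conj_structure ρ hρ hM hM0 hsym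
    obtain ⟨R, hR1, hRmul, hRtr⟩ :=
      exists_real_matrices (repMat ρ) (repMat_one ρ) (repMat_mul ρ) A hA hAX
    refine ⟨realRepOfMat R hR1 hRmul, fun g => ?_⟩
    rw [trace_realRepOfMat, hRtr, character_eq_trace]

/-- If an irreducible character is afforded by a real representation, its Frobenius–Schur
indicator is `1`. -/
theorem indicator_one_of_real_rep (χ : IrrCharacter G) {m : ℕ}
    (σ : Representation ℝ G (Fin m → ℝ))
    (h : ∀ g, ((LinearMap.trace ℝ (Fin m → ℝ) (σ g) : ℝ) : ℂ) = (χ : G → ℂ) g) :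
    (Nat.card G : ℂ)⁻¹ * ∑ s : G, (χ : G → ℂ) (s * s) = 1 := by
  classical
  obtain ⟨R, hRdef⟩ : ∃ R : G → Matrix (Fin m) (Fin m) ℝ,
      R = fun g => LinearMap.toMatrix' (σ g) := ⟨_, rfl⟩
  have hR1 : R 1 = 1 := by simp [hRdef]
  have hRmul : ∀ g h, R (g * h) = R g * R h := by
    intro g h; simp [hRdef, LinearMap.toMatrix'_mul]
  have hRtr : ∀ g, LinearMap.trace ℝ (Fin m → ℝ) (σ g) = (R g).trace := by
    intro g
    rw [LinearMap.trace_eq_matrix_trace ℝ (Pi.basisFun ℝ (Fin m))]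
    simp [hRdef, LinearMap.toMatrix_eq_toMatrix']
  obtain ⟨ρ', hρ'⟩ : ∃ ρ' : Representation ℂ G (Fin m → ℂ),
      ∀ g, repMat ρ' g = Complex.ofRealHom.mapMatrix (R g) := by
    refine ⟨{ toFun := fun g => Matrix.toLin' (Complex.ofRealHom.mapMatrix (R g))
              map_one' := by rw [hR1, map_one, Matrix.toLin'_one]; rfl
              map_mul' := fun g h => by rw [hRmul, map_mul, Matrix.toLin'_mul]; rfl }, ?_⟩
    intro g
    simp [repMat]
  have hchar : ∀ g, ρ'.character g = (χ : G → ℂ) g := by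
    intro g
    rw [character_eq_trace, hρ', ← h g, hRtr]
    exact (AddMonoidHom.map_trace Complex.ofRealHom (R g)).symm
  have hrealχ : ∀ g, conj ((χ : G → ℂ) g) = (χ : G → ℂ) g := by
    intro g; rw [← h g, Complex.conj_ofReal]
  have hfin : Module.finrank ℂ (fsForms ρ') = 1 := by
    have h1 := finrank_fsForms ρ'
    have h2 := irr_orthogonality' χ χ
    simp only [if_true] at h2
    have h3 : ∑ g : G, ρ'.character g * ρ'.character g = (Nat.card G : ℂ) := by
      rw [← h2]
      refine Finset.sum_congr rfl fun g _ => ?_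
      rw [hchar, hrealχ]
    rw [h3, inv_mul_cancel₀ card_ne_zero'] at h1
    exact_mod_cast h1
  obtain ⟨-, c, -, hall, hν⟩ := fs_of_finrank_eq_one ρ' hfin
  have hsym : (fsP ρ' 1)ᵀ = fsP ρ' 1 := by rw [← fsP_transpose, Matrix.transpose_one]
  -- the degree is positive
  have hm : 0 < m := by
    rcases Nat.eq_zero_or_pos m with rfl | hm
    · exfalso
      apply irr_one_ne_zero χ
      rw [← hchar 1, character_one]
      simp
    · exact hm
  -- the symmetric form is nonzero
  obtain ⟨Z, hZdef⟩ : ∃ Z : Matrix (Fin m) (Fin m) ℝ, Z = ∑ g : G, (R g)ᴴ * R g := ⟨_, rfl⟩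
  have hZ : Z.PosDef := by
    rw [hZdef, ← Finset.add_sum_erase Finset.univ _ (Finset.mem_univ (1 : G))]
    apply Matrix.PosDef.add_posSemidef
    · rw [hR1]; simpa using Matrix.PosDef.one
    · apply Matrix.posSemidef_sum
      intro g _
      exact Matrix.posSemidef_conjTranspose_mul_self _
  have hP : fsP ρ' 1 = (Nat.card G : ℂ)⁻¹ • Complex.ofRealHom.mapMatrix Z := by
    rw [fsP_apply, hZdef, map_sum]
    refine congrArg (fun x => (Nat.card G : ℂ)⁻¹ • x) ?_
    refine Finset.sum_congr rfl fun g _ => ?_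
    rw [hρ', Matrix.mul_one, map_mul, Matrix.conjTranspose_eq_transpose_of_trivial]
    rfl
  have hne : fsP ρ' 1 ≠ 0 := by
    intro h0
    have h5 := congrFun (congrFun h0 ⟨0, hm⟩) ⟨0, hm⟩
    rw [hP] at h5
    simp only [Matrix.smul_apply, RingHom.mapMatrix_apply, Matrix.map_apply, smul_eq_mul,
      Matrix.zero_apply, Complex.ofRealHom_eq_coe] at h5
    rcases mul_eq_zero.mp h5 with h6 | h6
    · exact inv_ne_zero card_ne_zero' h6
    · have := hZ.diag_pos (i := ⟨0, hm⟩)
      have h7 : Z ⟨0, hm⟩ ⟨0, hm⟩ = 0 := by exact_mod_cast h6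
      rw [h7] at this
      exact lt_irrefl _ this
  have hc1 : c = 1 := by
    have h4 := hall _ (fsP_mem ρ' 1)
    rw [hsym] at h4
    by_contra hne1
    apply hne
    have h5 : (1 - c) • fsP ρ' 1 = 0 := by rw [sub_smul, one_smul, ← h4, sub_self]
    rcases smul_eq_zero.mp h5 with h6 | h6
    · exact absurd (sub_eq_zero.mp h6).symm hne1
    · exact h6
  rw [← hc1, ← hν]
  refine congrArg (fun x => (Nat.card G : ℂ)⁻¹ * x) ?_
  exact Finset.sum_congr rfl fun g _ => (hchar _).symm

end Main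

end Cfsg.Agent.Lib.helper78
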