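import Mathlib
import Cfsg.Agent.Lib.helper8.SzPartition
import Cfsg.Agent.Lib.helper8.SzAut2

/-!
# S2111 split (architect helper51), piece SYL2: `subT_index_odd`

The translation subgroup of the Suzuki group is a Sylow 2-subgroup (helper8's `sylT`), so its index
is odd.
-/

set_option autoImplicit false

namespace Cfsg.Agent.Lib.helper78.S2111

open Cfsg.Agent.Lib.helper8

/-- PIECE SYL2: the translation subgroup has odd index. -/
theorem helper78_subT_index_odd {F : Type*} [Field F] [Fintype F] {m : ℕ} (hm : 1 ≤ m)
    (hF : Fintype.card F = 2 ^ (2 * m + 1)) :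
    ¬ 2 ∣ (subT (szHyp_of_card hF)).index := by
  classical
  have : Fact (Nat.Prime 2) := ⟨Nat.prime_two⟩
  rw [← coe_sylT hm hF]
  exact (sylT hm hF).not_dvd_index

end Cfsg.Agent.Lib.helper78.S2111
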