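import Mathlib
import Cfsg.Agent.Lib.helper69.StemSylow

set_option autoImplicit false

namespace Cfsg.Agent.Lib.helper78.S2113

open scoped commutatorElement
open Cfsg.Agent.Lib.helper69

/-- In a subgroup of exponent two any two elements commute. -/
theorem helper78_twoc_comm {G : Type*} [Group G] (S : Subgroup G) (hexp : ∀ x ∈ S, x * x = 1)
    (s t : G) (hs : s ∈ S) (ht : t ∈ S) : s * t = t * s := by
  have h := hexp _ (S.mul_mem hs ht)
  calc s * t = s * (s * t * (s * t)) * t := by rw [h]; group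
    _ = (s * s) * (t * s) * (t * t) := by group
    _ = t * s := by rw [hexp s hs, hexp t ht]; group

/-- The seven conjugates of a nontrivial element under a fixed-point-free element of order 7 exhaust
the nontrivial elements of a subgroup of order 8. -/
theorem helper78_twoc_orbit {G : Type*} [Group G] (S : Subgroup G) (hcard : Nat.card S = 8)
    (g : G) (hg : ∀ x ∈ S, g * x * g⁻¹ ∈ S) (hg7 : g ^ 7 = 1)
    (hfix : ∀ x ∈ S, g * x * g⁻¹ = x → x = 1) (s₀ : G) (hs₀ : s₀ ∈ S) (hne : s₀ ≠ 1) :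
    ∀ t ∈ S, t ≠ 1 → ∃ k : ZMod 7, t = g ^ k.val * s₀ * (g ^ k.val)⁻¹ := by
  have : Fact (Nat.Prime 7) := ⟨by norm_num⟩
  have hmem : ∀ (n : ℕ), ∀ x ∈ S, g ^ n * x * (g ^ n)⁻¹ ∈ S := by
    intro n
    induction n with
    | zero => intro x hx; simpa using hx
    | succ n ih =>
      intro x hx
      have h1 := ih _ (hg x hx)
      have e : g ^ (n + 1) * x * (g ^ (n + 1))⁻¹ = g ^ n * (g * x * g⁻¹) * (g ^ n)⁻¹ := by
        rw [pow_succ]; group
      rw [e]; exact h1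
  have hPadd : ∀ a b : ZMod 7, g ^ (a + b).val = g ^ a.val * g ^ b.val := by
    intro a b
    rw [ZMod.val_add, ← pow_add, ← pow_eq_pow_mod _ hg7]
  have hinj : Function.Injective (fun k : ZMod 7 => g ^ k.val * s₀ * (g ^ k.val)⁻¹) := by
    intro k l hkl
    by_contra hne'
    have hd : k - l ≠ 0 := sub_ne_zero.mpr hne'
    have hk : g ^ k.val = g ^ (k - l).val * g ^ l.val := by
      rw [← hPadd, sub_add_cancel]
    have hkl' : g ^ k.val * s₀ * (g ^ k.val)⁻¹ = g ^ l.val * s₀ * (g ^ l.val)⁻¹ := hkl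
    have h1 : g ^ (k - l).val * (g ^ l.val * s₀ * (g ^ l.val)⁻¹) * (g ^ (k - l).val)⁻¹
        = g ^ l.val * s₀ * (g ^ l.val)⁻¹ := by
      calc g ^ (k - l).val * (g ^ l.val * s₀ * (g ^ l.val)⁻¹) * (g ^ (k - l).val)⁻¹
          = (g ^ (k - l).val * g ^ l.val) * s₀ * (g ^ (k - l).val * g ^ l.val)⁻¹ := by group
        _ = g ^ k.val * s₀ * (g ^ k.val)⁻¹ := by rw [← hk]
        _ = g ^ l.val * s₀ * (g ^ l.val)⁻¹ := hkl'
    have hcm : Commute (g ^ (k - l).val) (g ^ l.val * s₀ * (g ^ l.val)⁻¹) := by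
      have := mul_inv_eq_iff_eq_mul.mp h1
      exact this
    have hpow : (g ^ (k - l).val) ^ ((k - l)⁻¹).val = g := by
      rw [← pow_mul, pow_eq_pow_mod _ hg7, ← ZMod.val_mul, mul_inv_cancel₀ hd]
      have hv : (1 : ZMod 7).val = 1 := rfl
      rw [hv, pow_one]
    have hcm2 : Commute g (g ^ l.val * s₀ * (g ^ l.val)⁻¹) := by
      have := hcm.pow_left ((k - l)⁻¹).val
      rwa [hpow] at this
    have h2 : g * (g ^ l.val * s₀ * (g ^ l.val)⁻¹) * g⁻¹ = g ^ l.val * s₀ * (g ^ l.val)⁻¹ := by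
      rw [hcm2.eq]; group
    have h3 := hfix _ (hmem _ _ hs₀) h2
    exact hne (conj_eq_one_iff.mp h3)
  have hfinS : (S : Set G).Finite := by
    have : Finite S := Nat.finite_of_card_ne_zero (by rw [hcard]; norm_num)
    exact Set.toFinite _
  have hsub : Set.range (fun k : ZMod 7 => g ^ k.val * s₀ * (g ^ k.val)⁻¹) ⊆ (S : Set G) \ {1} := by
    rintro _ ⟨k, rfl⟩
    refine ⟨hmem _ _ hs₀, ?_⟩
    simp only [Set.mem_singleton_iff]
    intro h
    exact hne (conj_eq_one_iff.mp h)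
  have hc1 : ((S : Set G) \ {1}).ncard = 7 := by
    rw [Set.ncard_sdiff_singleton_of_mem S.one_mem]
    have h8 : (S : Set G).ncard = 8 := (Nat.card_coe_set_eq (S : Set G)).symm.trans hcard
    rw [h8]
  have hc2 : (Set.range (fun k : ZMod 7 => g ^ k.val * s₀ * (g ^ k.val)⁻¹)).ncard = 7 := by
    rw [← Set.image_univ, Set.ncard_image_of_injective _ hinj, Set.ncard_univ, Nat.card_zmod]
  have heq := Set.eq_of_subset_of_ncard_le hsub (by rw [hc1, hc2]) (hfinS.sdiff)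
  intro t ht ht1
  have hmt : t ∈ (S : Set G) \ {1} := ⟨ht, ht1⟩
  rw [← heq] at hmt
  obtain ⟨k, hk⟩ := hmt
  exact ⟨k, hk.symm⟩

/-- PIECE TWOC (S2113): the preimage of a self-centralising `2³` with a fixed-point-free element of
order 7 in a central extension is abelian. -/
theorem helper78_two_comm {G Γ : Type*} [Group G] [Group Γ] (σ : Γ →* G) (hsurj : Function.Surjective σ)
    (hc : σ.ker ≤ Subgroup.center Γ) (S : Subgroup G) (hcard : Nat.card S = 8)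
    (hexp : ∀ x ∈ S, x * x = 1) (g : G) (hg : ∀ x ∈ S, g * x * g⁻¹ ∈ S) (hg7 : g ^ 7 = 1)
    (hfix : ∀ x ∈ S, g * x * g⁻¹ = x → x = 1)
    (hF : ∀ (f : ZMod 7 → Γ) (j : ZMod 7), (∀ a b, f a * f b = f b * f a) → f 0 = 1 →
      (∀ k, f k * f k = 1) → (∀ k, f (-k) = f k) → j ≠ 0 → j ≠ 1 →
      (∀ i, f (i + j) = f i * f (i + 1)) → ∀ k, f k = 1)
    (x y : Γ) (hx : σ x ∈ S) (hy : σ y ∈ S) : x * y = y * x := by
  classical
  by_cases hx1 : σ x = 1
  · have hxc : x ∈ Subgroup.center Γ := hc (MonoidHom.mem_ker.mpr hx1)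
    exact (Subgroup.mem_center_iff.mp hxc y).symm
  by_cases hy1 : σ y = 1
  · have hyc : y ∈ Subgroup.center Γ := hc (MonoidHom.mem_ker.mpr hy1)
    exact Subgroup.mem_center_iff.mp hyc x
  obtain ⟨γ, hγ⟩ := hsurj g
  have hcomS : ∀ s t : G, s ∈ S → t ∈ S → s * t = t * s :=
    fun s t hs ht => helper78_twoc_comm S hexp s t hs ht
  have hcen : ∀ a b : Γ, σ a ∈ S → σ b ∈ S → ⁅a, b⁆ ∈ Subgroup.center Γ := fun a b ha hb =>
    commutatorElement_mem_center_of_central σ hc a b (hcomS _ _ ha hb)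
  have hsq : ∀ a b : Γ, σ a ∈ S → σ b ∈ S → ⁅a, b⁆ * ⁅a, b⁆ = 1 := by
    intro a b ha hb
    rw [← stem_commutatorElement_mul_left a a b (hcen a b ha hb)]
    have haa : a * a ∈ Subgroup.center Γ :=
      hc (by rw [MonoidHom.mem_ker, map_mul]; exact hexp _ ha)
    rw [commutatorElement_eq_one_iff_mul_comm]
    exact (Subgroup.mem_center_iff.mp haa b).symm
  have hsymm : ∀ a b : Γ, σ a ∈ S → σ b ∈ S → ⁅b, a⁆ = ⁅a, b⁆ := by
    intro a b ha hb
    rw [← commutatorElement_inv a b]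
    exact inv_eq_of_mul_eq_one_left (hsq a b ha hb)
  have hPadd : ∀ a b : ZMod 7, g ^ (a + b).val = g ^ a.val * g ^ b.val := by
    intro a b
    rw [ZMod.val_add, ← pow_add, ← pow_eq_pow_mod _ hg7]
  have hmemS : ∀ (n : ℕ), ∀ s ∈ S, g ^ n * s * (g ^ n)⁻¹ ∈ S := by
    intro n
    induction n with
    | zero => intro s hs; simpa using hs
    | succ n ih =>
      intro s hs
      have h1 := ih _ (hg s hs)
      have e : g ^ (n + 1) * s * (g ^ (n + 1))⁻¹ = g ^ n * (g * s * g⁻¹) * (g ^ n)⁻¹ := by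
        rw [pow_succ]; group
      rw [e]; exact h1
  have hv1 : (1 : ZMod 7).val = 1 := rfl
  have hσX : ∀ k : ZMod 7, σ (γ ^ k.val * x * (γ ^ k.val)⁻¹) = g ^ k.val * σ x * (g ^ k.val)⁻¹ := by
    intro k; simp only [map_mul, map_inv, map_pow, hγ]
  have hXS : ∀ k : ZMod 7, σ (γ ^ k.val * x * (γ ^ k.val)⁻¹) ∈ S :=
    fun k => by rw [hσX]; exact hmemS _ _ hx
  obtain ⟨j, hj⟩ : ∃ j : ZMod 7, σ x * (g * σ x * g⁻¹) = g ^ j.val * σ x * (g ^ j.val)⁻¹ := by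
    apply helper78_twoc_orbit S hcard g hg hg7 hfix (σ x) hx hx1
    · exact S.mul_mem hx (hg _ hx)
    · intro h
      have h3 : σ x * σ x = 1 := hexp _ hx
      have h2 : g * σ x * g⁻¹ = σ x := by
        calc g * σ x * g⁻¹ = (σ x)⁻¹ * (σ x * (g * σ x * g⁻¹)) := by group
          _ = (σ x)⁻¹ * (σ x * σ x) := by rw [h, h3]
          _ = σ x := by group
      exact hx1 (hfix _ hx h2)
  have hj0 : j ≠ 0 := by
    rintro rfl
    have h2 : σ x * (g * σ x * g⁻¹) = σ x := by simpa using hj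
    have h3 : g * σ x * g⁻¹ = 1 := mul_eq_left.mp h2
    exact hx1 (conj_eq_one_iff.mp h3)
  have hj1 : j ≠ 1 := by
    rintro rfl
    rw [hv1, pow_one] at hj
    exact hx1 (mul_eq_right.mp hj)
  have hf := hF (fun k => ⁅x, γ ^ k.val * x * (γ ^ k.val)⁻¹⁆) j ?_ ?_ ?_ ?_ hj0 hj1 ?_
  · obtain ⟨k, hk⟩ := helper78_twoc_orbit S hcard g hg hg7 hfix (σ x) hx hx1 (σ y) hy hy1
    have h1 : ⁅x, y⁆ = ⁅x, γ ^ k.val * x * (γ ^ k.val)⁻¹⁆ :=
      commutatorElement_congr_of_central σ hc x x y _ rfl (by rw [hσX, hk])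
    have h2 : ⁅x, y⁆ = 1 := by rw [h1]; exact hf k
    exact commutatorElement_eq_one_iff_mul_comm.mp h2
  · intro a b
    exact Subgroup.mem_center_iff.mp (hcen x _ hx (hXS b)) _
  · show ⁅x, γ ^ (0 : ZMod 7).val * x * (γ ^ (0 : ZMod 7).val)⁻¹⁆ = 1
    have h0 : γ ^ (0 : ZMod 7).val * x * (γ ^ (0 : ZMod 7).val)⁻¹ = x := by
      rw [ZMod.val_zero, pow_zero]; group
    rw [h0, commutatorElement_self]
  · intro k; exact hsq x _ hx (hXS k)
  · intro k
    show ⁅x, γ ^ (-k).val * x * (γ ^ (-k).val)⁻¹⁆ = ⁅x, γ ^ k.val * x * (γ ^ k.val)⁻¹⁆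
    have e1 : ⁅γ ^ k.val * x * (γ ^ k.val)⁻¹,
        γ ^ k.val * (γ ^ (-k).val * x * (γ ^ (-k).val)⁻¹) * (γ ^ k.val)⁻¹⁆
        = ⁅x, γ ^ (-k).val * x * (γ ^ (-k).val)⁻¹⁆ :=
      commutatorElement_conj_of_central _ _ _ (hcen _ _ hx (hXS _))
    rw [← e1]
    have e2 : σ (γ ^ k.val * (γ ^ (-k).val * x * (γ ^ (-k).val)⁻¹) * (γ ^ k.val)⁻¹) = σ x := by
      simp only [map_mul, map_inv, map_pow, hγ]
      have h1 : g ^ k.val * g ^ (-k).val = 1 := by
        rw [← hPadd, add_neg_cancel, ZMod.val_zero, pow_zero]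
      calc g ^ k.val * (g ^ (-k).val * σ x * (g ^ (-k).val)⁻¹) * (g ^ k.val)⁻¹
          = (g ^ k.val * g ^ (-k).val) * σ x * (g ^ k.val * g ^ (-k).val)⁻¹ := by group
        _ = σ x := by rw [h1]; group
    rw [commutatorElement_congr_of_central σ hc (γ ^ k.val * x * (γ ^ k.val)⁻¹)
      (γ ^ k.val * x * (γ ^ k.val)⁻¹)
      (γ ^ k.val * (γ ^ (-k).val * x * (γ ^ (-k).val)⁻¹) * (γ ^ k.val)⁻¹) x rfl e2]
    exact hsymm x _ hx (hXS k)
  · intro i
    show ⁅x, γ ^ (i + j).val * x * (γ ^ (i + j).val)⁻¹⁆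
      = ⁅x, γ ^ i.val * x * (γ ^ i.val)⁻¹⁆ * ⁅x, γ ^ (i + 1).val * x * (γ ^ (i + 1).val)⁻¹⁆
    rw [← stem_commutatorElement_mul_right x _ _ (hcen _ _ hx (hXS _))]
    apply commutatorElement_congr_of_central σ hc x x _ _ rfl
    simp only [map_mul, map_inv, map_pow, hγ]
    rw [hPadd, hPadd, hv1, pow_one]
    calc g ^ i.val * g ^ j.val * σ x * (g ^ i.val * g ^ j.val)⁻¹
        = g ^ i.val * (g ^ j.val * σ x * (g ^ j.val)⁻¹) * (g ^ i.val)⁻¹ := by group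
      _ = g ^ i.val * (σ x * (g * σ x * g⁻¹)) * (g ^ i.val)⁻¹ := by rw [← hj]
      _ = g ^ i.val * σ x * (g ^ i.val)⁻¹ * (g ^ i.val * g * σ x * (g ^ i.val * g)⁻¹) := by group

end Cfsg.Agent.Lib.helper78.S2113
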