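/-
Piece P1 of S3366: in the setting `R = 3^{1+2}` normal in `X` with `X/R = SL(2,3)`, the
generator `z` of the centre of `R` is central in `X`.
-/
import Mathlib
import Cfsg.Agent.Lib.helper6.S3366Defs

set_option autoImplicit false

namespace Cfsg.Agent.Lib.helper78.S3366
open Cfsg.Agent.Lib.helper6.S3366

variable {X : Type*} [Group X] [Finite X] {R : Subgroup X} {π : X →* SL23} {z : X}

/-- An upper unitriangular element of order 3. -/
def p1u : SL23 := ⟨!![1, 1; 0, 1], by decide⟩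

/-- A lower unitriangular element of order 3. -/
def p1v : SL23 := ⟨!![1, 0; 1, 1], by decide⟩

theorem p1_gen : ∀ A : SL23, ∃ i j : Fin 3, ∃ e d : Fin 2,
    A = (p1u⁻¹ * p1v * p1u⁻¹) ^ (2 * e.val) * p1u ^ i.val * (p1u⁻¹ * p1v * p1u⁻¹) ^ d.val *
      p1u ^ j.val := by
  decide +kernel

theorem p1u_pow : p1u ^ 3 = 1 := by decide +kernel

theorem p1v_pow : p1v ^ 3 = 1 := by decide +kernel

theorem z_central (S : Setting X R π z) : ∀ g : X, g * z = z * g := by
  have hRn : ∀ g : X, ∀ r ∈ R, g * r * g⁻¹ ∈ R := by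
    intro g r hr
    rw [← S.ker] at hr ⊢
    simp [hr]
  have hzR : ∀ s ∈ R, z * s = s * z := (S.cent z S.zmem).mpr (Subgroup.mem_zpowers z)
  have hz3 : z ^ 3 = 1 := S.exp z S.zmem
  have hconj : ∀ g : X, g * z * g⁻¹ = z ∨ g * z * g⁻¹ = z⁻¹ := by
    intro g
    have hmem : g * z * g⁻¹ ∈ Subgroup.zpowers z := by
      rw [← S.cent _ (hRn g z S.zmem)]
      intro s hs
      have h0 : g⁻¹ * s * g ∈ R := by simpa using hRn g⁻¹ s hs
      have h1 := hzR (g⁻¹ * s * g) h0
      calc g * z * g⁻¹ * s = g * (z * (g⁻¹ * s * g)) * g⁻¹ := by group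
        _ = g * ((g⁻¹ * s * g) * z) * g⁻¹ := by rw [h1]
        _ = s * (g * z * g⁻¹) := by group
    obtain ⟨k, hk⟩ := Subgroup.mem_zpowers_iff.mp hmem
    have hmod : z ^ k = z ^ (k % 3) := by
      conv_lhs => rw [← Int.emod_add_mul_ediv k 3]
      rw [zpow_add, zpow_mul]
      have : z ^ (3 : ℤ) = 1 := by
        have := hz3
        exact_mod_cast this
      rw [this, one_zpow, mul_one]
    have hk3 : k % 3 = 0 ∨ k % 3 = 1 ∨ k % 3 = 2 := by omega
    rcases hk3 with h | h | h
    · exfalso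
      apply S.zne
      rw [hmod, h, zpow_zero] at hk
      have : z = g⁻¹ * (g * z * g⁻¹) * g := by group
      rw [this, ← hk]
      group
    · left
      rw [← hk, hmod, h, zpow_one]
    · right
      rw [← hk, hmod, h, eq_inv_iff_mul_eq_one]
      have : z ^ (2 : ℤ) * z = z ^ 3 := by group
      rw [this, hz3]
  have hord3 : ∀ g : X, π g ^ 3 = 1 → g * z = z * g := by
    intro g hg
    rcases hconj g with h | h
    · calc g * z = g * z * g⁻¹ * g := by group
        _ = z * g := by rw [h]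
    · exfalso
      have hg3 : g ^ 3 ∈ R := by rw [← S.ker, map_pow, hg]
      have h3 := hzR _ hg3
      have hc : g * z⁻¹ * g⁻¹ = z := by
        have : g * z⁻¹ * g⁻¹ = (g * z * g⁻¹)⁻¹ := by group
        rw [this, h, inv_inv]
      have h3' : g ^ 3 * z * (g ^ 3)⁻¹ = z⁻¹ := by
        have : g ^ 3 * z * (g ^ 3)⁻¹ = g * (g * (g * z * g⁻¹) * g⁻¹) * g⁻¹ := by
          rw [pow_succ, pow_succ, pow_one]
          group
        rw [this, h, hc, h]
      have hzz : z = z⁻¹ := by
        rw [← h3', ← h3]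
        group
      apply S.zne
      have hz2 : z * z = 1 := by
        nth_rewrite 1 [hzz]
        group
      have : z = z ^ 3 * (z * z)⁻¹ := by group
      rw [this, hz3, hz2]
      group
  have hK : ∀ A : SL23, A ^ 3 = 1 → A ∈ (Subgroup.centralizer ({z} : Set X)).map π := by
    intro A hA
    obtain ⟨g, rfl⟩ := S.surj A
    refine ⟨g, ?_, rfl⟩
    rw [SetLike.mem_coe, Subgroup.mem_centralizer_iff]
    intro y hy
    rw [Set.mem_singleton_iff] at hy
    subst hy
    exact (hord3 g hA).symm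
  have hu := hK _ p1u_pow
  have hv := hK _ p1v_pow
  have htop : ∀ A : SL23, A ∈ (Subgroup.centralizer ({z} : Set X)).map π := by
    intro A
    obtain ⟨i, j, e, d, rfl⟩ := p1_gen A
    have hs : p1u⁻¹ * p1v * p1u⁻¹ ∈ (Subgroup.centralizer ({z} : Set X)).map π :=
      Subgroup.mul_mem _ (Subgroup.mul_mem _ (Subgroup.inv_mem _ hu) hv) (Subgroup.inv_mem _ hu)
    exact Subgroup.mul_mem _ (Subgroup.mul_mem _ (Subgroup.mul_mem _ (Subgroup.pow_mem _ hs _)
      (Subgroup.pow_mem _ hu _)) (Subgroup.pow_mem _ hs _)) (Subgroup.pow_mem _ hu _)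
  intro g
  obtain ⟨c, hc, hcg⟩ := htop (π g)
  have hr : g * c⁻¹ ∈ R := by rw [← S.ker, map_mul, map_inv, hcg, mul_inv_cancel]
  have h1 := hzR _ hr
  have h2 : z * c = c * z := Subgroup.mem_centralizer_iff.mp hc z rfl
  calc g * z = (g * c⁻¹) * (c * z) := by group
    _ = (g * c⁻¹) * (z * c) := by rw [h2]
    _ = ((g * c⁻¹) * z) * c := by group
    _ = (z * (g * c⁻¹)) * c := by rw [h1]
    _ = z * g := by group

end Cfsg.Agent.Lib.helper78.S3366
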