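/-
Piece P6a of S3366: an abelian subgroup `E` of order 27 and exponent 3 meets `R` in a subgroup
of order 9 which is self-centralising in `R`.
-/
import Mathlib
import Cfsg.Agent.Lib.helper6.S3366Defs

set_option autoImplicit false

namespace Cfsg.Agent.Lib.helper78.S3366
open Cfsg.Agent.Lib.helper6.S3366

variable {X : Type*} [Group X] [Finite X] {R : Subgroup X} {π : X →* SL23} {z : X}

theorem p6a_sl : ∀ A B : SL23, A ^ 3 = 1 → B ^ 3 = 1 → A * B = B * A → A ≠ 1 →
    B = 1 ∨ B = A ∨ B = A ^ 2 := by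
  decide +kernel

theorem exists_w (S : Setting X R π z) (hz : ∀ g : X, g * z = z * g)
    (hK' : ∀ x : X, (∀ r ∈ R, x * r * x⁻¹ * r⁻¹ ∈ Subgroup.zpowers z) → x ∈ R)
    (E : Subgroup X) (hEc : ∀ a ∈ E, ∀ b ∈ E, a * b = b * a) (hE3 : ∀ a ∈ E, a ^ 3 = 1)
    (hEn : Nat.card E = 27) :
    ∃ e₀ ∈ E, e₀ ∉ R ∧
      (∃ w ∈ E, w ∈ R ∧ w ∉ Subgroup.zpowers z) ∧
      (∀ w ∈ E, w ∈ R → w ∉ Subgroup.zpowers z → ∀ r ∈ R, r * w = w * r → r ∈ E) ∧
      (∀ r ∈ R, e₀ * r * e₀⁻¹ * r⁻¹ ∈ Subgroup.zpowers z → r ∈ E) := by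
  classical
  have hz3 : z ^ 3 = 1 := S.exp z S.zmem
  have hZcard : Nat.card (Subgroup.zpowers z) ≤ 3 := by
    rw [Nat.card_zpowers]
    exact Nat.le_of_dvd (by norm_num) (orderOf_dvd_of_pow_eq_one hz3)
  have hZc : ∀ c ∈ Subgroup.zpowers z, ∀ g : X, g * c = c * g := by
    intro c hc g
    obtain ⟨k, rfl⟩ := Subgroup.mem_zpowers_iff.mp hc
    have : Commute g z := hz g
    exact (this.zpow_right k)
  -- `E ≠ R`
  have hER : ¬ E ≤ R := by
    intro hle
    have hEqR : E = R := Subgroup.eq_of_le_of_card_ge hle (by rw [hEn, S.card])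
    have hRZ : R ≤ Subgroup.zpowers z := by
      intro r hr
      rw [← S.cent r hr]
      intro s hs
      rw [← hEqR] at hr hs
      exact hEc r hr s hs
    have := Subgroup.card_le_of_le hRZ
    rw [S.card] at this
    omega
  obtain ⟨e₀, he₀, he₀R⟩ := SetLike.not_le_iff_exists.mp hER
  have hA3 : π e₀ ^ 3 = 1 := by rw [← map_pow, hE3 e₀ he₀, map_one]
  have hA1 : π e₀ ≠ 1 := fun h => he₀R ((S.ker e₀).mp h)
  -- the intersection `W`
  have hcover : ∀ e ∈ E, e ∈ E ⊓ R ∨ e * e₀⁻¹ ∈ E ⊓ R ∨ e * (e₀ ^ 2)⁻¹ ∈ E ⊓ R := by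
    intro e he
    have hB3 : π e ^ 3 = 1 := by rw [← map_pow, hE3 e he, map_one]
    have hAB : π e₀ * π e = π e * π e₀ := by rw [← map_mul, ← map_mul, hEc e₀ he₀ e he]
    rcases p6a_sl (π e₀) (π e) hA3 hB3 hAB hA1 with h | h | h
    · left
      exact Subgroup.mem_inf.mpr ⟨he, (S.ker e).mp h⟩
    · right; left
      refine Subgroup.mem_inf.mpr ⟨E.mul_mem he (E.inv_mem he₀), ?_⟩
      rw [← S.ker, map_mul, map_inv, h, mul_inv_cancel]
    · right; right
      refine Subgroup.mem_inf.mpr ⟨E.mul_mem he (E.inv_mem (E.pow_mem he₀ 2)), ?_⟩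
      rw [← S.ker, map_mul, map_inv, map_pow, h, mul_inv_cancel]
  have hsub : (E : Set X) ⊆ ((E ⊓ R : Subgroup X) : Set X) ∪
      (fun x => x * e₀) '' ((E ⊓ R : Subgroup X) : Set X) ∪
      (fun x => x * e₀ ^ 2) '' ((E ⊓ R : Subgroup X) : Set X) := by
    intro e he
    rcases hcover e he with h | h | h
    · exact Or.inl (Or.inl h)
    · exact Or.inl (Or.inr ⟨e * e₀⁻¹, h, by group⟩)
    · exact Or.inr ⟨e * (e₀ ^ 2)⁻¹, h, by group⟩
  have hWcard : 9 ≤ Nat.card (E ⊓ R : Subgroup X) := by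
    have h1 := Set.ncard_le_ncard hsub (Set.toFinite _)
    have h2 := Set.ncard_union_le (((E ⊓ R : Subgroup X) : Set X) ∪
      (fun x => x * e₀) '' ((E ⊓ R : Subgroup X) : Set X))
      ((fun x => x * e₀ ^ 2) '' ((E ⊓ R : Subgroup X) : Set X))
    have h3 := Set.ncard_union_le ((E ⊓ R : Subgroup X) : Set X)
      ((fun x => x * e₀) '' ((E ⊓ R : Subgroup X) : Set X))
    have h4 := Set.ncard_image_le (f := fun x => x * e₀) (s := ((E ⊓ R : Subgroup X) : Set X))
      (Set.toFinite _)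
    have h5 := Set.ncard_image_le (f := fun x => x * e₀ ^ 2)
      (s := ((E ⊓ R : Subgroup X) : Set X)) (Set.toFinite _)
    have h6 : (E : Set X).ncard = 27 := by
      rw [← hEn]
      exact (Nat.card_coe_set_eq (E : Set X)).symm
    have h7 : (((E ⊓ R : Subgroup X) : Set X)).ncard = Nat.card (E ⊓ R : Subgroup X) :=
      (Nat.card_coe_set_eq ((E ⊓ R : Subgroup X) : Set X)).symm
    omega
  -- the lemma on intermediate subgroups
  have hlemma : ∀ H : Subgroup X, E ⊓ R ≤ H → H ≤ R → H ≠ R → H ≤ E := by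
    intro H hWH hHR hne
    have hdvd : Nat.card H ∣ 27 := by
      rw [← S.card]
      exact Subgroup.card_dvd_of_le hHR
    have hne27 : Nat.card H ≠ 27 := by
      intro h27
      exact hne (Subgroup.eq_of_le_of_card_ge hHR (by rw [h27, S.card]))
    have hle9 : Nat.card H ≤ 9 := by
      have h27 : (27 : ℕ) = 3 ^ 3 := by norm_num
      rw [h27, Nat.dvd_prime_pow Nat.prime_three] at hdvd
      obtain ⟨k, hk, hk'⟩ := hdvd
      have hk3 : k ≠ 3 := by
        intro h
        rw [h] at hk'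
        exact hne27 (hk'.trans (by norm_num))
      interval_cases k <;> omega
    have hEq : E ⊓ R = H := Subgroup.eq_of_le_of_card_ge hWH (le_trans hle9 hWcard)
    rw [← hEq]
    exact inf_le_left
  refine ⟨e₀, he₀, he₀R, ?_, ?_, ?_⟩
  · -- some `w ∈ W \ Z`
    have hWZ : ¬ (E ⊓ R : Subgroup X) ≤ Subgroup.zpowers z := by
      intro hle
      have := Subgroup.card_le_of_le hle
      omega
    obtain ⟨w, hw, hwZ⟩ := SetLike.not_le_iff_exists.mp hWZ
    rw [Subgroup.mem_inf] at hw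
    exact ⟨w, hw.1, hw.2, hwZ⟩
  · intro w hwE hwR hwZ r hr hrw
    have hH : R ⊓ Subgroup.centralizer ({w} : Set X) ≤ E := by
      apply hlemma
      · intro x hx
        rw [Subgroup.mem_inf] at hx
        refine Subgroup.mem_inf.mpr ⟨hx.2, ?_⟩
        rw [Subgroup.mem_centralizer_iff]
        intro y hy
        rw [Set.mem_singleton_iff] at hy
        subst hy
        exact hEc y hwE x hx.1
      · exact inf_le_left
      · intro hEq
        apply hwZ
        rw [← S.cent w hwR]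
        intro s hs
        have hs' : s ∈ R ⊓ Subgroup.centralizer ({w} : Set X) := by
          rw [hEq]
          exact hs
        rw [Subgroup.mem_inf] at hs'
        exact Subgroup.mem_centralizer_iff.mp hs'.2 w rfl
    apply hH
    refine Subgroup.mem_inf.mpr ⟨hr, ?_⟩
    rw [Subgroup.mem_centralizer_iff]
    intro y hy
    rw [Set.mem_singleton_iff] at hy
    subst hy
    exact hrw.symm
  · intro r hr hrZ
    let H : Subgroup X :=
      { carrier := {r | r ∈ R ∧ e₀ * r * e₀⁻¹ * r⁻¹ ∈ Subgroup.zpowers z}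
        one_mem' := ⟨R.one_mem, by simp⟩
        mul_mem' := by
          rintro a b ⟨ha, haZ⟩ ⟨hb, hbZ⟩
          refine ⟨R.mul_mem ha hb, ?_⟩
          have h1 : e₀ * (a * b) * e₀⁻¹ * (a * b)⁻¹ =
              (e₀ * a * e₀⁻¹ * a⁻¹) * (a * (e₀ * b * e₀⁻¹ * b⁻¹) * a⁻¹) := by group
          have h2 : a * (e₀ * b * e₀⁻¹ * b⁻¹) * a⁻¹ = e₀ * b * e₀⁻¹ * b⁻¹ := by
            rw [hZc _ hbZ a]
            group
          rw [h1, h2]
          exact Subgroup.mul_mem _ haZ hbZ
        inv_mem' := by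
          rintro a ⟨ha, haZ⟩
          refine ⟨R.inv_mem ha, ?_⟩
          have h1 : e₀ * a⁻¹ * e₀⁻¹ * a⁻¹⁻¹ = a⁻¹ * (e₀ * a * e₀⁻¹ * a⁻¹)⁻¹ * a := by group
          have h2 : a⁻¹ * (e₀ * a * e₀⁻¹ * a⁻¹)⁻¹ * a = (e₀ * a * e₀⁻¹ * a⁻¹)⁻¹ := by
            rw [hZc _ (Subgroup.inv_mem _ haZ) a⁻¹]
            group
          rw [h1, h2]
          exact Subgroup.inv_mem _ haZ }
    have hH : H ≤ E := by
      apply hlemma
      · intro x hx
        rw [Subgroup.mem_inf] at hx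
        refine ⟨hx.2, ?_⟩
        have : e₀ * x * e₀⁻¹ * x⁻¹ = 1 := by
          rw [hEc e₀ he₀ x hx.1]
          group
        rw [this]
        exact Subgroup.one_mem _
      · intro x hx
        exact hx.1
      · intro hEq
        apply he₀R
        apply hK'
        intro s hs
        have hs' : s ∈ H := by
          rw [hEq]
          exact hs
        exact hs'.2
    exact hH ⟨hr, hrZ⟩

end Cfsg.Agent.Lib.helper78.S3366
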