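import Mathlib

/-!
# S3350 split (architect helper70), piece N2a: `exists_stab_iso`

The two coordinatizations of `K ⊓ J` (as the image of a two-point stabilizer under `eK` and under `eJ`)
differ by an isomorphism of the two-point stabilizers.
-/

set_option autoImplicit false
open Equiv MulAction

namespace Cfsg.Agent.Lib.helper70.SR

/-- N2a (the two coordinatizations of `K ⊓ J`). -/
theorem exists_stab_iso (m : ℕ) {G : Type*} [Group G] (K J : Subgroup G)
    (eK : Perm (Fin m) ≃* K) (eJ : Perm (Fin m) ≃* J) (a b a' b' : Fin m)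
    (hIK : K ⊓ J = (stabilizer (Perm (Fin m)) a ⊓ stabilizer (Perm (Fin m)) b).map
      (K.subtype.comp eK.toMonoidHom))
    (hIJ : K ⊓ J = (stabilizer (Perm (Fin m)) a' ⊓ stabilizer (Perm (Fin m)) b').map
      (J.subtype.comp eJ.toMonoidHom)) :
    ∃ φ : ↥(stabilizer (Perm (Fin m)) a ⊓ stabilizer (Perm (Fin m)) b) ≃*
        ↥(stabilizer (Perm (Fin m)) a' ⊓ stabilizer (Perm (Fin m)) b'),
      ∀ σ : ↥(stabilizer (Perm (Fin m)) a ⊓ stabilizer (Perm (Fin m)) b),
        ((eJ ((φ σ : ↥(stabilizer (Perm (Fin m)) a' ⊓ stabilizer (Perm (Fin m)) b')) :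
          Perm (Fin m)) : J) : G) = ((eK (σ : Perm (Fin m)) : K) : G) := by
  have hfK : Function.Injective (K.subtype.comp eK.toMonoidHom) := by
    intro s t hst
    apply eK.injective
    apply Subtype.ext
    exact hst
  have hfJ : Function.Injective (J.subtype.comp eJ.toMonoidHom) := by
    intro s t hst
    apply eJ.injective
    apply Subtype.ext
    exact hst
  have hEq : (stabilizer (Perm (Fin m)) a ⊓ stabilizer (Perm (Fin m)) b).map
      (K.subtype.comp eK.toMonoidHom) =
      (stabilizer (Perm (Fin m)) a' ⊓ stabilizer (Perm (Fin m)) b').map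
      (J.subtype.comp eJ.toMonoidHom) := hIK.symm.trans hIJ
  refine ⟨(Subgroup.equivMapOfInjective _ _ hfK).trans ((MulEquiv.subgroupCongr hEq).trans
    (Subgroup.equivMapOfInjective _ _ hfJ).symm), ?_⟩
  intro σ
  have h1 : (((Subgroup.equivMapOfInjective _ _ hfJ)
      ((Subgroup.equivMapOfInjective _ _ hfJ).symm
        ((MulEquiv.subgroupCongr hEq) ((Subgroup.equivMapOfInjective _ _ hfK) σ))) :
      ↥((stabilizer (Perm (Fin m)) a' ⊓ stabilizer (Perm (Fin m)) b').map
        (J.subtype.comp eJ.toMonoidHom))) : G) =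
      ((K.subtype.comp eK.toMonoidHom) (σ : Perm (Fin m))) := by
    rw [MulEquiv.apply_symm_apply]
    rfl
  rw [Subgroup.coe_equivMapOfInjective_apply] at h1
  exact h1

end Cfsg.Agent.Lib.helper70.SR
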