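import Mathlib
import Cfsg.Agent.Lib.helper45.SVDefs

/-! S2425 piece FIXC, racing copy (helper78): fixed points of `x` on `G ⧸ Stab(e)` correspond to the
fixed points of `x` in the orbit of `e`. -/

set_option autoImplicit false
open scoped MatrixGroups

namespace Cfsg.Agent.Lib.helper45.SV

/-- FIXC (racing copy). -/
theorem h78_card_fixedBy_quotient {G X : Type*} [Group G] [MulAction G X] (e : X) (x : G) :
    Nat.card (MulAction.fixedBy (G ⧸ MulAction.stabilizer G e) x) =
      Nat.card {y : X // y ∈ MulAction.orbit G e ∧ x • y = y} := by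
  apply Nat.card_congr
  refine Equiv.ofBijective
    (fun q => ⟨MulAction.ofQuotientStabilizer G e q.1,
      MulAction.ofQuotientStabilizer_mem_orbit G e q.1, ?_⟩) ⟨?_, ?_⟩
  · have h := q.2
    rw [MulAction.mem_fixedBy] at h
    rw [← MulAction.ofQuotientStabilizer_smul, h]
  · intro q q' hqq
    have h1 : MulAction.ofQuotientStabilizer G e q.1 = MulAction.ofQuotientStabilizer G e q'.1 :=
      congrArg Subtype.val hqq
    exact Subtype.ext (MulAction.injective_ofQuotientStabilizer G e h1)
  · rintro ⟨y, ⟨g, rfl⟩, hy⟩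
    have hq : (QuotientGroup.mk g : G ⧸ MulAction.stabilizer G e) ∈
        MulAction.fixedBy (G ⧸ MulAction.stabilizer G e) x := by
      rw [MulAction.mem_fixedBy]
      apply MulAction.injective_ofQuotientStabilizer G e
      rw [MulAction.ofQuotientStabilizer_smul, MulAction.ofQuotientStabilizer_mk]
      exact hy
    refine ⟨⟨QuotientGroup.mk g, hq⟩, ?_⟩
    apply Subtype.ext
    exact MulAction.ofQuotientStabilizer_mk G e g

end Cfsg.Agent.Lib.helper45.SV
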