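import Mathlib
import Cfsg.Agent.Lib.helper45.SVDefs

/-! S2425 piece IRR, racing copy (helper78): an endomorphism of a finite nontrivial module without
proper nonzero invariant subspaces has an irreducible characteristic polynomial. -/

set_option autoImplicit false
open scoped MatrixGroups

namespace Cfsg.Agent.Lib.helper45.SV

open Polynomial in
/-- IRR (racing copy). -/
theorem h78_charpoly_irreducible_of_simple {F : Type*} [Field F] {N : Type*} [AddCommGroup N] [Module F N]
    [Finite N] (R : Module.End F N) (hN : Nontrivial N)
    (hR : ∀ U : Submodule F N, (∀ v ∈ U, R v ∈ U) → U = ⊥ ∨ U = ⊤) :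
    Irreducible R.charpoly := by
  classical
  obtain ⟨v, hv⟩ := exists_ne (0 : N)
  have : Nontrivial (Module.End F N) := ⟨⟨0, 1, fun h => hv (by
    have h1 := LinearMap.congr_fun h v
    simpa using h1.symm)⟩⟩
  have hint : IsIntegral F R := LinearMap.isIntegral R
  have hμm : (minpoly F R).Monic := minpoly.monic hint
  have hμ0 : minpoly F R ≠ 0 := minpoly.ne_zero hint
  -- the minimal polynomial is irreducible
  have hirr : Irreducible (minpoly F R) := by
    rw [irreducible_iff]
    refine ⟨minpoly.not_isUnit F R, ?_⟩
    intro a b hab
    have ha0 : a ≠ 0 := by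
      rintro rfl
      rw [zero_mul] at hab
      exact hμ0 hab
    have hb0 : b ≠ 0 := by
      rintro rfl
      rw [mul_zero] at hab
      exact hμ0 hab
    have hprod : aeval R a * aeval R b = 0 := by
      rw [← map_mul, ← hab, minpoly.aeval]
    have hinv : ∀ w ∈ LinearMap.ker (aeval R a), R w ∈ LinearMap.ker (aeval R a) := by
      intro w hw
      rw [LinearMap.mem_ker] at hw ⊢
      have hcomm : aeval R a * R = R * aeval R a := by
        have h1 : aeval R a * aeval R (X : F[X]) = aeval R (X : F[X]) * aeval R a := by
          rw [← map_mul, ← map_mul, mul_comm]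
        rwa [aeval_X] at h1
      have h2 : (aeval R a) (R w) = (aeval R a * R) w := rfl
      rw [h2, hcomm, Module.End.mul_apply, hw, map_zero]
    rcases hR _ hinv with hbot | htop
    · -- a(R) injective, so b(R) = 0
      left
      have hb : aeval R b = 0 := by
        apply LinearMap.ext
        intro w
        have h1 : (aeval R a) ((aeval R b) w) = 0 := by
          have h2 := LinearMap.congr_fun hprod w
          simpa using h2
        have h3 : (aeval R b) w ∈ LinearMap.ker (aeval R a) := LinearMap.mem_ker.mpr h1
        rw [hbot, Submodule.mem_bot] at h3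
        simpa using h3
      have hdvd : minpoly F R ∣ b := minpoly.dvd F R hb
      rw [hab] at hdvd
      have h4 : a * b ∣ 1 * b := by rwa [one_mul]
      exact isUnit_of_dvd_one ((mul_dvd_mul_iff_right hb0).mp h4)
    · right
      have ha : aeval R a = 0 := by
        apply LinearMap.ext
        intro w
        have h3 : w ∈ LinearMap.ker (aeval R a) := by rw [htop]; exact Submodule.mem_top
        simpa using LinearMap.mem_ker.mp h3
      have hdvd : minpoly F R ∣ a := minpoly.dvd F R ha
      rw [hab] at hdvd
      have h4 : a * b ∣ a * 1 := by rwa [mul_one]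
      exact isUnit_of_dvd_one ((mul_dvd_mul_iff_left ha0).mp h4)
  -- cyclic vector: finrank ≤ degree of the minimal polynomial
  let ev : F[X] →ₗ[F] N := (LinearMap.applyₗ v).comp (aeval R).toLinearMap
  have hev : ∀ p : F[X], ev p = (aeval R p) v := fun p => rfl
  have hrange : LinearMap.range ev = ⊤ := by
    have hinv : ∀ w ∈ LinearMap.range ev, R w ∈ LinearMap.range ev := by
      rintro _ ⟨p, rfl⟩
      refine ⟨X * p, ?_⟩
      rw [hev, hev, map_mul, aeval_X, Module.End.mul_apply]
    rcases hR _ hinv with hbot | htop
    · exfalso
      have h1 : v ∈ LinearMap.range ev := ⟨1, by rw [hev, map_one, Module.End.one_apply]⟩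
      rw [hbot, Submodule.mem_bot] at h1
      exact hv h1
    · exact htop
  have hdeg : Module.finrank F N ≤ (minpoly F R).natDegree := by
    let gl : (degreeLT F (minpoly F R).natDegree) →ₗ[F] N :=
      ev.comp (degreeLT F (minpoly F R).natDegree).subtype
    have hsurj : Function.Surjective gl := by
      intro y
      have hy : y ∈ LinearMap.range ev := by rw [hrange]; exact Submodule.mem_top
      obtain ⟨p, rfl⟩ := hy
      have hmem : p %ₘ minpoly F R ∈ degreeLT F (minpoly F R).natDegree := by
        rw [mem_degreeLT]
        have h1 := degree_modByMonic_lt p hμm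
        rwa [degree_eq_natDegree hμ0] at h1
      refine ⟨⟨p %ₘ minpoly F R, hmem⟩, ?_⟩
      show ev (p %ₘ minpoly F R) = ev p
      rw [hev, hev, modByMonic_eq_sub_mul_div p (minpoly F R), map_sub, map_mul, minpoly.aeval, zero_mul,
        sub_zero]
    have h1 := LinearMap.finrank_range_le gl
    rw [LinearMap.range_eq_top.mpr hsurj, finrank_top] at h1
    have h2 : Module.finrank F (degreeLT F (minpoly F R).natDegree) = (minpoly F R).natDegree :=
      (degreeLTEquiv F _).finrank_eq.trans (Module.finrank_fin_fun F)
    rw [h2] at h1
    exact h1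
  have hcm : R.charpoly = minpoly F R := by
    apply eq_of_monic_of_dvd_of_natDegree_le hμm (LinearMap.charpoly_monic R)
      (LinearMap.minpoly_dvd_charpoly R)
    rw [LinearMap.charpoly_natDegree]
    exact hdeg
  rw [hcm]
  exact hirr

end Cfsg.Agent.Lib.helper45.SV
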