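import Mathlib
import Cfsg.Agent.Lib.helper24.SfoDefs

/-! S5981 piece OEVEN (helper78): the support of an isometry of odd prime order `r ∤ q - 1` of a
nondegenerate quadratic form (odd characteristic) is even-dimensional. -/

set_option autoImplicit false

namespace Cfsg.Agent.Lib.helper24

open Module Matrix Cfsg.Geo

/-- no nontrivial `r`-th roots of unity when `r ∤ q - 1` -/
theorem h78_eq_one_of_pow_prime {F : Type*} [Field F] [Fintype F] (r : ℕ) [Fact r.Prime]
    (hnd : ¬ r ∣ Fintype.card F - 1) (a : F) (ha : a ^ r = 1) : a = 1 := by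
  have ha0 : a ≠ 0 := by
    rintro rfl
    rw [zero_pow (Fact.out : r.Prime).ne_zero] at ha
    exact zero_ne_one ha
  have h1 : orderOf a ∣ r := orderOf_dvd_of_pow_eq_one ha
  have h2 : orderOf a ∣ Fintype.card F - 1 :=
    orderOf_dvd_of_pow_eq_one (FiniteField.pow_card_sub_one_eq_one a ha0)
  rcases (Nat.dvd_prime (Fact.out : r.Prime)).mp h1 with h | h
  · exact orderOf_eq_one_iff.mp h
  · rw [h] at h2
    exact absurd h2 hnd

/-- A skew-symmetric bilinear form (characteristic not 2) has a radical of even codimension. -/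
theorem h78_skew_even {F V : Type*} [Field F] [AddCommGroup V] [Module F V]
    [FiniteDimensional F V] (h2 : (2 : F) ≠ 0) (ω : V →ₗ[F] V →ₗ[F] F)
    (hskew : ∀ u v, ω v u = - ω u v) (K : Submodule F V)
    (hK : ∀ u, u ∈ K ↔ ∀ v, ω u v = 0) :
    Even (Module.finrank F V - Module.finrank F K) := by
  classical
  obtain ⟨W, hW⟩ := Submodule.exists_isCompl K
  have hdim : Module.finrank F K + Module.finrank F W = Module.finrank F V :=
    Submodule.finrank_add_eq_of_isCompl hW
  have hd : Module.finrank F V - Module.finrank F K = Module.finrank F W := by omega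
  rw [hd]
  obtain ⟨d, hddef⟩ : ∃ d, d = Module.finrank F W := ⟨_, rfl⟩
  rw [← hddef]
  let b : Basis (Fin d) F W := (Module.finBasis F W).reindex (finCongr hddef.symm)
  let M : Matrix (Fin d) (Fin d) F := fun i j => ω (b i : V) (b j : V)
  have hMT : Mᵀ = -M := by
    ext i j
    show ω (b j : V) (b i : V) = - ω (b i : V) (b j : V)
    exact hskew _ _
  have hdet : M.det ≠ 0 := by
    intro h0
    obtain ⟨c, hc0, hc⟩ := Matrix.exists_mulVec_eq_zero_iff.mpr h0
    obtain ⟨w, hw⟩ : ∃ w : W, w = ∑ j, c j • b j := ⟨_, rfl⟩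
    have h1 : ∀ i, ω (b i : V) (w : V) = 0 := by
      intro i
      have h2 := congrFun hc i
      simp only [Matrix.mulVec, dotProduct, Pi.zero_apply, M] at h2
      rw [hw, Submodule.coe_sum, map_sum, ← h2]
      apply Finset.sum_congr rfl
      intro j _
      rw [Submodule.coe_smul, map_smul, smul_eq_mul, mul_comm]
    have h3 : ∀ w' : W, ω (w' : V) (w : V) = 0 := by
      intro w'
      have h4 : (ω.flip (w : V)).comp W.subtype = 0 := by
        apply b.ext
        intro i
        simp only [LinearMap.comp_apply, Submodule.subtype_apply, LinearMap.flip_apply,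
          LinearMap.zero_apply]
        exact h1 i
      have h5 := LinearMap.congr_fun h4 w'
      simpa using h5
    have h5 : ∀ v : V, ω v (w : V) = 0 := by
      intro v
      have hv : v ∈ K ⊔ W := by rw [hW.sup_eq_top]; exact Submodule.mem_top
      obtain ⟨k, hk, w', hw', rfl⟩ := Submodule.mem_sup.mp hv
      rw [map_add, LinearMap.add_apply, (hK k).mp hk, zero_add]
      exact h3 ⟨w', hw'⟩
    have h6 : (w : V) ∈ K := by
      rw [hK]
      intro v
      rw [hskew v (w : V), h5, neg_zero]
    have h7 : (w : V) ∈ K ⊓ W := ⟨h6, w.2⟩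
    rw [hW.inf_eq_bot, Submodule.mem_bot] at h7
    have h8 : w = 0 := Subtype.ext h7
    have h9 := Fintype.linearIndependent_iff.mp b.linearIndependent c (by rw [← hw]; exact h8)
    exact hc0 (funext h9)
  have h10 : M.det = (-1) ^ d * M.det := by
    conv_lhs => rw [← Matrix.det_transpose, hMT, Matrix.det_neg, Fintype.card_fin]
  rcases Nat.even_or_odd d with he | ho
  · exact he
  · exfalso
    rw [ho.neg_one_pow] at h10
    have h11 : (2 : F) * M.det = 0 := by linear_combination h10
    rcases mul_eq_zero.mp h11 with h | h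
    · exact h2 h
    · exact hdet h

/-- OEVEN -/
theorem sfo_fix_even {F : Type*} [Field F] [Fintype F] {n : ℕ} (h2 : (2 : F) ≠ 0)
    (Q : (Fin n → F) → F) (hQ : IsNondegenerateQuadraticForm Q) (r : ℕ) [Fact r.Prime]
    (hr2 : r ≠ 2) (hrF : (r : F) ≠ 0) (hnd : ¬ r ∣ Fintype.card F - 1) (g : GL (Fin n) F)
    (hg : g ∈ quadSimilarityGroup Q) (hgr : (g : Matrix (Fin n) (Fin n) F) ^ r = 1) :
    Even (n - Module.finrank F
      (LinearMap.ker (Matrix.toLin' (g : Matrix (Fin n) (Fin n) F) - 1))) := by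
  classical
  have hr : r.Prime := Fact.out
  rcases Nat.eq_zero_or_pos n with hn0 | hn
  · subst hn0
    simp
  obtain ⟨gm, hgm⟩ : ∃ gm : Matrix (Fin n) (Fin n) F, gm = (g : Matrix (Fin n) (Fin n) F) :=
    ⟨_, rfl⟩
  rw [← hgm] at hgr ⊢
  obtain ⟨c, hc⟩ := hg
  rw [← hgm] at hc
  -- the polar form
  have Bsymm : ∀ u v, QuadraticMap.polar Q u v = QuadraticMap.polar Q v u :=
    fun u v => QuadraticMap.polar_comm Q u v
  have Bl_add := hQ.polar_bilinear.add_left
  have Bl_smul := hQ.polar_bilinear.smul_left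
  have Br_add : ∀ v x y, QuadraticMap.polar Q v (x + y)
      = QuadraticMap.polar Q v x + QuadraticMap.polar Q v y := by
    intro v x y
    rw [Bsymm v (x + y), Bl_add, Bsymm x v, Bsymm y v]
  have Br_smul : ∀ (a : F) (v x : Fin n → F), QuadraticMap.polar Q v (a • x)
      = a * QuadraticMap.polar Q v x := by
    intro a v x
    rw [Bsymm v (a • x), Bl_smul, Bsymm x v]
  have Bl_sub : ∀ x y v, QuadraticMap.polar Q (x - y) v
      = QuadraticMap.polar Q x v - QuadraticMap.polar Q y v := by
    intro x y v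
    have h1 := Bl_add (x - y) y v
    rw [sub_add_cancel] at h1
    rw [h1]; ring
  -- a vector with nonzero value
  obtain ⟨v₀, hv₀⟩ : ∃ v₀, Q v₀ ≠ 0 := by
    have hne : (Pi.single (⟨0, hn⟩ : Fin n) (1 : F) : Fin n → F) ≠ 0 := by
      intro h
      have h1 := congrFun h ⟨0, hn⟩
      simp at h1
    obtain ⟨x, hx⟩ := (hQ.nondegenerate _ hne).1
    by_contra hcon
    have hcon' : ∀ v, Q v = 0 := fun v => by
      by_contra h
      exact hcon ⟨v, h⟩
    apply hx
    simp only [QuadraticMap.polar, hcon', sub_zero]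
  -- the multiplier is one
  have hpow : ∀ (k : ℕ) (v : Fin n → F), Q ((gm ^ k) *ᵥ v) = (c : F) ^ k * Q v := by
    intro k
    induction k with
    | zero => intro v; simp
    | succ k ih =>
      intro v
      rw [pow_succ, ← Matrix.mulVec_mulVec, ih, hc, pow_succ, mul_assoc]
  have hc1 : (c : F) = 1 := by
    apply h78_eq_one_of_pow_prime r hnd
    have h1 := hpow r v₀
    rw [hgr, Matrix.one_mulVec] at h1
    have h3 : (c : F) ^ r * Q v₀ = 1 * Q v₀ := by rw [one_mul]; exact h1.symm
    exact mul_right_cancel₀ hv₀ h3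
  have hiso : ∀ v, Q (gm *ᵥ v) = Q v := by
    intro v
    rw [hc, hc1, one_mul]
  have hBiso : ∀ u v, QuadraticMap.polar Q (gm *ᵥ u) (gm *ᵥ v) = QuadraticMap.polar Q u v := by
    intro u v
    simp only [QuadraticMap.polar]
    rw [← Matrix.mulVec_add, hiso, hiso, hiso]
  -- the skew form
  let ω : (Fin n → F) →ₗ[F] (Fin n → F) →ₗ[F] F :=
    LinearMap.mk₂ F (fun u v => QuadraticMap.polar Q (gm *ᵥ u) v - QuadraticMap.polar Q u (gm *ᵥ v))
      (by intro u u' v; simp only [Matrix.mulVec_add, Bl_add]; ring)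
      (by intro a u v; simp only [Matrix.mulVec_smul, Bl_smul, smul_eq_mul]; ring)
      (by intro u v v'; simp only [Matrix.mulVec_add, Br_add]; ring)
      (by intro a u v; simp only [Matrix.mulVec_smul, Br_smul, smul_eq_mul]; ring)
  have hω : ∀ u v, ω u v
      = QuadraticMap.polar Q (gm *ᵥ u) v - QuadraticMap.polar Q u (gm *ᵥ v) := fun u v => rfl
  have hskew : ∀ u v, ω v u = - ω u v := by
    intro u v
    rw [hω, hω, Bsymm (gm *ᵥ v) u, Bsymm v (gm *ᵥ u)]
    ring
  have hKmem : ∀ u, u ∈ LinearMap.ker (Matrix.toLin' gm - 1) ↔ gm *ᵥ u = u := by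
    intro u
    rw [LinearMap.mem_ker, LinearMap.sub_apply, Matrix.toLin'_apply, Module.End.one_apply,
      sub_eq_zero]
  have hrodd : Odd r := hr.odd_of_ne_two hr2
  have hK : ∀ u, u ∈ LinearMap.ker (Matrix.toLin' gm - 1) ↔ ∀ v, ω u v = 0 := by
    intro u
    rw [hKmem]
    constructor
    · intro hu v
      rw [hω, hu]
      have h1 := hBiso u v
      rw [hu] at h1
      rw [h1, sub_self]
    · intro hu
      -- g (g u) = u
      have hgg : gm *ᵥ (gm *ᵥ u) = u := by
        by_contra hne
        have hne' : gm *ᵥ (gm *ᵥ u) - u ≠ 0 := sub_ne_zero.mpr hne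
        obtain ⟨y, hy⟩ := (hQ.nondegenerate _ hne').2
        apply hy
        have hy' : gm *ᵥ ((gm ^ (r - 1)) *ᵥ y) = y := by
          rw [Matrix.mulVec_mulVec, ← pow_succ', Nat.sub_add_cancel hr.one_le, hgr,
            Matrix.one_mulVec]
        rw [Bl_sub, ← hy']
        rw [hBiso]
        have h1 := hu ((gm ^ (r - 1)) *ᵥ y)
        rw [hω] at h1
        exact h1
      obtain ⟨k, hk⟩ := hrodd
      have h2k : ∀ m : ℕ, ((gm * gm) ^ m) *ᵥ u = u := by
        intro m
        induction m with
        | zero => simp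
        | succ m ih =>
          rw [pow_succ, ← Matrix.mulVec_mulVec, ← Matrix.mulVec_mulVec, hgg, ih]
      have h3 : (gm ^ r) *ᵥ u = gm *ᵥ u := by
        rw [hk, pow_succ', pow_mul, pow_two, ← Matrix.mulVec_mulVec, h2k]
      rw [hgr, Matrix.one_mulVec] at h3
      exact h3.symm
  have hmain := h78_skew_even h2 ω hskew _ hK
  rw [Module.finrank_fin_fun] at hmain
  exact hmain

end Cfsg.Agent.Lib.helper24
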