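import Mathlib
import Cfsg.Agent.Lib.helper24.SfuDefs
import Cfsg.Agent.Lib.helper24.SubfE

set_option autoImplicit false

namespace Cfsg.Agent.Lib.helper24

open Module Matrix Cfsg.Geo

/-- U2N -/
theorem sfu_nec_two {F : Type*} [Field F] [Fintype F] {n : ℕ} (hn : 0 < n) (q₀ : ℕ)
    (hcard : Fintype.card F = q₀ ^ 2) (f : (Fin n → F) → (Fin n → F) → F)
    (hf : IsUnitaryFormPow q₀ f) (h2 : (2 : F) ≠ 0)
    (hv : padicValNat 2 (Fintype.card F - 1) < padicValNat 2 n) : SfuDerang f 2 := by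
  classical
  have hoddq : Odd (Fintype.card F) := qe_two_ne_zero_iff_odd.1 h2
  have hq1 : 1 < Fintype.card F := Fintype.one_lt_card
  have hneven : 2 ∣ n := dvd_of_one_le_padicValNat (by omega)
  obtain ⟨m, hm⟩ := hneven
  have hm0 : m ≠ 0 := by
    rintro rfl
    omega
  have hdvd : 2 ^ padicValNat 2 (Fintype.card F - 1) ∣ m := by
    have h1 : 2 ^ (padicValNat 2 (Fintype.card F - 1) + 1) ∣ n :=
      (padicValNat_dvd_iff_le (by omega)).2 (by omega)
    rw [hm, pow_succ, mul_comm] at h1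
    exact (Nat.mul_dvd_mul_iff_left (by norm_num)).1 h1
  obtain ⟨w, hwns, hwm⟩ := qe_exists_nonsquare_pow_eq_one hoddq m hdvd
  have hzns : ¬ IsSquare (-w) := neg_nonsquare_of_card_sq _ hcard w hwns
  obtain ⟨X, hX⟩ := qe_exists_sq_eq (F := F) m hm (-w)
  obtain ⟨m', hm', hXdet⟩ := qe_det_of_nonsquare X (-w) hzns hX
  have hmm : m' = m := by omega
  rw [hmm, neg_neg, hwm] at hXdet
  have hXns : ∀ c : F, X ≠ c • (1 : Matrix (Fin n) (Fin n) F) := by
    intro c hc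
    apply hzns
    have hX' := hX
    rw [hc, Matrix.smul_mul, Matrix.mul_smul, Matrix.one_mul, smul_smul] at hX'
    have h00 := congrFun (congrFun hX' ⟨0, hn⟩) ⟨0, hn⟩
    simp only [Matrix.smul_apply, Matrix.one_apply_eq, smul_eq_mul, mul_one] at h00
    exact ⟨c, h00.symm⟩
  refine ⟨X, hXdet, ⟨-w, by rw [pow_two]; exact hX⟩, hXns, ?_⟩
  rintro ⟨P, g, hP, hg, hxP⟩
  obtain ⟨c, hc⟩ := hg
  have hPu : IsUnit P.det := isUnit_iff_ne_zero.mpr hP
  have hgg : (g : Matrix (Fin n) (Fin n) F) * (g : Matrix (Fin n) (Fin n) F)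
      = (-w) • (1 : Matrix (Fin n) (Fin n) F) := by
    have h1 : (g : Matrix (Fin n) (Fin n) F) = P⁻¹ * X * P := by
      rw [Matrix.mul_assoc, hxP, ← Matrix.mul_assoc, Matrix.nonsing_inv_mul _ hPu, Matrix.one_mul]
    rw [h1]
    calc P⁻¹ * X * P * (P⁻¹ * X * P) = P⁻¹ * X * (P * P⁻¹) * X * P := by
          simp only [Matrix.mul_assoc]
      _ = P⁻¹ * (X * X) * P := by
          rw [Matrix.mul_nonsing_inv _ hPu, Matrix.mul_one, Matrix.mul_assoc P⁻¹ X X]
      _ = (-w) • (1 : Matrix (Fin n) (Fin n) F) := by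
          rw [hX, Matrix.mul_smul, Matrix.smul_mul, Matrix.mul_one, Matrix.nonsing_inv_mul _ hPu]
  obtain ⟨u, v, huv⟩ : ∃ u v, f u v ≠ 0 := by
    have hne : (Pi.single (⟨0, hn⟩ : Fin n) (1 : F) : Fin n → F) ≠ 0 := by
      intro h
      have h1 := congrFun h ⟨0, hn⟩
      simp at h1
    obtain ⟨x, hx⟩ := (hf.nondegenerate _ hne).1
    exact ⟨x, _, hx⟩
  have hcq : (c : F) ^ q₀ = c := by
    have h1 := hc u v
    rw [hf.herm, hc v u, mul_pow, ← hf.herm u v] at h1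
    exact mul_right_cancel₀ huv h1
  have hc2 : (c : F) ^ 2 = (-w) ^ (q₀ + 1) := by
    have h1 : f ((g : Matrix (Fin n) (Fin n) F) *ᵥ ((g : Matrix (Fin n) (Fin n) F) *ᵥ u))
        ((g : Matrix (Fin n) (Fin n) F) *ᵥ ((g : Matrix (Fin n) (Fin n) F) *ᵥ v))
        = c * (c * f u v) := by
      rw [hc, hc]
    rw [Matrix.mulVec_mulVec, Matrix.mulVec_mulVec, hgg, Matrix.smul_mulVec, Matrix.one_mulVec,
      Matrix.smul_mulVec, Matrix.one_mulVec] at h1
    rw [hf.smul_left, hf.herm u, hf.smul_left, mul_pow, ← hf.herm u v] at h1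
    have h3 : ((-w) ^ (q₀ + 1)) * f u v = (c : F) ^ 2 * f u v := by
      rw [pow_succ, pow_two]; linear_combination h1
    exact (mul_right_cancel₀ huv h3).symm
  have hchar : ringChar F ≠ 2 := by
    intro h
    have h1 := FiniteField.even_card_iff_char_two.1 h
    rw [Nat.odd_iff] at hoddq
    omega
  have hw0 : -w ≠ 0 := by
    intro h
    apply hzns
    rw [h]
    exact ⟨0, by simp⟩
  have hq0odd : Odd q₀ := by
    rcases Nat.even_or_odd q₀ with he | ho
    · exfalso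
      have h1 : Even (q₀ ^ 2) := Nat.even_pow.mpr ⟨he, by norm_num⟩
      rw [← hcard] at h1
      exact (Nat.not_even_iff_odd.mpr hoddq) h1
    · exact ho
  obtain ⟨t, ht⟩ := hq0odd
  have hcardhalf : Fintype.card F / 2 = (q₀ + 1) * t := by
    rw [hcard, ht]
    have h1 : (2 * t + 1) ^ 2 = 2 * ((2 * t + 1 + 1) * t) + 1 := by ring
    rw [h1]; omega
  apply hzns
  rw [FiniteField.isSquare_iff hchar hw0, hcardhalf, pow_mul, ← hc2, ← pow_mul]
  have hc0 : (c : F) ≠ 0 := c.ne_zero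
  have h5 : (c : F) ^ (2 * t) * c = c := by
    rw [← pow_succ, ← ht]; exact hcq
  exact (mul_eq_right₀ hc0).mp h5

end Cfsg.Agent.Lib.helper24
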