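import Mathlib
import Cfsg.Agent.Lib.helper24.SfuDefs
import Cfsg.Agent.Lib.helper84.SfuUFIX
import Cfsg.Agent.Lib.helper32.SffN3

/-! S5982 piece UN2, racing copy (helper78): if `r ∤ q - 1` and `(-q₀)^j = -1` in `ZMod r` for some
`j ≤ n`, there is a derangement of order `r` for the unitary similarity group. -/

set_option autoImplicit false

namespace Cfsg.Agent.Lib.helper24

open Module Matrix Cfsg.Geo

/-- UN2 (racing copy) -/
theorem h78_sfu_nec_nodvd {F : Type*} [Field F] [Fintype F] {n : ℕ} (q₀ : ℕ)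
    (hcard : Fintype.card F = q₀ ^ 2) (f : (Fin n → F) → (Fin n → F) → F)
    (hf : IsUnitaryFormPow q₀ f) (r : ℕ) [Fact r.Prime] (hr2 : r ≠ 2) (hrF : (r : F) ≠ 0)
    (hnd : ¬ r ∣ Fintype.card F - 1) (j : ℕ) (hj : j ≤ n) (hj1 : (-(q₀ : ZMod r)) ^ j = -1) :
    SfuDerang f r := by
  classical
  have hr : r.Prime := Fact.out
  have hne : (1 : ZMod r) ≠ -1 := by
    intro h
    have h1 : ((2 : ℕ) : ZMod r) = 0 := by
      have h2 : (1 : ZMod r) + 1 = 0 := by
        nth_rewrite 1 [h]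
        exact neg_add_cancel 1
      rw [← h2]; norm_num
    have h3 : r ∣ 2 := (ZMod.natCast_eq_zero_iff _ _).mp h1
    have h4 : r ≤ 2 := Nat.le_of_dvd (by norm_num) h3
    have h5 := hr.two_le
    omega
  have hj0 : j ≠ 0 := by
    rintro rfl
    rw [pow_zero] at hj1
    exact hne hj1
  have hqj : ((Fintype.card F : ℕ) : ZMod r) ^ j = 1 := by
    rw [hcard, Nat.cast_pow]
    have h1 : ((q₀ : ZMod r) ^ 2) ^ j = ((-(q₀ : ZMod r)) ^ j) ^ 2 := by
      rw [← neg_sq (q₀ : ZMod r), ← pow_mul, ← pow_mul, mul_comm]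
    rw [h1, hj1]
    ring
  have hij : orderOf ((Fintype.card F : ℕ) : ZMod r) ∣ j := orderOf_dvd_of_pow_eq_one hqj
  have hi_le : orderOf ((Fintype.card F : ℕ) : ZMod r) ≤ n :=
    (Nat.le_of_dvd (Nat.pos_of_ne_zero hj0) hij).trans hj
  have hi_pos : 0 < orderOf ((Fintype.card F : ℕ) : ZMod r) :=
    Nat.pos_of_dvd_of_pos hij (Nat.pos_of_ne_zero hj0)
  have hn : 0 < n := lt_of_lt_of_le hi_pos hi_le
  obtain ⟨y, hyr, hyfix⟩ := sff_exists_fix (F := F) (n := n) r hrF hi_le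
  have hroot := h32_eq_one_of_pow_prime (F := F) r hnd
  refine ⟨y, ?_, ⟨1, by rw [hyr, one_smul]⟩, ?_, ?_⟩
  · apply hroot
    rw [← Matrix.det_pow, hyr, Matrix.det_one]
  · intro z hz
    have hz1 : z = 1 := by
      apply hroot
      have h1 : (y ^ r) ⟨0, hn⟩ ⟨0, hn⟩ = z ^ r := by
        rw [hz, _root_.smul_pow, one_pow, Matrix.smul_apply, Matrix.one_apply_eq, smul_eq_mul, mul_one]
      rw [hyr, Matrix.one_apply_eq] at h1
      exact h1.symm
    rw [hz1, one_smul] at hz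
    rw [hz] at hyfix
    have h2 : (Matrix.toLin' (1 : Matrix (Fin n) (Fin n) F) - 1 : Module.End F (Fin n → F)) = 0 := by
      rw [Matrix.toLin'_one]
      exact sub_self _
    rw [h2, LinearMap.ker_zero, finrank_top, Module.finrank_fin_fun] at hyfix
    omega
  · rintro ⟨P, g, hP, hg, hx⟩
    have hPu : IsUnit P.det := isUnit_iff_ne_zero.mpr hP
    have hpow : (g : Matrix (Fin n) (Fin n) F) ^ r = 1 := by
      have h1 := h32_conj_pow y P (g : Matrix (Fin n) (Fin n) F) hx r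
      rw [hyr, one_mul] at h1
      have h2 : P⁻¹ * P = P⁻¹ * (P * (g : Matrix (Fin n) (Fin n) F) ^ r) := by rw [← h1]
      rw [← mul_assoc, Matrix.nonsing_inv_mul P hPu, one_mul] at h2
      exact h2.symm
    have hdvd := sfu_fix_dvd q₀ hcard f hf r hrF hnd g hg hpow
    have hfix : Module.finrank F (LinearMap.ker (Matrix.toLin' (g : Matrix (Fin n) (Fin n) F) - 1))
        = n - orderOf ((Fintype.card F : ℕ) : ZMod r) := by
      rw [← hyfix]
      have h1 := h32_finrank_ker_conj y P (g : Matrix (Fin n) (Fin n) F) hP hx 1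
      rw [one_smul] at h1
      exact h1.symm
    rw [hfix, Nat.sub_sub_self hi_le] at hdvd
    obtain ⟨c, hc⟩ := hij
    rw [hc, pow_mul, hdvd, one_pow] at hj1
    exact hne hj1

end Cfsg.Agent.Lib.helper24
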