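import Mathlib
import Cfsg.Prelude.Def_Characters
import Cfsg.Agent.Lib.helper78.FTSylow
import Cfsg.Agent.Lib.helper82.Isaacs1132A

/-!
# Ito–Winter: group-theoretic preliminaries (helper78 library)

* `WGood p n` : some prime power `q ∣ n` is congruent to `-1`, `0` or `1` modulo `p`.
* `pClosed_of_quotients` : a finite group that embeds in a product of `p`-closed quotients is
  `p`-closed.
* `exists_fixed_count` : fixed points of a `p`-element acting on a normal section `M / K`.
* `comm_eq_one_of_coprime`, `exists_norm_noncommuting` : coprime action on a class-two section.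
* `winter_index` : a proper subgroup whose index divides `n` forces `WGood p n`, when no proper
  normal subgroup contains the Sylow `p`-subgroup `P`.
-/

set_option autoImplicit false
set_option linter.unusedSectionVars false
set_option linter.unusedVariables false
set_option linter.style.haveILetI false

namespace Cfsg.Agent.Lib.helper78

open Cfsg

universe u

/-- The conclusion of the Ito–Winter theorem on the degree `n`. -/
def WGood (p n : ℕ) : Prop :=
  ∃ q : ℕ, IsPrimePow q ∧ q ∣ n ∧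
    ((q : ℤ) ≡ -1 [ZMOD p] ∨ (q : ℤ) ≡ 0 [ZMOD p] ∨ (q : ℤ) ≡ 1 [ZMOD p])

theorem wGood_of_dvd {p m n : ℕ} (h : m ∣ n) (hm : WGood p m) : WGood p n := by
  obtain ⟨q, h1, h2, h3⟩ := hm
  exact ⟨q, h1, h2.trans h, h3⟩

theorem wGood_self {p n : ℕ} (hp : p.Prime) (h : p ∣ n) : WGood p n :=
  ⟨p, hp.isPrimePow, h, Or.inr (Or.inl (Int.modEq_zero_iff_dvd.mpr dvd_rfl))⟩

theorem wGood_of_modEq {p r a d n : ℕ} (hp : p.Prime) (hr : r.Prime) (hrp : r ≠ p) (hd : d < a)
    (h : r ^ a ≡ r ^ d [MOD p]) (hn : r ^ a ∣ n) : WGood p n := by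
  refine ⟨r ^ (a - d), ?_, ?_, Or.inr (Or.inr ?_)⟩
  · exact hr.isPrimePow.pow (by omega)
  · exact (pow_dvd_pow r (Nat.sub_le a d)).trans hn
  · have h1 : r ^ d * r ^ (a - d) ≡ r ^ d * 1 [MOD p] := by
      rw [← pow_add, mul_one, Nat.add_sub_cancel' hd.le]
      exact h
    have h2 : p.gcd (r ^ d) = 1 :=
      Nat.Coprime.pow_right d ((Nat.coprime_primes hp hr).mpr (Ne.symm hrp))
    have h3 := Nat.ModEq.cancel_left_of_coprime h2 h1
    exact_mod_cast (Int.natCast_modEq_iff.mpr h3)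

theorem wGood_of_sq {p r k j n : ℕ} (hp : p.Prime) (hr : r.Prime) (hrp : r ≠ p) (hj : j < k)
    (h : (r ^ k) ^ 2 ≡ (r ^ j) ^ 2 [MOD p]) (hn : r ^ k ∣ n) : WGood p n := by
  have h1 : (r ^ (k - j)) ^ 2 ≡ 1 [MOD p] := by
    have h2 : (r ^ j) ^ 2 * (r ^ (k - j)) ^ 2 ≡ (r ^ j) ^ 2 * 1 [MOD p] := by
      rw [← mul_pow, ← pow_add, Nat.add_sub_cancel' hj.le, mul_one]
      exact h
    have h3 : p.gcd ((r ^ j) ^ 2) = 1 :=
      Nat.Coprime.pow_right 2 (Nat.Coprime.pow_right j
        ((Nat.coprime_primes hp hr).mpr (Ne.symm hrp)))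
    exact Nat.ModEq.cancel_left_of_coprime h3 h2
  have h4 : ((r ^ (k - j) : ℕ) : ℤ) ^ 2 ≡ 1 [ZMOD p] := by
    exact_mod_cast (Int.natCast_modEq_iff.mpr h1)
  have h5 : (p : ℤ) ∣ ((r ^ (k - j) : ℕ) : ℤ) ^ 2 - 1 := Int.modEq_iff_dvd.mp h4.symm
  have h6 : ((r ^ (k - j) : ℕ) : ℤ) ^ 2 - 1 =
      (((r ^ (k - j) : ℕ) : ℤ) - 1) * (((r ^ (k - j) : ℕ) : ℤ) + 1) := by ring
  rw [h6] at h5
  have hpi : Prime (p : ℤ) := Nat.prime_iff_prime_int.mp hp
  refine ⟨r ^ (k - j), hr.isPrimePow.pow (by omega),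
    (pow_dvd_pow r (Nat.sub_le k j)).trans hn, ?_⟩
  rcases hpi.dvd_or_dvd h5 with h7 | h7
  · right; right
    exact (Int.modEq_iff_dvd.mpr h7).symm
  · left
    have h8 : (-1 : ℤ) ≡ ((r ^ (k - j) : ℕ) : ℤ) [ZMOD p] := by
      rw [Int.modEq_iff_dvd, sub_neg_eq_add]
      exact h7
    exact h8.symm

/-- A finite group with a family of normal subgroups of trivial intersection and `p`-closed
quotients is `p`-closed. -/
theorem pClosed_of_quotients {N : Type u} [Group N] [Finite N] (p : ℕ) [hp : Fact p.Prime]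
    {ι : Type*} (K : ι → Subgroup N) [hKn : ∀ i, (K i).Normal]
    (hK : ∀ x : N, (∀ i, x ∈ K i) → x = 1) (h : ∀ i, PClosed p (N ⧸ K i)) : PClosed p N := by
  intro Q
  refine ⟨fun n hn g => ?_⟩
  set y := g * n * g⁻¹ with hy
  set L : Subgroup N := (Q : Subgroup N) ⊔ Subgroup.zpowers y with hL
  have hLp : IsPGroup p L := by
    rintro ⟨l, hl⟩
    have ho : orderOf l ≠ 0 := (orderOf_pos l).ne'
    obtain ⟨A, m, hm, hom⟩ := Nat.exists_eq_pow_mul_and_not_dvd ho p hp.out.ne_one
    refine ⟨A, Subtype.ext ?_⟩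
    simp only [Subgroup.coe_pow, Subgroup.coe_one]
    apply hK
    intro i
    rw [← QuotientGroup.eq_one_iff (N := K i), QuotientGroup.mk_pow]
    obtain ⟨S, hS⟩ := (Q.2.map (QuotientGroup.mk' (K i))).exists_le_sylow
    have hSn : (S : Subgroup (N ⧸ K i)).Normal := h i S
    have hyS : (QuotientGroup.mk' (K i)) y ∈ (S : Subgroup _) := by
      rw [hy, map_mul, map_mul, map_inv]
      exact hSn.conj_mem _ (hS (Subgroup.mem_map_of_mem _ hn)) _
    have hlS : (QuotientGroup.mk' (K i)) l ∈ (S : Subgroup _) := by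
      have hle : L ≤ (S : Subgroup _).comap (QuotientGroup.mk' (K i)) := by
        rw [hL]
        apply sup_le
        · intro q hq
          exact hS (Subgroup.mem_map_of_mem _ hq)
        · rw [Subgroup.zpowers_le]
          exact hyS
      exact hle hl
    obtain ⟨k, hk⟩ := S.2 ⟨_, hlS⟩
    have hk' : ((QuotientGroup.mk' (K i)) l) ^ (p ^ k) = 1 := by
      have := congrArg Subtype.val hk
      simpa using this
    have h1 : orderOf ((QuotientGroup.mk' (K i)) l) ∣ p ^ k := orderOf_dvd_of_pow_eq_one hk'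
    have h2 : orderOf ((QuotientGroup.mk' (K i)) l) ∣ orderOf l := orderOf_map_dvd _ l
    obtain ⟨j, hj, hj'⟩ := (Nat.dvd_prime_pow hp.out).mp h1
    rw [hj', hom] at h2
    have h3 : p ^ j ∣ p ^ A :=
      (Nat.Coprime.pow_left j ((Nat.Prime.coprime_iff_not_dvd hp.out).mpr hm)).dvd_of_dvd_mul_right
        h2
    have h4 : orderOf ((QuotientGroup.mk' (K i)) l) ∣ p ^ A := hj' ▸ h3
    exact orderOf_dvd_iff_pow_eq_one.mp h4
  have hLQ : L = (Q : Subgroup N) := Q.is_maximal' hLp le_sup_left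
  have hyL : y ∈ L := (le_sup_right : Subgroup.zpowers y ≤ L) (Subgroup.mem_zpowers y)
  rw [hLQ] at hyL
  exact hyL

/-- Fixed points of a `p`-element `x` on a normal section `M / K`: the subgroup `C` of those
`m ∈ M` with `[x, m] ∈ K` satisfies `|M : K| ≡ |C : K|` modulo `p`. -/
theorem exists_fixed_count {G : Type u} [Group G] [Finite G] (p : ℕ) [hp : Fact p.Prime]
    (K M : Subgroup G) [hKn : K.Normal] [hMn : M.Normal] (hKM : K ≤ M) (x : G) (e : ℕ)
    (hx : x ^ (p ^ e) = 1) :
    ∃ (C : Subgroup G) (s t : ℕ), K ≤ C ∧ C ≤ M ∧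
      (∀ m : G, m ∈ C ↔ m ∈ M ∧ x * m * x⁻¹ * m⁻¹ ∈ K) ∧
      Nat.card M = s * Nat.card K ∧ Nat.card C = t * Nat.card K ∧ s ≡ t [MOD p] := by
  classical
  set π := QuotientGroup.mk' K with hπ
  have hπs : Function.Surjective π := QuotientGroup.mk'_surjective K
  set Mb : Subgroup (G ⧸ K) := M.map π with hMb
  haveI hMbn : Mb.Normal := hMn.map π hπs
  set xb : G ⧸ K := π x with hxb
  set F : Subgroup (G ⧸ K) := Mb ⊓ Subgroup.centralizer {xb} with hF
  have hMcomap : Mb.comap π = M := by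
    rw [hMb, Subgroup.comap_map_eq, hπ, QuotientGroup.ker_mk', sup_eq_left.mpr hKM]
  refine ⟨F.comap π, Nat.card Mb, Nat.card F, ?_, ?_, ?_, ?_, helper82.card_comap_mk' K F, ?_⟩
  · intro k hk
    rw [Subgroup.mem_comap]
    have h1 : π k = 1 := (QuotientGroup.eq_one_iff k).mpr hk
    rw [h1]
    exact one_mem _
  · calc F.comap π ≤ Mb.comap π := Subgroup.comap_mono inf_le_left
      _ = M := hMcomap
  · intro m
    rw [Subgroup.mem_comap, hF, Subgroup.mem_inf, ← Subgroup.mem_comap, hMcomap,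
      Subgroup.mem_centralizer_iff]
    refine and_congr Iff.rfl ?_
    constructor
    · intro h
      have h1 := h xb rfl
      rw [← QuotientGroup.eq_one_iff (N := K)]
      show π (x * m * x⁻¹ * m⁻¹) = 1
      rw [map_mul, map_mul, map_mul, map_inv, map_inv, ← hxb, h1]
      group
    · intro h y hy
      rw [Set.mem_singleton_iff] at hy
      rw [hy]
      have h1 : π (x * m * x⁻¹ * m⁻¹) = 1 := (QuotientGroup.eq_one_iff _).mpr h
      rw [map_mul, map_mul, map_mul, map_inv, map_inv] at h1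
      have h2 := mul_inv_eq_one.mp h1
      exact mul_inv_eq_iff_eq_mul.mp h2
  · rw [← hMcomap]
    exact helper82.card_comap_mk' K Mb
  · let Zx : Subgroup (G ⧸ K) := Subgroup.zpowers xb
    have hxb1 : xb ^ (p ^ e) = 1 := by rw [hxb, ← map_pow, hx, map_one]
    have hZp : IsPGroup p Zx := by
      rintro ⟨z, hz⟩
      obtain ⟨k, rfl⟩ := Subgroup.mem_zpowers_iff.mp hz
      refine ⟨e, Subtype.ext ?_⟩
      simp only [Subgroup.coe_pow, Subgroup.coe_one]
      rw [← zpow_natCast, ← zpow_mul, mul_comm, zpow_mul, zpow_natCast, hxb1, one_zpow]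
    letI act : MulAction Zx Mb :=
      MulAction.compHom Mb ((MulAut.conjNormal (H := Mb)).comp Zx.subtype)
    have hmod := hZp.card_modEq_card_fixedPoints (p := p) Mb
    have hfix : (MulAction.fixedPoints Zx Mb : Set Mb) =
        (((Subgroup.centralizer {xb}).subgroupOf Mb : Subgroup Mb) : Set Mb) := by
      ext m
      rw [MulAction.mem_fixedPoints]
      constructor
      · intro h
        have h1 := h ⟨xb, Subgroup.mem_zpowers xb⟩
        have h2 : ((MulAut.conjNormal (H := Mb) xb) m : G ⧸ K) = m := congrArg Subtype.val h1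
        rw [MulAut.conjNormal_apply] at h2
        show (m : G ⧸ K) ∈ Subgroup.centralizer {xb}
        rw [Subgroup.mem_centralizer_iff]
        intro y hy
        rw [Set.mem_singleton_iff] at hy
        rw [hy]
        exact mul_inv_eq_iff_eq_mul.mp h2
      · intro h z
        have h' : (m : G ⧸ K) ∈ Subgroup.centralizer {xb} := h
        apply Subtype.ext
        show ((MulAut.conjNormal (H := Mb) (z : G ⧸ K)) m : G ⧸ K) = m
        rw [MulAut.conjNormal_apply]
        have hz : (z : G ⧸ K) * m = m * z := by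
          obtain ⟨k, hk⟩ := Subgroup.mem_zpowers_iff.mp z.2
          rw [← hk]
          have hc : Commute xb (m : G ⧸ K) := Subgroup.mem_centralizer_iff.mp h' xb rfl
          exact (hc.zpow_left k).eq
        rw [hz, mul_inv_cancel_right]
    have hcf : Nat.card (MulAction.fixedPoints Zx Mb) = Nat.card F := by
      rw [hfix]
      show Nat.card ((Subgroup.centralizer {xb}).subgroupOf Mb) = Nat.card F
      rw [hF, ← Subgroup.inf_subgroupOf_left]
      exact Nat.card_congr (Subgroup.subgroupOfEquivOfLe inf_le_left).toEquiv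
    rw [hcf] at hmod
    exact hmod

/-- If `|A| = ρ |Z|` with `Z ⊴ G`, then `ρ`-th powers of elements of `A` lie in `Z`. -/
theorem pow_mem_of_card_eq {G : Type u} [Group G] [Finite G] (Z A : Subgroup G) [hZn : Z.Normal]
    (hZA : Z ≤ A) (ρ : ℕ) (h : Nat.card A = ρ * Nat.card Z) (a : G) (ha : a ∈ A) :
    a ^ ρ ∈ Z := by
  have h1 := Subgroup.card_mul_index (Z.subgroupOf A)
  have h2 : Nat.card (Z.subgroupOf A) = Nat.card Z :=
    Nat.card_congr (Subgroup.subgroupOfEquivOfLe hZA).toEquiv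
  rw [h2, h, mul_comm] at h1
  have h3 : (Z.subgroupOf A).index = ρ := Nat.eq_of_mul_eq_mul_right Nat.card_pos h1
  have h4 := (Z.subgroupOf A).pow_index_mem (⟨a, ha⟩ : A)
  rw [h3, Subgroup.mem_subgroupOf] at h4
  simpa using h4

/-- Coprime action: if `[x, m]` is central, `x ^ o = 1`, `m ^ ρ` is central and `o`, `ρ` are
coprime, then `x` and `m` commute. -/
theorem comm_eq_one_of_coprime {G : Type u} [Group G] (x m : G) (o ρ : ℕ) (hx : x ^ o = 1)
    (hz : x * m * x⁻¹ * m⁻¹ ∈ Subgroup.center G) (hm : m ^ ρ ∈ Subgroup.center G)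
    (hcop : Nat.Coprime o ρ) : x * m = m * x := by
  set z := x * m * x⁻¹ * m⁻¹ with hzdef
  have hzc : ∀ g : G, g * z = z * g := fun g => Subgroup.mem_center_iff.mp hz g
  have hxm : x * m * x⁻¹ = z * m := by rw [hzdef]; group
  have h1 : ∀ j : ℕ, z ^ j = x ^ j * m * (x ^ j)⁻¹ * m⁻¹ := by
    intro j
    induction j with
    | zero => simp
    | succ j ih =>
      have e1 : x ^ (j + 1) * m * (x ^ (j + 1))⁻¹ * m⁻¹ =
          x ^ j * (x * m * x⁻¹) * (x ^ j)⁻¹ * m⁻¹ := by
        rw [pow_succ]; group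
      rw [e1, hxm, pow_succ, ih]
      have e2 : x ^ j * (z * m) * (x ^ j)⁻¹ * m⁻¹ = (x ^ j * z) * (m * (x ^ j)⁻¹ * m⁻¹) := by
        group
      rw [e2, hzc (x ^ j), hzc (x ^ j * m * (x ^ j)⁻¹ * m⁻¹)]
      group
  have h2 : z ^ o = 1 := by
    rw [h1 o, hx]; group
  have h3 : z ^ ρ = 1 := by
    have hc : Commute z m := (hzc m).symm
    have e1 : (z * m) ^ ρ = z ^ ρ * m ^ ρ := hc.mul_pow ρ
    have e2 : (x * m * x⁻¹) ^ ρ = x * m ^ ρ * x⁻¹ := by
      rw [← MulAut.conj_apply, ← map_pow, MulAut.conj_apply]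
    have e3 : x * m ^ ρ * x⁻¹ = m ^ ρ := by
      rw [Subgroup.mem_center_iff.mp hm x]; group
    rw [← hxm, e2, e3] at e1
    exact (mul_eq_right.mp e1.symm)
  have h4 : z ^ (Nat.gcd o ρ) = 1 := pow_gcd_eq_one.mpr ⟨h2, h3⟩
  rw [hcop.gcd_eq_one, pow_one] at h4
  have h5 : x * m * x⁻¹ = m := by rw [hxm, h4, one_mul]
  exact mul_inv_eq_iff_eq_mul.mp h5

/-- The partial norm products `b * (x b x⁻¹) * ⋯ * (x^(j-1) b x^(1-j))`. -/
def normProd {G : Type u} [Group G] (x b : G) : ℕ → G
  | 0 => 1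
  | j + 1 => normProd x b j * (x ^ j * b * (x ^ j)⁻¹)

theorem normProd_mem {G : Type u} [Group G] (A : Subgroup G) [hAn : A.Normal] (x b : G)
    (hb : b ∈ A) (j : ℕ) : normProd x b j ∈ A := by
  induction j with
  | zero => exact one_mem _
  | succ j ih => exact A.mul_mem ih (hAn.conj_mem b hb _)

theorem normProd_conj {G : Type u} [Group G] (x b : G) (j : ℕ) :
    x * normProd x b j * x⁻¹ = b⁻¹ * normProd x b j * (x ^ j * b * (x ^ j)⁻¹) := by
  induction j with
  | zero => simp [normProd]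
  | succ j ih =>
    have e1 : x * normProd x b (j + 1) * x⁻¹ =
        (x * normProd x b j * x⁻¹) * (x ^ (j + 1) * b * (x ^ (j + 1))⁻¹) := by
      show x * (normProd x b j * (x ^ j * b * (x ^ j)⁻¹)) * x⁻¹ = _
      rw [pow_succ']
      group
    rw [e1, ih]
    show _ = b⁻¹ * (normProd x b j * (x ^ j * b * (x ^ j)⁻¹)) * _
    group

/-- The norm argument: in a normal section `A` with central commutators and central `ρ`-th
powers, if `c ∈ A` commutes with `x` (`x ^ o = 1`, `o` coprime to `ρ`) and does not commute with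
some `b ∈ A`, then `c` does not commute with some `w ∈ A` whose commutator with `x` is central. -/
theorem exists_norm_noncommuting {G : Type u} [Group G] (A : Subgroup G) [hAn : A.Normal]
    (hAA : ∀ a ∈ A, ∀ b ∈ A, a * b * a⁻¹ * b⁻¹ ∈ Subgroup.center G)
    (x : G) (o ρ : ℕ) (hx : x ^ o = 1) (hρ : ∀ a ∈ A, a ^ ρ ∈ Subgroup.center G)
    (hcop : Nat.Coprime o ρ) (c : G) (hc : c ∈ A) (hxc : x * c = c * x) (b : G) (hb : b ∈ A)
    (hcb : b * c ≠ c * b) :
    ∃ w ∈ A, x * w * x⁻¹ * w⁻¹ ∈ Subgroup.center G ∧ w * c ≠ c * w := by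
  set g : G → G := fun y => c * y * c⁻¹ * y⁻¹ with hg
  have hgZ : ∀ y ∈ A, g y ∈ Subgroup.center G := fun y hy => hAA c hc y hy
  have hgmul : ∀ y y' : G, y' ∈ A → g (y * y') = g y * g y' := by
    intro y y' hy'
    have hz : ∀ t : G, t * g y' = g y' * t := fun t => Subgroup.mem_center_iff.mp (hgZ y' hy') t
    have e1 : g (y * y') = c * y * c⁻¹ * (g y') * y⁻¹ := by
      show c * (y * y') * c⁻¹ * (y * y')⁻¹ = c * y * c⁻¹ * (c * y' * c⁻¹ * y'⁻¹) * y⁻¹
      group
    rw [e1, mul_assoc (c * y * c⁻¹), ← hz y⁻¹, ← mul_assoc]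
  have hginv : ∀ t y : G, t * c = c * t → y ∈ A → g (t * y * t⁻¹) = g y := by
    intro t y htc hy
    have hz : ∀ s : G, s * g y = g y * s := fun s => Subgroup.mem_center_iff.mp (hgZ y hy) s
    have h1 : c * t = t * c := htc.symm
    have h2 : t⁻¹ * c⁻¹ = c⁻¹ * t⁻¹ := by rw [← mul_inv_rev, ← mul_inv_rev, h1]
    have e1 : g (t * y * t⁻¹) = t * g y * t⁻¹ := by
      show c * (t * y * t⁻¹) * c⁻¹ * (t * y * t⁻¹)⁻¹ = t * (c * y * c⁻¹ * y⁻¹) * t⁻¹
      calc c * (t * y * t⁻¹) * c⁻¹ * (t * y * t⁻¹)⁻¹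
          = (c * t) * y * (t⁻¹ * c⁻¹) * t * y⁻¹ * t⁻¹ := by group
        _ = (t * c) * y * (c⁻¹ * t⁻¹) * t * y⁻¹ * t⁻¹ := by rw [h1, h2]
        _ = t * (c * y * c⁻¹ * y⁻¹) * t⁻¹ := by group
    rw [e1, hz t, mul_inv_cancel_right]
  have hgu : ∀ j : ℕ, g (normProd x b j) = (g b) ^ j := by
    intro j
    induction j with
    | zero => simp [normProd, hg]
    | succ j ih =>
      have hxj : x ^ j * c = c * x ^ j := ((show Commute x c from hxc).pow_left j).eq
      show g (normProd x b j * (x ^ j * b * (x ^ j)⁻¹)) = _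
      rw [hgmul _ _ (hAn.conj_mem b hb _), ih, hginv _ _ hxj hb, pow_succ]
  have hgpow : ∀ j : ℕ, g (b ^ j) = (g b) ^ j := by
    intro j
    induction j with
    | zero => simp [hg]
    | succ j ih => rw [pow_succ, hgmul _ _ hb, ih, pow_succ]
  set w := normProd x b o with hw
  have hwA : w ∈ A := normProd_mem A x b hb o
  refine ⟨w, hwA, ?_, ?_⟩
  · have h1 : x * w * x⁻¹ = b⁻¹ * w * b := by
      rw [hw, normProd_conj, hx]
      group
    rw [h1]
    have h2 := hAA b⁻¹ (A.inv_mem hb) w hwA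
    rwa [inv_inv] at h2
  · intro hwc
    have h1 : g w = 1 := by
      show c * w * c⁻¹ * w⁻¹ = 1
      rw [← hwc]
      group
    have h2 : (g b) ^ o = 1 := by rw [← hgu o, ← hw, h1]
    have h3 : (g b) ^ ρ = 1 := by
      rw [← hgpow ρ]
      show c * b ^ ρ * c⁻¹ * (b ^ ρ)⁻¹ = 1
      rw [Subgroup.mem_center_iff.mp (hρ b hb) c]
      group
    have h4 : (g b) ^ (Nat.gcd o ρ) = 1 := pow_gcd_eq_one.mpr ⟨h2, h3⟩
    rw [hcop.gcd_eq_one, pow_one] at h4
    apply hcb
    have h5 : c * b * c⁻¹ * b⁻¹ = 1 := h4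
    have h6 := mul_inv_eq_one.mp h5
    exact (mul_inv_eq_iff_eq_mul.mp h6).symm

/-- If no proper normal subgroup of the finite solvable group `G` contains the Sylow
`p`-subgroup `P`, and the index of some proper subgroup divides `n`, then `n` is divisible by a
prime power congruent to `0` or `1` modulo `p`. -/
theorem winter_index {G : Type u} [Group G] [Finite G] (p : ℕ) [hp : Fact p.Prime]
    (hsolv : Group.IsSolvable G) (P : Sylow p G)
    (hA : ∀ D : Subgroup G, D.Normal → D ≠ ⊤ → ∃ x ∈ (P : Subgroup G), x ∉ D)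
    (n : ℕ) (T : Subgroup G) (hT : T ≠ ⊤) (hTn : T.index ∣ n) : WGood p n := by
  classical
  obtain ⟨H, hmax, hTH⟩ := (eq_top_or_exists_le_coatom T).resolve_left hT
  have hHn' : H.index ∣ n := (Subgroup.index_dvd_of_le hTH).trans hTn
  have hpel : ∀ x ∈ (P : Subgroup G), ∃ e : ℕ, x ^ (p ^ e) = 1 := by
    intro x hx
    obtain ⟨e, he⟩ := P.2 ⟨x, hx⟩
    exact ⟨e, by simpa using congrArg Subtype.val he⟩
  by_cases hHnorm : H.Normal
  · obtain ⟨x, hxP, hxH⟩ := hA H hHnorm hmax.1
    obtain ⟨e, he⟩ := hpel x hxP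
    have hpd : p ∣ H.index := by
      by_contra hnd
      apply hxH
      haveI := hHnorm
      rw [← QuotientGroup.eq_one_iff (N := H)]
      have h1 : ((x : G ⧸ H)) ^ (p ^ e) = 1 := by
        rw [← QuotientGroup.mk_pow, he]
        rfl
      have h2 : ((x : G ⧸ H)) ^ H.index = 1 := by
        rw [← QuotientGroup.mk_pow]
        exact (QuotientGroup.eq_one_iff _).mpr (H.pow_index_mem x)
      have h3 := pow_gcd_eq_one.mpr ⟨h1, h2⟩
      have h4 : Nat.gcd (p ^ e) H.index = 1 :=
        Nat.Coprime.pow_left e ((Nat.Prime.coprime_iff_not_dvd hp.out).mpr hnd)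
      rw [h4, pow_one] at h3
      exact h3
    exact wGood_of_dvd (hpd.trans hHn') (wGood_self hp.out dvd_rfl)
  · haveI := hsolv
    obtain ⟨K, M, N', r, q, a, b, hKn, hMn, _, _, hKH, hKM, _, hMH, hMHK, hr, _, _, hMcard, _, _,
      hcl⟩ := helper82.exists_maximal_config (⊥ : Subgroup G) H bot_le hmax inferInstance hHnorm
    haveI := hKn
    haveI := hMn
    have hidx : H.index = r ^ a := by
      have h1 : M.relIndex (H ⊔ M) = M.relIndex H := Subgroup.relIndex_sup_right H M
      rw [sup_comm, hMH, Subgroup.relIndex_top_right] at h1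
      have h2 : (M ⊓ H).relIndex H = M.relIndex H := Subgroup.inf_relIndex_right M H
      rw [hMHK] at h2
      have h3 : K.relIndex H * H.index = K.index := Subgroup.relIndex_mul_index hKH
      rw [h2, ← h1] at h3
      have h4 := Subgroup.card_mul_index K
      have h5 := Subgroup.card_mul_index M
      rw [hMcard] at h5
      have h6 : Nat.card K * K.index = Nat.card K * (r ^ a * M.index) := by
        rw [h4, ← h5]
        ring
      have h7 : K.index = r ^ a * M.index := Nat.eq_of_mul_eq_mul_left Nat.card_pos h6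
      rw [h7, mul_comm] at h3
      have hMi : 0 < M.index := Nat.pos_of_ne_zero Subgroup.index_ne_zero_of_finite
      exact Nat.eq_of_mul_eq_mul_right hMi h3
    have ha0 : a ≠ 0 := by
      rintro rfl
      rw [pow_zero] at hidx
      exact hmax.1 (Subgroup.index_eq_one.mp hidx)
    by_cases hrp : r = p
    · refine wGood_of_dvd ?_ (wGood_self hp.out dvd_rfl)
      rw [hidx, hrp] at hHn'
      exact (dvd_pow_self p ha0).trans hHn'
    · set π := QuotientGroup.mk' K with hπ
      have hπs : Function.Surjective π := QuotientGroup.mk'_surjective K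
      haveI hMbn : (M.map π).Normal := hMn.map π hπs
      set D : Subgroup G :=
        (Subgroup.centralizer ((M.map π : Subgroup (G ⧸ K)) : Set (G ⧸ K))).comap π with hD
      have hDn : D.Normal := (Subgroup.normal_centralizer).comap π
      have hDmem : ∀ g : G, g ∈ D ↔ ∀ m ∈ M, g * m * g⁻¹ * m⁻¹ ∈ K := by
        intro g
        rw [hD, Subgroup.mem_comap, Subgroup.mem_centralizer_iff]
        constructor
        · intro h m hm
          have h1 := h (π m) (Subgroup.mem_map_of_mem π hm)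
          rw [← QuotientGroup.eq_one_iff (N := K)]
          show π (g * m * g⁻¹ * m⁻¹) = 1
          rw [map_mul, map_mul, map_mul, map_inv, map_inv, ← h1]
          group
        · rintro h y ⟨m, hm, rfl⟩
          have h1 : π (g * m * g⁻¹ * m⁻¹) = 1 := (QuotientGroup.eq_one_iff _).mpr (h m hm)
          rw [map_mul, map_mul, map_mul, map_inv, map_inv] at h1
          have h2 := mul_inv_eq_one.mp h1
          exact (mul_inv_eq_iff_eq_mul.mp h2).symm
      have hDtop : D ≠ ⊤ := by
        intro htop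
        have hlt : K < H := lt_of_le_of_ne hKH (fun h => hHnorm (h ▸ hKn))
        obtain ⟨c, hcH, hcK⟩ := SetLike.exists_of_lt hlt
        obtain ⟨y, hyM, hy⟩ := hcl c hcH hcK
        have hcD : c ∈ D := htop ▸ Subgroup.mem_top c
        have h1 := (hDmem c).mp hcD y hyM
        apply hy
        have e1 : y * c * y⁻¹ = (c * y * c⁻¹ * y⁻¹)⁻¹ * c := by group
        rw [e1]
        exact H.mul_mem (H.inv_mem (hKH h1)) hcH
      obtain ⟨x, hxP, hxD⟩ := hA D hDn hDtop
      obtain ⟨e, he⟩ := hpel x hxP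
      obtain ⟨C, s, t, hKC, hCM, hCmem, hMs, hCt, hst⟩ := exists_fixed_count p K M hKM x e he
      have hKpos : 0 < Nat.card K := Nat.card_pos
      have hs : s = r ^ a := by
        rw [hMcard] at hMs
        exact (Nat.eq_of_mul_eq_mul_right hKpos hMs).symm
      have hCne : C ≠ M := by
        intro hCM'
        apply hxD
        rw [hDmem]
        intro m hm
        rw [← hCM'] at hm
        exact ((hCmem m).mp hm).2
      have hts : t ∣ s := by
        have h1 : Nat.card C ∣ Nat.card M := Subgroup.card_dvd_of_le hCM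
        rw [hCt, hMs] at h1
        exact (Nat.mul_dvd_mul_iff_right hKpos).mp h1
      have htne : t ≠ s := by
        intro h
        apply hCne
        apply Subgroup.eq_of_le_of_card_ge hCM
        rw [hCt, hMs, h]
      rw [hs] at hts htne hst
      obtain ⟨d, hd, rfl⟩ := (Nat.dvd_prime_pow hr).mp hts
      have hd' : d < a := lt_of_le_of_ne hd (fun h => htne (by rw [h]))
      exact wGood_of_modEq hp.out hr hrp hd' hst (by rw [← hidx]; exact hHn')

end Cfsg.Agent.Lib.helper78
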