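import Mathlib
import Cfsg.Prelude.Def_Characters
import Cfsg.Prelude.Def_Blocks
import Cfsg.Agent.Lib.helper78.Winter
import Cfsg.Agent.Lib.helper82.Clifford
import Cfsg.Agent.Lib.helper82.Ito
import Cfsg.Agent.Lib.helper82.CharQuot
import Cfsg.Agent.Lib.helper81.Kernel
import Cfsg.Agent.Lib.helper21.TIChar
import Cfsg.Agent.Lib.helper84.CentralVanish

/-!
# The Ito–Winter theorem (helper78 library)

`winter_main` : a finite solvable group with a faithful irreducible character of degree `n` which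
is not `p`-closed has `n` divisible by a prime power congruent to `-1`, `0` or `1` modulo `p`.
-/

set_option autoImplicit false
set_option linter.unusedSectionVars false
set_option linter.unusedVariables false
set_option linter.style.haveILetI false

namespace Cfsg.Agent.Lib.helper78

open Cfsg
open scoped ComplexConjugate

universe u

/-- If an irreducible constituent `φ` of the restriction to `H ≥ Z(G)` of a faithful irreducible
character of `G` lives on a subgroup all of whose noncentral elements have a nontrivial central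
commutator inside `H`, then `|H| = |Z(G)| φ(1)²`. -/
theorem card_eq_of_vanish_off_center {G : Type u} [Group G] [Finite G] (χ : IrrCharacter G)
    (hfaith : ∀ g : G, (χ : G → ℂ) g = (χ : G → ℂ) 1 → g = 1)
    (H : Subgroup G) [Fintype H] (hZH : Subgroup.center G ≤ H)
    (hw : ∀ c ∈ H, c ∉ Subgroup.center G →
      ∃ w ∈ H, w * c * w⁻¹ * c⁻¹ ∈ Subgroup.center G ∧ w * c ≠ c * w)
    (φ : IrrCharacter H) (hφ : classInner (fun h : H => (χ : G → ℂ) h) (φ : H → ℂ) ≠ 0) :
    Nat.card H = Nat.card (Subgroup.center G) * (charDegree (φ : H → ℂ)) ^ 2 := by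
  classical
  haveI : Fintype G := Fintype.ofFinite G
  set d := charDegree (φ : H → ℂ) with hd
  have hφ1 : (φ : H → ℂ) 1 = (d : ℂ) := helper81.irr_one_eq_charDegree φ
  have hdpos : 0 < d := helper81.irr_charDegree_pos φ
  have hd0 : (d : ℂ) ≠ 0 := Nat.cast_ne_zero.mpr hdpos.ne'
  have hχ1 : (χ : G → ℂ) 1 ≠ 0 := by
    rw [helper81.irr_one_eq_charDegree χ]
    exact Nat.cast_ne_zero.mpr (helper81.irr_charDegree_pos χ).ne'
  have hcenH : ∀ z : G, ∀ hz : z ∈ Subgroup.center G,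
      (⟨z, hZH hz⟩ : H) ∈ Subgroup.center H := by
    intro z hz
    rw [Subgroup.mem_center_iff]
    intro h
    apply Subtype.ext
    exact Subgroup.mem_center_iff.mp hz h
  have hω : ∀ z : G, ∀ hz : z ∈ Subgroup.center G,
      (φ : H → ℂ) ⟨z, hZH hz⟩ / (φ : H → ℂ) 1 = (χ : G → ℂ) z / (χ : G → ℂ) 1 := by
    intro z hz
    set z' : H := ⟨z, hZH hz⟩ with hz'
    set ω := (χ : G → ℂ) z / (χ : G → ℂ) 1 with hωdef
    set ω' := (φ : H → ℂ) z' / (φ : H → ℂ) 1 with hω'def
    have hS : ∑ h : H, (χ : G → ℂ) h * conj ((φ : H → ℂ) h) ≠ 0 := by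
      intro h0
      apply hφ
      unfold classInner
      rw [h0, mul_zero]
    have hre : ∑ h : H, (χ : G → ℂ) h * conj ((φ : H → ℂ) h) =
        ∑ h : H, (χ : G → ℂ) ((h * z' : H) : G) * conj ((φ : H → ℂ) (h * z')) :=
      (Fintype.sum_equiv (Equiv.mulRight z') _ _ (fun h => rfl)).symm
    have hterm : ∀ h : H, (χ : G → ℂ) ((h * z' : H) : G) * conj ((φ : H → ℂ) (h * z')) =
        (ω * conj ω') * ((χ : G → ℂ) h * conj ((φ : H → ℂ) h)) := by
      intro h
      have e1 : (χ : G → ℂ) ((h * z' : H) : G) = ω * (χ : G → ℂ) h :=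
        helper21.irr_mul_center_eq χ hz (h : G)
      have e2 : (φ : H → ℂ) (h * z') = ω' * (φ : H → ℂ) h :=
        helper21.irr_mul_center_eq φ (hcenH z hz) h
      rw [e1, e2, map_mul]
      ring
    rw [Finset.sum_congr rfl (fun h _ => hterm h), ← Finset.mul_sum] at hre
    have h1 : ω * conj ω' = 1 := by
      have h0 : (ω * conj ω' - 1) * ∑ h : H, (χ : G → ℂ) h * conj ((φ : H → ℂ) h) = 0 := by
        rw [sub_mul, one_mul, ← hre, sub_self]
      rcases mul_eq_zero.mp h0 with h | h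
      · exact sub_eq_zero.mp h
      · exact absurd h hS
    have h2 : conj ω' * ω' = 1 := helper84.irr_center_conj_mul φ (hcenH z hz)
    calc ω' = (ω * conj ω') * ω' := by rw [h1, one_mul]
      _ = ω * (conj ω' * ω') := by ring
      _ = ω := by rw [h2, mul_one]
  have hvan : ∀ c : H, (c : G) ∉ Subgroup.center G → (φ : H → ℂ) c = 0 := by
    intro c hc
    obtain ⟨w, hwH, hzZ, hwc⟩ := hw c c.2 hc
    obtain ⟨z, hz⟩ : ∃ z : G, z = w * (c : G) * w⁻¹ * (c : G)⁻¹ := ⟨_, rfl⟩
    rw [← hz] at hzZ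
    have hcf : (φ : H → ℂ) (⟨w, hwH⟩ * c * ⟨w, hwH⟩⁻¹) = (φ : H → ℂ) c :=
      helper81.irr_classFun φ c ⟨w, hwH⟩
    have hconj : (⟨w, hwH⟩ * c * ⟨w, hwH⟩⁻¹ : H) = c * ⟨z, hZH hzZ⟩ := by
      apply Subtype.ext
      show w * (c : G) * w⁻¹ = (c : G) * z
      rw [Subgroup.mem_center_iff.mp hzZ (c : G), hz]
      group
    rw [hconj, helper21.irr_mul_center_eq φ (hcenH z hzZ) c, hω z hzZ] at hcf
    have hne : (χ : G → ℂ) z / (χ : G → ℂ) 1 ≠ 1 := by
      intro h
      have h1 : (χ : G → ℂ) z = (χ : G → ℂ) 1 := (div_eq_one_iff_eq hχ1).mp h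
      have h2 := hfaith z h1
      apply hwc
      have h3 : w * (c : G) * w⁻¹ * (c : G)⁻¹ = 1 := hz ▸ h2
      have h4 := mul_inv_eq_one.mp h3
      exact mul_inv_eq_iff_eq_mul.mp h4
    have h0 : ((χ : G → ℂ) z / (χ : G → ℂ) 1 - 1) * (φ : H → ℂ) c = 0 := by
      rw [sub_mul, one_mul, hcf, sub_self]
    rcases mul_eq_zero.mp h0 with h | h
    · exact absurd (sub_eq_zero.mp h) hne
    · exact h
  have hnorm : ∑ h : H, (φ : H → ℂ) h * conj ((φ : H → ℂ) h) = (Nat.card H : ℂ) := by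
    have h0 := helper83.irr_orthogonality' φ φ
    simpa using h0
  have hterm : ∀ h : H, (φ : H → ℂ) h * conj ((φ : H → ℂ) h) =
      if (h : G) ∈ Subgroup.center G then (d : ℂ) ^ 2 else 0 := by
    intro h
    split_ifs with hh
    · obtain ⟨ω', hω'1, hω'2⟩ : ∃ ω' : ℂ, (φ : H → ℂ) h = ω' * d ∧ conj ω' * ω' = 1 := by
        refine ⟨(φ : H → ℂ) h / (φ : H → ℂ) 1, ?_, helper84.irr_center_conj_mul φ (hcenH _ hh)⟩
        rw [hφ1, div_mul_cancel₀ _ hd0]
      rw [hω'1, map_mul, Complex.conj_natCast]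
      linear_combination (d : ℂ) ^ 2 * hω'2
    · rw [hvan h hh, zero_mul]
  rw [Finset.sum_congr rfl (fun h _ => hterm h), Finset.sum_ite, Finset.sum_const,
    Finset.sum_const_zero, add_zero, nsmul_eq_mul] at hnorm
  have hcount : (Finset.univ.filter (fun h : H => (h : G) ∈ Subgroup.center G)).card =
      Nat.card (Subgroup.center G) := by
    rw [← Fintype.card_subtype, ← Nat.card_eq_fintype_card]
    exact Nat.card_congr (Subgroup.subgroupOfEquivOfLe hZH).toEquiv
  rw [hcount] at hnorm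
  exact_mod_cast hnorm.symm

/-- Under the hypotheses of the minimal situation, the restriction of `χ` to every normal
subgroup is homogeneous. -/
theorem winter_hom {G : Type u} [Group G] [Finite G] (p : ℕ) [hp : Fact p.Prime]
    (χ : IrrCharacter G) (hsolv : Group.IsSolvable G) (P : Sylow p G)
    (hA : ∀ D : Subgroup G, D.Normal → D ≠ ⊤ → ∃ x ∈ (P : Subgroup G), x ∉ D)
    (hbad : ¬ WGood p (charDegree (χ : G → ℂ)))
    (N : Subgroup G) [hNn : N.Normal] [Fintype N] :
    ∃ (θ : IrrCharacter N) (e : ℕ), e ≠ 0 ∧ (∀ n : N, (χ : G → ℂ) n = e * (θ : N → ℂ) n) ∧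
      charDegree (θ : N → ℂ) ∣ charDegree (χ : G → ℂ) ∧
      classInner (fun n : N => (χ : G → ℂ) n) (θ : N → ℂ) ≠ 0 := by
  classical
  haveI : Fintype G := Fintype.ofFinite G
  haveI : Fintype (IrrCharacter N) := Fintype.ofFinite _
  obtain ⟨θ, hθ, e, he, he0⟩ := helper82.exists_constituent_restrict N χ.2
  have hdeg := helper82.clifford_degree N χ.2 hθ e he he0
  have hθ1 : θ 1 = (charDegree θ : ℂ) := helper81.irr_one_eq_charDegree ⟨θ, hθ⟩
  rw [helper81.irr_one_eq_charDegree χ, hθ1] at hdeg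
  have hdegN : charDegree (χ : G → ℂ) = e * (helper82.inertia N θ).index * charDegree θ := by
    exact_mod_cast hdeg
  have hT : helper82.inertia N θ = ⊤ := by
    by_contra hT
    apply hbad
    refine winter_index p hsolv P hA _ (helper82.inertia N θ) hT ?_
    rw [hdegN]
    exact (dvd_mul_left _ e).mul_right _
  have hinv : ∀ g : G, helper82.cconj N g θ = θ := by
    intro g
    have hg : g ∈ helper82.inertia N θ := hT ▸ Subgroup.mem_top g
    exact (helper82.mem_inertia N θ g).mp hg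
  refine ⟨⟨θ, hθ⟩, e, he0, fun n => helper82.clifford_invariant N χ.2 hθ hinv e he he0 n, ?_, ?_⟩
  · rw [hdegN]
    exact dvd_mul_left _ _
  · rw [he]
    exact Nat.cast_ne_zero.mpr he0

/-- Reduction step: a proper normal subgroup which is not `p`-closed. -/
theorem winter_stepA {G : Type u} [Group G] [Finite G] (p : ℕ) [hp : Fact p.Prime]
    (χ : IrrCharacter G) (hfaith : ∀ g : G, (χ : G → ℂ) g = (χ : G → ℂ) 1 → g = 1)
    (hsolv : Group.IsSolvable G)
    (IH : ∀ (N' : Type u) [Group N'] [Finite N'], Group.IsSolvable N' →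
        Nat.card N' < Nat.card G →
        ∀ ψ : IrrCharacter N', (∀ g : N', (ψ : N' → ℂ) g = (ψ : N' → ℂ) 1 → g = 1) →
        ¬ PClosed p N' → WGood p (charDegree (ψ : N' → ℂ)))
    (N : Subgroup G) [hNn : N.Normal] (hN : N ≠ ⊤) (hNp : ¬ PClosed p N) :
    WGood p (charDegree (χ : G → ℂ)) := by
  classical
  haveI : Fintype G := Fintype.ofFinite G
  haveI : Fintype N := Fintype.ofFinite N
  haveI : Fintype (IrrCharacter N) := Fintype.ofFinite _
  haveI := hsolv
  by_contra hbad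
  apply hNp
  have hχN : IsCharacter N (fun n : N => (χ : G → ℂ) n) :=
    helper4.isCharacter_restrict N (helper83.isCharacter_of_irr χ.2)
  obtain ⟨Nf, hNf1, hNf2, -⟩ := helper82.exists_nat_decomp hχN
  refine pClosed_of_quotients p (fun i : {ψ : IrrCharacter N // Nf ψ ≠ 0} =>
    helper81.charKer (i.1 : N → ℂ) (helper83.isCharacter_of_irr i.1.2)) ?_ ?_
  · intro x hx
    have h1 : (χ : G → ℂ) x = (χ : G → ℂ) 1 := by
      have e1 := hNf2 x
      have e2 := hNf2 1
      rw [show ((1 : N) : G) = 1 from rfl] at e2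
      rw [e1, e2]
      refine Finset.sum_congr rfl (fun ψ _ => ?_)
      by_cases h0 : Nf ψ = 0
      · rw [h0]
        simp
      · have h2 := (helper81.mem_charKer _ _ x).mp (hx ⟨ψ, h0⟩)
        rw [h2]
    exact Subtype.ext (hfaith _ h1)
  · rintro ⟨ψ, h0⟩
    by_contra hnc
    apply hbad
    obtain ⟨Kψ, hKψ⟩ : ∃ Kψ : Subgroup N,
        Kψ = helper81.charKer (ψ : N → ℂ) (helper83.isCharacter_of_irr ψ.2) := ⟨_, rfl⟩
    haveI hKn : Kψ.Normal := by rw [hKψ]; infer_instance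
    have hKmem : ∀ x : N, x ∈ Kψ ↔ (ψ : N → ℂ) x = (ψ : N → ℂ) 1 := by
      intro x
      rw [hKψ]
      exact helper81.mem_charKer _ _ x
    have hnc' : ¬ PClosed p (N ⧸ Kψ) := by
      subst hKψ
      exact hnc
    obtain ⟨ψ', hψ', hψ'val⟩ :=
      helper82.isIrrCharacter_deflation Kψ ψ.2 (fun x hx => (hKmem x).mp hx)
    have hcard : Nat.card (N ⧸ Kψ) < Nat.card G := by
      have h1 : Nat.card (N ⧸ Kψ) ≤ Nat.card N :=
        Nat.card_le_card_of_surjective _ (QuotientGroup.mk'_surjective Kψ)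
      have h2 : Nat.card N < Nat.card G := by
        by_contra h
        push Not at h
        exact hN (Subgroup.eq_top_of_le_card N h)
      omega
    have hfaith' : ∀ g : N ⧸ Kψ, ψ' g = ψ' 1 → g = 1 := by
      intro g
      induction g using QuotientGroup.induction_on with
      | H g =>
        intro h
        rw [hψ'val g, show (1 : N ⧸ Kψ) = ((1 : N) : N ⧸ Kψ) from rfl, hψ'val 1] at h
        exact (QuotientGroup.eq_one_iff g).mpr ((hKmem g).mpr h)
    have hgood := IH (N ⧸ Kψ) inferInstance hcard ⟨ψ', hψ'⟩ hfaith' hnc'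
    have hdeg1 : charDegree ψ' = charDegree (ψ : N → ℂ) := by
      apply helper21.charDegree_of_one_eq
      rw [show (1 : N ⧸ Kψ) = ((1 : N) : N ⧸ Kψ) from rfl, hψ'val 1]
      exact helper81.irr_one_eq_charDegree ψ
    have hdeg := helper82.clifford_degree N χ.2 ψ.2 (Nf ψ) (hNf1 ψ) h0
    rw [helper81.irr_one_eq_charDegree χ, helper81.irr_one_eq_charDegree ψ] at hdeg
    have hdegN : charDegree (χ : G → ℂ) =
        Nf ψ * (helper82.inertia N (ψ : N → ℂ)).index * charDegree (ψ : N → ℂ) := by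
      exact_mod_cast hdeg
    rw [hdeg1] at hgood
    exact wGood_of_dvd (by rw [hdegN]; exact dvd_mul_left _ _) hgood

/-- The homogeneous case. -/
theorem winter_stepC {G : Type u} [Group G] [Finite G] (p : ℕ) [hp : Fact p.Prime]
    (χ : IrrCharacter G) (hfaith : ∀ g : G, (χ : G → ℂ) g = (χ : G → ℂ) 1 → g = 1)
    (hsolv : Group.IsSolvable G) (P : Sylow p G) (hP : ¬ (P : Subgroup G).Normal)
    (hA : ∀ D : Subgroup G, D.Normal → D ≠ ⊤ → ∃ x ∈ (P : Subgroup G), x ∉ D) :
    WGood p (charDegree (χ : G → ℂ)) := by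
  classical
  by_contra hbad
  haveI : Fintype G := Fintype.ofFinite G
  haveI := hsolv
  obtain ⟨Z, hZ⟩ : ∃ Z : Subgroup G, Z = Subgroup.center G := ⟨_, rfl⟩
  haveI hZn : Z.Normal := by rw [hZ]; infer_instance
  have hC1 : ∀ B : Subgroup G, B.Normal → (∀ a ∈ B, ∀ b ∈ B, a * b = b * a) → B ≤ Z := by
    intro B hBn hBab
    haveI := hBn
    haveI : Fintype B := Fintype.ofFinite B
    obtain ⟨θ, e, he0, hχB, hdvd, hinner⟩ := winter_hom p χ hsolv P hA hbad B
    have hθ1 : (θ : B → ℂ) 1 = 1 :=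
      helper82.irr_one_of_commutative (fun a b => Subtype.ext (hBab a a.2 b b.2)) θ.2
    obtain ⟨f, hf⟩ := helper82.exists_hom_of_linear (helper83.isCharacter_of_irr θ.2) hθ1
    have hec : (e : ℂ) ≠ 0 := Nat.cast_ne_zero.mpr he0
    intro b hb
    rw [hZ, Subgroup.mem_center_iff]
    intro g
    have hgb : g * b * g⁻¹ ∈ B := hBn.conj_mem b hb g
    have hc : g * b * g⁻¹ * b⁻¹ ∈ B := B.mul_mem hgb (B.inv_mem hb)
    have h1 : (χ : G → ℂ) (g * b * g⁻¹) = (χ : G → ℂ) b := helper81.irr_classFun χ b g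
    have h2 := hχB ⟨g * b * g⁻¹, hgb⟩
    have h3 := hχB ⟨b, hb⟩
    have h4 : f ⟨g * b * g⁻¹, hgb⟩ = f ⟨b, hb⟩ := by
      apply Units.ext
      apply mul_left_cancel₀ hec
      rw [← hf, ← hf, ← h2, ← h3]
      exact h1
    have h5 : f ⟨g * b * g⁻¹ * b⁻¹, hc⟩ = 1 := by
      have e1 : (⟨g * b * g⁻¹ * b⁻¹, hc⟩ : B) = ⟨g * b * g⁻¹, hgb⟩ * (⟨b, hb⟩ : B)⁻¹ := rfl
      rw [e1, map_mul, map_inv, h4, mul_inv_cancel]
    have h6 : (χ : G → ℂ) (g * b * g⁻¹ * b⁻¹) = (χ : G → ℂ) 1 := by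
      have h7 := hχB ⟨g * b * g⁻¹ * b⁻¹, hc⟩
      have h8 := hχB 1
      rw [hf, h5] at h7
      rw [hθ1] at h8
      exact h7.trans h8.symm
    have h9 := hfaith _ h6
    have h10 := mul_inv_eq_one.mp h9
    exact mul_inv_eq_iff_eq_mul.mp h10
  have hZtop : Z ≠ ⊤ := by
    intro htop
    apply hP
    refine ⟨fun n hn g => ?_⟩
    have hnZ : n ∈ Subgroup.center G := by
      rw [← hZ, htop]
      exact Subgroup.mem_top n
    have hgn : g * n * g⁻¹ = n := by
      rw [Subgroup.mem_center_iff.mp hnZ g, mul_inv_cancel_right]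
    rw [hgn]
    exact hn
  obtain ⟨A, r, a, hAn, hZA, hZneA, hr, hAcard, hAA, -⟩ :=
    helper82.exists_chief_over Z inferInstance hZtop
  haveI := hAn
  haveI : Fintype A := Fintype.ofFinite A
  have hAA' : ∀ u ∈ A, ∀ v ∈ A, u * v * u⁻¹ * v⁻¹ ∈ Subgroup.center G := by
    intro u hu v hv
    rw [← hZ]
    exact hAA u hu v hv
  have hZA' : Subgroup.center G ≤ A := hZ ▸ hZA
  have hcent : ∀ c ∈ A, c ∉ Subgroup.center G → ∃ b ∈ A, b * c ≠ c * b := by
    intro c hcA hcZ
    by_contra hcon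
    push Not at hcon
    apply hcZ
    have hB : A ⊓ Subgroup.centralizer (A : Set G) ≤ Z := by
      apply hC1
      · haveI : (Subgroup.centralizer (A : Set G)).Normal := Subgroup.normal_centralizer
        infer_instance
      · intro u hu v hv
        exact Subgroup.mem_centralizer_iff.mp (Subgroup.mem_inf.mp hv).2 u
          (Subgroup.mem_inf.mp hu).1
    rw [← hZ]
    exact hB (Subgroup.mem_inf.mpr ⟨hcA, Subgroup.mem_centralizer_iff.mpr hcon⟩)
  obtain ⟨θ, eA, heA0, hχA, hdvdA, hinnerA⟩ := winter_hom p χ hsolv P hA hbad A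
  have hVA := card_eq_of_vanish_off_center χ hfaith A hZA' (fun c hcA hcZ => by
      obtain ⟨b, hbA, hbc⟩ := hcent c hcA hcZ
      exact ⟨b, hbA, hAA' b hbA c hcA, hbc⟩) θ hinnerA
  rw [← hZ] at hVA
  obtain ⟨dA, hdA⟩ : ∃ dA : ℕ, dA = charDegree (θ : A → ℂ) := ⟨_, rfl⟩
  rw [← hdA] at hVA hdvdA
  have hZpos : 0 < Nat.card Z := Nat.card_pos
  have hdAsq : dA ^ 2 = r ^ a := by
    rw [hAcard, mul_comm] at hVA
    exact (Nat.eq_of_mul_eq_mul_left hZpos hVA).symm
  have ha0 : a ≠ 0 := by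
    rintro rfl
    apply hZneA
    apply Subgroup.eq_of_le_of_card_ge hZA
    rw [hAcard]
    simp
  by_cases hrp : r = p
  · apply hbad
    refine wGood_of_dvd hdvdA (wGood_self hp.out ?_)
    have h1 : p ∣ dA ^ 2 := by
      rw [hdAsq, hrp]
      exact dvd_pow_self p ha0
    exact hp.out.dvd_of_dvd_pow h1
  have hcentA : Subgroup.centralizer (A : Set G) ≠ ⊤ := by
    intro htop
    apply hZneA
    apply le_antisymm hZA
    intro c hcA
    rw [hZ, Subgroup.mem_center_iff]
    intro g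
    have hg : g ∈ Subgroup.centralizer (A : Set G) := by
      rw [htop]
      exact Subgroup.mem_top g
    exact (Subgroup.mem_centralizer_iff.mp hg c hcA).symm
  obtain ⟨x, hxP, hxA⟩ := hA _ Subgroup.normal_centralizer hcentA
  obtain ⟨e, he⟩ : ∃ e : ℕ, x ^ (p ^ e) = 1 := by
    obtain ⟨e, he⟩ := P.2 ⟨x, hxP⟩
    exact ⟨e, by simpa using congrArg Subtype.val he⟩
  obtain ⟨C, s, t, hZC, hCA, hCmem, hAs, hCt, hst⟩ := exists_fixed_count p Z A hZA x e he
  have hs : s = r ^ a := by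
    rw [hAcard] at hAs
    exact (Nat.eq_of_mul_eq_mul_right hZpos hAs).symm
  have hρ : ∀ y ∈ A, y ^ (r ^ a) ∈ Subgroup.center G := by
    intro y hy
    rw [← hZ]
    exact pow_mem_of_card_eq Z A hZA (r ^ a) hAcard y hy
  have hcop : Nat.Coprime (p ^ e) (r ^ a) :=
    Nat.Coprime.pow _ _ ((Nat.coprime_primes hp.out hr).mpr (Ne.symm hrp))
  have hCx : ∀ m ∈ C, x * m = m * x := by
    intro m hm
    have h1 := (hCmem m).mp hm
    have h2 : x * m * x⁻¹ * m⁻¹ ∈ Subgroup.center G := hZ ▸ h1.2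
    exact comm_eq_one_of_coprime x m (p ^ e) (r ^ a) he h2 (hρ m h1.1) hcop
  have hCne : C ≠ A := by
    intro hCA'
    apply hxA
    rw [Subgroup.mem_centralizer_iff]
    intro h hh
    have hh' : h ∈ C := by
      rw [hCA']
      exact hh
    exact (hCx h hh').symm
  have hts : t ∣ s := by
    have h1 : Nat.card C ∣ Nat.card A := Subgroup.card_dvd_of_le hCA
    rw [hCt, hAs] at h1
    exact (Nat.mul_dvd_mul_iff_right hZpos).mp h1
  have htne : t ≠ s := by
    intro h
    apply hCne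
    apply Subgroup.eq_of_le_of_card_ge hCA
    rw [hCt, hAs, h]
  haveI : Fintype C := Fintype.ofFinite C
  obtain ⟨φ, hφ, eC, heC, heC0⟩ := helper82.exists_constituent_restrict C χ.2
  have hZC' : Subgroup.center G ≤ C := hZ ▸ hZC
  have hVC := card_eq_of_vanish_off_center χ hfaith C hZC' (fun c hcC hcZ => by
      have hcA : c ∈ A := hCA hcC
      obtain ⟨b, hbA, hbc⟩ := hcent c hcA hcZ
      obtain ⟨w, hwA, hwx, hwc⟩ := exists_norm_noncommuting A hAA' x (p ^ e) (r ^ a) he hρ hcop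
        c hcA (hCx c hcC) b hbA hbc
      exact ⟨w, (hCmem w).mpr ⟨hwA, hZ ▸ hwx⟩, hAA' w hwA c hcA, hwc⟩) ⟨φ, hφ⟩
      (by rw [heC]; exact Nat.cast_ne_zero.mpr heC0)
  rw [← hZ] at hVC
  obtain ⟨dC, hdC⟩ : ∃ dC : ℕ, dC = charDegree φ := ⟨_, rfl⟩
  rw [← hdC] at hVC
  have hdCsq : dC ^ 2 = t := by
    rw [hCt, mul_comm] at hVC
    exact (Nat.eq_of_mul_eq_mul_left hZpos hVC).symm
  have hdAdvd : dA ∣ r ^ a := by
    rw [← hdAsq]
    exact dvd_pow_self dA two_ne_zero
  obtain ⟨k, hk, hdAk⟩ := (Nat.dvd_prime_pow hr).mp hdAdvd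
  have hCdA : dC ∣ dA := by
    rw [← Nat.pow_dvd_pow_iff two_ne_zero, hdCsq, hdAsq, ← hs]
    exact hts
  rw [hdAk] at hCdA
  obtain ⟨j, hj, hdCj⟩ := (Nat.dvd_prime_pow hr).mp hCdA
  have hjk : j < k := by
    refine lt_of_le_of_ne hj (fun h => htne ?_)
    rw [← hdCsq, hs, ← hdAsq, hdCj, hdAk, h]
  apply hbad
  refine wGood_of_dvd hdvdA ?_
  rw [hdAk]
  refine wGood_of_sq hp.out hr hrp hjk ?_ dvd_rfl
  rw [← hdAk, ← hdCj, hdAsq, hdCsq, ← hs]
  exact hst

/-- **Ito–Winter**: a finite solvable group with a faithful irreducible character of degree `n`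
which is not `p`-closed has `n` divisible by a prime power congruent to `-1`, `0` or `1`
modulo `p`. -/
theorem winter_main (p : ℕ) [hp : Fact p.Prime] :
    ∀ (m : ℕ) (G : Type u) [Group G] [Finite G], Group.IsSolvable G → Nat.card G = m →
    ∀ χ : IrrCharacter G, (∀ g : G, (χ : G → ℂ) g = (χ : G → ℂ) 1 → g = 1) → ¬ PClosed p G →
    WGood p (charDegree (χ : G → ℂ)) := by
  intro m
  induction m using Nat.strong_induction_on with
  | _ m ih =>
    intro G _ _ hsolv hcard χ hfaith hnc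
    obtain ⟨P, hP⟩ : ∃ P : Sylow p G, ¬ (P : Subgroup G).Normal := by
      by_contra h
      push Not at h
      exact hnc h
    by_contra hbad
    have hA : ∀ D : Subgroup G, D.Normal → D ≠ ⊤ → ∃ x ∈ (P : Subgroup G), x ∉ D := by
      intro D hDn hDtop
      by_contra hcon
      push Not at hcon
      haveI := hDn
      have hDnc : ¬ PClosed p D := fun h => hP (pClosed_normal_of_le D h P hcon)
      exact hbad (winter_stepA p χ hfaith hsolv
        (fun N' _ _ hs hc ψ hf hn => ih (Nat.card N') (hcard ▸ hc) N' hs rfl ψ hf hn)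
        D hDtop hDnc)
    exact hbad (winter_stepC p χ hfaith hsolv P hP hA)

end Cfsg.Agent.Lib.helper78
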