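import Mathlib
import Cfsg.Agent.Lib.helper62.FrobExtract
import Cfsg.Agent.Lib.helper62.LinRegQ8A
import Cfsg.Agent.Lib.helper78.ZasBridge

/-!
Minimal non-abelian normal subgroups centralising a maximal normal abelian subgroup in a group
with a fixed-point-free module are `Q8` or `SL(2,5)` (given Zassenhaus' theorem `ZStmt`) (helper78).
-/

set_option autoImplicit false

namespace Cfsg.Agent.Lib.helper78.ZasF

open Cfsg.Agent.Lib.helper62.FrobExtract Cfsg.Agent.Lib.helper62.LinRegQ8
open scoped commutatorElement Pointwise

universe u v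

theorem q8_or_sl25 (hZ : ZStmt.{v}) {H : Type u} [Group H] [Finite H] (hfpf : HasFpfMod.{u, v} H)
    (A : Subgroup H) (hAn : A.Normal) (hAc : IsMulCommutative A)
    (hAmax : ∀ B : Subgroup H, B.Normal → IsMulCommutative B → A ≤ B → B = A)
    (N : Subgroup H) (hNn : N.Normal) (hNle : N ≤ Subgroup.centralizer (A : Set H))
    (hNna : ¬ IsMulCommutative N)
    (hNmin : ∀ M : Subgroup H, M.Normal → M ≤ N → ¬ IsMulCommutative M → M = N) :
    Nonempty (N ≃* QuaternionGroup 2) ∨
      Nonempty (N ≃* Matrix.SpecialLinearGroup (Fin 2) (ZMod 5)) := by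
  classical
  have hfpfN : HasFpfMod.{u, v} N := hfpf.comap N.subtype N.subtype_injective
  have hAN : ∀ a ∈ A, ∀ n ∈ N, a * n = n * a := by
    intro a ha n hn
    have := hNle hn
    rw [Subgroup.mem_centralizer_iff] at this
    exact this a ha
  have hAcomm : ∀ a ∈ A, ∀ b ∈ A, a * b = b * a := fun a ha b hb =>
    congrArg Subtype.val (hAc.is_comm.comm ⟨a, ha⟩ ⟨b, hb⟩)
  by_cases hperf : ⁅N, N⁆ = N
  · right
    have hperfN : commutator N = ⊤ := by
      apply Subgroup.map_injective N.subtype_injective
      rw [Subgroup.map_subtype_commutator, hperf, ← MonoidHom.range_eq_map, Subgroup.range_subtype]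
    have hntN : Nontrivial N := by
      by_contra hnot
      rw [not_nontrivial_iff_subsingleton] at hnot
      exact hNna ⟨⟨fun a b => Subsingleton.elim _ _⟩⟩
    exact sl25_of_perfect hZ hfpfN hperfN hntN
  · left
    have hM'n : (⁅N, N⁆ : Subgroup H).Normal := inferInstance
    have hM'le : ⁅N, N⁆ ≤ N := Subgroup.commutator_le_left N N
    have hM'c : IsMulCommutative (⁅N, N⁆ : Subgroup H) := by
      by_contra hnot
      exact hperf (hNmin _ hM'n hM'le hnot)
    have hM'comm : ∀ a ∈ ⁅N, N⁆, ∀ b ∈ ⁅N, N⁆, a * b = b * a := fun a ha b hb =>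
      congrArg Subtype.val (hM'c.is_comm.comm ⟨a, ha⟩ ⟨b, hb⟩)
    have hM'A : ⁅N, N⁆ ≤ A := by
      have hBn : (A ⊔ ⁅N, N⁆).Normal := inferInstance
      have hBc : IsMulCommutative (A ⊔ ⁅N, N⁆ : Subgroup H) := by
        refine ⟨⟨fun x y => ?_⟩⟩
        obtain ⟨x, hx⟩ := x
        obtain ⟨y, hy⟩ := y
        apply Subtype.ext
        show x * y = y * x
        have hx' : x ∈ (A : Set H) * ((⁅N, N⁆ : Subgroup H) : Set H) := by
          rw [← Subgroup.mul_normal]; exact hx
        have hy' : y ∈ (A : Set H) * ((⁅N, N⁆ : Subgroup H) : Set H) := by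
          rw [← Subgroup.mul_normal]; exact hy
        obtain ⟨a, ha, u, hu, rfl⟩ := Set.mem_mul.mp hx'
        obtain ⟨b, hb, w, hw, rfl⟩ := Set.mem_mul.mp hy'
        have h1 : a * b = b * a := hAcomm a ha b hb
        have h2 : u * w = w * u := hM'comm u hu w hw
        have h3 : a * w = w * a := hAN a ha w (hM'le hw)
        have h4 : b * u = u * b := hAN b hb u (hM'le hu)
        calc a * u * (b * w) = a * (u * b) * w := by group
          _ = a * (b * u) * w := by rw [h4]
          _ = (a * b) * (u * w) := by group
          _ = (b * a) * (w * u) := by rw [h1, h2]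
          _ = b * (a * w) * u := by group
          _ = b * (w * a) * u := by rw [h3]
          _ = b * w * (a * u) := by group
      have := hAmax _ hBn hBc le_sup_left
      exact le_sup_right.trans this.le
    have hcomm_center : commutator N ≤ Subgroup.center N := by
      intro x hx
      have hxA : (x : H) ∈ A := by
        apply hM'A
        rw [← Subgroup.map_subtype_commutator]
        exact Subgroup.mem_map_of_mem _ hx
      rw [Subgroup.mem_center_iff]
      intro y
      exact Subtype.ext (hAN x hxA y y.2).symm
    have hnil : Group.IsNilpotent N :=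
      Subgroup.isNilpotent_of_ker_le_center Abelianization.of
        (by rw [Abelianization.ker_of]; exact hcomm_center)
    have tfae := Group.isNilpotent_of_finite_tfae (G := N)
    have h4 : ∀ (p : ℕ), Fact (Nat.Prime p) → ∀ (P : Sylow p N), (P : Subgroup N).Normal :=
      (tfae.out 0 3).mp hnil
    obtain ⟨e⟩ := (tfae.out 0 4).mp hnil
    have hex : ∃ (p : (Nat.card N).primeFactors) (P : Sylow p N),
        ¬ ∀ x y : (P : Subgroup N), x * y = y * x := by
      by_contra hall
      push Not at hall
      apply hNna
      refine ⟨⟨fun x y => ?_⟩⟩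
      have h1 : e.symm x * e.symm y = e.symm y * e.symm x := by
        funext p P
        exact hall p P _ _
      have h2 := congrArg e h1
      rw [map_mul, map_mul, e.apply_symm_apply, e.apply_symm_apply] at h2
      exact h2
    obtain ⟨p, P, hPna⟩ := hex
    have hpP : Fact (p : ℕ).Prime := ⟨Nat.prime_of_mem_primeFactors p.2⟩
    have hfpfP : HasFpfMod.{u, v} (P : Subgroup N) :=
      hfpf.comap (N.subtype.comp (P : Subgroup N).subtype)
        ((Subgroup.subtype_injective _).comp (Subgroup.subtype_injective _))
    have key : ∀ x y z : (P : Subgroup N), ⁅x, y⁆ * z = z * ⁅x, y⁆ := by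
      intro x y z
      have h1 : ⁅(x : N), (y : N)⁆ ∈ Subgroup.center N :=
        hcomm_center (Subgroup.commutator_mem_commutator (Subgroup.mem_top _) (Subgroup.mem_top _))
      apply Subtype.ext
      exact ((Subgroup.mem_center_iff.mp h1) z).symm
    have hPn : (P : Subgroup N).Normal := h4 p hpP P
    have hPc : (P : Subgroup N).Characteristic := Sylow.characteristic_of_normal P hPn
    have hPmn : ((P : Subgroup N).map N.subtype).Normal :=
      ConjAct.normal_of_characteristic_of_normal
    have hPmle : (P : Subgroup N).map N.subtype ≤ N := by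
      rintro x ⟨y, -, rfl⟩
      exact y.2
    have hPmna : ¬ IsMulCommutative ((P : Subgroup N).map N.subtype) := by
      intro hc
      apply hPna
      intro x y
      have hx : N.subtype (x : N) ∈ (P : Subgroup N).map N.subtype :=
        Subgroup.mem_map_of_mem _ x.2
      have hy : N.subtype (y : N) ∈ (P : Subgroup N).map N.subtype :=
        Subgroup.mem_map_of_mem _ y.2
      have h1 := congrArg Subtype.val (hc.is_comm.comm ⟨_, hx⟩ ⟨_, hy⟩)
      apply Subtype.ext
      apply Subtype.ext
      exact h1
    have hPmN : (P : Subgroup N).map N.subtype = N := hNmin _ hPmn hPmle hPmna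
    have hPtop : (P : Subgroup N) = ⊤ := by
      apply Subgroup.map_injective N.subtype_injective
      rw [hPmN, ← MonoidHom.range_eq_map, Subgroup.range_subtype]
    have eNP : N ≃* (P : Subgroup N) :=
      (Subgroup.topEquiv.symm).trans (MulEquiv.subgroupCongr hPtop.symm)
    rcases fpf_pgroup_cyclic_or_quat hfpfP (p : ℕ) P.isPGroup' with hcyc | ⟨hp2, n, ⟨eQ⟩⟩
    · exact absurd (comm_of_isCyclic hcyc) hPna
    · have hn : n ≤ 1 := quat_class_two (by
        intro u v w
        have h1 := key (eQ.symm u) (eQ.symm v) (eQ.symm w)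
        have h2 := congrArg eQ h1
        simpa [map_commutatorElement] using h2)
      interval_cases n
      · exfalso
        have e1 : (P : Subgroup N) ≃* QuaternionGroup 1 := by simpa using eQ
        have hcyc : IsCyclic (P : Subgroup N) := by
          have := QuaternionGroup.quaternionGroup_one_isCyclic
          exact isCyclic_of_injective e1.toMonoidHom e1.injective
        exact hPna (comm_of_isCyclic hcyc)
      · have e2 : (P : Subgroup N) ≃* QuaternionGroup 2 := by simpa using eQ
        exact ⟨eNP.trans e2⟩

end Cfsg.Agent.Lib.helper78.ZasF
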